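import Cfsg.Agent.Mrg.Omega.VP
import Cfsg.Agent.Mrg.Omega.SQ1.Choice
set_option linter.all false


/-!
# SQ1, L1: from the FF theorem (`FFThm.NatK`, one summand) to `FFOne.FF`
-/

set_option autoImplicit false
set_option linter.unusedSectionVars false
set_option linter.unusedVariables false

namespace Cfsg.Agent.Omega.SQ1.FFOf

open Subgroup Cfsg Cfsg.Agent.PLocal.ThompsonJ Cfsg.Agent.ZN Cfsg.Agent.ZN.ChoiceBase
open Cfsg.Agent.ZN.ChoiceSit
open Cfsg.Agent.Omega.NatPair Cfsg.Agent.Lib.SL2Mat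
open Cfsg.Agent.Omega.SQ1.FFOne Cfsg.Agent.Omega.SQ1.VOf
open Cfsg.Agent.Omega.SQ1.Choice (Config)
open Cfsg.Agent.Omega.FFThm

universe u

variable {G : Type u} [Group G] {M₀ H T D : Subgroup G} {s : G} {F : Type} [Field F]

theorem off_of_AA (h : MinH H T) [Finite G] {A : Subgroup G} (hA : A ∈ AA T)
    (hne : ¬ A ≤ centralizer (zl T H : Set G)) : Off (zl T H) A where
  elem := hA.1
  ne := hne
  le := by
    rw [mul_comm (Nat.card A)]
    exact VOf.off h hA

/-- the FF output with one summand -/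
noncomputable def ffOf [Finite G] [Finite F] [CharP F 2] (c : Config M₀ T H s)
    (N : NatK F T H (zl T H) D 1) (hDV : D ≤ zl T H) (hDn : ∀ h ∈ H, ∀ v ∈ D, h * v * h⁻¹ ∈ D) :
    FFOne.FF F H T (zl T H) D where
  π g := N.e g 0
  map_mul := by
    intro v hv w hw
    rw [N.mul v hv w hw]; rfl
  V0V := hDV
  ker := by
    intro v hv
    rw [← N.ker v hv]
    constructor
    · intro h0
      funext i
      rw [Subsingleton.elim i 0, h0]
      rfl
    · intro h0
      rw [h0]
      rfl
  surj := by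
    intro x
    obtain ⟨v, hv, hx⟩ := N.surj fun _ => x
    exact ⟨v, hv, by rw [hx]⟩
  Vn := zl_norm
  V0n := hDn
  lift := by
    intro A
    obtain ⟨g, hg, h1, h2⟩ := N.lift fun _ => A
    exact ⟨g, hg, fun v hv => h1 v hv 0⟩
  norm := by
    intro g hg x hx A hA
    obtain ⟨B, hB⟩ := N.norm g hg x hx (fun _ => A) fun v hv i => by
      rw [Subsingleton.elim i 0]
      exact hA v hv
    exact ⟨B 0, fun v hv => hB v hv 0⟩
  off1 := by
    intro A hA a ha
    by_cases hne : A ≤ centralizer (zl T H : Set G)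
    · refine ⟨0, fun v hv => ?_⟩
      have h1 := mem_centralizer_iff.1 (hne ha) v hv
      rw [← h1, mul_inv_cancel_right, up_zero, ap_one]
    · obtain ⟨I, hI, -⟩ := N.off A hA.2.1 (off_of_AA (minH c) hA hne)
      obtain ⟨b, -, hb⟩ := hI a ha
      exact ⟨b 0, fun v hv => hb.1 v hv 0⟩
  off2 := by
    intro A hA hnt x
    have hne : ¬ A ≤ centralizer (zl T H : Set G) := by
      intro hle
      apply hnt
      intro a ha v hv
      have h1 := mem_centralizer_iff.1 (hle ha) v hv
      rw [← h1, mul_inv_cancel_right]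
    obtain ⟨I, hI, hI'⟩ := N.off A hA.2.1 (off_of_AA (minH c) hA hne)
    have h0 : (0 : Fin 1) ∈ I := by
      by_contra h0
      apply hnt
      intro a ha v hv
      obtain ⟨b, hb, hab⟩ := hI a ha
      have h1 : N.e (a * v * a⁻¹) 0 = ap (up (b 0)) (N.e v 0) := hab.1 v hv 0
      rw [hb 0 h0, up_zero, ap_one] at h1
      exact h1
    obtain ⟨a, ha, hab⟩ := hI' (fun _ => x) (fun i hi => absurd (by rwa [Subsingleton.elim i 0]) hi)
    exact ⟨a, ha, fun v hv => hab.1 v hv 0⟩
  VQ := VOf.MinH.zl_le_o2 (minH c)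
  Vsq := VOf.MinH.sq (minH c)
  VcQ := VOf.MinH.o2_cent (minH c)
  nle := VOf.nle c

theorem cv_le : FrameFF.cv T H ≤ zl T H := inf_le_left

theorem cv_norm : ∀ h ∈ H, ∀ v ∈ FrameFF.cv T H, h * v * h⁻¹ ∈ FrameFF.cv T H := by
  rintro g hg v ⟨hv, hvc⟩
  refine ⟨zl_norm g hg v hv, ?_⟩
  have h1 : g ∈ normalizer (Cfsg.Agent.MinSimple.VModule.oddGen H : Set G) :=
    Cfsg.Agent.MinSimple.VModule.le_normalizer_oddGen H hg
  have h2 : g ∈ normalizer
      ((centralizer (Cfsg.Agent.MinSimple.VModule.oddGen H : Set G) : Subgroup G) : Set G) := by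
    rw [mem_normalizer_iff_cj, cj_centralizer, mem_normalizer_iff_cj.1 h1]
  exact conj_mem_of_norm h2 hvc

/-- **L1**: the FF theorem with one natural summand gives `FFOne.FF` for the chosen `H`. -/
noncomputable def ff [Finite G] [Finite F] [CharP F 2] (c : Config M₀ T H s)
    (N : NatK F T H (zl T H) (FrameFF.cv T H) 1) : FFOne.FF F H T (zl T H) (FrameFF.cv T H) :=
  ffOf c N cv_le cv_norm

/-- the chosen `H` is a minimal parabolic over `T`. -/
theorem isMinPar (c : Config M₀ T H s) : Cfsg.Agent.MinSimple.MinParabolic.IsMinPar T H where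
  le := c.TY
  not_le := fun h => c.notM (h.trans c.normalizer_T_le)
  exists_max := by
    refine ⟨H ⊓ M₀, lt_of_le_of_ne inf_le_left fun h => c.notM (inf_eq_left.1 h), ?_⟩
    intro K hTK hKH
    exact le_inf hKH.le (c.min K hTK hKH)

/-- some `A ∈ A(T)` is an offender on `V` -/
theorem exists_off (c : Config M₀ T H s) [Finite G] : ∃ A ∈ AA T, Off (zl T H) A := by
  by_contra hcon
  push Not at hcon
  obtain ⟨j, hj, v, hv, hne⟩ := VOf.nJ c
  have hle : jj T ≤ centralizer (zl T H : Set G) := by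
    rw [jj_eq]
    refine sSup_le fun A hA => ?_
    by_contra hAc
    exact hcon A hA (off_of_AA (minH c) hA hAc)
  exact hne (mem_centralizer_iff.1 (hle hj) v hv).symm

/-- **The FF theorem applies to the chosen `H`.** -/
theorem concl_of_config (hFF : FFThm.Stmt.{u}) (c : Config M₀ T H s) [Finite G] :
    NoOver (zl T H) H ∧ Concl T H := by
  obtain ⟨A, hA, hoff⟩ := exists_off c
  exact hFF G T H c.syl (isMinPar c) c.self_cent ⟨A, hA.2.1.trans c.TY, hoff⟩

end Cfsg.Agent.Omega.SQ1.FFOf
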