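import Cfsg.Agent.Mrg.Omega.SQ1.BauSMin
import Cfsg.Agent.Mrg.Omega.SQ1.FFOf
import Mathlib
set_option linter.all false

-- part: Mrg/Omega/SQ1/FFSym
section
section


/-!
# SQ1, L1: from the FF theorem (even-subset modules) to the `q = 2` Baumann input

`V / D` is a direct sum of `k` even-subset modules of the symmetric group of degree `n = 2^m + 1`
(`m ≥ 1`; for `m = 1` these are natural `SL₂(2)`-modules).

* `Sy`: the module data, without `T`; `Gd τ g`: `g ∈ H` centralises `D` and acts as `τ` on `V / D`;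
* `u j a b ∈ V`: the canonical lift of the even set `{a, b}` in the component `j` (`V = D × ⟨u j a b⟩`), with
  `u j a b * u j b c = u j a c` and `x * u j a b * x⁻¹ = u (σ j) (τ j a) (τ j b)` for `x ∈ H` acting as `(σ, τ)`.
-/

set_option autoImplicit false
set_option linter.unusedSectionVars false
set_option linter.unusedVariables false

namespace Cfsg.Agent.Omega.SQ1.FFSym

open Subgroup Cfsg
open Cfsg.Agent.Omega.FFThm (ActsSym SymK NoOver Off)
open Cfsg.Agent.Omega.SQ1.BauS (Sim)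

universe u

variable {G : Type u} [Group G]

theorem perm_inv_self {α : Type*} (ρ : Equiv.Perm α) (x : α) : ρ (ρ⁻¹ x) = x :=
  ρ.apply_symm_apply x

/-- The module data. -/
structure Sy (H V D : Subgroup G) {k n : ℕ} (e : G → Fin k → Fin n → ZMod 2) : Prop where
  n3 : 3 ≤ n
  n4 : n ≠ 4
  DV : D ≤ V
  Vn : ∀ g ∈ H, ∀ v ∈ V, g * v * g⁻¹ ∈ V
  Dn : ∀ g ∈ H, ∀ v ∈ D, g * v * g⁻¹ ∈ D
  comm : ∀ v ∈ V, ∀ w ∈ V, v * w = w * v
  sq : ∀ v ∈ V, v ^ 2 = 1
  mul : ∀ v ∈ V, ∀ w ∈ V, e (v * w) = e v + e w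
  even : ∀ v ∈ V, ∀ i, ∑ x, e v i x = 0
  surj : ∀ y : Fin k → Fin n → ZMod 2, (∀ i, ∑ x, y i x = 0) → ∃ v ∈ V, e v = y
  ker : ∀ v ∈ V, e v = 0 ↔ v ∈ D
  lift : ∀ τ : Fin k → Equiv.Perm (Fin n), ∃ g ∈ H, ActsSym e V g 1 τ ∧ ∀ d ∈ D, g * d = d * g
  perm : ∀ g ∈ H, ∃ σ τ, ActsSym e V g σ τ
  cent : ∀ g ∈ H, (∀ d ∈ D, g * d = d * g) → (∀ v ∈ V, e (g * v * g⁻¹) = e v) →
    ∀ v ∈ V, g * v = v * g

/-- `g ∈ H` centralises `D` and acts as `τ` on `V / D`. -/
structure Gd (H V D : Subgroup G) {k n : ℕ} (e : G → Fin k → Fin n → ZMod 2)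
    (τ : Fin k → Equiv.Perm (Fin n)) (g : G) : Prop where
  mem : g ∈ H
  cd : ∀ d ∈ D, g * d = d * g
  act : ActsSym e V g 1 τ

/-- the point `a` of the component `j` -/
def E {k n : ℕ} (j : Fin k) (a : Fin n) : Fin k → Fin n → ZMod 2 :=
  fun i x => if i = j ∧ x = a then 1 else 0

section E

variable {k n : ℕ}

theorem E_self (j : Fin k) (a : Fin n) : E j a j a = 1 := by simp [E]

theorem E_ne {j : Fin k} {a : Fin n} {i : Fin k} {x : Fin n} (h : ¬ (i = j ∧ x = a)) :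
    E j a i x = 0 := by simp [E, h]

theorem E_add_self (j : Fin k) (a : Fin n) : E j a + E j a = 0 := by
  funext i x
  exact CharTwo.add_self_eq_zero _

theorem E_app (σ : Equiv.Perm (Fin k)) (τ : Fin k → Equiv.Perm (Fin n)) (j : Fin k) (a : Fin n)
    (i : Fin k) (x : Fin n) : E (σ j) (τ j a) (σ i) (τ i x) = E j a i x := by
  unfold E
  by_cases h : i = j
  · subst h; simp
  · simp [h]

theorem E_sum (j : Fin k) (a : Fin n) (i : Fin k) : ∑ x, E j a i x = if i = j then 1 else 0 := by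
  unfold E
  by_cases h : i = j
  · simp [h]
  · simp [h]

/-- the pair is determined by its vector -/
theorem pair_inj {j j' : Fin k} {a b c d : Fin n} (hab : a ≠ b)
    (h : E j a + E j b = E j' c + E j' d) : j = j' ∧ ((a = c ∧ b = d) ∨ (a = d ∧ b = c)) := by
  have h1 := congrFun (congrFun h j) a
  have h2 := congrFun (congrFun h j) b
  simp only [Pi.add_apply, E, true_and, hab, hab.symm, if_false, if_true, add_zero, zero_add] at h1 h2
  by_cases hj : j = j'
  · refine ⟨hj, ?_⟩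
    simp only [hj, true_and] at h1 h2
    by_cases hac : a = c
    · left
      refine ⟨hac, ?_⟩
      by_contra hbd
      have hbc : b ≠ c := fun e => hab (hac.trans e.symm)
      rw [if_neg hbc, if_neg hbd] at h2
      exact absurd h2 (by decide)
    · right
      rw [if_neg hac] at h1
      have had : a = d := by
        by_contra had
        rw [if_neg had] at h1
        exact absurd h1 (by decide)
      refine ⟨had, ?_⟩
      by_contra hbc
      have hbd : b ≠ d := fun e => hab (had.trans e.symm)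
      rw [if_neg hbc, if_neg hbd] at h2
      exact absurd h2 (by decide)
  · exfalso
    simp only [hj, false_and, if_false, add_zero] at h1
    exact absurd h1 (by decide)

end E

/-! ### Three-cycles -/

section cyc

variable {n : ℕ}

/-- the 3-cycle `a → b → z → a` -/
def cyc (a b z : Fin n) : Equiv.Perm (Fin n) := Equiv.swap a b * Equiv.swap b z

theorem cyc_conj (ρ : Equiv.Perm (Fin n)) (a b z : Fin n) :
    ρ * cyc a b z * ρ⁻¹ = cyc (ρ a) (ρ b) (ρ z) := by
  rw [cyc, cyc, Equiv.swap_apply_apply, Equiv.swap_apply_apply]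
  group

variable {a b z : Fin n} (hab : a ≠ b) (haz : a ≠ z) (hbz : b ≠ z)

include hab haz hbz

theorem cyc_a : cyc a b z a = b := by
  rw [cyc, Equiv.Perm.mul_apply, Equiv.swap_apply_of_ne_of_ne hab haz, Equiv.swap_apply_left]

theorem cyc_b : cyc a b z b = z := by
  rw [cyc, Equiv.Perm.mul_apply, Equiv.swap_apply_left, Equiv.swap_apply_of_ne_of_ne haz.symm hbz.symm]

theorem cyc_z : cyc a b z z = a := by
  rw [cyc, Equiv.Perm.mul_apply, Equiv.swap_apply_right, Equiv.swap_apply_right]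

theorem cyc_o {x : Fin n} (h1 : x ≠ a) (h2 : x ≠ b) (h3 : x ≠ z) : cyc a b z x = x := by
  rw [cyc, Equiv.Perm.mul_apply, Equiv.swap_apply_of_ne_of_ne h2 h3,
    Equiv.swap_apply_of_ne_of_ne h1 h2]

theorem cyc_three : cyc a b z * cyc a b z * cyc a b z = 1 := by
  ext x
  simp only [Equiv.Perm.mul_apply, Equiv.Perm.one_apply]
  by_cases h1 : x = a
  · subst h1; rw [cyc_a hab haz hbz, cyc_b hab haz hbz, cyc_z hab haz hbz]
  · by_cases h2 : x = b
    · subst h2; rw [cyc_b hab haz hbz, cyc_z hab haz hbz, cyc_a hab haz hbz]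
    · by_cases h3 : x = z
      · subst h3; rw [cyc_z hab haz hbz, cyc_a hab haz hbz, cyc_b hab haz hbz]
      · rw [cyc_o hab haz hbz h1 h2 h3, cyc_o hab haz hbz h1 h2 h3, cyc_o hab haz hbz h1 h2 h3]

theorem cyc_symm : cyc b a z = (cyc a b z)⁻¹ := by
  rw [eq_inv_iff_mul_eq_one]
  ext x
  simp only [Equiv.Perm.mul_apply, Equiv.Perm.one_apply]
  by_cases h1 : x = a
  · subst h1; rw [cyc_a hab haz hbz, cyc_a hab.symm hbz haz]
  · by_cases h2 : x = b
    · subst h2; rw [cyc_b hab haz hbz, cyc_z hab.symm hbz haz]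
    · by_cases h3 : x = z
      · subst h3; rw [cyc_z hab haz hbz, cyc_b hab.symm hbz haz]
      · rw [cyc_o hab haz hbz h1 h2 h3, cyc_o hab.symm hbz haz h2 h1 h3]

end cyc

/-! ### The action -/

section act

variable {V : Subgroup G} {k n : ℕ} {e : G → Fin k → Fin n → ZMod 2}

theorem act_mul {g h : G} {σ σ' : Equiv.Perm (Fin k)} {τ τ' : Fin k → Equiv.Perm (Fin n)}
    (hV : ∀ v ∈ V, h * v * h⁻¹ ∈ V)
    (hg : ActsSym e V g σ τ) (hh : ActsSym e V h σ' τ') :
    ActsSym e V (g * h) (σ * σ') (fun i => τ (σ' i) * τ' i) := by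
  intro v hv i x
  have e1 : g * h * v * (g * h)⁻¹ = g * (h * v * h⁻¹) * g⁻¹ := by group
  rw [e1, Equiv.Perm.mul_apply, Equiv.Perm.mul_apply, hg _ (hV v hv), hh v hv]

theorem act_conj {x g : G} {σ : Equiv.Perm (Fin k)} {τ ψ : Fin k → Equiv.Perm (Fin n)}
    (hx : ActsSym e V x σ τ) (hg : ActsSym e V g 1 ψ) (hxV : ∀ v ∈ V, x⁻¹ * v * x ∈ V)
    (hgV : ∀ v ∈ V, g * v * g⁻¹ ∈ V) :
    ActsSym e V (x * g * x⁻¹) 1 (fun i => τ (σ.symm i) * ψ (σ.symm i) * (τ (σ.symm i))⁻¹) := by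
  intro v hv i y
  set w := x⁻¹ * v * x with hw
  have hwV : w ∈ V := hxV v hv
  have e1 : x * g * x⁻¹ * v * (x * g * x⁻¹)⁻¹ = x * (g * w * g⁻¹) * x⁻¹ := by rw [hw]; group
  have e2 : v = x * w * x⁻¹ := by rw [hw]; group
  set i₀ := σ.symm i with hi
  have hi' : i = σ i₀ := by rw [hi, Equiv.apply_symm_apply]
  set y₀ := (τ i₀)⁻¹ y with hy
  have hy' : y = τ i₀ y₀ := by rw [hy, perm_inv_self]
  rw [e1, Equiv.Perm.one_apply, Equiv.Perm.mul_apply, Equiv.Perm.mul_apply, ← hy]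
  have h1 := hx _ (hgV w hwV) i₀ (ψ i₀ y₀)
  have h2 := hg w hwV i₀ y₀
  have h3 := hx w hwV i₀ y₀
  rw [← hi'] at h1 h3
  rw [h1]
  rw [Equiv.Perm.one_apply] at h2
  rw [h2, ← h3, ← hy', ← e2]

end act

theorem single_conj {k n : ℕ} (σ : Equiv.Perm (Fin k)) (τ : Fin k → Equiv.Perm (Fin n)) (j : Fin k)
    (π : Equiv.Perm (Fin n)) :
    (fun i => τ (σ.symm i) * (Pi.mulSingle j π : Fin k → Equiv.Perm (Fin n)) (σ.symm i) *
      (τ (σ.symm i))⁻¹) = Pi.mulSingle (σ j) (τ j * π * (τ j)⁻¹) := by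
  funext i
  by_cases h : i = σ j
  · subst h
    rw [Equiv.symm_apply_apply, Pi.mulSingle_eq_same, Pi.mulSingle_eq_same]
  · have h' : σ.symm i ≠ j := fun e => h (by rw [← e, Equiv.apply_symm_apply])
    rw [Pi.mulSingle_eq_of_ne h', Pi.mulSingle_eq_of_ne h]
    group

/-- `v v^g v^{g²}` -/
def Nm (g v : G) : G := v * (g * v * g⁻¹) * (g * (g * v * g⁻¹) * g⁻¹)

namespace Sy

variable {H V D : Subgroup G} {k n : ℕ} {e : G → Fin k → Fin n → ZMod 2}

theorem Vn' (h : Sy H V D e) {g : G} (hg : g ∈ H) : ∀ v ∈ V, g⁻¹ * v * g ∈ V := by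
  intro v hv
  have := h.Vn g⁻¹ (inv_mem hg) v hv
  rwa [inv_inv] at this

theorem mulself (h : Sy H V D e) {v : G} (hv : v ∈ V) : v * v = 1 := by
  rw [← pow_two]; exact h.sq v hv

theorem inv_eq (h : Sy H V D e) {v : G} (hv : v ∈ V) : v⁻¹ = v :=
  inv_eq_of_mul_eq_one_left (h.mulself hv)

theorem e_one (h : Sy H V D e) : e 1 = 0 := (h.ker 1 (one_mem V)).2 (one_mem D)

theorem e_inv (h : Sy H V D e) {v : G} (hv : v ∈ V) : e v⁻¹ = e v := by rw [h.inv_eq hv]

/-- elements with the same coordinates differ by an element of `D` -/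
theorem e_eq (h : Sy H V D e) {v w : G} (hv : v ∈ V) (hw : w ∈ V) (he : e v = e w) :
    v * w ∈ D := by
  rw [← h.ker _ (mul_mem hv hw), h.mul v hv w hw, he]
  funext i x
  exact CharTwo.add_self_eq_zero _

/-- the action on a pair -/
theorem e_conj (_h : Sy H V D e) {g : G} {σ : Equiv.Perm (Fin k)} {τ : Fin k → Equiv.Perm (Fin n)}
    (hg : ActsSym e V g σ τ) {v : G} (hv : v ∈ V) {j : Fin k} {a b : Fin n}
    (he : e v = E j a + E j b) : e (g * v * g⁻¹) = E (σ j) (τ j a) + E (σ j) (τ j b) := by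
  funext i x
  set i₀ := σ.symm i with hi
  have hi' : i = σ i₀ := by rw [hi, Equiv.apply_symm_apply]
  set x₀ := (τ i₀)⁻¹ x with hx
  have hx' : x = τ i₀ x₀ := by rw [hx, perm_inv_self]
  rw [hi', hx', hg v hv, he, Pi.add_apply, Pi.add_apply, Pi.add_apply, Pi.add_apply, E_app, E_app]

theorem exists_pair (h : Sy H V D e) (j : Fin k) (a b : Fin n) : ∃ v ∈ V, e v = E j a + E j b := by
  refine h.surj _ fun i => ?_
  simp only [Pi.add_apply, Finset.sum_add_distrib, E_sum]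
  exact CharTwo.add_self_eq_zero _

theorem exists_third (h : Sy H V D e) (a b : Fin n) : ∃ z : Fin n, z ≠ a ∧ z ≠ b := by
  by_contra hcon
  push Not at hcon
  have h1 : (Finset.univ : Finset (Fin n)) ⊆ {a, b} := by
    intro z _
    by_cases hz : z = a
    · simp [hz]
    · simp [hcon z hz]
  have h2 := Finset.card_le_card h1
  have h3 := Finset.card_le_two (a := a) (b := b)
  rw [Finset.card_univ, Fintype.card_fin] at h2
  have := h.n3
  omega

theorem exists_fifth (h : Sy H V D e) {a b z w : Fin n} (hab : a ≠ b) (haz : a ≠ z) (hbz : b ≠ z)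
    (haw : a ≠ w) (hbw : b ≠ w) (hzw : z ≠ w) :
    ∃ x : Fin n, x ≠ a ∧ x ≠ b ∧ x ≠ z ∧ x ≠ w := by
  have h4 : ({a, b, z, w} : Finset (Fin n)).card = 4 := by
    rw [Finset.card_insert_of_notMem, Finset.card_insert_of_notMem, Finset.card_pair hzw]
    · simp [hbz, hbw]
    · simp [hab, haz, haw]
  by_contra hcon
  push Not at hcon
  have h1 : (Finset.univ : Finset (Fin n)) ⊆ {a, b, z, w} := by
    intro y _
    by_cases h1 : y = a
    · simp [h1]
    · by_cases h2 : y = b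
      · simp [h2]
      · by_cases h3 : y = z
        · simp [h3]
        · simp [hcon y h1 h2 h3]
  have h2 := Finset.card_le_card h1
  have h3 := Finset.card_le_univ ({a, b, z, w} : Finset (Fin n))
  rw [Finset.card_univ, Fintype.card_fin] at h2
  rw [Fintype.card_fin] at h3
  have := h.n4
  omega

/-- the action is unique -/
theorem act_unique (h : Sy H V D e) {g : G} {σ σ' : Equiv.Perm (Fin k)}
    {τ τ' : Fin k → Equiv.Perm (Fin n)} (h1 : ActsSym e V g σ τ) (h2 : ActsSym e V g σ' τ') :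
    σ = σ' ∧ τ = τ' := by
  have key : ∀ j a b, a ≠ b → σ j = σ' j ∧ ((τ j a = τ' j a ∧ τ j b = τ' j b) ∨
      (τ j a = τ' j b ∧ τ j b = τ' j a)) := by
    intro j a b hab
    obtain ⟨v, hv, he⟩ := h.exists_pair j a b
    have e1 := h.e_conj h1 hv he
    have e2 := h.e_conj h2 hv he
    rw [e1] at e2
    exact pair_inj (fun e => hab ((τ j).injective e)) e2
  have hne : ∀ a : Fin n, ∃ b, a ≠ b := fun a => by
    obtain ⟨z, hz, -⟩ := h.exists_third a a
    exact ⟨z, hz.symm⟩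
  have h0 : 0 < n := by have := h.n3; omega
  refine ⟨Equiv.ext fun j => ?_, funext fun j => Equiv.ext fun a => ?_⟩
  · obtain ⟨b, hb⟩ := hne ⟨0, h0⟩
    exact (key j _ b hb).1
  · obtain ⟨b, hb⟩ := hne a
    obtain ⟨z, hza, hzb⟩ := h.exists_third a b
    rcases (key j a b hb).2 with h3 | h3
    · exact h3.1
    · rcases (key j a z hza.symm).2 with h4 | h4
      · exact h4.1
      · exfalso
        apply hzb
        apply (τ' j).injective
        rw [← h4.1, ← h3.1]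

/-! ### Elements centralising `D` -/

theorem gd_one (_h : Sy H V D e) : Gd H V D e 1 1 := by
  refine ⟨one_mem H, fun d _ => by rw [one_mul, mul_one], fun v hv i x => ?_⟩
  rw [Equiv.Perm.one_apply, Pi.one_apply, Equiv.Perm.one_apply, one_mul, inv_one, mul_one]

theorem gd_mul (h : Sy H V D e) {τ τ' : Fin k → Equiv.Perm (Fin n)} {g g' : G}
    (h1 : Gd H V D e τ g) (h2 : Gd H V D e τ' g') : Gd H V D e (τ * τ') (g * g') := by
  refine ⟨mul_mem h1.mem h2.mem, fun d hd => ?_, ?_⟩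
  · rw [mul_assoc, h2.cd d hd, ← mul_assoc, h1.cd d hd, mul_assoc]
  · have := act_mul (h.Vn g' h2.mem) h1.act h2.act
    rw [one_mul] at this
    exact this

theorem gd_inv (h : Sy H V D e) {τ : Fin k → Equiv.Perm (Fin n)} {g : G}
    (h1 : Gd H V D e τ g) : Gd H V D e τ⁻¹ g⁻¹ := by
  refine ⟨inv_mem h1.mem, fun d hd => ?_, fun v hv i x => ?_⟩
  · have := h1.cd d hd
    calc g⁻¹ * d = g⁻¹ * (d * g) * g⁻¹ := by group
      _ = g⁻¹ * (g * d) * g⁻¹ := by rw [this]
      _ = _ := by group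
  · have h2 := h1.act _ (h.Vn' h1.mem v hv) i ((τ i)⁻¹ x)
    have e1 : g * (g⁻¹ * v * g) * g⁻¹ = v := by group
    rw [e1, Equiv.Perm.one_apply, perm_inv_self] at h2
    rw [inv_inv, Equiv.Perm.one_apply, Pi.inv_apply, ← h2]

theorem gd_pow (h : Sy H V D e) {τ : Fin k → Equiv.Perm (Fin n)} {g : G}
    (h1 : Gd H V D e τ g) (m : ℕ) : Gd H V D e (τ ^ m) (g ^ m) := by
  induction m with
  | zero => rw [pow_zero, pow_zero]; exact h.gd_one
  | succ m ih => rw [pow_succ, pow_succ]; exact h.gd_mul ih h1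

theorem gd_sim (h : Sy H V D e) {τ : Fin k → Equiv.Perm (Fin n)} {g g' : G}
    (h1 : Gd H V D e τ g) (h2 : Gd H V D e τ g') : Sim V g g' := by
  have h3 := h.gd_mul (h.gd_inv h2) h1
  rw [inv_mul_cancel] at h3
  have h4 := h.cent _ h3.mem h3.cd fun v hv => by
    funext i x
    have := h3.act v hv i x
    rwa [Equiv.Perm.one_apply, Pi.one_apply, Equiv.Perm.one_apply] at this
  intro v hv
  have h5 := h4 v hv
  calc g * v * g⁻¹ = g' * (g'⁻¹ * g * v) * g⁻¹ := by group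
    _ = g' * (v * (g'⁻¹ * g)) * g⁻¹ := by rw [h5]
    _ = _ := by group

theorem gd_of_sim (_h : Sy H V D e) (hD : D ≤ V) {τ : Fin k → Equiv.Perm (Fin n)} {g g' : G}
    (h1 : Gd H V D e τ g) (hg' : g' ∈ H) (h2 : Sim V g g') : Gd H V D e τ g' := by
  refine ⟨hg', fun d hd => ?_, fun v hv i x => ?_⟩
  · have h3 := h2 d (hD hd)
    have h4 : g * d * g⁻¹ = d := by rw [h1.cd d hd]; group
    rw [h4] at h3
    calc g' * d = g' * d * g'⁻¹ * g' := by group
      _ = d * g' := by rw [← h3]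
  · rw [← h2 v hv]; exact h1.act v hv i x

theorem gd_conj (h : Sy H V D e) {τ ψ : Fin k → Equiv.Perm (Fin n)} {σ : Equiv.Perm (Fin k)}
    {g x : G} (hx : x ∈ H) (hxa : ActsSym e V x σ τ) (h1 : Gd H V D e ψ g) :
    Gd H V D e (fun i => τ (σ.symm i) * ψ (σ.symm i) * (τ (σ.symm i))⁻¹) (x * g * x⁻¹) := by
  refine ⟨mul_mem (mul_mem hx h1.mem) (inv_mem hx), fun d hd => ?_,
    act_conj hxa h1.act (h.Vn' hx) (h.Vn g h1.mem)⟩
  have hd' : x⁻¹ * d * x ∈ D := by
    have := h.Dn x⁻¹ (inv_mem hx) d hd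
    rwa [inv_inv] at this
  have h2 := h1.cd _ hd'
  calc x * g * x⁻¹ * d = x * (g * (x⁻¹ * d * x)) * x⁻¹ := by group
    _ = x * ((x⁻¹ * d * x) * g) * x⁻¹ := by rw [h2]
    _ = _ := by group

theorem gd_conj_single (h : Sy H V D e) {τ : Fin k → Equiv.Perm (Fin n)} {σ : Equiv.Perm (Fin k)}
    {j : Fin k} {π : Equiv.Perm (Fin n)}
    {g x : G} (hx : x ∈ H) (hxa : ActsSym e V x σ τ) (h1 : Gd H V D e (Pi.mulSingle j π) g) :
    Gd H V D e (Pi.mulSingle (σ j) (τ j * π * (τ j)⁻¹)) (x * g * x⁻¹) := by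
  rw [← single_conj]
  exact h.gd_conj hx hxa h1

theorem exists_gd (h : Sy H V D e) (τ : Fin k → Equiv.Perm (Fin n)) : ∃ g, Gd H V D e τ g := by
  obtain ⟨g, hg, h1, h2⟩ := h.lift τ
  exact ⟨g, hg, h2, h1⟩

theorem gd_unique (h : Sy H V D e) {τ τ' : Fin k → Equiv.Perm (Fin n)} {g : G}
    (h1 : Gd H V D e τ g) (h2 : Gd H V D e τ' g) : τ = τ' := (h.act_unique h1.act h2.act).2

/-! ### Elements of order three -/

/-- an element of order three fixes the elements of `V` which it fixes modulo `D` -/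
theorem fix_of_three (h : Sy H V D e) {τ : Fin k → Equiv.Perm (Fin n)} {g : G}
    (h1 : Gd H V D e τ g) (h3 : τ * τ * τ = 1) {v : G} (hv : v ∈ V)
    (he : e (g * v * g⁻¹) = e v) : g * v * g⁻¹ = v := by
  have hv' := h.Vn g h1.mem v hv
  have hδ : g * v * g⁻¹ * v ∈ D := h.e_eq hv' hv he
  set δ := g * v * g⁻¹ * v with hδd
  have hδV := h.DV hδ
  have e1 : g * v * g⁻¹ = δ * v := by
    rw [hδd, mul_assoc (g * v * g⁻¹), h.mulself hv, mul_one]
  have e2 : g * δ * g⁻¹ = δ := by rw [h1.cd δ hδ]; group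
  have h4 : Gd H V D e 1 (g * g * g) := by
    have := h.gd_mul (h.gd_mul h1 h1) h1
    rwa [h3] at this
  have h5 := h.gd_sim h4 h.gd_one v hv
  have e3 : g * g * g * v * (g * g * g)⁻¹ = g * (g * (g * v * g⁻¹) * g⁻¹) * g⁻¹ := by group
  have e4 : g * (δ * v) * g⁻¹ = v := by
    have : g * (δ * v) * g⁻¹ = (g * δ * g⁻¹) * (g * v * g⁻¹) := by group
    rw [this, e2, e1, ← mul_assoc, h.mulself hδV, one_mul]
  rw [e3, e1, e4, e1, one_mul, inv_one, mul_one] at h5
  rw [e1, h5]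

theorem Nm_conj (x g v : G) : Nm (x * g * x⁻¹) (x * v * x⁻¹) = x * Nm g v * x⁻¹ := by
  unfold Nm; group

theorem Nm_sim (h : Sy H V D e) {g g' : G} (hg : g ∈ H) (hs : Sim V g g') {v : G}
    (hv : v ∈ V) : Nm g v = Nm g' v := by
  unfold Nm
  rw [hs _ (h.Vn g hg v hv), hs v hv]

theorem Nm_e (h : Sy H V D e) {g : G} (hg : g ∈ H) {v : G} (hv : v ∈ V) :
    e (Nm g v) = e v + e (g * v * g⁻¹) + e (g * (g * v * g⁻¹) * g⁻¹) := by
  have h1 := h.Vn g hg v hv
  have h2 := h.Vn g hg _ h1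
  unfold Nm
  rw [h.mul _ (mul_mem hv h1) _ h2, h.mul _ hv _ h1]

theorem Nm_D (h : Sy H V D e) {g : G} (hg : g ∈ H) (hc : ∀ d ∈ D, g * d = d * g) {v d : G}
    (hv : v ∈ V) (hd : d ∈ D) : Nm g (v * d) = Nm g v * d := by
  have hdV := h.DV hd
  have e1 : g * (v * d) * g⁻¹ = (g * v * g⁻¹) * d := by
    have : g * (v * d) * g⁻¹ = (g * v * g⁻¹) * (g * d * g⁻¹) := by group
    rw [this, hc d hd]; group
  have e2 : g * ((g * v * g⁻¹) * d) * g⁻¹ = (g * (g * v * g⁻¹) * g⁻¹) * d := by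
    have : g * ((g * v * g⁻¹) * d) * g⁻¹ = (g * (g * v * g⁻¹) * g⁻¹) * (g * d * g⁻¹) := by group
    rw [this, hc d hd]; group
  have h1 := h.Vn g hg v hv
  have h2 := h.Vn g hg _ h1
  unfold Nm
  rw [e1, e2]
  set a := g * v * g⁻¹
  set b := g * a * g⁻¹
  calc v * d * (a * d) * (b * d) = v * (d * a) * d * b * d := by group
    _ = v * (a * d) * d * b * d := by rw [h.comm d hdV a h1]
    _ = v * a * (d * d) * b * d := by group
    _ = v * a * b * d := by rw [h.mulself hdV, mul_one]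

/-! ### The canonical lifts -/

/-- `w` is the canonical lift of the pair `{a, b}` of the component `j`. -/
structure IsU (H V D : Subgroup G) (e : G → Fin k → Fin n → ZMod 2) (j : Fin k) (a b : Fin n)
    (w : G) : Prop where
  mem : w ∈ V
  eq : e w = E j a + E j b
  nm : ∀ z, z ≠ a → z ≠ b → ∀ g, Gd H V D e (Pi.mulSingle j (cyc a b z)) g → Nm g w = 1

theorem single_three {j : Fin k} {a b z : Fin n} (hab : a ≠ b) (haz : a ≠ z) (hbz : b ≠ z) :
    (Pi.mulSingle j (cyc a b z) * Pi.mulSingle j (cyc a b z) * Pi.mulSingle j (cyc a b z) :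
      Fin k → Equiv.Perm (Fin n)) = 1 := by
  rw [← Pi.mulSingle_mul, ← Pi.mulSingle_mul, cyc_three hab haz hbz, Pi.mulSingle_one]

theorem IsU.conj (h : Sy H V D e) {x : G} (hx : x ∈ H) {σ : Equiv.Perm (Fin k)}
    {τ : Fin k → Equiv.Perm (Fin n)} (hxa : ActsSym e V x σ τ) {j : Fin k} {a b : Fin n} {w : G}
    (hw : IsU H V D e j a b w) : IsU H V D e (σ j) (τ j a) (τ j b) (x * w * x⁻¹) := by
  refine ⟨h.Vn x hx w hw.mem, h.e_conj hxa hw.mem hw.eq, fun z hza hzb g hg => ?_⟩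
  set z₀ := (τ j)⁻¹ z with hz
  have hz' : z = τ j z₀ := by rw [hz, perm_inv_self]
  have hz0a : z₀ ≠ a := fun e => hza (by rw [hz', e])
  have hz0b : z₀ ≠ b := fun e => hzb (by rw [hz', e])
  obtain ⟨g₀, hg₀⟩ := h.exists_gd (Pi.mulSingle j (cyc a b z₀))
  have h1 := h.gd_conj_single hx hxa hg₀
  rw [cyc_conj, ← hz'] at h1
  have h2 := h.gd_sim hg h1
  rw [h.Nm_sim hg.mem h2 (h.Vn x hx w hw.mem), Nm_conj, hw.nm z₀ hz0a hz0b g₀ hg₀]
  group

theorem IsU.unique (h : Sy H V D e) {j : Fin k} {a b : Fin n} {w w' : G} (hab : a ≠ b)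
    (hw : IsU H V D e j a b w) (hw' : IsU H V D e j a b w') : w = w' := by
  obtain ⟨z, hza, hzb⟩ := h.exists_third a b
  obtain ⟨g, hg⟩ := h.exists_gd (Pi.mulSingle j (cyc a b z))
  have h1 := hw.nm z hza hzb g hg
  have h2 := hw'.nm z hza hzb g hg
  have h3 : w * w' ∈ D := h.e_eq hw.mem hw'.mem (hw.eq.trans hw'.eq.symm)
  have h4 := h.Nm_D hg.mem hg.cd hw.mem h3
  have h5 : w * (w * w') = w' := by rw [← mul_assoc, h.mulself hw.mem, one_mul]
  rw [h5, h1, h2, one_mul] at h4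
  rw [← h.inv_eq hw'.mem]
  exact eq_inv_of_mul_eq_one_left h4.symm

theorem exists_isU (h : Sy H V D e) (j : Fin k) {a b : Fin n} (hab : a ≠ b) :
    ∃ w, IsU H V D e j a b w := by
  obtain ⟨z₀, hza, hzb⟩ := h.exists_third a b
  obtain ⟨g₀, hg₀⟩ := h.exists_gd (Pi.mulSingle j (cyc a b z₀))
  obtain ⟨w₀, hw₀, he₀⟩ := h.exists_pair j a b
  have hc := hg₀.act
  -- the norm of `w₀` lies in `D`
  have hN : Nm g₀ w₀ ∈ D := by
    have hNV : Nm g₀ w₀ ∈ V := mul_mem (mul_mem hw₀ (h.Vn _ hg₀.mem _ hw₀))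
      (h.Vn _ hg₀.mem _ (h.Vn _ hg₀.mem _ hw₀))
    rw [← h.ker _ hNV, h.Nm_e hg₀.mem hw₀]
    have e1 := h.e_conj hc hw₀ he₀
    have e2 := h.e_conj hc (h.Vn _ hg₀.mem _ hw₀) e1
    rw [e2, e1, he₀]
    simp only [Equiv.Perm.one_apply, Pi.mulSingle_eq_same]
    rw [cyc_a hab hza.symm hzb.symm, cyc_b hab hza.symm hzb.symm, cyc_z hab hza.symm hzb.symm]
    have e3 : E j a + E j b + (E j b + E j z₀) + (E j z₀ + E j a) =
      (E j a + E j a) + (E j b + E j b) + (E j z₀ + E j z₀) := by abel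
    rw [e3, E_add_self, E_add_self, E_add_self, add_zero, add_zero]
  set δ := Nm g₀ w₀ with hδ
  set w := w₀ * δ with hw
  have hwV : w ∈ V := mul_mem hw₀ (h.DV hN)
  have hew : e w = E j a + E j b := by
    rw [hw, h.mul _ hw₀ _ (h.DV hN), (h.ker _ (h.DV hN)).2 hN, add_zero, he₀]
  have hNw : Nm g₀ w = 1 := by
    rw [hw, h.Nm_D hg₀.mem hg₀.cd hw₀ hN, ← hδ, h.mulself (h.DV hN)]
  refine ⟨w, hwV, hew, fun z hz1 hz2 g hg => ?_⟩
  by_cases hzz : z = z₀
  · subst hzz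
    rw [h.Nm_sim hg.mem (h.gd_sim hg hg₀) hwV, hNw]
  · obtain ⟨z₁, h1, h2, h3, h4⟩ := h.exists_fifth hab hza.symm hzb.symm hz1.symm hz2.symm
      (Ne.symm hzz)
    -- a 3-cycle fixing `a` and `b`, moving `z₀` to `z`
    obtain ⟨x, hx⟩ := h.exists_gd (Pi.mulSingle j (cyc z₀ z z₁))
    have hfix : x * w * x⁻¹ = w := by
      refine h.fix_of_three hx (single_three (Ne.symm hzz) h3.symm h4.symm) hwV ?_
      rw [h.e_conj hx.act hwV hew, hew]
      simp only [Equiv.Perm.one_apply, Pi.mulSingle_eq_same]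
      rw [cyc_o (Ne.symm hzz) h3.symm h4.symm hza.symm hz1.symm h1.symm,
        cyc_o (Ne.symm hzz) h3.symm h4.symm hzb.symm hz2.symm h2.symm]
    have h5 := h.gd_conj_single hx.mem hx.act hg₀
    simp only [Equiv.Perm.one_apply, Pi.mulSingle_eq_same] at h5
    rw [cyc_conj, cyc_o (Ne.symm hzz) h3.symm h4.symm hza.symm hz1.symm h1.symm,
        cyc_o (Ne.symm hzz) h3.symm h4.symm hzb.symm hz2.symm h2.symm,
        cyc_a (Ne.symm hzz) h3.symm h4.symm] at h5
    have h6 := h.gd_sim hg h5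
    have h7 := Nm_conj x g₀ w
    rw [hfix, hNw] at h7
    rw [h.Nm_sim hg.mem h6 hwV, h7]
    group

end Sy

open Classical in
/-- the canonical lift of the pair `{a, b}` of the component `j` -/
noncomputable def u (H V D : Subgroup G) {k n : ℕ} (e : G → Fin k → Fin n → ZMod 2) (j : Fin k)
    (a b : Fin n) : G :=
  if h : a ≠ b ∧ ∃ w, Sy.IsU H V D e j a b w then h.2.choose else 1

namespace Sy

variable {H V D : Subgroup G} {k n : ℕ} {e : G → Fin k → Fin n → ZMod 2}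

theorem u_spec (h : Sy H V D e) (j : Fin k) {a b : Fin n} (hab : a ≠ b) :
    IsU H V D e j a b (u H V D e j a b) := by
  have h1 : a ≠ b ∧ ∃ w, IsU H V D e j a b w := ⟨hab, h.exists_isU j hab⟩
  rw [u, dif_pos h1]
  exact h1.2.choose_spec

theorem u_self (H V D : Subgroup G) (e : G → Fin k → Fin n → ZMod 2) (j : Fin k) (a : Fin n) :
    u H V D e j a a = 1 := by
  rw [u, dif_neg (fun h => h.1 rfl)]

theorem u_mem (h : Sy H V D e) (j : Fin k) (a b : Fin n) : u H V D e j a b ∈ V := by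
  by_cases hab : a = b
  · subst hab; rw [u_self]; exact one_mem V
  · exact (h.u_spec j hab).mem

theorem e_u (h : Sy H V D e) (j : Fin k) (a b : Fin n) : e (u H V D e j a b) = E j a + E j b := by
  by_cases hab : a = b
  · subst hab; rw [u_self, h.e_one, E_add_self]
  · exact (h.u_spec j hab).eq

theorem u_conj (h : Sy H V D e) {x : G} (hx : x ∈ H) {σ : Equiv.Perm (Fin k)}
    {τ : Fin k → Equiv.Perm (Fin n)} (hxa : ActsSym e V x σ τ) (j : Fin k) (a b : Fin n) :
    x * u H V D e j a b * x⁻¹ = u H V D e (σ j) (τ j a) (τ j b) := by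
  by_cases hab : a = b
  · subst hab; rw [u_self, u_self]; group
  · have hab' : τ j a ≠ τ j b := fun e => hab ((τ j).injective e)
    exact IsU.unique h hab' (IsU.conj h hx hxa (h.u_spec j hab)) (h.u_spec _ hab')

theorem u_sq (h : Sy H V D e) (j : Fin k) (a b : Fin n) :
    u H V D e j a b * u H V D e j a b = 1 := h.mulself (h.u_mem j a b)

/-- the relation of the 3-cycle -/
theorem u_cyc (h : Sy H V D e) (j : Fin k) {a b z : Fin n} (hab : a ≠ b) (haz : a ≠ z)
    (hbz : b ≠ z) : u H V D e j a b * u H V D e j b z * u H V D e j z a = 1 := by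
  obtain ⟨g, hg⟩ := h.exists_gd (Pi.mulSingle j (cyc a b z))
  have h1 := (h.u_spec j hab).nm z haz.symm hbz.symm g hg
  unfold Nm at h1
  have e1 := h.u_conj hg.mem hg.act j a b
  have e2 := h.u_conj hg.mem hg.act j b z
  simp only [Equiv.Perm.one_apply, Pi.mulSingle_eq_same] at e1 e2
  rw [cyc_a hab haz hbz, cyc_b hab haz hbz] at e1
  rw [cyc_b hab haz hbz, cyc_z hab haz hbz] at e2
  rwa [e1, e2] at h1

theorem u_symm (h : Sy H V D e) (j : Fin k) (a b : Fin n) : u H V D e j a b = u H V D e j b a := by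
  by_cases hab : a = b
  · rw [hab]
  · obtain ⟨z, hza, hzb⟩ := h.exists_third a b
    -- `u a b = u b z * u z a` up to order, `u b a = u a z * u z b`
    refine IsU.unique h hab (h.u_spec j hab) ⟨h.u_mem j b a, by rw [h.e_u, add_comm], ?_⟩
    intro y hya hyb g hg
    have h1 := h.gd_inv hg
    rw [← Pi.mulSingle_inv, ← cyc_symm hab hya.symm hyb.symm] at h1
    have h2 := (h.u_spec j (Ne.symm hab)).nm y hyb hya _ h1
    set w := u H V D e j b a with hw
    have hwV : w ∈ V := h.u_mem j b a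
    -- `g³` centralises `w`
    have h3 : Gd H V D e 1 (g * g * g) := by
      have := h.gd_mul (h.gd_mul hg hg) hg
      rwa [single_three hab hya.symm hyb.symm] at this
    have h4 := h.gd_sim h3 h.gd_one w hwV
    have h5 : g * g * w * (g * g)⁻¹ = g⁻¹ * w * g := by
      calc g * g * w * (g * g)⁻¹ = g⁻¹ * (g * g * g * w * (g * g * g)⁻¹) * g := by group
        _ = g⁻¹ * w * g := by rw [h4]; group
    have h6 : g * w * g⁻¹ = g⁻¹ * (g⁻¹ * w * g) * g := by
      rw [← h5]; group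
    unfold Nm at h2 ⊢
    rw [inv_inv] at h2
    have h7 : g * (g * w * g⁻¹) * g⁻¹ = g⁻¹ * w * g := by rw [← h5]; group
    rw [h7, h6]
    rw [mul_assoc, h.comm _ (h.Vn' hg.mem _ (h.Vn' hg.mem _ hwV)) _ (h.Vn' hg.mem _ hwV),
      ← mul_assoc]
    exact h2

theorem u_add (h : Sy H V D e) (j : Fin k) (a b c : Fin n) :
    u H V D e j a b * u H V D e j b c = u H V D e j a c := by
  by_cases hab : a = b
  · subst hab; rw [u_self, one_mul]
  · by_cases hbc : b = c
    · subst hbc; rw [u_self, mul_one]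
    · by_cases hac : a = c
      · subst hac
        rw [h.u_symm j b a, h.u_sq, u_self]
      · have h1 := h.u_cyc j hab hac hbc
        have h2 : u H V D e j a b * u H V D e j b c = (u H V D e j c a)⁻¹ :=
          eq_inv_of_mul_eq_one_left h1
        rw [h2, h.inv_eq (h.u_mem j c a), h.u_symm]

theorem u_inj (h : Sy H V D e) {j j' : Fin k} {a b c d : Fin n} (hab : a ≠ b)
    (he : u H V D e j a b = u H V D e j' c d) :
    j = j' ∧ ((a = c ∧ b = d) ∨ (a = d ∧ b = c)) := by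
  refine pair_inj hab ?_
  rw [← h.e_u, ← h.e_u, he]

theorem u_ne (h : Sy H V D e) {j : Fin k} {a b : Fin n} (hab : a ≠ b) : u H V D e j a b ≠ 1 := by
  intro h1
  have h2 : u H V D e j a b = u H V D e j a a := by rw [h1, u_self]
  rcases (h.u_inj hab h2).2 with h3 | h3
  · exact hab h3.2.symm
  · exact hab h3.2.symm

/-! ### Generation of `V` and commutators -/

/-- `V` is generated by `D` and the lifts of the pairs `{o, a}`. -/
theorem V_le (h : Sy H V D e) (o : Fin n) {K : Subgroup G} (hD : D ≤ K)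
    (hu : ∀ j a, u H V D e j o a ∈ K) : V ≤ K := by
  let E' : AddSubgroup (Fin k → Fin n → ZMod 2) :=
    { carrier := {y | ∃ v ∈ V ⊓ K, e v = y}
      add_mem' := by
        rintro _ _ ⟨v, hv, rfl⟩ ⟨w, hw, rfl⟩
        exact ⟨v * w, mul_mem hv hw, h.mul v hv.1 w hw.1⟩
      zero_mem' := ⟨1, one_mem _, h.e_one⟩
      neg_mem' := by
        rintro _ ⟨v, hv, rfl⟩
        exact ⟨v⁻¹, inv_mem hv, by
          rw [h.e_inv hv.1]
          funext i x
          exact (CharTwo.neg_eq _).symm⟩ }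
  have h2 : ∀ c : ZMod 2, c = 0 ∨ c = 1 := by decide
  have key : ∀ y : Fin k → Fin n → ZMod 2, (∀ i, ∑ x, y i x = 0) → y ∈ E' := by
    intro y hy
    have e1 : y = ∑ i, ∑ x, y i x • (E i o + E i x) := by
      funext j z
      simp only [Finset.sum_apply, Pi.smul_apply, Pi.add_apply, smul_eq_mul, mul_add,
        Finset.sum_add_distrib]
      have s1 : ∑ i, ∑ x, y i x * E i o j z = 0 := by
        refine Finset.sum_eq_zero fun i _ => ?_
        rw [← Finset.sum_mul, hy i, zero_mul]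
      have s2 : ∑ i, ∑ x, y i x * E i x j z = y j z := by
        rw [Finset.sum_eq_single j]
        · rw [Finset.sum_eq_single z]
          · rw [E_self, mul_one]
          · intro x _ hx
            rw [E_ne (fun hc => hx hc.2.symm), mul_zero]
          · intro hc; exact absurd (Finset.mem_univ _) hc
        · intro i _ hi
          refine Finset.sum_eq_zero fun x _ => ?_
          rw [E_ne (fun hc => hi hc.1.symm), mul_zero]
        · intro hc; exact absurd (Finset.mem_univ _) hc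
      rw [s1, s2, zero_add]
    rw [e1]
    refine sum_mem fun i _ => sum_mem fun x _ => ?_
    rcases h2 (y i x) with h3 | h3
    · rw [h3, zero_smul]; exact zero_mem _
    · rw [h3, one_smul]
      exact ⟨u H V D e i o x, ⟨h.u_mem _ _ _, hu i x⟩, h.e_u _ _ _⟩
  intro v hv
  obtain ⟨w, hw, hvw⟩ := key (e v) (h.even v hv)
  have h3 := h.e_eq hv hw.1 hvw.symm
  have h4 : v = v * w * w := by rw [mul_assoc, h.mulself hw.1, mul_one]
  rw [h4]
  exact mul_mem (hD h3) hw.2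

/-- the commutators of an element acting on one component -/
theorem comm_le (h : Sy H V D e) (o : Fin n) {j : Fin k} {π : Equiv.Perm (Fin n)} {g : G}
    (hg : Gd H V D e (Pi.mulSingle j π) g) {K : Subgroup G} (hK : K ≤ V)
    (hu : ∀ a, u H V D e j a (π a) ∈ K) : ∀ v ∈ V, g * v * g⁻¹ * v⁻¹ ∈ K := by
  let S : Subgroup G :=
    { carrier := {v | v ∈ V ∧ g * v * g⁻¹ * v⁻¹ ∈ K}
      mul_mem' := by
        rintro v w ⟨hv, hv'⟩ ⟨hw, hw'⟩
        refine ⟨mul_mem hv hw, ?_⟩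
        have e1 : g * (v * w) * g⁻¹ * (v * w)⁻¹ =
          (g * v * g⁻¹) * ((g * w * g⁻¹ * w⁻¹) * v⁻¹) := by group
        rw [e1, h.comm _ (hK hw') _ (inv_mem hv), ← mul_assoc]
        exact mul_mem hv' hw'
      one_mem' := ⟨one_mem V, by simp⟩
      inv_mem' := by
        rintro v ⟨hv, hv'⟩
        refine ⟨inv_mem hv, ?_⟩
        rw [h.inv_eq hv]
        exact hv' }
  have hS : V ≤ S := by
    refine h.V_le o (fun d hd => ⟨h.DV hd, ?_⟩) fun i a => ⟨h.u_mem i o a, ?_⟩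
    · rw [hg.cd d hd]
      have : d * g * g⁻¹ * d⁻¹ = 1 := by group
      rw [this]; exact one_mem K
    · rw [h.u_conj hg.mem hg.act, h.inv_eq (h.u_mem i o a), Equiv.Perm.one_apply]
      by_cases hij : i = j
      · subst hij
        rw [Pi.mulSingle_eq_same]
        rw [← h.u_add i (π o) o (π a), mul_assoc, h.u_symm i o (π a), h.u_add, h.u_symm i (π o) o,
          h.u_symm i (π a) a]
        exact mul_mem (hu o) (hu a)
      · rw [Pi.mulSingle_eq_of_ne hij, Equiv.Perm.one_apply, Equiv.Perm.one_apply, h.u_sq]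
        exact one_mem K
  exact fun v hv => (hS hv).2

/-- a transposition is a transvection -/
theorem swap_comm (h : Sy H V D e) {j : Fin k} {x y : Fin n} {g : G}
    (hg : Gd H V D e (Pi.mulSingle j (Equiv.swap x y)) g) :
    ∀ v ∈ V, g * v * g⁻¹ = v ∨ g * v * g⁻¹ = u H V D e j x y * v := by
  set d := u H V D e j x y with hd
  let K : Subgroup G :=
    { carrier := {w | w = 1 ∨ w = d}
      mul_mem' := by
        rintro a b (rfl | rfl) (rfl | rfl)
        · left; rw [one_mul]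
        · right; rw [one_mul]
        · right; rw [mul_one]
        · left; exact h.u_sq j x y
      one_mem' := Or.inl rfl
      inv_mem' := by
        rintro a (rfl | rfl)
        · left; rw [inv_one]
        · right; exact h.inv_eq (h.u_mem j x y) }
  have hK : K ≤ V := by
    rintro w (rfl | rfl)
    · exact one_mem V
    · exact h.u_mem j x y
  intro v hv
  have h1 : g * v * g⁻¹ * v⁻¹ ∈ K := by
    refine h.comm_le x hg hK (fun a => ?_) v hv
    by_cases hax : a = x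
    · subst hax; rw [Equiv.swap_apply_left]; exact Or.inr rfl
    · by_cases hay : a = y
      · subst hay; rw [Equiv.swap_apply_right, h.u_symm]; exact Or.inr rfl
      · rw [Equiv.swap_apply_of_ne_of_ne hax hay, u_self]; exact Or.inl rfl
  have h2 : g * v * g⁻¹ = g * v * g⁻¹ * v⁻¹ * v := by group
  rcases h1 with h1 | h1
  · left; rw [h2, h1, one_mul]
  · right; rw [h2, h1]

/-! ### The fours group of a 3-cycle -/

/-- `{1, u o x, u o y, u x y}` -/
def NN (h : Sy H V D e) (j : Fin k) (o x y : Fin n) : Subgroup G where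
  carrier := {w | w = 1 ∨ w = u H V D e j o x ∨ w = u H V D e j o y ∨ w = u H V D e j x y}
  one_mem' := Or.inl rfl
  inv_mem' := by
    rintro a (rfl | rfl | rfl | rfl)
    · left; rw [inv_one]
    · right; left; exact h.inv_eq (h.u_mem _ _ _)
    · right; right; left; exact h.inv_eq (h.u_mem _ _ _)
    · right; right; right; exact h.inv_eq (h.u_mem _ _ _)
  mul_mem' := by
    have r1 : u H V D e j o x * u H V D e j o y = u H V D e j x y := by
      rw [h.u_symm j o x, h.u_add]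
    have r2 : u H V D e j o y * u H V D e j o x = u H V D e j x y := by
      rw [h.u_symm j o y, h.u_add, h.u_symm]
    have r3 : u H V D e j o x * u H V D e j x y = u H V D e j o y := h.u_add _ _ _ _
    have r4 : u H V D e j x y * u H V D e j o x = u H V D e j o y := by
      rw [h.comm _ (h.u_mem _ _ _) _ (h.u_mem _ _ _), r3]
    have r5 : u H V D e j o y * u H V D e j x y = u H V D e j o x := by
      rw [h.u_symm j x y, h.u_add]
    have r6 : u H V D e j x y * u H V D e j o y = u H V D e j o x := by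
      rw [h.comm _ (h.u_mem _ _ _) _ (h.u_mem _ _ _), r5]
    rintro a b (rfl | rfl | rfl | rfl) (rfl | rfl | rfl | rfl)
    · left; rw [one_mul]
    · right; left; rw [one_mul]
    · right; right; left; rw [one_mul]
    · right; right; right; rw [one_mul]
    · right; left; rw [mul_one]
    · left; exact h.u_sq _ _ _
    · right; right; right; exact r1
    · right; right; left; exact r3
    · right; right; left; rw [mul_one]
    · right; right; right; exact r2
    · left; exact h.u_sq _ _ _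
    · right; left; exact r5
    · right; right; right; rw [mul_one]
    · right; right; left; exact r4
    · right; left; exact r6
    · left; exact h.u_sq _ _ _

theorem mem_NN (h : Sy H V D e) {j : Fin k} {o x y : Fin n} {w : G} : w ∈ h.NN j o x y ↔
    w = 1 ∨ w = u H V D e j o x ∨ w = u H V D e j o y ∨ w = u H V D e j x y := Iff.rfl

theorem NN_symm (h : Sy H V D e) (j : Fin k) (o x y : Fin n) : h.NN j o x y = h.NN j o y x := by
  ext w
  rw [h.mem_NN, h.mem_NN, h.u_symm j x y]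
  tauto

theorem NN_le (h : Sy H V D e) (j : Fin k) (o x y : Fin n) : h.NN j o x y ≤ V := by
  rintro w (rfl | rfl | rfl | rfl)
  · exact one_mem V
  all_goals exact h.u_mem _ _ _

theorem u_ne_u (h : Sy H V D e) {j : Fin k} {a b c : Fin n} (hab : a ≠ b) (hac : a ≠ c)
    (hbc : b ≠ c) : u H V D e j a b ≠ u H V D e j a c := by
  intro h1
  rcases (h.u_inj hab h1).2 with h2 | h2
  · exact hbc h2.2
  · exact hac h2.1

theorem card_NN (h : Sy H V D e) (j : Fin k) {o x y : Fin n} (hox : o ≠ x) (hoy : o ≠ y)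
    (hxy : x ≠ y) : Nat.card (h.NN j o x y) = 4 := by
  have h1 : u H V D e j o x ≠ 1 := h.u_ne hox
  have h2 : u H V D e j o y ≠ 1 := h.u_ne hoy
  have h3 : u H V D e j x y ≠ 1 := h.u_ne hxy
  have h4 : u H V D e j o x ≠ u H V D e j o y := h.u_ne_u hox hoy hxy
  have h5 : u H V D e j o x ≠ u H V D e j x y := by
    rw [h.u_symm j o x]; exact h.u_ne_u hox.symm hxy hoy
  have h6 : u H V D e j o y ≠ u H V D e j x y := by
    rw [h.u_symm j o y, h.u_symm j x y]; exact h.u_ne_u hoy.symm hxy.symm hox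
  have hset : ((h.NN j o x y : Subgroup G) : Set G) =
      {1, u H V D e j o x, u H V D e j o y, u H V D e j x y} := by
    ext w
    rw [SetLike.mem_coe, h.mem_NN]
    simp only [Set.mem_insert_iff, Set.mem_singleton_iff]
  have hc : Nat.card (h.NN j o x y) = Set.ncard ((h.NN j o x y : Subgroup G) : Set G) :=
    Nat.card_coe_set_eq _
  rw [hc, hset, Set.ncard_insert_of_notMem, Set.ncard_insert_of_notMem, Set.ncard_pair h6]
  · simp [h4, h5]
  · simp [h1.symm, h2.symm, h3.symm]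

section three

variable (h : Sy H V D e) {j : Fin k} {o x y : Fin n} (hox : o ≠ x) (hoy : o ≠ y) (hxy : x ≠ y)
  {g : G} (hg : Gd H V D e (Pi.mulSingle j (cyc o x y)) g)

include hox hoy hxy hg

theorem cyc_comm : ∀ v ∈ V, g * v * g⁻¹ * v⁻¹ ∈ h.NN j o x y := by
  refine h.comm_le o hg (h.NN_le j o x y) fun a => ?_
  by_cases h1 : a = o
  · subst h1; rw [cyc_a hox hoy hxy]; exact Or.inr (Or.inl rfl)
  · by_cases h2 : a = x
    · subst h2; rw [cyc_b hox hoy hxy]; exact Or.inr (Or.inr (Or.inr rfl))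
    · by_cases h3 : a = y
      · subst h3; rw [cyc_z hox hoy hxy, h.u_symm]; exact Or.inr (Or.inr (Or.inl rfl))
      · rw [cyc_o hox hoy hxy h1 h2 h3, u_self]; exact one_mem _

theorem cyc_fix : ∀ v ∈ h.NN j o x y, g * v * g⁻¹ = v → v = 1 := by
  intro v hv hfix
  have ha : (1 : Equiv.Perm (Fin k)) j = j := rfl
  rcases h.mem_NN.1 hv with h1 | h1 | h1 | h1
  · exact h1
  · exfalso
    rw [h1, h.u_conj hg.mem hg.act, ha, Pi.mulSingle_eq_same, cyc_a hox hoy hxy,
      cyc_b hox hoy hxy, h.u_symm j o x] at hfix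
    exact h.u_ne_u hxy hox.symm hoy.symm hfix
  · exfalso
    rw [h1, h.u_conj hg.mem hg.act, ha, Pi.mulSingle_eq_same, cyc_a hox hoy hxy,
      cyc_z hox hoy hxy, h.u_symm j x o] at hfix
    exact h.u_ne_u hox hoy hxy hfix
  · exfalso
    rw [h1, h.u_conj hg.mem hg.act, ha, Pi.mulSingle_eq_same, cyc_b hox hoy hxy,
      cyc_z hox hoy hxy, h.u_symm j x y] at hfix
    exact h.u_ne_u hoy.symm hxy.symm hox hfix

end three

end Sy

end Cfsg.Agent.Omega.SQ1.FFSym

end

section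


/-!
# SQ1, L1: from the FF theorem (even-subset modules) to the `q = 2` Baumann input, part 2

`T` is a Sylow 2-subgroup of `H` which permutes the components transitively and fixes the point `o` of every
component; `J(T)` is generated by transpositions.

* `Tr j x y`: the transposition `(x y)` of the component `j` is induced by `J(T)`;
* `mem_EE`: elements of `T` acting as products of such transpositions;
* `SyT.main`: `BauS.In` and `BauS.PermR`.
-/

set_option autoImplicit false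
set_option linter.unusedSectionVars false
set_option linter.unusedVariables false

namespace Cfsg.Agent.Omega.SQ1.FFSym

open Subgroup Cfsg Cfsg.Agent.PLocal.ThompsonJ Cfsg.Agent.ZN Cfsg.Agent.ZN.ChoiceBase
open Cfsg.Agent.Omega.FFThm (ActsSym SymK NoOver Off)
open Cfsg.Agent.Omega.SQ1.BauS (Sim)

universe v

variable {G : Type v} [Group G]

/-- The module data with `T`. -/
structure SyT (T H Q V D : Subgroup G) {k n : ℕ} (o : Fin n) (e : G → Fin k → Fin n → ZMod 2) :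
    Prop extends Sy H V D e where
  TH : T ≤ H
  Tp : IsPGroup 2 T
  QT : Q ≤ T
  VQ : V ≤ Q
  Qn : ∀ h ∈ H, ∀ x ∈ Q, h * x * h⁻¹ ∈ Q
  VcQ : ∀ x ∈ Q, ∀ v ∈ V, x * v = v * x
  cT : ∀ x ∈ T, (∀ v ∈ V, x * v = v * x) → x ∈ Q
  syl : ∀ x ∈ H, (∃ N : ℕ, x ^ 2 ^ N = 1) → ∃ g ∈ H, g * x * g⁻¹ ∈ T
  trans : ∀ i j, ∃ t ∈ T, ∃ σ τ, ActsSym e V t σ τ ∧ σ i = j
  fix0 : ∀ t ∈ T, ∀ σ τ, ActsSym e V t σ τ → ∀ i, τ i o = o
  gen : ∀ K : Subgroup G, T ≤ K → (∀ g τ, Gd H V D e τ g → g ∈ K) → H ≤ K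
  offD : ∀ A ∈ AA T, ∀ a ∈ A, ∃ τ, Gd H V D e τ a ∧ ∀ i x, τ i x ≠ x → τ i (τ i x) = x ∧
    ∃ b ∈ A, Gd H V D e (Pi.mulSingle i (Equiv.swap x (τ i x))) b
  nJ : ∃ A ∈ AA T, ∃ a ∈ A, ∃ v ∈ V, a * v ≠ v * a
  noOver : ∀ A ∈ AA T, Nat.card A * Nat.card ↥(V ⊓ centralizer (A : Set G)) ≤
    Nat.card V * Nat.card ↥(A ⊓ centralizer (V : Set G))
  cycle : ∃ p : Equiv.Perm (Fin n), ∃ M : ℕ, p ^ 2 ^ M = 1 ∧ (∀ x, p x = x → x = o) ∧
    ∀ x y, x ≠ o → y ≠ o → ∃ i : ℕ, (p ^ i) x = y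
  prop : ∀ X : Subgroup G, T ≤ X → X ≤ H → H ≤ X ⊔ (H ⊓ centralizer (V : Set G)) → H ≤ X

namespace SyT

variable {T H Q V D : Subgroup G} {k n : ℕ} {o : Fin n} {e : G → Fin k → Fin n → ZMod 2}

theorem J_norm [Finite G] {x y : G} (hx : x ∈ T) (hy : y ∈ jj T) : x * y * x⁻¹ ∈ jj T :=
  (mem_normalizer_iff.1 (normalizer_le_of_cj (F := fun K => jj K) jj_cj T (le_normalizer hx)) y).1 hy

/-- the action on the components and points -/
theorem exists_act (h : SyT T H Q V D o e) {x : G} (hx : x ∈ T) :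
    ∃ σ τ, ActsSym e V x σ τ ∧ ∀ i, τ i o = o := by
  obtain ⟨σ, τ, hx'⟩ := h.perm x (h.TH hx)
  exact ⟨σ, τ, hx', h.fix0 x hx σ τ hx'⟩

/-- `T` is transitive on the points different from `o` of every component. -/
theorem cyc_T (h : SyT T H Q V D o e) [Finite G]
    (hpow : ∀ (g : G) (m : ℕ), ∃ c : ℕ, c % 2 ^ m = 1 % 2 ^ m ∧ ∃ N : ℕ, (g ^ c) ^ (2 ^ N) = 1)
    (j : Fin k) {x y : Fin n} (hx : x ≠ o) (hy : y ≠ o) :
    ∃ t ∈ T, ∃ π, Gd H V D e (Pi.mulSingle j π) t ∧ π x = y := by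
  obtain ⟨p, M, hpM, hp0, hpt⟩ := h.cycle
  obtain ⟨g, hg⟩ := h.exists_gd (Pi.mulSingle j p)
  obtain ⟨c, hc, N, hN⟩ := hpow g M
  have hpc : p ^ c = p := by
    have h1 : p ^ (c % 2 ^ M) = p ^ (1 % 2 ^ M) := by rw [hc]
    rw [← pow_mod_orderOf, ← Nat.mod_mod_of_dvd c (orderOf_dvd_of_pow_eq_one hpM), hc,
      Nat.mod_mod_of_dvd 1 (orderOf_dvd_of_pow_eq_one hpM), pow_mod_orderOf, pow_one]
  have h1 : Gd H V D e (Pi.mulSingle j p) (g ^ c) := by
    have := h.gd_pow hg c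
    rw [← Pi.mulSingle_pow, hpc] at this
    exact this
  obtain ⟨s, hs, hsT⟩ := h.syl _ h1.mem ⟨N, hN⟩
  obtain ⟨σ, τ, hsa⟩ := h.perm s hs
  have h2 := h.gd_conj_single hs hsa h1
  have h3 := h.fix0 _ hsT _ _ h2.act (σ j)
  rw [Pi.mulSingle_eq_same] at h3
  have h4 : (τ j)⁻¹ o = o := by
    apply hp0
    apply (τ j).injective
    rw [perm_inv_self]
    exact h3
  obtain ⟨t, ht, σ', τ', hta, hσ⟩ := h.trans (σ j) j
  have h5 := h.gd_conj_single (h.TH ht) hta h2
  have h6 := h.fix0 _ ht _ _ hta (σ j)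
  rw [hσ] at h5
  set ρ := τ' (σ j) * τ j with hρ
  have hρ0 : ρ⁻¹ o = o := by
    rw [Equiv.Perm.inv_eq_iff_eq, hρ, Equiv.Perm.mul_apply]
    have : τ j o = o := by
      conv_lhs => rw [← h4]
      exact perm_inv_self _ _
    rw [this, h6]
  have h7 : τ' (σ j) * (τ j * p * (τ j)⁻¹) * (τ' (σ j))⁻¹ = ρ * p * ρ⁻¹ := by rw [hρ]; group
  rw [h7] at h5
  have hx' : ρ⁻¹ x ≠ o := fun e => hx (ρ⁻¹.injective (by rw [e, hρ0]))
  have hy' : ρ⁻¹ y ≠ o := fun e => hy (ρ⁻¹.injective (by rw [e, hρ0]))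
  obtain ⟨i, hi⟩ := hpt _ _ hx' hy'
  refine ⟨(t * (s * g ^ c * s⁻¹) * t⁻¹) ^ i,
    pow_mem (mul_mem (mul_mem ht hsT) (inv_mem ht)) i, (ρ * p * ρ⁻¹) ^ i, ?_, ?_⟩
  · have := h.gd_pow h5 i
    rwa [← Pi.mulSingle_pow] at this
  · rw [conj_pow, Equiv.Perm.mul_apply, Equiv.Perm.mul_apply, hi, perm_inv_self]

/-! ### Transpositions induced by `J(T)` -/

/-- the transposition `(x y)` of the component `j` is induced by `J(T)` -/
def Tr (T H V D : Subgroup G) (e : G → Fin k → Fin n → ZMod 2) (j : Fin k) (x y : Fin n) : Prop :=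
  x ≠ y ∧ ∃ t ∈ jj T, Gd H V D e (Pi.mulSingle j (Equiv.swap x y)) t

theorem Tr.symm {j : Fin k} {x y : Fin n} (h1 : Tr T H V D e j x y) : Tr T H V D e j y x := by
  obtain ⟨h2, t, ht, h3⟩ := h1
  exact ⟨h2.symm, t, ht, by rwa [Equiv.swap_comm]⟩

theorem Tr.ne (h : SyT T H Q V D o e) {j : Fin k} {x y : Fin n} (h1 : Tr T H V D e j x y) :
    o ≠ x ∧ o ≠ y := by
  obtain ⟨h2, t, ht, h3⟩ := h1
  have h4 := h.fix0 t (jj_le T ht) _ _ h3.act j
  rw [Pi.mulSingle_eq_same] at h4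
  constructor
  · intro h5
    subst h5
    rw [Equiv.swap_apply_left] at h4
    exact h2 h4.symm
  · intro h5
    subst h5
    rw [Equiv.swap_apply_right] at h4
    exact h2 h4

theorem Tr.conj (h : SyT T H Q V D o e) [Finite G] {j : Fin k} {x y : Fin n}
    (h1 : Tr T H V D e j x y) {s : G} (hs : s ∈ T) {σ : Equiv.Perm (Fin k)}
    {τ : Fin k → Equiv.Perm (Fin n)} (hsa : ActsSym e V s σ τ) :
    Tr T H V D e (σ j) (τ j x) (τ j y) := by
  obtain ⟨h2, t, ht, h3⟩ := h1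
  refine ⟨fun e => h2 ((τ j).injective e), s * t * s⁻¹, J_norm hs ht, ?_⟩
  have h4 := h.gd_conj_single (h.TH hs) hsa h3
  rwa [← Equiv.swap_apply_apply] at h4

/-- the transpositions are disjoint -/
theorem Tr.disj (h : SyT T H Q V D o e) {j : Fin k} {x y z : Fin n} (h1 : Tr T H V D e j x y)
    (h2 : Tr T H V D e j x z) : y = z := by
  by_contra hyz
  obtain ⟨h3, t, ht, h4⟩ := h1
  obtain ⟨h5, s, hs, h6⟩ := h2
  have h7 := h.gd_mul h4 h6
  obtain ⟨N, hN⟩ := h.Tp ⟨t * s, mul_mem (jj_le T ht) (jj_le T hs)⟩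
  have hN' : (t * s) ^ 2 ^ N = 1 := by simpa using congrArg Subtype.val hN
  have h8 := h.gd_pow h7 (2 ^ N)
  rw [hN'] at h8
  have h9 := h.gd_unique h8 h.gd_one
  rw [← Pi.mulSingle_mul, ← Pi.mulSingle_pow] at h9
  have h10 : (Equiv.swap x y * Equiv.swap x z) ^ 2 ^ N = 1 := by
    have := congrFun h9 j
    rwa [Pi.mulSingle_eq_same] at this
  have h11 : Equiv.swap x y * Equiv.swap x z = cyc y x z := by
    rw [cyc, Equiv.swap_comm x y]
  rw [h11] at h10
  have h12 : cyc y x z ^ 3 = 1 := by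
    have := cyc_three h3.symm hyz h5
    rw [pow_succ, pow_two]
    exact this
  have h13 : cyc y x z = 1 := by
    have h14 := Nat.Coprime.pow_left N (show Nat.Coprime 2 3 by decide)
    have h15 := pow_gcd_eq_one.2 ⟨h10, h12⟩
    rwa [h14, pow_one] at h15
  have h16 := cyc_a h3.symm hyz h5
  rw [h13, Equiv.Perm.one_apply] at h16
  exact h3 h16.symm

theorem exists_tr (h : SyT T H Q V D o e) : ∃ j x y, Tr T H V D e j x y := by
  obtain ⟨A, hA, a, ha, v, hv, hav⟩ := h.nJ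
  obtain ⟨τ, hτ, hτ'⟩ := h.offD A hA a ha
  by_contra hcon
  push Not at hcon
  have h1 : τ = 1 := by
    funext i
    ext x
    by_contra hx
    have hx' : τ i x ≠ x := fun e => hx (by rw [e]; rfl)
    obtain ⟨-, b, hb, hb'⟩ := hτ' i x hx'
    exact hcon i x (τ i x) ⟨hx'.symm, b, le_jj hA hb, hb'⟩
  subst h1
  have h2 := h.gd_sim hτ h.gd_one v hv
  apply hav
  calc a * v = (a * v * a⁻¹) * a := by group
    _ = v * a := by rw [h2]; group

/-- every point different from `o` is moved by a transposition -/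
theorem cover (h : SyT T H Q V D o e) [Finite G]
    (hpow : ∀ (g : G) (m : ℕ), ∃ c : ℕ, c % 2 ^ m = 1 % 2 ^ m ∧ ∃ N : ℕ, (g ^ c) ^ (2 ^ N) = 1)
    (j : Fin k) {x : Fin n} (hx : x ≠ o) :
    ∃ y, Tr T H V D e j x y := by
  obtain ⟨j₀, x₀, y₀, h0⟩ := h.exists_tr
  obtain ⟨t, ht, σ, τ, hta, hσ⟩ := h.trans j₀ j
  have h1 := h0.conj h ht hta
  rw [hσ] at h1
  obtain ⟨s, hs, π, hπ, hπx⟩ := h.cyc_T hpow j (h1.ne h).1.symm hx
  have h2 := h1.conj h hs hπ.act
  rw [Equiv.Perm.one_apply, Pi.mulSingle_eq_same, hπx] at h2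
  exact ⟨_, h2⟩

/-! ### The choice of the elements -/

/-- The chosen data for the index set `ι` of the transpositions. -/
structure Ch (T H V D : Subgroup G) (o : Fin n) (e : G → Fin k → Fin n → ZMod 2) {ι : Type}
    (J : ι → Fin k) (X Y : ι → Fin n) (t r : ι → G) : Prop where
  tr : ∀ i, Tr T H V D e (J i) (X i) (Y i)
  tJ : ∀ i, t i ∈ jj T
  tg : ∀ i, Gd H V D e (Pi.mulSingle (J i) (Equiv.swap (X i) (Y i))) (t i)
  rg : ∀ i, Gd H V D e (Pi.mulSingle (J i) (cyc o (X i) (Y i))) (r i)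
  inj : ∀ i j, u H V D e (J i) (X i) (Y i) = u H V D e (J j) (X j) (Y j) → i = j
  ex : ∀ j x y, Tr T H V D e j x y → ∃ i, u H V D e (J i) (X i) (Y i) = u H V D e j x y

theorem exists_ch (h : SyT T H Q V D o e) : ∃ (ι : Type) (J : ι → Fin k) (X Y : ι → Fin n)
    (t r : ι → G), Ch T H V D o e J X Y t r := by
  let ι : Type := {p : Fin k × Fin n × Fin n // Tr T H V D e p.1 p.2.1 p.2.2 ∧ p.2.1 < p.2.2}
  choose t htJ ht using fun i : ι => i.2.1.2
  choose r hr using fun i : ι => h.exists_gd (Pi.mulSingle i.1.1 (cyc o i.1.2.1 i.1.2.2))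
  refine ⟨ι, fun i => i.1.1, fun i => i.1.2.1, fun i => i.1.2.2, t, r, fun i => i.2.1, htJ, ht, hr,
    ?_, ?_⟩
  · rintro ⟨⟨j, x, y⟩, hT, hxy⟩ ⟨⟨j', x', y'⟩, hT', hxy'⟩ hij
    obtain ⟨h1, h2⟩ := h.u_inj hT.1 hij
    simp only at h1 h2 hxy hxy'
    rcases h2 with ⟨h2, h3⟩ | ⟨h2, h3⟩
    · subst h1; subst h2; subst h3; rfl
    · exfalso
      rw [h2, h3] at hxy
      exact absurd hxy (not_lt.2 hxy'.le)
  · intro j x y hT
    rcases lt_or_gt_of_ne hT.1 with h1 | h1
    · exact ⟨⟨(j, x, y), hT, h1⟩, rfl⟩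
    · exact ⟨⟨(j, y, x), hT.symm, h1⟩, h.u_symm _ _ _⟩

variable {ι : Type} {J : ι → Fin k} {X Y : ι → Fin n} {t r : ι → G}

/-- the index of a transposition -/
theorem Ch.exists_idx (h : SyT T H Q V D o e) (c : Ch T H V D o e J X Y t r) {j : Fin k}
    {x y : Fin n} (hT : Tr T H V D e j x y) : ∃ i, J i = j ∧ Equiv.swap (X i) (Y i) = Equiv.swap x y ∧
      u H V D e (J i) (X i) (Y i) = u H V D e j x y ∧
      ((X i = x ∧ Y i = y) ∨ (X i = y ∧ Y i = x)) := by
  obtain ⟨i, hi⟩ := c.ex j x y hT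
  obtain ⟨h1, h2⟩ := h.u_inj (c.tr i).1 hi
  refine ⟨i, h1, ?_, hi, h2⟩
  rcases h2 with ⟨h2, h3⟩ | ⟨h2, h3⟩
  · rw [h2, h3]
  · rw [h2, h3, Equiv.swap_comm]

/-- Two indices: equal, or different components, or disjoint pairs. -/
theorem Ch.cases (h : SyT T H Q V D o e) (c : Ch T H V D o e J X Y t r) {i j : ι} (hij : i ≠ j)
    (hJ : J i = J j) : X i ≠ X j ∧ X i ≠ Y j ∧ Y i ≠ X j ∧ Y i ≠ Y j := by
  have hi := c.tr i
  have hj := c.tr j
  rw [hJ] at hi
  have key : ∀ {a b : Fin n}, Tr T H V D e (J j) a b → Tr T H V D e (J j) (X i) (Y i) →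
      (a = X i ∧ b = Y i) ∨ (a = Y i ∧ b = X i) →
      ((a = X j ∧ b = Y j) ∨ (a = Y j ∧ b = X j)) → False := by
    intro a b _ _ h1 h2
    apply hij
    apply c.inj
    rw [hJ]
    rcases h1 with ⟨rfl, rfl⟩ | ⟨rfl, rfl⟩ <;> rcases h2 with ⟨h2, h3⟩ | ⟨h2, h3⟩
    · rw [h2, h3]
    · rw [h2, h3, h.u_symm]
    · rw [h2, h3, h.u_symm]
    · rw [h2, h3]
  refine ⟨fun e1 => ?_, fun e1 => ?_, fun e1 => ?_, fun e1 => ?_⟩
  · have hi' := hi
    rw [e1] at hi'
    exact key hi hi (Or.inl ⟨rfl, rfl⟩) (Or.inl ⟨e1, Tr.disj h hi' hj⟩)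
  · have hi' := hi
    rw [e1] at hi'
    exact key hi hi (Or.inl ⟨rfl, rfl⟩) (Or.inr ⟨e1, Tr.disj h hi' hj.symm⟩)
  · have hi' := hi.symm
    rw [e1] at hi'
    exact key hi.symm hi (Or.inr ⟨rfl, rfl⟩) (Or.inl ⟨e1, Tr.disj h hi' hj⟩)
  · have hi' := hi.symm
    rw [e1] at hi'
    exact key hi.symm hi (Or.inr ⟨rfl, rfl⟩) (Or.inr ⟨e1, Tr.disj h hi' hj.symm⟩)

/-- **Products of transpositions.** -/
theorem Ch.mem_EE (h : SyT T H Q V D o e) (c : Ch T H V D o e J X Y t r) :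
    ∀ (m : ℕ) (τ : Fin k → Equiv.Perm (Fin n)) (a : G), a ∈ T → Gd H V D e τ a →
      (∀ j x, τ j x ≠ x → Tr T H V D e j x (τ j x)) →
      (Finset.univ.filter fun p : Fin k × Fin n => τ p.1 p.2 ≠ p.2).card ≤ m →
      a ∈ closure (Set.range t) ⊔ Q := by
  intro m
  induction m with
  | zero =>
    intro τ a ha hτ hTr hm
    have h1 : τ = 1 := by
      funext j
      ext x
      by_contra hx
      have hx' : τ j x ≠ x := fun e => hx (by rw [e]; rfl)
      have h2 : (j, x) ∈ Finset.univ.filter fun p : Fin k × Fin n => τ p.1 p.2 ≠ p.2 := by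
        simp [hx']
      have := Finset.card_pos.2 ⟨_, h2⟩
      omega
    subst h1
    refine mem_sup_right (h.cT a ha fun v hv => ?_)
    have h2 := h.gd_sim hτ h.gd_one v hv
    calc a * v = (a * v * a⁻¹) * a := by group
      _ = v * a := by rw [h2]; group
  | succ m ih =>
    intro τ a ha hτ hTr hm
    by_cases h0 : ∀ j x, τ j x = x
    · refine ih τ a ha hτ hTr ?_
      have : (Finset.univ.filter fun p : Fin k × Fin n => τ p.1 p.2 ≠ p.2) = ∅ := by
        rw [Finset.filter_eq_empty_iff]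
        rintro ⟨j, x⟩ _
        simp [h0 j x]
      rw [this]
      simp
    · push Not at h0
      obtain ⟨j, x, hx⟩ := h0
      set y := τ j x with hy
      have hT := hTr j x hx
      rw [← hy] at hT
      obtain ⟨i, hiJ, his, -, -⟩ := c.exists_idx h hT
      have ht := c.tg i
      rw [hiJ, his] at ht
      have h1 := h.gd_mul ht hτ
      set τ' : Fin k → Equiv.Perm (Fin n) := Pi.mulSingle j (Equiv.swap x y) * τ with hτ'
      have htT : t i ∈ T := jj_le T (c.tJ i)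
      -- the new permutation
      have e1 : ∀ i' z, i' ≠ j → τ' i' z = τ i' z := by
        intro i' z hi'
        rw [hτ', Pi.mul_apply, Pi.mulSingle_eq_of_ne hi', one_mul]
      have e2 : ∀ z, τ' j z = Equiv.swap x y (τ j z) := by
        intro z
        rw [hτ', Pi.mul_apply, Pi.mulSingle_eq_same, Equiv.Perm.mul_apply]
      have e3 : τ' j x = x := by rw [e2, ← hy, Equiv.swap_apply_right]
      have e4 : ∀ z, τ' j z ≠ z → z ≠ x ∧ τ' j z = τ j z := by
        intro z hz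
        have hzx : z ≠ x := fun e => hz (by rw [e, e3])
        refine ⟨hzx, ?_⟩
        have h2 : τ j z ≠ y := fun e => hzx ((τ j).injective (by rw [e]))
        have h3 : τ j z ≠ x := by
          intro hzx'
          have h4 : Tr T H V D e j z x := by
            have := hTr j z (by rw [hzx']; exact hzx.symm)
            rwa [hzx'] at this
          have h5 : z = y := Tr.disj h h4.symm hT
          apply hz
          rw [e2, hzx', Equiv.swap_apply_left, h5]
        rw [e2, Equiv.swap_apply_of_ne_of_ne h3 h2]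
      have h2 : t i * a ∈ closure (Set.range t) ⊔ Q := by
        refine ih τ' (t i * a) (mul_mem htT ha) h1 ?_ ?_
        · intro i' z hz
          by_cases hi' : i' = j
          · subst hi'
            obtain ⟨hzx, h3⟩ := e4 z hz
            rw [h3] at hz ⊢
            exact hTr _ _ hz
          · rw [e1 _ _ hi'] at hz ⊢
            exact hTr _ _ hz
        · have h3 : (Finset.univ.filter fun p : Fin k × Fin n => τ' p.1 p.2 ≠ p.2) ⊂
              (Finset.univ.filter fun p : Fin k × Fin n => τ p.1 p.2 ≠ p.2) := by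
            rw [Finset.ssubset_iff_of_subset]
            · refine ⟨(j, x), by simp only [Finset.mem_filter, Finset.mem_univ, true_and]; exact hx,
                ?_⟩
              simp only [Finset.mem_filter, Finset.mem_univ, true_and, not_not]
              exact e3
            · rintro ⟨i', z⟩ hz
              simp only [Finset.mem_filter, Finset.mem_univ, true_and] at hz ⊢
              by_cases hi' : i' = j
              · subst hi'
                rw [← (e4 z hz).2]; exact hz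
              · rw [← e1 _ _ hi']; exact hz
          have h4 := Finset.card_lt_card h3
          omega
      have h3 : a = (t i)⁻¹ * (t i * a) := by group
      rw [h3]
      exact mul_mem (inv_mem (mem_sup_left (subset_closure ⟨i, rfl⟩))) h2

/-- the products of transpositions centralise `D` and the `d i` -/
theorem Ch.EE_cent (h : SyT T H Q V D o e) (c : Ch T H V D o e J X Y t r) :
    closure (Set.range t) ⊔ Q ≤ centralizer
      (Set.range (fun i => u H V D e (J i) (X i) (Y i)) ∪ (D : Set G)) := by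
  refine sup_le ?_ ?_
  · rw [closure_le]
    rintro _ ⟨j, rfl⟩
    rw [SetLike.mem_coe, mem_centralizer_iff]
    rintro w (⟨i, rfl⟩ | hw)
    · have ht := c.tg j
      have h1 := h.u_conj ht.mem ht.act (J i) (X i) (Y i)
      rw [Equiv.Perm.one_apply] at h1
      have h2 : t j * u H V D e (J i) (X i) (Y i) * (t j)⁻¹ = u H V D e (J i) (X i) (Y i) := by
        rw [h1]
        by_cases hJ : J i = J j
        · rw [hJ, Pi.mulSingle_eq_same]
          by_cases hij : i = j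
          · subst hij
            rw [Equiv.swap_apply_left, Equiv.swap_apply_right, h.u_symm]
          · obtain ⟨a1, a2, a3, a4⟩ := c.cases h hij hJ
            rw [Equiv.swap_apply_of_ne_of_ne a1 a2, Equiv.swap_apply_of_ne_of_ne a3 a4]
        · rw [Pi.mulSingle_eq_of_ne hJ, Equiv.Perm.one_apply, Equiv.Perm.one_apply]
      show u H V D e (J i) (X i) (Y i) * t j = t j * u H V D e (J i) (X i) (Y i)
      conv_lhs => rw [← h2]
      group
    · exact ((c.tg j).cd w hw).symm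
  · intro x hx
    rw [mem_centralizer_iff]
    rintro w (⟨i, rfl⟩ | hw)
    · exact (h.VcQ x hx _ (h.u_mem _ _ _)).symm
    · exact (h.VcQ x hx _ (h.DV hw)).symm

theorem Ch.Jt (h : SyT T H Q V D o e) [Finite G] (c : Ch T H V D o e J X Y t r) :
    jj T ≤ closure (Set.range t) ⊔ Q := by
  rw [jj_eq]
  refine sSup_le fun A hA => fun a ha => ?_
  obtain ⟨τ, hτ, hτ'⟩ := h.offD A hA a ha
  refine c.mem_EE h _ τ a (hA.2.1 ha) hτ (fun j x hx => ?_) le_rfl
  obtain ⟨-, b, hb, hb'⟩ := hτ' j x hx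
  exact ⟨hx.symm, b, le_jj hA hb, hb'⟩

theorem Ch.field (h : SyT T H Q V D o e) [Finite G] (c : Ch T H V D o e J X Y t r)
    (hpow : ∀ (g : G) (m : ℕ), ∃ c : ℕ, c % 2 ^ m = 1 % 2 ^ m ∧ ∃ N : ℕ, (g ^ c) ^ (2 ^ N) = 1)
    {x : G} (hx : x ∈ T) (hc : ∀ v ∈ V, (∀ y ∈ jj T, y * v = v * y) → x * v = v * x) :
    x ∈ closure (Set.range t) ⊔ Q := by
  have hJ : ∀ y ∈ jj T, (∀ i, y * u H V D e (J i) (X i) (Y i) = u H V D e (J i) (X i) (Y i) * y) ∧
      ∀ d ∈ D, y * d = d * y := by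
    intro y hy
    have h1 := mem_centralizer_iff.1 (c.EE_cent h (c.Jt h hy))
    exact ⟨fun i => (h1 _ (Or.inl ⟨i, rfl⟩)).symm, fun d hd => (h1 d (Or.inr hd)).symm⟩
  have hxD : ∀ d ∈ D, x * d = d * x := fun d hd => hc d (h.DV hd) fun y hy => (hJ y hy).2 d hd
  have hxu : ∀ i, x * u H V D e (J i) (X i) (Y i) = u H V D e (J i) (X i) (Y i) * x :=
    fun i => hc _ (h.u_mem _ _ _) fun y hy => (hJ y hy).1 i
  obtain ⟨σ, τ, hxa, h0⟩ := h.exists_act hx
  have key : ∀ j a b, Tr T H V D e j a b → σ j = j ∧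
      ((τ j a = a ∧ τ j b = b) ∨ (τ j a = b ∧ τ j b = a)) := by
    intro j a b hT
    obtain ⟨i, -, -, hi, -⟩ := c.exists_idx h hT
    have h1 := h.u_conj (h.TH hx) hxa j a b
    have h2 := hxu i
    rw [hi] at h2
    have h3 : u H V D e (σ j) (τ j a) (τ j b) = u H V D e j a b := by
      rw [← h1, h2]; group
    exact h.u_inj (fun e => hT.1 ((τ j).injective e)) h3
  have hσ : σ = 1 := by
    ext j
    obtain ⟨z, hz, -⟩ := h.exists_third o o
    obtain ⟨y, hy⟩ := h.cover hpow j hz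
    rw [(key j z y hy).1]; rfl
  subst hσ
  refine c.mem_EE h _ τ x hx ⟨h.TH hx, hxD, hxa⟩ (fun j z hz => ?_) le_rfl
  have hzo : z ≠ o := fun e => hz (by rw [e, h0])
  obtain ⟨y, hy⟩ := h.cover hpow j hzo
  rcases (key j z y hy).2 with h1 | h1
  · exact absurd h1.1 hz
  · rw [h1.1]; exact hy

/-- swaps with the base point generate -/
theorem perm_top (P : Subgroup (Equiv.Perm (Fin n))) (hP : ∀ z, z ≠ o → Equiv.swap o z ∈ P) :
    P = ⊤ := by
  rw [eq_top_iff, ← Equiv.Perm.closure_isSwap, closure_le]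
  rintro _ ⟨a, b, hab, rfl⟩
  by_cases ha : a = o
  · subst ha
    exact hP b hab.symm
  · by_cases hb : b = o
    · subst hb
      rw [Equiv.swap_comm]
      exact hP a hab
    · have h1 : Equiv.swap a b = Equiv.swap o a * Equiv.swap o b * (Equiv.swap o a)⁻¹ := by
        rw [← Equiv.swap_apply_apply, Equiv.swap_apply_left,
          Equiv.swap_apply_of_ne_of_ne hb hab.symm]
      rw [h1]
      exact mul_mem (mul_mem (hP a ha) (hP b hb)) (inv_mem (hP a ha))

/-- **`T` and a 3-cycle generate `H` modulo `C_H(V)`.** -/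
theorem Ch.max (h : SyT T H Q V D o e) [Finite G] (c : Ch T H V D o e J X Y t r)
    (hpow : ∀ (g : G) (m : ℕ), ∃ c : ℕ, c % 2 ^ m = 1 % 2 ^ m ∧ ∃ N : ℕ, (g ^ c) ^ (2 ^ N) = 1)
    (K : Subgroup G) (hTK : T ≤ K) (hKH : K ≤ H) (i : ι) (hx : ∃ x ∈ K, Sim V x (r i)) : H ≤ K := by
  obtain ⟨x, hxK, hx⟩ := hx
  -- the permutations induced by `K`
  let P : Subgroup (Fin k → Equiv.Perm (Fin n)) :=
    { carrier := {τ | ∃ g ∈ K, Gd H V D e τ g}
      mul_mem' := by
        rintro a b ⟨g, hg, hg'⟩ ⟨s, hs, hs'⟩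
        exact ⟨g * s, mul_mem hg hs, h.gd_mul hg' hs'⟩
      one_mem' := ⟨1, one_mem K, h.gd_one⟩
      inv_mem' := by
        rintro a ⟨g, hg, hg'⟩
        exact ⟨g⁻¹, inv_mem hg, h.gd_inv hg'⟩ }
  have hsingle : ∀ j (π : Equiv.Perm (Fin n)),
      π ∈ P.comap (MonoidHom.mulSingle (fun _ : Fin k => Equiv.Perm (Fin n)) j) ↔
        Pi.mulSingle j π ∈ P := fun j π => Iff.rfl
  -- the component of `i`
  have h1 : ∀ π, Pi.mulSingle (J i) π ∈ P := by
    have h2 : P.comap (MonoidHom.mulSingle (fun _ : Fin k => Equiv.Perm (Fin n)) (J i)) = ⊤ := by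
      apply perm_top (o := o)
      have h3 : Equiv.swap o (X i) ∈
          P.comap (MonoidHom.mulSingle (fun _ : Fin k => Equiv.Perm (Fin n)) (J i)) := by
        have h4 : Equiv.swap o (X i) = cyc o (X i) (Y i) * Equiv.swap (X i) (Y i) := by
          rw [cyc, mul_assoc, Equiv.swap_mul_self, mul_one]
        rw [h4]
        refine mul_mem ?_ ?_
        · exact ⟨x, hxK, h.gd_of_sim h.DV (c.rg i) (hKH hxK) hx.symm⟩
        · exact ⟨t i, hTK (jj_le T (c.tJ i)), c.tg i⟩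
      intro z hz
      obtain ⟨s, hs, π, hπ, hπz⟩ := h.cyc_T hpow (J i) ((c.tr i).ne h).1.symm hz
      have h5 := h.fix0 s hs _ _ hπ.act (J i)
      rw [Pi.mulSingle_eq_same] at h5
      have h6 : π ∈ P.comap (MonoidHom.mulSingle (fun _ : Fin k => Equiv.Perm (Fin n)) (J i)) :=
        ⟨s, hTK hs, hπ⟩
      have h7 : Equiv.swap o z = π * Equiv.swap o (X i) * π⁻¹ := by
        rw [← Equiv.swap_apply_apply, h5, hπz]
      rw [h7]
      exact mul_mem (mul_mem h6 h3) (inv_mem h6)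
    intro π
    have h3 : π ∈ P.comap (MonoidHom.mulSingle (fun _ : Fin k => Equiv.Perm (Fin n)) (J i)) := by
      rw [h2]; exact mem_top π
    exact h3
  have h2 : ∀ j π, Pi.mulSingle j π ∈ P := by
    intro j π
    obtain ⟨s, hs, σ, τ, hsa, hσ⟩ := h.trans (J i) j
    obtain ⟨g, hg, hg'⟩ := h1 ((τ (J i))⁻¹ * π * τ (J i))
    have h3 := h.gd_conj_single (h.TH hs) hsa hg'
    have h4 : τ (J i) * ((τ (J i))⁻¹ * π * τ (J i)) * (τ (J i))⁻¹ = π := by group
    rw [h4, hσ] at h3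
    exact ⟨_, mul_mem (mul_mem (hTK hs) hg) (inv_mem (hTK hs)), h3⟩
  refine h.prop K hTK hKH (h.gen _ (hTK.trans le_sup_left) fun g τ hg => ?_)
  have h3 : τ ∈ P := Subgroup.pi_mem_of_mulSingle_mem τ fun j => h2 j (τ j)
  obtain ⟨g', hg', hg''⟩ := h3
  have h4 := h.gd_sim hg hg''
  have h5 : g = g' * (g'⁻¹ * g) := by group
  rw [h5]
  have h7 : g'⁻¹ * g ∈ H := mul_mem (inv_mem hg''.mem) hg.mem
  refine mul_mem (mem_sup_left hg') (mem_sup_right (mem_inf.2 ⟨h7, ?_⟩))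
  rw [mem_centralizer_iff]
  intro v hv
  have h6 := h4 v hv
  calc v * (g'⁻¹ * g) = g'⁻¹ * (g' * v * g'⁻¹) * g := by group
    _ = g'⁻¹ * (g * v * g⁻¹) * g := by rw [h6]
    _ = g'⁻¹ * g * v := by group

/-! ### The Baumann input -/

theorem cyc_rot {a b z : Fin n} (hab : a ≠ b) (haz : a ≠ z) (hbz : b ≠ z) :
    cyc a b z = cyc b z a := by
  ext x
  by_cases h1 : x = a
  · subst h1; rw [cyc_a hab haz hbz, cyc_z hbz hab.symm haz.symm]
  · by_cases h2 : x = b
    · subst h2; rw [cyc_b hab haz hbz, cyc_a hbz hab.symm haz.symm]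
    · by_cases h3 : x = z
      · subst h3; rw [cyc_z hab haz hbz, cyc_b hbz hab.symm haz.symm]
      · rw [cyc_o hab haz hbz h1 h2 h3, cyc_o hbz hab.symm haz.symm h2 h3 h1]

theorem swap_cyc {x y : Fin n} (hox : o ≠ x) (hoy : o ≠ y) (hxy : x ≠ y) :
    Equiv.swap x y * cyc o x y = (cyc o x y)⁻¹ * Equiv.swap x y := by
  have h1 := cyc_conj (Equiv.swap x y) o x y
  rw [Equiv.swap_apply_of_ne_of_ne hox hoy, Equiv.swap_apply_left, Equiv.swap_apply_right] at h1
  have h2 : cyc o y x = (cyc o x y)⁻¹ := by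
    rw [← cyc_symm hox hoy hxy, cyc_rot hox.symm hxy hoy]
  rw [← h2, ← h1]
  group

theorem Ch.main (h : SyT T H Q V D o e) [Finite G] (c : Ch T H V D o e J X Y t r)
    (hpow : ∀ (g : G) (m : ℕ), ∃ c : ℕ, c % 2 ^ m = 1 % 2 ^ m ∧ ∃ N : ℕ, (g ^ c) ^ (2 ^ N) = 1) :
    BauS.In H T Q V (fun i => h.NN (J i) o (X i) (Y i)) (fun i => u H V D e (J i) (X i) (Y i))
      t r where
  TH := h.TH
  QT := h.QT
  VQ := h.VQ
  Tp := h.Tp
  Qn := h.Qn
  Vn := h.Vn
  Vsq := h.sq
  VcQ := h.VcQ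
  two := by
    rintro x hx hc ⟨N, hN⟩
    obtain ⟨g, hg, hgT⟩ := h.syl x hx ⟨N, hN⟩
    have h1 : g * x * g⁻¹ ∈ Q := by
      refine h.cT _ hgT fun v hv => ?_
      have h2 := hc _ (h.Vn' hg v hv)
      calc g * x * g⁻¹ * v = g * (x * (g⁻¹ * v * g)) * g⁻¹ := by group
        _ = g * ((g⁻¹ * v * g) * x) * g⁻¹ := by rw [h2]
        _ = _ := by group
    have h2 := h.Qn g⁻¹ (inv_mem hg) _ h1
    have e1 : g⁻¹ * (g * x * g⁻¹) * g⁻¹⁻¹ = x := by group
    rwa [e1] at h2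
  tJ := c.tJ
  rH := fun i => (c.rg i).mem
  Jt := c.Jt h
  tsq := by
    intro i
    have h1 := h.gd_mul (c.tg i) (c.tg i)
    rw [← Pi.mulSingle_mul, Equiv.swap_mul_self, Pi.mulSingle_one] at h1
    exact h.gd_sim h1 h.gd_one
  tt := by
    intro i j
    refine h.gd_sim (h.gd_mul (c.tg i) (c.tg j)) ?_
    have h1 := h.gd_mul (c.tg j) (c.tg i)
    have h2 : (Pi.mulSingle (J i) (Equiv.swap (X i) (Y i)) *
        Pi.mulSingle (J j) (Equiv.swap (X j) (Y j)) : Fin k → Equiv.Perm (Fin n)) =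
      Pi.mulSingle (J j) (Equiv.swap (X j) (Y j)) * Pi.mulSingle (J i) (Equiv.swap (X i) (Y i)) := by
      by_cases hij : i = j
      · rw [hij]
      · by_cases hJ : J i = J j
        · obtain ⟨a1, a2, a3, a4⟩ := c.cases h hij hJ
          rw [hJ, ← Pi.mulSingle_mul, ← Pi.mulSingle_mul]
          congr 1
          have h3 := Equiv.swap_apply_apply (Equiv.swap (X j) (Y j)) (X i) (Y i)
          rw [Equiv.swap_apply_of_ne_of_ne a1 a2, Equiv.swap_apply_of_ne_of_ne a3 a4] at h3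
          conv_lhs => rw [h3]
          group
        · exact (Pi.mulSingle_commute hJ _ _).eq
    rw [h2]
    exact h1
  tr := by
    intro i
    have h1 := h.gd_mul (c.tg i) (c.rg i)
    have h2 := h.gd_mul (h.gd_inv (c.rg i)) (c.tg i)
    rw [← Pi.mulSingle_mul, swap_cyc ((c.tr i).ne h).1 ((c.tr i).ne h).2 (c.tr i).1] at h1
    rw [← Pi.mulSingle_inv, ← Pi.mulSingle_mul] at h2
    exact h.gd_sim h1 h2
  tr' := by
    intro i j hij
    have h1 := h.gd_mul (c.tg j) (c.rg i)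
    refine h.gd_sim h1 ?_
    have h2 := h.gd_mul (c.rg i) (c.tg j)
    have h3 : (Pi.mulSingle (J j) (Equiv.swap (X j) (Y j)) *
        Pi.mulSingle (J i) (cyc o (X i) (Y i)) : Fin k → Equiv.Perm (Fin n)) =
      Pi.mulSingle (J i) (cyc o (X i) (Y i)) * Pi.mulSingle (J j) (Equiv.swap (X j) (Y j)) := by
      by_cases hJ : J i = J j
      · obtain ⟨a1, a2, a3, a4⟩ := c.cases h hij hJ
        rw [hJ, ← Pi.mulSingle_mul, ← Pi.mulSingle_mul]
        congr 1
        have h4 := Equiv.swap_apply_apply (cyc o (X i) (Y i)) (X j) (Y j)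
        have n1 := ((c.tr i).ne h)
        have n2 := ((c.tr j).ne h)
        rw [cyc_o n1.1 n1.2 (c.tr i).1 n2.1.symm a1.symm a3.symm,
          cyc_o n1.1 n1.2 (c.tr i).1 n2.2.symm a2.symm a4.symm] at h4
        conv_lhs => rw [h4]
        group
      · exact (Pi.mulSingle_commute (Ne.symm hJ) _ _).eq
    rw [h3]
    exact h2
  r3 := by
    intro i
    have h1 := h.gd_mul (h.gd_mul (c.rg i) (c.rg i)) (c.rg i)
    rw [Sy.single_three ((c.tr i).ne h).1 ((c.tr i).ne h).2 (c.tr i).1] at h1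
    exact h.gd_sim h1 h.gd_one
  dN := fun i => Or.inr (Or.inr (Or.inr rfl))
  d1 := fun i => h.u_ne (c.tr i).1
  NV := fun i => h.NN_le _ _ _ _
  cardN := fun i => h.card_NN _ ((c.tr i).ne h).1 ((c.tr i).ne h).2 (c.tr i).1
  t_comm := fun i => h.swap_comm (c.tg i)
  r_comm := fun i => h.cyc_comm ((c.tr i).ne h).1 ((c.tr i).ne h).2 (c.tr i).1 (c.rg i)
  r_fix := fun i => h.cyc_fix ((c.tr i).ne h).1 ((c.tr i).ne h).2 (c.tr i).1 (c.rg i)
  perm := by
    intro x hx i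
    obtain ⟨σ, τ, hxa, h0⟩ := h.exists_act hx
    have h1 := (c.tr i).conj h hx hxa
    obtain ⟨j, hj, -, hju, hjp⟩ := c.exists_idx h h1
    refine ⟨j, by rw [h.u_conj (h.TH hx) hxa, hju], fun v hv => ?_⟩
    have h2 : h.NN (J j) o (X j) (Y j) = h.NN (σ (J i)) o (τ (J i) (X i)) (τ (J i) (Y i)) := by
      rw [hj]
      rcases hjp with ⟨h3, h4⟩ | ⟨h3, h4⟩
      · rw [h3, h4]
      · rw [h3, h4, h.NN_symm]
    rw [h2]
    rcases h.mem_NN.1 hv with h3 | h3 | h3 | h3
    · rw [h3]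
      have : x * 1 * x⁻¹ = 1 := by group
      rw [this]; exact one_mem _
    · rw [h3, h.u_conj (h.TH hx) hxa, h0]; exact Or.inr (Or.inl rfl)
    · rw [h3, h.u_conj (h.TH hx) hxa, h0]; exact Or.inr (Or.inr (Or.inl rfl))
    · rw [h3, h.u_conj (h.TH hx) hxa]; exact Or.inr (Or.inr (Or.inr rfl))
  field := fun x hx hc => c.field h hpow hx hc
  off := by
    intro A hA
    have h1 := h.noOver A hA
    have h2 : Nat.card ↥(A ⊓ centralizer (V : Set G)) ≤ Nat.card ↥(A ⊓ Q) :=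
      Subgroup.card_le_of_le fun x hx => ⟨hx.1, h.cT x (hA.2.1 hx.1) fun v hv =>
        (mem_centralizer_iff.1 hx.2 v hv).symm⟩
    calc _ ≤ _ := h1
      _ ≤ Nat.card V * Nat.card ↥(A ⊓ Q) := Nat.mul_le_mul_left _ h2
      _ = _ := mul_comm _ _
  max := fun K hTK hKH i hx => c.max h hpow K hTK hKH i hx

theorem Ch.permR (h : SyT T H Q V D o e) [Finite G] (c : Ch T H V D o e J X Y t r) :
    BauS.PermR T V (fun i => u H V D e (J i) (X i) (Y i)) r := by
  intro x hx i j hij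
  obtain ⟨σ, τ, hxa, h0⟩ := h.exists_act hx
  rw [h.u_conj (h.TH hx) hxa] at hij
  obtain ⟨h1, h2⟩ := h.u_inj (fun e => (c.tr i).1 ((τ (J i)).injective e)) hij
  have h3 := h.gd_conj_single (h.TH hx) hxa (c.rg i)
  rw [cyc_conj, h0, h1] at h3
  rcases h2 with ⟨h4, h5⟩ | ⟨h4, h5⟩
  · rw [h4, h5] at h3
    exact Or.inl (h.gd_sim h3 (c.rg j))
  · rw [h4, h5] at h3
    have n1 := (c.tr j).ne h
    have h6 : cyc o (Y j) (X j) = (cyc o (X j) (Y j))⁻¹ := by
      rw [← cyc_symm n1.1 n1.2 (c.tr j).1, cyc_rot n1.1.symm (c.tr j).1 n1.2]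
    rw [h6, Pi.mulSingle_inv] at h3
    exact Or.inr (h.gd_sim h3 (h.gd_inv (c.rg j)))

end SyT

end Cfsg.Agent.Omega.SQ1.FFSym

end

section


/-!
# SQ1, `q = 2`: small facts on symmetric groups and powers (for `FFSym`)
-/

set_option autoImplicit false

namespace Cfsg.Agent.Omega.SQ1.SymCyc

open Equiv Equiv.Perm
open scoped Fin.CommRing

/-- A cycle of length `2 ^ m` on the nonzero elements of `Fin (2 ^ m + 1)`. -/
theorem exists_cyc (m : ℕ) (hm : 1 ≤ m) : ∃ p : Equiv.Perm (Fin (2 ^ m + 1)), p ^ (2 ^ m) = 1 ∧ p 0 = 0 ∧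
    (∀ x, p x = x → x = 0) ∧ ∀ x y, x ≠ 0 → y ≠ 0 → ∃ i : ℕ, (p ^ i) x = y := by
  have hne : NeZero (2 ^ m) := ⟨by positivity⟩
  have h1lt : 1 < 2 ^ m := Nat.one_lt_two_pow (by omega)
  obtain ⟨p, hp⟩ : ∃ p : Equiv.Perm (Fin (2 ^ m + 1)),
      p = decomposeFin.symm (0, Equiv.addRight (1 : Fin (2 ^ m))) := ⟨_, rfl⟩
  have h0 : p 0 = 0 := by rw [hp, decomposeFin_symm_apply_zero]
  have hs : ∀ x : Fin (2 ^ m), p x.succ = (x + 1).succ := by
    intro x
    rw [hp, decomposeFin_symm_apply_succ]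
    simp
  have hpow : ∀ (i : ℕ) (x : Fin (2 ^ m)), (p ^ i) x.succ = (x + (i : Fin (2 ^ m))).succ := by
    intro i
    induction i with
    | zero => intro x; simp
    | succ i ih =>
      intro x
      rw [pow_succ', Equiv.Perm.mul_apply, ih, hs]
      congr 1
      push_cast
      rw [add_assoc]
  have hpow0 : ∀ i : ℕ, (p ^ i) 0 = 0 := by
    intro i
    induction i with
    | zero => simp
    | succ i ih => rw [pow_succ', Equiv.Perm.mul_apply, ih, h0]
  refine ⟨p, ?_, h0, ?_, ?_⟩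
  · ext x : 1
    rw [Equiv.Perm.one_apply]
    refine Fin.cases (hpow0 _) (fun y => ?_) x
    rw [hpow]
    simp
  · intro x
    refine Fin.cases (fun _ => rfl) (fun y hy => ?_) x
    exfalso
    rw [hs] at hy
    have h1 := Fin.succ_injective _ hy
    have h2 : (1 : Fin (2 ^ m)) = 0 := by simpa using h1
    have h3 := congrArg Fin.val h2
    rw [Fin.val_zero, Fin.val_one', Nat.mod_eq_of_lt h1lt] at h3
    omega
  · intro x y
    refine Fin.cases (fun h => absurd rfl h) (fun a _ => ?_) x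
    refine Fin.cases (fun h => absurd rfl h) (fun b _ => ?_) y
    refine ⟨(b - a : Fin (2 ^ m)).val, ?_⟩
    rw [hpow, Fin.cast_val_eq_self]
    congr 1
    abel

/-- A power with exponent `≡ 1` modulo `2 ^ m` is a 2-element. -/
theorem exists_pow {G : Type*} [Group G] [Finite G] (g : G) (m : ℕ) :
    ∃ c : ℕ, c % 2 ^ m = 1 % 2 ^ m ∧ ∃ N : ℕ, (g ^ c) ^ (2 ^ N) = 1 := by
  obtain ⟨k, r, hr, hkr⟩ := Nat.exists_eq_two_pow_mul_odd (n := orderOf g) (orderOf_pos g).ne'
  have hco : Nat.Coprime (2 ^ m) r := Nat.Coprime.pow_left _ (Nat.coprime_two_left.2 hr)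
  obtain ⟨c, hc1, hc2⟩ := Nat.chineseRemainder hco 1 0
  refine ⟨c, hc1, k, ?_⟩
  rw [← pow_mul]
  apply orderOf_dvd_iff_pow_eq_one.1
  rw [hkr, mul_comm c]
  exact mul_dvd_mul_left _ ((Nat.modEq_zero_iff_dvd).1 hc2)

/-- The transpositions `(0 z)` generate the symmetric group. -/
theorem perm_top {n : ℕ} (P : Subgroup (Equiv.Perm (Fin (n + 1))))
    (h : ∀ z, z ≠ 0 → Equiv.swap 0 z ∈ P) : P = ⊤ := by
  rw [eq_top_iff, ← Equiv.Perm.closure_isSwap, Subgroup.closure_le]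
  rintro _ ⟨x, y, hxy, rfl⟩
  by_cases hx : x = 0
  · subst hx
    exact h y hxy.symm
  by_cases hy : y = 0
  · subst hy
    rw [Equiv.swap_comm]
    exact h x hx
  have h1 : Equiv.swap 0 x * Equiv.swap y 0 * Equiv.swap 0 x = Equiv.swap x y :=
    Equiv.swap_mul_swap_mul_swap hy hxy.symm
  rw [SetLike.mem_coe, ← h1, Equiv.swap_comm y 0]
  exact P.mul_mem (P.mul_mem (h x hx) (h y hy)) (h x hx)

/-- A subgroup of a power which contains the factors is everything. -/
theorem pi_top {k n : ℕ} (P : Subgroup (Fin k → Equiv.Perm (Fin n)))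
    (h : ∀ i p, Pi.mulSingle i p ∈ P) : P = ⊤ := by
  rw [eq_top_iff]
  intro x _
  exact Subgroup.pi_mem_of_mulSingle_mem x fun i => h i (x i)

end Cfsg.Agent.Omega.SQ1.SymCyc

end
end

-- part: Mrg/Omega/SQ1/FFSymMain
section
/-!
# SQ1, L1: from the FF theorem (`FFThm.SymK`) to the `q = 2` Baumann input, part 3

For the chosen configuration `Config M₀ T H s` and `V = zl T H`, `D = C_V(O²(H))`:

* `cent`: an element of `H` which centralises `D` and `V / D` centralises `V`;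
* `syT`: the module data `SyT`;
* `main`: `BauS.In` and `BauS.PermR` from `SymK` (`m ≥ 1`) and `NoOver`.
-/

set_option autoImplicit false
set_option linter.unusedSectionVars false
set_option linter.unusedVariables false

namespace Cfsg.Agent.Omega.SQ1.FFSym

open Subgroup Cfsg Cfsg.Agent.PLocal.ThompsonJ Cfsg.Agent.ZN Cfsg.Agent.ZN.ChoiceBase
open Cfsg.Agent.ZN.ChoiceSit
open Cfsg.Agent.Omega.SQ1.FFOne Cfsg.Agent.Omega.SQ1.VOf
open Cfsg.Agent.Omega.SQ1.Choice (Config)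
open Cfsg.Agent.Omega.FFThm (ActsSym SymK NoOver Off)
open Cfsg.Agent.Omega.SQ1.BauS (Sim)
open Cfsg.Agent.Omega.FrameFF (cv)

universe v

variable {G : Type v} [Group G] {M₀ T H D : Subgroup G} {s : G} {k m : ℕ}

/-- a 2-element of `H` is conjugate into `T` -/
theorem syl_elt [Finite G] (c : Syl T H) {x : G} (hx : x ∈ H) (h2 : ∃ N : ℕ, x ^ 2 ^ N = 1) :
    ∃ g ∈ H, g * x * g⁻¹ ∈ T := by
  obtain ⟨N, hN⟩ := h2
  have h1 : IsPGroup 2 (zpowers x) := by
    rintro ⟨y, hy⟩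
    obtain ⟨i, rfl⟩ := mem_zpowers_iff.1 hy
    refine ⟨N, Subtype.ext ?_⟩
    simp only [SubmonoidClass.mk_pow, OneMemClass.coe_one]
    rw [← zpow_natCast, ← zpow_mul, mul_comm, zpow_mul, zpow_natCast, hN, one_zpow]
  obtain ⟨S, hS, hxS⟩ := exists_syl h1 (zpowers_le.2 hx)
  obtain ⟨g, hg, hgS⟩ := syl_conj hS c
  refine ⟨g, hg, ?_⟩
  rw [← hgS]
  exact ⟨x, hxS (mem_zpowers x), rfl⟩

theorem exists_three_pts (hm : 1 ≤ m) : ∃ a b : Fin (2 ^ m + 1), a ≠ 0 ∧ b ≠ 0 ∧ a ≠ b := by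
  have h1 : 2 ≤ 2 ^ m := by
    calc 2 = 2 ^ 1 := (pow_one 2).symm
      _ ≤ 2 ^ m := Nat.pow_le_pow_right (by norm_num) hm
  refine ⟨⟨1, by omega⟩, ⟨2, by omega⟩, ?_, ?_, ?_⟩
  · intro h; simpa using congrArg Fin.val h
  · intro h; simpa using congrArg Fin.val h
  · intro h; simpa using congrArg Fin.val h

/-- the elements of `H` permuting the coordinates of the points `0` -/
def Fix0 (T H V D : Subgroup G) (N : SymK T H V D k m) (hV : ∀ g ∈ H, ∀ v ∈ V, g * v * g⁻¹ ∈ V) :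
    Subgroup G where
  carrier := {g | g ∈ H ∧ ∃ σ : Equiv.Perm (Fin k), ∀ v ∈ V, ∀ i,
    N.e (g * v * g⁻¹) (σ i) 0 = N.e v i 0}
  mul_mem' := by
    rintro a b ⟨ha, σ, hσ⟩ ⟨hb, σ', hσ'⟩
    refine ⟨mul_mem ha hb, σ * σ', fun v hv i => ?_⟩
    have e1 : a * b * v * (a * b)⁻¹ = a * (b * v * b⁻¹) * a⁻¹ := by group
    rw [e1, Equiv.Perm.mul_apply, hσ _ (hV b hb v hv), hσ' v hv]
  one_mem' := ⟨one_mem H, 1, fun v hv i => by simp⟩
  inv_mem' := by
    rintro a ⟨ha, σ, hσ⟩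
    refine ⟨inv_mem ha, σ⁻¹, fun v hv i => ?_⟩
    have h1 := hV a⁻¹ (inv_mem ha) v hv
    have h2 := hσ _ h1 (σ⁻¹ i)
    have e1 : a * (a⁻¹ * v * a⁻¹⁻¹) * a⁻¹ = v := by group
    rw [e1, perm_inv_self] at h2
    exact h2.symm

/-- the elements of `H` centralising `D` and `V / D` -/
def Ker (T H V D : Subgroup G) (N : SymK T H V D k m) (hV : ∀ g ∈ H, ∀ v ∈ V, g * v * g⁻¹ ∈ V) :
    Subgroup G where
  carrier := {g | g ∈ H ∧ (∀ d ∈ D, g * d = d * g) ∧ ∀ v ∈ V, N.e (g * v * g⁻¹) = N.e v}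
  mul_mem' := by
    rintro a b ⟨ha, ha1, ha2⟩ ⟨hb, hb1, hb2⟩
    refine ⟨mul_mem ha hb, fun d hd => ?_, fun v hv => ?_⟩
    · rw [mul_assoc, hb1 d hd, ← mul_assoc, ha1 d hd, mul_assoc]
    · have e1 : a * b * v * (a * b)⁻¹ = a * (b * v * b⁻¹) * a⁻¹ := by group
      rw [e1, ha2 _ (hV b hb v hv), hb2 v hv]
  one_mem' := ⟨one_mem H, fun d _ => by rw [one_mul, mul_one], fun v _ => by simp⟩
  inv_mem' := by
    rintro a ⟨ha, ha1, ha2⟩
    refine ⟨inv_mem ha, fun d hd => ?_, fun v hv => ?_⟩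
    · calc a⁻¹ * d = a⁻¹ * (d * a) * a⁻¹ := by group
        _ = a⁻¹ * (a * d) * a⁻¹ := by rw [ha1 d hd]
        _ = _ := by group
    · have h1 := hV a⁻¹ (inv_mem ha) v hv
      have h2 := ha2 _ h1
      have e1 : a * (a⁻¹ * v * a⁻¹⁻¹) * a⁻¹ = v := by group
      rw [e1] at h2
      exact h2.symm

/-- **An element of `H` which centralises `D` and `V / D` centralises `V`.** -/
theorem cent (c : Config M₀ T H s) [Finite G] (N : SymK T H (zl T H) D k m) (hk : 0 < k)
    (hm : 1 ≤ m) (hDV : D ≤ zl T H) (hDn : ∀ h ∈ H, ∀ v ∈ D, h * v * h⁻¹ ∈ D) {g : G} (hg : g ∈ H)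
    (h1 : ∀ d ∈ D, g * d = d * g) (h2 : ∀ v ∈ zl T H, N.e (g * v * g⁻¹) = N.e v) :
    ∀ v ∈ zl T H, g * v = v * g := by
  have hV : ∀ g ∈ H, ∀ v ∈ zl T H, g * v * g⁻¹ ∈ zl T H := zl_norm
  set R := Ker T H (zl T H) D N hV with hR
  set F := Fix0 T H (zl T H) D N hV with hF
  have hTF : T ≤ F := by
    intro t ht
    obtain ⟨σ, τ, hta⟩ := N.perm t (c.TY ht)
    refine ⟨c.TY ht, σ, fun v hv i => ?_⟩
    have h3 := hta v hv i 0
    rwa [N.fix0 t ht σ τ hta i] at h3
  have hRF : R ≤ F := fun x hx => ⟨hx.1, 1, fun v hv i => by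
    rw [hx.2.2 v hv, Equiv.Perm.one_apply]⟩
  have hRn : ∀ h ∈ H, ∀ r ∈ R, h * r * h⁻¹ ∈ R := by
    rintro x hx r ⟨hr, hr1, hr2⟩
    refine ⟨mul_mem (mul_mem hx hr) (inv_mem hx), fun d hd => ?_, fun v hv => ?_⟩
    · have hd' : x⁻¹ * d * x ∈ D := by
        have := hDn x⁻¹ (inv_mem hx) d hd
        rwa [inv_inv] at this
      have h3 := hr1 _ hd'
      calc x * r * x⁻¹ * d = x * (r * (x⁻¹ * d * x)) * x⁻¹ := by group
        _ = x * ((x⁻¹ * d * x) * r) * x⁻¹ := by rw [h3]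
        _ = _ := by group
    · set w := x⁻¹ * v * x with hw
      have hwV : w ∈ zl T H := by
        have := hV x⁻¹ (inv_mem hx) v hv
        rwa [inv_inv] at this
      obtain ⟨σ, τ, hxa⟩ := N.perm x hx
      have e1 : x * r * x⁻¹ * v * (x * r * x⁻¹)⁻¹ = x * (r * w * r⁻¹) * x⁻¹ := by rw [hw]; group
      have e2 : v = x * w * x⁻¹ := by rw [hw]; group
      rw [e1]
      conv_rhs => rw [e2]
      funext i y
      have h3 := hxa _ (hV r hr w hwV) (σ⁻¹ i) ((τ (σ⁻¹ i))⁻¹ y)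
      have h4 := hxa w hwV (σ⁻¹ i) ((τ (σ⁻¹ i))⁻¹ y)
      rw [perm_inv_self, perm_inv_self] at h3 h4
      rw [h3, h4, hr2 w hwV]
  have hne : R ⊔ T ≠ H := by
    intro hcon
    obtain ⟨a, b, ha, hb, hab⟩ := exists_three_pts hm
    obtain ⟨x, hx, hxa, -⟩ := N.lift (Pi.mulSingle ⟨0, hk⟩ (Equiv.swap 0 a))
    have hxF : x ∈ F := (sup_le hRF hTF) (by rw [hcon]; exact hx)
    obtain ⟨-, σ, hσ⟩ := hxF
    set j : Fin k := ⟨0, hk⟩ with hj
    obtain ⟨v, hv, hev⟩ := N.surj (E j a + E j b) fun i => by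
      simp only [Pi.add_apply, Finset.sum_add_distrib, E_sum]
      exact CharTwo.add_self_eq_zero _
    have h3 := hxa v hv j a
    have h4 := hσ v hv (σ⁻¹ j)
    rw [perm_inv_self] at h4
    rw [Equiv.Perm.one_apply, Pi.mulSingle_eq_same, Equiv.swap_apply_right, h4, hev] at h3
    simp only [Pi.add_apply, E, true_and, if_true, hab, if_false, add_zero] at h3
    rw [if_neg (fun h => ha h.2.symm), if_neg (fun h => hb h.2.symm), add_zero] at h3
    exact absurd h3 (by decide)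
  have hRH : R ≤ H := fun x hx => hx.1
  have h3 := (minH c).inf_le hRH hRn hne
  -- 2-elements of `R`
  have h4 : ∀ x ∈ R, (∃ n : ℕ, x ^ 2 ^ n = 1) → ∀ v ∈ zl T H, x * v = v * x := by
    intro x hx hx2
    obtain ⟨y, hy, hyT⟩ := syl_elt c.syl hx.1 hx2
    have h5 := h3 ⟨hyT, hRn y hy x hx⟩
    have h6 : x ∈ o2 H := by
      have := conj_mem_of_norm (le_normalizer_o2 H (inv_mem hy)) h5
      have e1 : y⁻¹ * (y * x * y⁻¹) * y⁻¹⁻¹ = x := by group
      rwa [e1] at this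
    exact MinH.o2_cent (minH c) x h6
  -- squares
  have h5 : ∀ v ∈ zl T H, (g * g) * v = v * (g * g) := by
    intro v hv
    have hv' := hV g hg v hv
    have hδ : g * v * g⁻¹ * v ∈ D := by
      rw [← N.ker _ (mul_mem hv' hv), N.mul _ hv' v hv, h2 v hv]
      funext i x
      exact CharTwo.add_self_eq_zero _
    have hvv : v * v = 1 := by
      rw [← pow_two]; exact MinH.sq (minH c) v hv
    have hδδ : (g * v * g⁻¹ * v) * (g * v * g⁻¹ * v) = 1 := by
      rw [← pow_two]; exact MinH.sq (minH c) _ (hDV hδ)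
    have h6 := h1 _ hδ
    set δ := g * v * g⁻¹ * v with hδd
    have e1 : g * v * g⁻¹ = δ * v := by rw [hδd, mul_assoc (g * v * g⁻¹), hvv, mul_one]
    have e2 : g * g * v * (g * g)⁻¹ = v := by
      calc g * g * v * (g * g)⁻¹ = g * (g * v * g⁻¹) * g⁻¹ := by group
        _ = (g * δ) * v * g⁻¹ := by rw [e1]; group
        _ = δ * (g * v * g⁻¹) := by rw [h6]; group
        _ = v := by rw [e1, ← mul_assoc, hδδ, one_mul]
    calc g * g * v = (g * g * v * (g * g)⁻¹) * (g * g) := by group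
      _ = v * (g * g) := by rw [e2]
  obtain ⟨n, hn, hN⟩ := SymCyc.exists_pow g 1
  have hgR : g ∈ R := ⟨hg, h1, h2⟩
  have h6 := h4 (g ^ n) (pow_mem hgR n) hN
  have hn' : n = 2 * (n / 2) + 1 := by
    have : n % 2 = 1 := by simpa using hn
    omega
  intro v hv
  have c1 : Commute (g ^ n) v := h6 v hv
  have c2 : Commute ((g * g) ^ (n / 2)) v := (show Commute (g * g) v from h5 v hv).pow_left _
  have e1 : g = ((g * g) ^ (n / 2))⁻¹ * g ^ n := by
    rw [← pow_two, ← pow_mul]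
    conv_rhs => rw [hn', pow_succ]
    rw [show 2 * (n / 2) + 1 = 2 * (n / 2) + 1 from rfl]
    have : 2 * ((2 * (n / 2) + 1) / 2) = 2 * (n / 2) := by omega
    rw [this, inv_mul_cancel_left]
  have c3 : Commute (((g * g) ^ (n / 2))⁻¹ * g ^ n) v := (c2.inv_left).mul_left c1
  rw [← e1] at c3
  exact c3.eq

/-- **The module data of the chosen configuration.** -/
theorem syT (c : Config M₀ T H s) [Finite G] (hno : NoOver (zl T H) H)
    (N : SymK T H (zl T H) D k m) (hk : 0 < k)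
    (hm : 1 ≤ m) (hDV : D ≤ zl T H) (hDn : ∀ h ∈ H, ∀ v ∈ D, h * v * h⁻¹ ∈ D) :
    SyT T H (o2 H) (zl T H) D (0 : Fin (2 ^ m + 1)) N.e where
  n3 := by
    have : 2 ≤ 2 ^ m := by
      calc 2 = 2 ^ 1 := (pow_one 2).symm
        _ ≤ 2 ^ m := Nat.pow_le_pow_right (by norm_num) hm
    omega
  n4 := by
    intro h4
    have h5 : 2 ∣ 2 ^ m := dvd_pow_self 2 (by omega)
    omega
  DV := hDV
  Vn := zl_norm
  Dn := hDn
  comm := MinH.comm (minH c)
  sq := MinH.sq (minH c)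
  mul := N.mul
  even := N.even
  surj := N.surj
  ker := N.ker
  lift := N.lift
  perm := N.perm
  cent := fun g hg h1 h2 => cent c N hk hm hDV hDn hg h1 h2
  TH := c.TY
  Tp := c.two
  QT := o2_le_syl c.syl
  VQ := MinH.zl_le_o2 (minH c)
  Qn := fun g hg x hx => conj_mem_of_norm (le_normalizer_o2 H hg) hx
  VcQ := MinH.o2_cent (minH c)
  cT := fun x hx hc => cT c hx hc
  syl := fun x hx h2 => syl_elt c.syl hx h2
  trans := N.trans
  fix0 := N.fix0
  gen := fun K hT hK => N.gen K hT fun g hg τ ha hd => hK g τ ⟨hg, hd, ha⟩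
  offD := by
    intro A hA a ha
    by_cases hne : A ≤ centralizer (zl T H : Set G)
    · refine ⟨1, ⟨c.TY (hA.2.1 ha), fun d hd => (mem_centralizer_iff.1 (hne ha) d (hDV hd)).symm,
        fun v hv i x => ?_⟩, fun i x hx => absurd rfl hx⟩
      have h1 := mem_centralizer_iff.1 (hne ha) v hv
      have h2 : a * v * a⁻¹ = v := by rw [← h1]; group
      rw [h2, Equiv.Perm.one_apply, Pi.one_apply, Equiv.Perm.one_apply]
    · obtain ⟨h1, h2⟩ := N.off A hA.2.1 (FFOf.off_of_AA (minH c) hA hne)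
      obtain ⟨τ, hτ, hτ'⟩ := h2 a ha
      refine ⟨τ, ⟨c.TY (hA.2.1 ha), h1 a ha, hτ⟩, fun i x hx => ?_⟩
      obtain ⟨h3, b, hb, hb'⟩ := hτ' i x hx
      exact ⟨h3, b, hb, c.TY (hA.2.1 hb), h1 b hb, hb'⟩
  nJ := by
    obtain ⟨A, hA, hoff⟩ := FFOf.exists_off c
    have h1 := hoff.ne
    by_contra hcon
    push Not at hcon
    exact h1 fun a ha => mem_centralizer_iff.2 fun v hv => (hcon A hA a ha v hv).symm
  noOver := fun A hA => hno A (hA.2.1.trans c.TY) hA.1
  cycle := by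
    obtain ⟨p, h1, -, h3, h4⟩ := SymCyc.exists_cyc m hm
    exact ⟨p, m, h1, h3, h4⟩
  prop := by
    intro X hTX hXH hle
    by_contra hcon
    have h1 : X ≤ M₀ := c.min X hTX (lt_of_le_of_ne hXH fun h => hcon h.ge)
    have h2 : (H ⊓ centralizer (zl T H : Set G)) ⊔ T ≤ M₀ :=
      c.min _ le_sup_right (lt_of_le_of_ne (sup_le inf_le_left c.TY) (cent_sup_ne c))
    exact c.notM (hle.trans (sup_le h1 (le_sup_left.trans h2)))

/-- **L1 for `q = 2`**: `FFThm.SymK` (with `m ≥ 1`) and no over-offenders give the Baumann input. -/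
theorem main (c : Config M₀ T H s) [Finite G] (hno : NoOver (zl T H) H) (hk : 0 < k) (hm : 1 ≤ m)
    (N : SymK T H (zl T H) (cv T H) k m) :
    ∃ (ι : Type) (N' : ι → Subgroup G) (d t r : ι → G), Nonempty ι ∧
      BauS.In H T (o2 H) (zl T H) N' d t r ∧ BauS.PermR T (zl T H) d r := by
  have h := syT c hno N hk hm FFOf.cv_le FFOf.cv_norm
  obtain ⟨ι, J, X, Y, t, r, hc⟩ := h.exists_ch
  obtain ⟨j, x, y, hT⟩ := h.exists_tr
  obtain ⟨i, -⟩ := hc.ex j x y hT
  exact ⟨ι, _, _, t, r, ⟨i⟩, hc.main h SymCyc.exists_pow, hc.permR h⟩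

end Cfsg.Agent.Omega.SQ1.FFSym
end
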