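import Cfsg.Agent.Mrg.Omega.SQ1.Choice
import Cfsg.Agent.ZN.ChoiceSit
import Cfsg.Agent.ZN.ChoiceBase
import Cfsg.Agent.PLocal.ElemAbSup
set_option linter.all false

section


/-!
# SQ1.3: the minimal block (one natural `SL₂(q)`-module)
-/

set_option autoImplicit false

namespace Cfsg.Agent.Omega.SQ1.Bau

open Subgroup Cfsg Cfsg.Agent.PLocal.ThompsonJ Cfsg.Agent.ZN Cfsg.Agent.ZN.ChoiceBase
open Cfsg.Agent.PLocal.ElemAbSup
open scoped Pointwise commutatorElement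

universe u

variable {G : Type u} [Group G]

/-- `g` moves `V1`. -/
def Mv (V1 : Subgroup G) (g : G) : Prop := ∃ v ∈ V1, g * v * g⁻¹ ∉ V1

theorem not_mv_iff [Finite G] {V1 : Subgroup G} {g : G} :
    ¬ Mv V1 g ↔ g ∈ normalizer (V1 : Set G) := by
  constructor
  · intro h
    unfold Mv at h
    push Not at h
    refine mem_normalizer_of_cj_le ?_
    rintro _ ⟨v, hv, rfl⟩
    exact h v hv
  · rintro h ⟨v, hv, hv'⟩
    exact hv' ((mem_normalizer_iff.1 h v).1 hv)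

theorem mv_inv [Finite G] {V1 : Subgroup G} {g : G} : Mv V1 g⁻¹ ↔ Mv V1 g := by
  rw [← not_iff_not, not_mv_iff, not_mv_iff, inv_mem_iff]

/-- `[V, B]`. -/
def DD (T V : Subgroup G) : Subgroup G := ⁅V, bau T⁆

namespace In

variable {H T Q V V1 V0 : Subgroup G} {q : ℕ}

theorem bau_quad (h : In H T Q V V1 V0 q) [Finite G] {b v : G} (hb : b ∈ bau T) (hv : v ∈ V) :
    b * v * b⁻¹ * v⁻¹ ∈ V1 := by
  obtain ⟨j, hj, -, hact⟩ := h.bau_act hb
  rw [hact v hv]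
  exact h.quad j hj v hv

theorem bau_V1 (h : In H T Q V V1 V0 q) [Finite G] {b v : G} (hb : b ∈ bau T) (hv : v ∈ V1) :
    b * v = v * b := ((mem_bau.1 hb).2 v (h.V1_le_Z hv)).symm

theorem D_le_V1 (h : In H T Q V V1 V0 q) [Finite G] : DD T V ≤ V1 := by
  rw [DD, commutator_le]
  intro v hv b hb
  have h1 := inv_mem (h.bau_quad hb hv)
  have e : (b * v * b⁻¹ * v⁻¹)⁻¹ = ⁅v, b⁆ := by rw [commutatorElement_def]; group
  rwa [e] at h1

theorem D_le_V (h : In H T Q V V1 V0 q) [Finite G] : DD T V ≤ V := h.D_le_V1.trans h.V1V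

theorem D_le_Z (h : In H T Q V V1 V0 q) [Finite G] : DD T V ≤ zj T := h.D_le_V1.trans h.V1_le_Z

theorem comm_Y (h : In H T Q V V1 V0 q) [Finite G] : ⁅Y T V, bau T⁆ = DD T V := by
  apply le_antisymm
  · rw [commutator_le]
    intro y hy b hb
    obtain ⟨z, hz, v, hv, rfl⟩ := h.mem_Y hy
    have e1 : z * b = b * z := (mem_bau.1 hb).2 z hz
    have e2 : z * v = v * z := h.ZcV z hz v hv
    have e : ⁅z * v, b⁆ = ⁅v, b⁆ := by
      rw [commutatorElement_def, commutatorElement_def]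
      calc z * v * b * (z * v)⁻¹ * b⁻¹ = (z * (v * b * v⁻¹)) * z⁻¹ * b⁻¹ := by group
        _ = ((v * b * v⁻¹) * z) * z⁻¹ * b⁻¹ := by
          rw [show z * (v * b * v⁻¹) = (v * b * v⁻¹) * z from
            ((show Commute z v from e2).mul_right (show Commute z b from e1)).mul_right
              (show Commute z v from e2).inv_right]
        _ = _ := by group
    rw [e]
    exact commutator_mem_commutator hv hb
  · exact commutator_mono (V_le_Y T V) le_rfl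

/-- An element of `B` outside `Q`. -/
theorem exists_b (h : In H T Q V V1 V0 q) [Finite G] : ∃ b ∈ bau T, b ∉ Q := by
  obtain ⟨j, hj, hjQ⟩ := SetLike.not_le_iff_exists.1 h.nle
  exact ⟨j, jj_le_bau T hj, hjQ⟩

theorem faith_bau (h : In H T Q V V1 V0 q) [Finite G] {b : G} (hb : b ∈ bau T) (hbQ : b ∉ Q) :
    ∃ v ∈ V, b * v * b⁻¹ * v⁻¹ ∉ V0 := by
  obtain ⟨j, hj, hjQ, hact⟩ := h.bau_act hb
  obtain ⟨v, hv, hv0⟩ := h.faith j hj (hjQ hbQ)
  exact ⟨v, hv, by rwa [hact v hv]⟩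

theorem D_not_le_V0 (h : In H T Q V V1 V0 q) [Finite G] : ¬ DD T V ≤ V0 := by
  intro hle
  obtain ⟨b, hb, hbQ⟩ := h.exists_b
  obtain ⟨v, hv, hv0⟩ := h.faith_bau hb hbQ
  apply hv0
  have h1 := inv_mem (hle (commutator_mem_commutator hv hb))
  have e : (⁅v, b⁆)⁻¹ = b * v * b⁻¹ * v⁻¹ := by rw [commutatorElement_def]; group
  rwa [e] at h1

theorem D_ne_bot (h : In H T Q V V1 V0 q) [Finite G] : DD T V ≠ ⊥ := fun h0 =>
  h.D_not_le_V0 (by rw [h0]; exact bot_le)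

/-- The subgroup `bau T` is normal in every group normalising `T`. -/
theorem norm_bau {A : Subgroup G} (hA : A ≤ normalizer (T : Set G)) {a : G}
    (ha : a ∈ A) {b : G} (hb : b ∈ bau T) : a * b * a⁻¹ ∈ bau T :=
  (mem_normalizer_iff.1 (normalizer_le_bau T (hA ha)) b).1 hb

theorem norm_zj {A : Subgroup G} (hA : A ≤ normalizer (T : Set G)) {a : G}
    (ha : a ∈ A) {b : G} (hb : b ∈ zj T) : a * b * a⁻¹ ∈ zj T :=
  (mem_normalizer_iff.1 (normalizer_le_of_cj (F := zj) zj_cj T (hA ha)) b).1 hb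

theorem T_norm_D (h : In H T Q V V1 V0 q) [Finite G] {t d : G} (ht : t ∈ T) (hd : d ∈ DD T V) :
    t * d * t⁻¹ ∈ DD T V := by
  have h1 : (DD T V).map (MulAut.conj t).toMonoidHom ≤ DD T V := by
    rw [DD, map_commutator, commutator_le]
    rintro _ ⟨v, hv, rfl⟩ _ ⟨b, hb, rfl⟩
    exact commutator_mem_commutator (h.Vn t (h.TH ht) v hv)
      (norm_bau (A := T) le_normalizer ht hb)
  exact h1 ⟨d, hd, rfl⟩

/-- `g` moves `V1` iff `D^g` is not contained in `Z`. -/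
theorem mv_iff (h : In H T Q V V1 V0 q) [Finite G] {g : G} (hg : g ∈ H) :
    Mv V1 g ↔ ∃ d ∈ DD T V, g * d * g⁻¹ ∉ zj T := by
  constructor
  · intro hm
    by_contra hc
    push Not at hc
    apply h.D_not_le_V0
    intro d hd
    have h1 : g * d * g⁻¹ ∈ zj T ⊓ V := ⟨hc d hd, h.Vn g hg d (h.D_le_V hd)⟩
    rw [h.Z_inf_V] at h1
    have h2 := h.opp g hg hm d (h.D_le_V1 hd) h1
    have h3 := h.V0n g⁻¹ (inv_mem hg) _ h2
    have e : g⁻¹ * (g * d * g⁻¹) * g⁻¹⁻¹ = d := by group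
    rwa [e] at h3
  · rintro ⟨d, hd, hd'⟩
    exact ⟨d, h.D_le_V1 hd, fun h1 => hd' (h.V1_le_Z h1)⟩

theorem bau_mv (h : In H T Q V V1 V0 q) [Finite G] {g b : G} (hg : g ∈ H) (hm : Mv V1 g)
    (hb : b ∈ bau T) (hbQ : b ∉ Q) : Mv V1 (g * b * g⁻¹) := h.bau_moves hg hm hb hbQ

theorem mv_mul_left [Finite G] {g n : G} (hn : n ∈ normalizer (V1 : Set G)) (hm : Mv V1 g) :
    Mv V1 (n * g) := by
  by_contra hc
  rw [not_mv_iff] at hc
  have h1 : g ∈ normalizer (V1 : Set G) := by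
    have := mul_mem (inv_mem hn) hc
    rwa [inv_mul_cancel_left] at this
  exact not_mv_iff.2 h1 hm

theorem mv_mul_right [Finite G] {g n : G} (hn : n ∈ normalizer (V1 : Set G)) (hm : Mv V1 g) :
    Mv V1 (g * n) := by
  by_contra hc
  rw [not_mv_iff] at hc
  have h1 : g ∈ normalizer (V1 : Set G) := by
    have := mul_mem hc (inv_mem hn)
    rwa [mul_inv_cancel_right] at this
  exact not_mv_iff.2 h1 hm

theorem bau_norm_V1 (h : In H T Q V V1 V0 q) [Finite G] :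
    bau T ≤ normalizer (V1 : Set G) := fun b hb => mem_normalizer_of_cj_le (by
    rintro _ ⟨v, hv, rfl⟩
    have e : (MulAut.conj b).toMonoidHom v = v := by
      simp only [MulEquiv.toMonoidHom_eq_coe, MonoidHom.coe_coe, MulAut.conj_apply]
      rw [h.bau_V1 hb hv]; group
    rw [e]; exact hv)

theorem Q_cent_V (h : In H T Q V V1 V0 q) {x v : G} (hx : x ∈ Q) (hv : v ∈ V) :
    x * v * x⁻¹ = v := by rw [h.VcQ x hx v hv]; group

theorem T_norm_V1 (h : In H T Q V V1 V0 q) [Finite G] : T ≤ normalizer (V1 : Set G) :=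
  fun t ht => mem_normalizer_of_cj_le (by
    rintro _ ⟨v, hv, rfl⟩
    have h1 : t * v * t⁻¹ ∈ zj T ⊓ V :=
      ⟨T_norm_Z T ht (h.V1_le_Z hv), h.Vn t (h.TH ht) v (h.V1V hv)⟩
    rw [h.Z_inf_V] at h1
    exact h1)

/-! ### The intersection `Z ∩ Z^g` -/

theorem cjZ_le_Y (h : In H T Q V V1 V0 q) [Finite G] {g : G} (hg : g ∈ H) :
    cj g (zj T) ≤ Y T V := by
  rintro _ ⟨z, hz, rfl⟩
  exact h.Y_norm g hg z (Z_le_Y T V hz)

theorem V_inf_X (h : In H T Q V V1 V0 q) [Finite G] {g : G} (hg : g ∈ H) (hm : Mv V1 g) :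
    V ⊓ (zj T ⊓ cj g (zj T)) = V0 := by
  apply le_antisymm
  · intro v hv
    obtain ⟨hvV, hvZ, hvg⟩ := hv
    have h1 : v ∈ V1 := by rw [← h.Z_inf_V]; exact ⟨hvZ, hvV⟩
    have hvg' := mem_cj.1 hvg
    have h2 : g⁻¹ * v * g ∈ V1 := by
      rw [← h.Z_inf_V]
      refine ⟨hvg', ?_⟩
      have := h.Vn g⁻¹ (inv_mem hg) v hvV
      rwa [inv_inv] at this
    rw [← h.conj_inter hg hm]
    exact mem_inf.2 ⟨h1, mem_cj.2 h2⟩
  · intro v hv
    rw [← h.conj_inter hg hm] at hv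
    obtain ⟨h1, h2⟩ := mem_inf.1 hv
    rw [mem_cj] at h2
    exact mem_inf.2 ⟨h.V1V h1, mem_inf.2 ⟨h.V1_le_Z h1, mem_cj.2 (h.V1_le_Z h2)⟩⟩

theorem card_X (h : In H T Q V V1 V0 q) [Finite G] {g : G} (hg : g ∈ H) (hm : Mv V1 g) :
    Nat.card (zj T) = Nat.card ↥(zj T ⊓ cj g (zj T)) * q ∧
      V ⊔ (zj T ⊓ cj g (zj T)) = Y T V := by
  set X := zj T ⊓ cj g (zj T) with hX
  have hYc := elem_comm h.Y_elem
  have hc1 : ∀ a ∈ zj T, ∀ b ∈ cj g (zj T), a * b = b * a := fun a ha b hb =>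
    hYc a (Z_le_Y T V ha) b (h.cjZ_le_Y hg hb)
  have h1 := card_sup_comm hc1
  rw [card_cj, ← hX] at h1
  have h2 : Nat.card ↥(zj T ⊔ cj g (zj T)) ≤ Nat.card (Y T V) :=
    Subgroup.card_le_of_le (sup_le (Z_le_Y T V) (h.cjZ_le_Y hg))
  rw [h.card_Y] at h2
  have hZp : 0 < Nat.card (zj T) := Nat.card_pos
  have h3 : Nat.card (zj T) ≤ q * Nat.card X := by
    have e : Nat.card (zj T) * Nat.card (zj T) ≤ Nat.card (zj T) * (q * Nat.card X) := by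
      rw [← h1]
      calc _ ≤ Nat.card (zj T) * q * Nat.card X := Nat.mul_le_mul_right _ h2
        _ = _ := by ring
    exact Nat.le_of_mul_le_mul_left e hZp
  have hc2 : ∀ v ∈ V, ∀ x ∈ X, v * x = x * v := fun v hv x hx => hYc v (V_le_Y T V hv) x
    (Z_le_Y T V hx.1)
  have h4 := card_sup_comm hc2
  rw [h.V_inf_X hg hm, h.cardV] at h4
  have h5 : Nat.card ↥(V ⊔ X) = q * (q * Nat.card X) := by
    have hp : 0 < Nat.card V0 := Nat.card_pos
    have e : Nat.card ↥(V ⊔ X) * Nat.card V0 = q * (q * Nat.card X) * Nat.card V0 := by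
      rw [h4, h.cardV1]; ring
    exact Nat.eq_of_mul_eq_mul_right hp e
  have hle : V ⊔ X ≤ Y T V := sup_le (V_le_Y T V) (inf_le_left.trans (Z_le_Y T V))
  have h6 : Nat.card (Y T V) ≤ Nat.card ↥(V ⊔ X) := by
    rw [h5, h.card_Y, Nat.mul_comm q (q * _)]
    exact Nat.mul_le_mul_right _ h3
  have h7 := Subgroup.eq_of_le_of_card_ge hle h6
  refine ⟨?_, h7⟩
  have h8 : Nat.card ↥(V ⊔ X) = Nat.card (zj T) * q := by rw [h7, h.card_Y]
  rw [h5] at h8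
  have hq : 0 < q := by have := h.one_lt; omega
  have e : Nat.card (zj T) * q = Nat.card X * q * q := by rw [← h8]; ring
  exact Nat.eq_of_mul_eq_mul_right hq e

theorem mem_Y_split (h : In H T Q V V1 V0 q) [Finite G] {g : G} (hg : g ∈ H) (hm : Mv V1 g)
    {y : G} (hy : y ∈ Y T V) : ∃ v ∈ V, ∃ x ∈ zj T, g⁻¹ * x * g ∈ zj T ∧ y = v * x := by
  rw [← (h.card_X hg hm).2] at hy
  obtain ⟨v, hv, x, hx, rfl⟩ := mem_sup_comm (fun v hv x hx =>
    elem_comm h.Y_elem v (V_le_Y T V hv) x (Z_le_Y T V (mem_inf.1 hx).1)) hy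
  exact ⟨v, hv, x, (mem_inf.1 hx).1, mem_cj.1 (mem_inf.1 hx).2, rfl⟩

/-- `Z = V1 (Z ∩ Z^g)`. -/
theorem mem_Z_split (h : In H T Q V V1 V0 q) [Finite G] {g : G} (hg : g ∈ H) (hm : Mv V1 g)
    {z : G} (hz : z ∈ zj T) : ∃ v ∈ V1, ∃ x ∈ zj T, g⁻¹ * x * g ∈ zj T ∧ z = v * x := by
  obtain ⟨v, hv, x, hx, hx', rfl⟩ := h.mem_Y_split hg hm (Z_le_Y T V hz)
  refine ⟨v, ?_, x, hx, hx', rfl⟩
  rw [← h.Z_inf_V]
  refine ⟨?_, hv⟩
  have := mul_mem hz (inv_mem hx)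
  rwa [mul_inv_cancel_right] at this

/-! ### Covering -/

/-- Every element of `V - V1` lies in a `B`-conjugate of `V1^g`. -/
theorem cover (h : In H T Q V V1 V0 q) [Finite G] {g : G} (hg : g ∈ H) (hm : Mv V1 g)
    {v : G} (hv : v ∈ V) (hv1 : v ∉ V1) :
    ∃ b ∈ bau T, ∃ w ∈ V1, v = b * (g * w * g⁻¹) * b⁻¹ := by
  classical
  let W : Subgroup G := cj g V1
  have hWV : W ≤ V := h.cj_le_V hg
  have hWV1 : V1 ⊓ W = V0 := h.conj_inter hg hm
  have hV0W : V0 ≤ W := by rw [← hWV1]; exact inf_le_right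
  have hbV : ∀ b ∈ bau T, ∀ v ∈ V, b * v * b⁻¹ ∈ V := fun b hb v hv =>
    h.Vn b (h.TH (bau_le T hb)) v hv
  -- the key: distinct cosets give disjoint conjugates
  have key : ∀ b ∈ bau T, ∀ w ∈ W, ∀ w' ∈ W, b * w * b⁻¹ = w' → w ∉ V0 → b ∈ Q := by
    intro b hb w hw w' hw' e hw0
    by_contra hbQ
    -- `g⁻¹ b g` moves `V1`
    have hm1 : Mv V1 (g⁻¹ * b * g) := by
      have := h.bau_mv (inv_mem hg) (mv_inv.2 hm) hb hbQ
      rwa [inv_inv] at this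
    have hH : g⁻¹ * b * g ∈ H := mul_mem (mul_mem (inv_mem hg) (h.TH (bau_le T hb))) hg
    have h1 := h.opp _ hH hm1 (g⁻¹ * w * g) (mem_cj.1 hw) (by
      have e1 : g⁻¹ * b * g * (g⁻¹ * w * g) * (g⁻¹ * b * g)⁻¹ = g⁻¹ * (b * w * b⁻¹) * g := by
        group
      rw [e1, e]; exact mem_cj.1 hw')
    have e1 : g⁻¹ * b * g * (g⁻¹ * w * g) * (g⁻¹ * b * g)⁻¹ = g⁻¹ * (b * w * b⁻¹) * g := by group
    rw [e1] at h1
    have h2 := h.V0n g hg _ h1
    have e2 : g * (g⁻¹ * (b * w * b⁻¹) * g) * g⁻¹ = b * w * b⁻¹ := by group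
    rw [e2] at h2
    have h3 := h.V0n b⁻¹ (inv_mem (h.TH (bau_le T hb))) _ h2
    have e3 : b⁻¹ * (b * w * b⁻¹) * b⁻¹⁻¹ = w := by group
    rw [e3] at h3
    exact hw0 h3
  let Qs : Subgroup ↥(bau T) := (bau T ⊓ Q).subgroupOf (bau T)
  let F : (↥(bau T) ⧸ Qs) × {w : G // w ∈ W ∧ w ∉ V0} → {v : G // v ∈ V ∧ v ∉ V1} :=
    fun p => ⟨(p.1.out : G) * p.2.1 * (p.1.out : G)⁻¹, by
      refine ⟨hbV _ p.1.out.2 _ (hWV p.2.2.1), fun h1 => p.2.2.2 ?_⟩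
      have h2 := h.bau_V1 p.1.out.2 h1
      have h3 : p.2.1 = (p.1.out : G) * p.2.1 * (p.1.out : G)⁻¹ := by
        have : (p.1.out : G)⁻¹ * ((p.1.out : G) * p.2.1 * (p.1.out : G)⁻¹) * (p.1.out : G) =
          (p.1.out : G) * p.2.1 * (p.1.out : G)⁻¹ := by
          rw [mul_assoc, ← h2]; group
        rw [← this]; group
      rw [← h3] at h1
      exact hWV1.le (mem_inf.2 ⟨h1, p.2.2.1⟩)⟩
  have hF : Function.Injective F := by
    rintro ⟨c, w⟩ ⟨c', w'⟩ hcc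
    have h1 : (c.out : G) * w.1 * (c.out : G)⁻¹ = (c'.out : G) * w'.1 * (c'.out : G)⁻¹ :=
      congrArg Subtype.val hcc
    have h2 : ((c'.out : G)⁻¹ * (c.out : G)) * w.1 * ((c'.out : G)⁻¹ * (c.out : G))⁻¹ = w'.1 := by
      have : ((c'.out : G)⁻¹ * (c.out : G)) * w.1 * ((c'.out : G)⁻¹ * (c.out : G))⁻¹ =
        (c'.out : G)⁻¹ * ((c.out : G) * w.1 * (c.out : G)⁻¹) * (c'.out : G) := by group
      rw [this, h1]; group
    have hB : (c'.out : G)⁻¹ * (c.out : G) ∈ bau T := mul_mem (inv_mem c'.out.2) c.out.2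
    have h3 := key _ hB w.1 w.2.1 w'.1 w'.2.1 h2 w.2.2
    have h4 : c = c' := by
      rw [← c.out_eq, ← c'.out_eq, eq_comm]
      refine QuotientGroup.eq.2 ?_
      exact mem_subgroupOf.2 ⟨hB, h3⟩
    subst h4
    have h5 : w = w' := by
      apply Subtype.ext
      rw [← h2]; group
    rw [h5]
  -- cardinalities
  have hq := h.one_lt
  have c1 : Nat.card (↥(bau T) ⧸ Qs) = q := by
    have e1 : Nat.card (↥(bau T) ⧸ Qs) * Nat.card Qs = Nat.card (bau T) :=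
      (Subgroup.card_eq_card_quotient_mul_card_subgroup Qs).symm
    have e2 : Nat.card Qs = Nat.card ↥(bau T ⊓ Q) :=
      Nat.card_congr (Subgroup.subgroupOfEquivOfLe inf_le_left).toEquiv
    rw [e2, h.card_bau, Nat.mul_comm (Nat.card ↥(bau T ⊓ Q)) q] at e1
    exact Nat.eq_of_mul_eq_mul_right Nat.card_pos e1
  have diff : ∀ X U : Subgroup G, U ≤ X →
      Nat.card {x : G // x ∈ X ∧ x ∉ U} + Nat.card U = Nat.card X := by
    intro X U hUX
    have hf : (X : Set G).Finite := Set.toFinite _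
    have e1 : Nat.card {x : G // x ∈ X ∧ x ∉ U} = ((X : Set G) \ (U : Set G)).ncard := rfl
    have e2 : Nat.card U = (U : Set G).ncard := rfl
    have e3 : Nat.card X = (X : Set G).ncard := rfl
    rw [e1, e2, e3]
    exact Set.ncard_sdiff_add_ncard_of_subset hUX
  have c2 := diff W V0 hV0W
  have c3 := diff V V1 h.V1V
  have c4 : Nat.card W = Nat.card V1 := card_cj g V1
  rw [c4, h.cardV1] at c2
  rw [h.cardV, h.cardV1] at c3
  have c5 : Nat.card ((↥(bau T) ⧸ Qs) × {w : G // w ∈ W ∧ w ∉ V0}) =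
      Nat.card {v : G // v ∈ V ∧ v ∉ V1} := by
    rw [Nat.card_prod, c1]
    have e : q * Nat.card {w : G // w ∈ W ∧ w ∉ V0} + Nat.card V0 * q =
      Nat.card {v : G // v ∈ V ∧ v ∉ V1} + Nat.card V0 * q := by
      rw [c3]
      calc _ = q * (Nat.card {w : G // w ∈ W ∧ w ∉ V0} + Nat.card V0) := by ring
        _ = _ := by rw [c2]; ring
    omega
  have hsur : Function.Surjective F := ((Nat.bijective_iff_injective_and_card F).2 ⟨hF, c5⟩).2
  obtain ⟨⟨c, w⟩, hcw⟩ := hsur ⟨v, hv, hv1⟩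
  refine ⟨c.out, c.out.2, g⁻¹ * w.1 * g, mem_cj.1 w.2.1, ?_⟩
  have h6 : (c.out : G) * w.1 * (c.out : G)⁻¹ = v := congrArg Subtype.val hcw
  rw [← h6]
  group

/-- `B` is transitive on the conjugates of `V1` different from `V1`. -/
theorem class_conj (h : In H T Q V V1 V0 q) [Finite G] {g g' : G} (hg : g ∈ H) (hm : Mv V1 g)
    (hg' : g' ∈ H) (hm' : Mv V1 g') : ∃ b ∈ bau T, cj (b * g) V1 = cj g' V1 := by
  -- an element of `V1^g' - V0`
  obtain ⟨w, hw, hw0⟩ : ∃ w ∈ V1, w ∉ V0 := by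
    by_contra hc
    push Not at hc
    have h1 : Nat.card V1 ≤ Nat.card V0 := Subgroup.card_le_of_le (fun x hx => hc x hx)
    rw [h.cardV1] at h1
    have hp : 0 < Nat.card V0 := Nat.card_pos
    have := h.one_lt
    have h2 : Nat.card V0 * 2 ≤ Nat.card V0 * q := Nat.mul_le_mul_left _ this
    omega
  have hv : g' * w * g'⁻¹ ∈ V := h.Vn g' hg' w (h.V1V hw)
  have hv0 : g' * w * g'⁻¹ ∉ V0 := by
    intro h1
    apply hw0
    have := h.V0n g'⁻¹ (inv_mem hg') _ h1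
    have e : g'⁻¹ * (g' * w * g'⁻¹) * g'⁻¹⁻¹ = w := by group
    rwa [e] at this
  have hv1 : g' * w * g'⁻¹ ∉ V1 := fun h1 => hv0 (h.opp g' hg' hm' w hw h1)
  obtain ⟨b, hb, u, hu, e⟩ := h.cover hg hm hv hv1
  refine ⟨b, hb, ?_⟩
  by_contra hne
  -- `(b g)⁻¹ g'` moves `V1`
  have hbg : b * g ∈ H := mul_mem (h.TH (bau_le T hb)) hg
  have hm2 : Mv V1 ((b * g)⁻¹ * g') := by
    by_contra hc
    rw [not_mv_iff] at hc
    apply hne
    have := cj_eq_of_mem_normalizer hc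
    have e2 : cj g' V1 = cj (b * g) (cj ((b * g)⁻¹ * g') V1) := by
      rw [cj_cj, mul_inv_cancel_left]
    rw [e2, this]
  have h3 := h.opp _ (mul_mem (inv_mem hbg) hg') hm2 w hw (by
    have e3 : (b * g)⁻¹ * g' * w * ((b * g)⁻¹ * g')⁻¹ = (b * g)⁻¹ * (g' * w * g'⁻¹) * (b * g) := by
      group
    rw [e3, e]
    have e4 : (b * g)⁻¹ * (b * (g * u * g⁻¹) * b⁻¹) * (b * g) = u := by group
    rw [e4]; exact hu)
  apply hv0
  have h4 := h.V0n _ hbg _ h3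
  have e5 : b * g * ((b * g)⁻¹ * g' * w * ((b * g)⁻¹ * g')⁻¹) * (b * g)⁻¹ = g' * w * g'⁻¹ := by
    group
  rwa [e5] at h4

end In

end Cfsg.Agent.Omega.SQ1.Bau

end

section


/-!
# SQ1.3: the fields of the pushing up theorem for the minimal block, one summand
-/

set_option autoImplicit false

namespace Cfsg.Agent.Omega.SQ1.Bau

open Subgroup Cfsg Cfsg.Agent.PLocal.ThompsonJ Cfsg.Agent.ZN Cfsg.Agent.ZN.ChoiceBase
open Cfsg.Agent.PLocal.ElemAbSup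
open scoped Pointwise commutatorElement

universe u

variable {G : Type u} [Group G]

/-- `L` is minimal among the subgroups of `H` which contain `B` and move `V1`. -/
structure Blk (H T V1 L : Subgroup G) : Prop where
  BL : bau T ≤ L
  LH : L ≤ H
  mv : ∃ l ∈ L, Mv V1 l
  min : ∀ X : Subgroup G, X ≤ L → bau T ≤ X → (∃ x ∈ X, Mv V1 x) → L ≤ X

theorem exists_min [Finite G] (P : Subgroup G → Prop) {X : Subgroup G} (hX : P X) :
    ∃ L, P L ∧ L ≤ X ∧ ∀ U, P U → U ≤ L → L ≤ U := by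
  classical
  obtain ⟨L, hL, hmin⟩ := (Set.toFinite {U : Subgroup G | P U ∧ U ≤ X}).exists_minimalFor id _
    ⟨X, hX, le_rfl⟩
  exact ⟨L, hL.1, hL.2, fun U hU hUL => hmin ⟨hU, hUL.trans hL.2⟩ hUL⟩

namespace In

variable {H T Q V V1 V0 : Subgroup G} {q : ℕ}

theorem exists_blk (h : In H T Q V V1 V0 q) [Finite G] : ∃ L, Blk H T V1 L := by
  obtain ⟨g, hg, hm⟩ := h.ne
  obtain ⟨L, ⟨h1, h2, h3⟩, -, h5⟩ := exists_min
    (fun L : Subgroup G => bau T ≤ L ∧ L ≤ H ∧ ∃ l ∈ L, Mv V1 l) (X := H)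
    ⟨(bau_le T).trans h.TH, le_rfl, g, hg, hm⟩
  exact ⟨L, h1, h2, h3, fun X hX hB hmx => h5 X ⟨hB, hX.trans h2, hmx⟩ hX⟩

end In

namespace Blk

open In (Y Z_le_Y V_le_Y)

variable {H T Q V V1 V0 L : Subgroup G} {q : ℕ}

/-- `L = ⟨B, x⟩` for `x ∈ B^l - Q`. -/
theorem gen_left (k : Blk H T V1 L) (h : In H T Q V V1 V0 q) [Finite G] {l b : G} (hl : l ∈ L)
    (hm : Mv V1 l) (hb : b ∈ bau T) (hbQ : b ∉ Q) {X : Subgroup G} (hX : bau T ≤ X)
    (hx : l * b * l⁻¹ ∈ X) : L ≤ X :=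
  (k.min (X ⊓ L) inf_le_right (le_inf hX k.BL) ⟨l * b * l⁻¹,
    mem_inf.2 ⟨hx, mul_mem (mul_mem hl (k.BL hb)) (inv_mem hl)⟩,
    h.bau_mv (k.LH hl) hm hb hbQ⟩).trans inf_le_left

/-- `L = ⟨b, B^l⟩` for `b ∈ B - Q`. -/
theorem gen_right (k : Blk H T V1 L) (h : In H T Q V V1 V0 q) [Finite G] {l b : G} (hl : l ∈ L)
    (hm : Mv V1 l) (hb : b ∈ bau T) (hbQ : b ∉ Q) {X : Subgroup G} (hX : b ∈ X)
    (hx : ∀ c ∈ bau T, l * c * l⁻¹ ∈ X) : L ≤ X := by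
  have h1 : L ≤ cj l⁻¹ X := by
    refine k.gen_left h (inv_mem hl) (mv_inv.2 hm) hb hbQ (fun c hc => ?_) ?_
    · rw [mem_cj, inv_inv]
      exact hx c hc
    · rw [mem_cj]
      have e : l⁻¹⁻¹ * (l⁻¹ * b * l⁻¹⁻¹) * l⁻¹ = b := by group
      rwa [e]
  intro y hy
  have h2 := h1 (mul_mem (mul_mem (inv_mem hl) hy) hl)
  rw [mem_cj] at h2
  have e : l⁻¹⁻¹ * (l⁻¹ * y * l) * l⁻¹ = y := by group
  rwa [e] at h2

/-- `L ≤ ⟨B, B^l⟩`. -/
theorem gen (k : Blk H T V1 L) (h : In H T Q V V1 V0 q) [Finite G] {l : G} (hl : l ∈ L)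
    (hm : Mv V1 l) {X : Subgroup G} (hX : bau T ≤ X) (hx : ∀ c ∈ bau T, l * c * l⁻¹ ∈ X) :
    L ≤ X := by
  obtain ⟨b, hb, hbQ⟩ := h.exists_b
  exact k.gen_left h hl hm hb hbQ hX (hx b hb)

/-- `⟨T, L⟩ = H`. -/
theorem sup_T (k : Blk H T V1 L) (h : In H T Q V V1 V0 q) {X : Subgroup G}
    (hT : T ≤ X) (hL : L ≤ X) : H ≤ X := by
  obtain ⟨l, hl, hm⟩ := k.mv
  exact (h.max (X ⊓ H) (le_inf hT h.TH) inf_le_right ⟨l, ⟨hL hl, k.LH hl⟩, hm⟩).trans inf_le_left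

/-- `C_Y(L) = Z ∩ Z^l`. -/
theorem cent_iff (k : Blk H T V1 L) (h : In H T Q V V1 V0 q) [Finite G] {l y : G} (hl : l ∈ L)
    (hm : Mv V1 l) (hy : y ∈ Y T V) :
    (∀ x ∈ L, x * y = y * x) ↔ y ∈ zj T ∧ l⁻¹ * y * l ∈ zj T := by
  constructor
  · intro hx
    obtain ⟨b, hb, hbQ⟩ := h.exists_b
    have h1 : y ∈ zj T := h.cent_Y hb hbQ hy (hx b (k.BL hb))
    refine ⟨h1, ?_⟩
    have h2 := hx l hl
    have e : l⁻¹ * y * l = y := by rw [mul_assoc, ← h2]; group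
    rwa [e]
  · rintro ⟨h1, h2⟩
    have h3 : L ≤ centralizer ({y} : Set G) := by
      refine k.gen h hl hm (fun b hb => ?_) fun c hc => ?_
      · rw [mem_centralizer_iff]
        intro w hw
        rw [show w = y from hw]
        exact (mem_bau.1 hb).2 _ h1
      · rw [mem_centralizer_iff]
        intro w hw
        rw [show w = y from hw]
        have h4 := (mem_bau.1 hc).2 _ h2
        calc y * (l * c * l⁻¹) = l * (l⁻¹ * y * l * c) * l⁻¹ := by group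
          _ = l * (c * (l⁻¹ * y * l)) * l⁻¹ := by rw [h4]
          _ = l * c * l⁻¹ * y := by group
    intro x hx
    exact ((mem_centralizer_iff.1 (h3 hx)) y rfl).symm

/-- `V0` is centralised by `L`. -/
theorem cent_V0 (k : Blk H T V1 L) (h : In H T Q V V1 V0 q) [Finite G] {v : G} (hv : v ∈ V0) :
    ∀ x ∈ L, x * v = v * x := by
  obtain ⟨l, hl, hm⟩ := k.mv
  rw [k.cent_iff h hl hm (V_le_Y T V (h.V1V (h.V01 hv)))]
  have h1 := h.V0n l⁻¹ (inv_mem (k.LH hl)) v hv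
  rw [inv_inv] at h1
  exact ⟨h.V1_le_Z (h.V01 hv), h.V1_le_Z (h.V01 h1)⟩

/-- `L ∩ Q = B ∩ Q`. -/
theorem inf_Q (k : Blk H T V1 L) (h : In H T Q V V1 V0 q) [Finite G] {x : G} (hx : x ∈ L)
    (hxQ : x ∈ Q) : x ∈ bau T ⊓ Q := by
  obtain ⟨l, hl, hm⟩ := k.mv
  refine h.mem_star_iff.2 ⟨h.QT hxQ, fun y hy => ?_⟩
  obtain ⟨v, hv, z, hz, hz', rfl⟩ := h.mem_Y_split (k.LH hl) hm hy
  have e1 := h.VcQ x hxQ v hv
  have e2 := (k.cent_iff h hl hm (Z_le_Y T V hz)).2 ⟨hz, hz'⟩ x hx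
  calc x * (v * z) = (x * v) * z := by group
    _ = v * (x * z) := by rw [e1]; group
    _ = v * z * x := by rw [e2]; group

theorem norm_star (k : Blk H T V1 L) (h : In H T Q V V1 V0 q) [Finite G] :
    ∀ l ∈ L, ∀ x ∈ bau T ⊓ Q, l * x * l⁻¹ ∈ bau T ⊓ Q := fun l hl => h.star_norm l (k.LH hl)

theorem norm_Y (k : Blk H T V1 L) (h : In H T Q V V1 V0 q) [Finite G] :
    ∀ l ∈ L, ∀ x ∈ Y T V, l * x * l⁻¹ ∈ Y T V := fun l hl => h.Y_norm l (k.LH hl)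

/-- `H` is generated by the conjugates of `B` and `T`; so `T`-invariant subgroups of `V0` are
normal in `H`. -/
theorem norm_of_T (k : Blk H T V1 L) (h : In H T Q V V1 V0 q) [Finite G] {R : Subgroup G}
    (hT : ∀ t ∈ T, ∀ r ∈ R, t * r * t⁻¹ ∈ R) (hL : ∀ r ∈ R, ∀ x ∈ L, x * r = r * x) :
    ∀ x ∈ H, ∀ r ∈ R, x * r * x⁻¹ ∈ R := by
  have h1 : H ≤ normalizer (R : Set G) := by
    refine k.sup_T h (fun t ht => mem_normalizer_of_cj_le ?_)
      (fun l hl => mem_normalizer_of_cj_le ?_)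
    · rintro _ ⟨r, hr, rfl⟩; exact hT t ht r hr
    · rintro _ ⟨r, hr, rfl⟩
      have e : (MulAut.conj l).toMonoidHom r = r := by
        simp only [MulEquiv.toMonoidHom_eq_coe, MonoidHom.coe_coe, MulAut.conj_apply]
        rw [hL r hr l hl]; group
      rw [e]; exact hr
  exact fun x hx r hr => (mem_normalizer_iff.1 (h1 hx) r).1 hr

/-- The elements of `D` centralised by `L` lie in `V0`. -/
theorem D_cent_le (k : Blk H T V1 L) (h : In H T Q V V1 V0 q) [Finite G] {d : G}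
    (hd : d ∈ DD T V) (hc : ∀ x ∈ L, x * d = d * x) : d ∈ V0 := by
  obtain ⟨l, hl, hm⟩ := k.mv
  have h1 := ((k.cent_iff h hl hm (V_le_Y T V (h.D_le_V hd))).1 hc)
  rw [← h.V_inf_X (k.LH hl) hm]
  exact mem_inf.2 ⟨h.D_le_V hd, mem_inf.2 ⟨h1.1, mem_cj.2 h1.2⟩⟩

/-- The core condition with respect to `L` and `A` follows from the one for `H` and `A`. -/
theorem core (k : Blk H T V1 L) (h : In H T Q V V1 V0 q) [Finite G] {A : Subgroup G} (hTA : T ≤ A)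
    (hcore : ∀ R : Subgroup G, R ≤ T → (∀ x ∈ H, ∀ r ∈ R, x * r * x⁻¹ ∈ R) →
      (∀ a ∈ A, ∀ r ∈ R, a * r * a⁻¹ ∈ R) → R = ⊥)
    {R : Subgroup G} (hR : R ≤ T) (hL : ∀ l ∈ L, ∀ r ∈ R, l * r * l⁻¹ ∈ R)
    (hA : ∀ a ∈ A, ∀ r ∈ R, a * r * a⁻¹ ∈ R) : R = ⊥ := by
  refine hcore R hR ?_ hA
  have h1 : H ≤ normalizer (R : Set G) := by
    refine k.sup_T h (fun t ht => mem_normalizer_of_cj_le ?_)
      (fun l hl => mem_normalizer_of_cj_le ?_)
    · rintro _ ⟨r, hr, rfl⟩; exact hA t (hTA ht) r hr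
    · rintro _ ⟨r, hr, rfl⟩; exact hL l hl r hr
  exact fun x hx r hr => (mem_normalizer_iff.1 (h1 hx) r).1 hr

/-- (2.3): if `D^t` is centralised by `L` for some `t ∈ A - T` then `C_D(L) = 1`. -/
theorem split (k : Blk H T V1 L) (h : In H T Q V V1 V0 q) [Finite G] {A : Subgroup G}
    (hAT : A ≤ normalizer (T : Set G))
    (idx : ∀ a ∈ A, ∀ b ∈ A, a ∉ T → b ∉ T → a⁻¹ * b ∈ T)
    (hcore : ∀ R : Subgroup G, R ≤ T → (∀ x ∈ H, ∀ r ∈ R, x * r * x⁻¹ ∈ R) →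
      (∀ a ∈ A, ∀ r ∈ R, a * r * a⁻¹ ∈ R) → R = ⊥)
    {t : G} (ht : t ∈ A) (htT : t ∉ T)
    (hc : ∀ d ∈ DD T V, ∀ x ∈ L, x * (t * d * t⁻¹) = (t * d * t⁻¹) * x)
    {d : G} (hd : d ∈ DD T V) (hdc : ∀ x ∈ L, x * d = d * x) : d = 1 := by
  let D0 : Subgroup G := DD T V ⊓ V0
  have hD0 : d ∈ D0 := ⟨hd, k.D_cent_le h hd hdc⟩
  have hT0 : ∀ t ∈ T, ∀ r ∈ D0, t * r * t⁻¹ ∈ D0 := fun t ht r hr =>
    ⟨h.T_norm_D ht hr.1, h.V0n t (h.TH ht) r hr.2⟩
  have hL0 : ∀ r ∈ D0, ∀ x ∈ L, x * r = r * x := fun r hr => k.cent_V0 h hr.2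
  have hH0 := k.norm_of_T h hT0 hL0
  -- the conjugate
  let D1 : Subgroup G := cj t D0
  have hL1 : ∀ r ∈ D1, ∀ x ∈ L, x * r = r * x := by
    rintro _ ⟨r, hr, rfl⟩ x hx
    exact hc r hr.1 x hx
  have hTt : ∀ u ∈ T, t⁻¹ * u * t ∈ T := fun u hu => by
    have := (mem_normalizer_iff.1 (hAT (inv_mem ht)) u).1 hu
    rwa [inv_inv] at this
  have hT1 : ∀ u ∈ T, ∀ r ∈ D1, u * r * u⁻¹ ∈ D1 := by
    intro u hu r hr
    rw [mem_cj] at hr ⊢
    have := hT0 _ (hTt u hu) _ hr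
    have e : t⁻¹ * u * t * (t⁻¹ * r * t) * (t⁻¹ * u * t)⁻¹ = t⁻¹ * (u * r * u⁻¹) * t := by group
    rwa [e] at this
  have hH1 := k.norm_of_T h hT1 hL1
  have hDT : D0 ≤ T := fun x hx => h.QT (h.VQ (h.D_le_V hx.1))
  have hD1T : D1 ≤ T := by
    rintro _ ⟨r, hr, rfl⟩
    exact (mem_normalizer_iff.1 (hAT ht) r).1 (hDT hr)
  have key : D0 ⊔ D1 = ⊥ := by
    refine hcore _ (sup_le hDT hD1T) ?_ ?_
    · have : H ≤ normalizer ((D0 ⊔ D1 : Subgroup G) : Set G) := fun x hx =>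
        mem_normalizer_of_cj_le (by
          rw [cj, Subgroup.map_sup]
          refine sup_le ?_ ?_
          · rintro _ ⟨r, hr, rfl⟩; exact mem_sup_left (hH0 x hx r hr)
          · rintro _ ⟨r, hr, rfl⟩; exact mem_sup_right (hH1 x hx r hr))
      exact fun x hx r hr => (mem_normalizer_iff.1 (this hx) r).1 hr
    · have : A ≤ normalizer ((D0 ⊔ D1 : Subgroup G) : Set G) := by
        intro a ha
        refine mem_normalizer_of_cj_le ?_
        rw [cj, Subgroup.map_sup]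
        by_cases haT : a ∈ T
        · refine sup_le ?_ ?_
          · rintro _ ⟨r, hr, rfl⟩; exact mem_sup_left (hT0 a haT r hr)
          · rintro _ ⟨r, hr, rfl⟩; exact mem_sup_right (hT1 a haT r hr)
        · have h1 : t⁻¹ * a ∈ T := idx t ht a ha htT haT
          have ht' : t⁻¹ ∉ T := fun h0 => htT (by simpa using inv_mem h0)
          have h2 : a * t ∈ T := by
            have := idx a⁻¹ (inv_mem ha) t ht (fun h0 => haT (by simpa using inv_mem h0)) htT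
            rwa [inv_inv] at this
          refine sup_le ?_ ?_
          · rintro _ ⟨r, hr, rfl⟩
            refine mem_sup_right ?_
            change a * r * a⁻¹ ∈ D1
            rw [mem_cj]
            have := hT0 _ h1 r hr
            have e : t⁻¹ * a * r * (t⁻¹ * a)⁻¹ = t⁻¹ * (a * r * a⁻¹) * t := by group
            rwa [e] at this
          · rintro _ ⟨r, hr, rfl⟩
            refine mem_sup_left ?_
            change a * r * a⁻¹ ∈ D0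
            have hr' : t⁻¹ * r * t ∈ D0 := mem_cj.1 hr
            have := hT0 _ h2 _ hr'
            have e : a * t * (t⁻¹ * r * t) * (a * t)⁻¹ = a * r * a⁻¹ := by group
            rwa [e] at this
      exact fun x hx r hr => (mem_normalizer_iff.1 (this hx) r).1 hr
  have h3 : d ∈ (D0 ⊔ D1 : Subgroup G) := mem_sup_left hD0
  rw [key, mem_bot] at h3
  exact h3

end Blk

end Cfsg.Agent.Omega.SQ1.Bau

end

section


/-!
# SQ1.3: Baumann blocks, any number of natural `SL₂(q)`-summands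

`V / V0` is the direct sum of the `N i / V0`, each a natural `SL₂(q)`-module for its own factor,
`C_T(V) = Q` (`C_H(V) / Q` may be a nontrivial group of odd order).  `A i ∈ A(T)` acts only on `N i`,
as a full Sylow subgroup of the `i`-th factor.
-/

set_option autoImplicit false

namespace Cfsg.Agent.Omega.SQ1.BauK

open Subgroup Cfsg Cfsg.Agent.PLocal.ThompsonJ Cfsg.Agent.ZN Cfsg.Agent.ZN.ChoiceBase
open Cfsg.Agent.PLocal.ElemAbSup
open Cfsg.Agent.Omega.SQ1.Bau (mem_AA_of_comm zj_le_AA elem_comm elem_sq mem_sup_comm card_sup_comm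
  mem_sup_norm Mv not_mv_iff mv_inv)
open scoped Pointwise commutatorElement

universe u

variable {G : Type u} [Group G]

/-! ### Planes -/

/-- `W / W0` is a "plane" for `P`, `W1 / W0` one of its lines. -/
structure Pl (P W W1 W0 : Subgroup G) (q : ℕ) : Prop where
  Wn : ∀ h ∈ P, ∀ x ∈ W, h * x * h⁻¹ ∈ W
  Wc : ∀ v ∈ W, ∀ w ∈ W, v * w = w * v
  W1W : W1 ≤ W
  W01 : W0 ≤ W1
  W0n : ∀ h ∈ P, ∀ x ∈ W0, h * x * h⁻¹ ∈ W0
  card : Nat.card W = Nat.card W1 * q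
  card1 : Nat.card W1 = Nat.card W0 * q
  opp : ∀ h ∈ P, Mv W1 h → ∀ v ∈ W1, h * v * h⁻¹ ∈ W1 → h * v * h⁻¹ ∈ W0

namespace Pl

variable {P W W1 W0 : Subgroup G} {q : ℕ}

theorem inter (h : Pl P W W1 W0 q) {g : G} (hg : g ∈ P) (hm : Mv W1 g) : W1 ⊓ cj g W1 = W0 := by
  apply le_antisymm
  · intro v hv
    obtain ⟨hv1, hv2⟩ := mem_inf.1 hv
    rw [mem_cj] at hv2
    have := h.opp g hg hm (g⁻¹ * v * g) hv2 (by
      have e : g * (g⁻¹ * v * g) * g⁻¹ = v := by group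
      rwa [e])
    have e : g * (g⁻¹ * v * g) * g⁻¹ = v := by group
    rwa [e] at this
  · intro v hv
    refine mem_inf.2 ⟨h.W01 hv, ?_⟩
    rw [mem_cj]
    have := h.W0n g⁻¹ (inv_mem hg) v hv
    rw [inv_inv] at this
    exact h.W01 this

theorem cj_le (h : Pl P W W1 W0 q) {g : G} (hg : g ∈ P) : cj g W1 ≤ W := by
  intro v hv
  rw [mem_cj] at hv
  have := h.Wn g hg _ (h.W1W hv)
  have e : g * (g⁻¹ * v * g) * g⁻¹ = v := by group
  rwa [e] at this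

theorem sup_conj (h : Pl P W W1 W0 q) [Finite G] {g : G} (hg : g ∈ P) (hm : Mv W1 g) :
    W1 ⊔ cj g W1 = W := by
  have hc : ∀ a ∈ W1, ∀ b ∈ cj g W1, a * b = b * a := fun a ha b hb =>
    h.Wc a (h.W1W ha) b (h.cj_le hg hb)
  have h1 := card_sup_comm hc
  rw [h.inter hg hm, card_cj] at h1
  refine Subgroup.eq_of_le_of_card_ge (sup_le h.W1W (h.cj_le hg)) ?_
  have hp : 0 < Nat.card W0 := Nat.card_pos
  have e : Nat.card ↥(W1 ⊔ cj g W1) * Nat.card W0 = Nat.card W * Nat.card W0 := by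
    rw [h1, h.card]
    nth_rw 2 [h.card1]
    ring
  exact (Nat.eq_of_mul_eq_mul_right hp e).ge

theorem split (h : Pl P W W1 W0 q) [Finite G] {g : G} (hg : g ∈ P) (hm : Mv W1 g) {v : G}
    (hv : v ∈ W) : ∃ a ∈ W1, ∃ b ∈ W1, v = a * (g * b * g⁻¹) := by
  rw [← h.sup_conj hg hm] at hv
  obtain ⟨a, ha, b, hb, rfl⟩ := mem_sup_comm (fun a ha b hb =>
    h.Wc a (h.W1W ha) b (h.cj_le hg hb)) hv
  rw [mem_cj] at hb
  exact ⟨a, ha, _, hb, by group⟩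

/-- A nontrivial transvection-like element with axis `W1^g ≠ W1` moves `W1`. -/
theorem moves (h : Pl P W W1 W0 q) [Finite G] {g b : G} (hg : g ∈ P) (hm : Mv W1 g)
    (hb1 : ∀ v ∈ W, b * v * b⁻¹ * v⁻¹ ∈ W1) (hb2 : ∀ v ∈ W1, b * v = v * b)
    (hb3 : ∃ v ∈ W, b * v * b⁻¹ * v⁻¹ ∉ W0) : Mv W1 (g * b * g⁻¹) := by
  by_contra hcon
  unfold Mv at hcon
  push Not at hcon
  set x := g * b * g⁻¹ with hx
  have key : ∀ v : G, x * v * x⁻¹ * v⁻¹ =
      g * (b * (g⁻¹ * v * g) * b⁻¹ * (g⁻¹ * v * g)⁻¹) * g⁻¹ := by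
    intro v
    rw [hx]; group
  have hgV : ∀ v ∈ W, g⁻¹ * v * g ∈ W := fun v hv => by
    have := h.Wn g⁻¹ (inv_mem hg) v hv
    rwa [inv_inv] at this
  have h1 : ∀ v ∈ W1, x * v * x⁻¹ * v⁻¹ ∈ W0 := by
    intro v hv
    have h2 : x * v * x⁻¹ * v⁻¹ ∈ W1 := mul_mem (hcon v hv) (inv_mem hv)
    rw [key v] at h2 ⊢
    exact h.opp g hg hm _ (hb1 _ (hgV v (h.W1W hv))) h2
  have h3 : ∀ v ∈ W, x * v * x⁻¹ * v⁻¹ ∈ W0 := by
    intro v hv
    obtain ⟨a, ha, c, hc, rfl⟩ := h.split hg hm hv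
    have e1 : x * (g * c * g⁻¹) * x⁻¹ = g * c * g⁻¹ := by
      have : x * (g * c * g⁻¹) * x⁻¹ = g * (b * c * b⁻¹) * g⁻¹ := by rw [hx]; group
      rw [this, hb2 c hc]; group
    have e2 : x * (a * (g * c * g⁻¹)) * x⁻¹ * (a * (g * c * g⁻¹))⁻¹ =
        x * a * x⁻¹ * (x * (g * c * g⁻¹) * x⁻¹) * (g * c * g⁻¹)⁻¹ * a⁻¹ := by group
    rw [e2, e1]
    have e3 : x * a * x⁻¹ * (g * c * g⁻¹) * (g * c * g⁻¹)⁻¹ * a⁻¹ = x * a * x⁻¹ * a⁻¹ := by group
    rw [e3]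
    exact h1 a ha
  obtain ⟨v, hv, hv0⟩ := hb3
  apply hv0
  have h4 := h3 (g * v * g⁻¹) (h.Wn g hg v hv)
  rw [key] at h4
  have h5 := h.W0n g⁻¹ (inv_mem hg) _ h4
  have e : g⁻¹ * (g * (b * (g⁻¹ * (g * v * g⁻¹) * g) * b⁻¹ * (g⁻¹ * (g * v * g⁻¹) * g)⁻¹) * g⁻¹) *
      g⁻¹⁻¹ = b * v * b⁻¹ * v⁻¹ := by group
  rwa [e] at h5

end Pl

/-! ### The input -/

/-- `C_V(J(T))`. -/
def V1 (T V : Subgroup G) : Subgroup G := V ⊓ centralizer (jj T : Set G)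

theorem mem_V1 {T V : Subgroup G} {v : G} :
    v ∈ V1 T V ↔ v ∈ V ∧ ∀ j ∈ jj T, j * v = v * j := by
  rw [V1, mem_inf, mem_centralizer_iff]
  rfl

/-- Input of the Baumann argument for several summands. -/
structure InK (H T Q V V0 : Subgroup G) {ι : Type} (N A : ι → Subgroup G) (q : ℕ) : Prop where
  TH : T ≤ H
  QT : Q ≤ T
  VQ : V ≤ Q
  Qn : ∀ h ∈ H, ∀ x ∈ Q, h * x * h⁻¹ ∈ Q
  Vn : ∀ h ∈ H, ∀ x ∈ V, h * x * h⁻¹ ∈ V
  Vsq : ∀ v ∈ V, v ^ 2 = 1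
  VcQ : ∀ x ∈ Q, ∀ v ∈ V, x * v = v * x
  cT : ∀ t ∈ T, (∀ v ∈ V, t * v = v * t) → t ∈ Q
  syl : ChoiceSit.Syl T H
  V0n : ∀ h ∈ H, ∀ x ∈ V0, h * x * h⁻¹ ∈ V0
  V0N : ∀ i, V0 ≤ N i
  NV : ∀ i, N i ≤ V
  Nperm : ∀ h ∈ H, ∀ i, ∃ j, cj h (N i) = N j
  Ninf : ∀ i j, i ≠ j → N i ⊓ N j ≤ V0
  Nsup : V ≤ ⨆ i, N i
  JN : ∀ a ∈ jj T, ∀ i, ∀ v ∈ N i, a * v * a⁻¹ ∈ N i
  V0J : ∀ a ∈ jj T, ∀ v ∈ V0, a * v = v * a
  card1 : ∀ i, Nat.card (N i) = Nat.card ↥(V1 T V ⊓ N i) * q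
  card0 : ∀ i, Nat.card ↥(V1 T V ⊓ N i) = Nat.card V0 * q
  one_lt : 1 < q
  AT : ∀ i, A i ∈ AA T
  Acent : ∀ i j, i ≠ j → ∀ a ∈ A i, ∀ v ∈ N j, a * v = v * a
  Anle : ∀ i, ¬ A i ≤ Q
  Acard : ∀ i, Nat.card (A i) = Nat.card ↥(A i ⊓ Q) * q
  full : ∀ i, ∀ b ∈ jj T, ∃ a ∈ A i, ∀ v ∈ N i, a * v * a⁻¹ = b * v * b⁻¹
  cb : ∀ i, ∀ b ∈ jj T, (∃ v ∈ N i, b * v ≠ v * b) → ∀ v ∈ N i, b * v = v * b → v ∈ V1 T V
  quad : ∀ i, ∀ b ∈ jj T, ∀ v ∈ N i, b * v * b⁻¹ * v⁻¹ ∈ V1 T V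
  faith : ∀ i, ∀ b ∈ jj T, (∃ v ∈ N i, b * v ≠ v * b) → ∃ v ∈ N i, b * v * b⁻¹ * v⁻¹ ∉ V0
  field : ∀ t ∈ T, (∀ v ∈ V1 T V, t * v = v * t) → t ∈ jj T ⊔ Q
  off : ∀ E ∈ AA T, Nat.card E * Nat.card ↥(V ⊓ centralizer (E : Set G)) =
    Nat.card ↥(E ⊓ Q) * Nat.card V
  opp : ∀ i, ∀ h ∈ H, cj h (N i) = N i → Mv (V1 T V ⊓ N i) h →
    ∀ v ∈ V1 T V ⊓ N i, h * v * h⁻¹ ∈ V1 T V ⊓ N i → h * v * h⁻¹ ∈ V0
  ne : ∀ i, ∃ h ∈ H, cj h (N i) = N i ∧ Mv (V1 T V ⊓ N i) h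
  max : ∀ X : Subgroup G, T ≤ X → X ≤ H → (∃ x ∈ X, Mv (V1 T V) x) → H ≤ X

namespace InK

variable {H T Q V V0 : Subgroup G} {ι : Type} {N A : ι → Subgroup G} {q : ℕ}

theorem Vcomm (h : InK H T Q V V0 N A q) : ∀ v ∈ V, ∀ w ∈ V, v * w = w * v :=
  fun v hv w hw => h.VcQ v (h.VQ hv) w hw

theorem Velem (h : InK H T Q V V0 N A q) : IsElementaryAbelian 2 V :=
  isElementaryAbelian_iff.2 ⟨h.Vcomm, h.Vsq⟩

theorem V1V : V1 T V ≤ V := inf_le_left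

theorem Q_norm (h : InK H T Q V V0 N A q) [Finite G] : H ≤ normalizer (Q : Set G) := fun g hg =>
  mem_normalizer_of_cj_le (by
    rintro _ ⟨x, hx, rfl⟩
    exact h.Qn g hg x hx)

theorem V0V1 (h : InK H T Q V V0 N A q) (i : ι) : V0 ≤ V1 T V ⊓ N i := fun v hv =>
  ⟨mem_V1.2 ⟨h.NV i (h.V0N i hv), fun j hj => h.V0J j hj v hv⟩, h.V0N i hv⟩

theorem cent_inf (h : InK H T Q V V0 N A q) [Finite G] {E : Subgroup G} (hE : E ∈ AA T) :
    (E ⊓ Q) ⊓ V = V ⊓ centralizer (E : Set G) := by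
  apply le_antisymm
  · rintro v ⟨⟨hvE, -⟩, hvV⟩
    exact ⟨hvV, mem_centralizer_iff.2 fun a ha => elem_comm hE.1 a ha v hvE⟩
  · rintro v ⟨hvV, hvc⟩
    have hvE : v ∈ E := mem_AA_of_comm hE (h.QT (h.VQ hvV)) (h.Vsq v hvV)
      fun a ha => mem_centralizer_iff.1 hvc a ha
    exact ⟨⟨hvE, h.VQ hvV⟩, hvV⟩

/-- `(E ∩ Q) V` is again a member of `A(T)`. -/
theorem replace (h : InK H T Q V V0 N A q) [Finite G] {E : Subgroup G} (hE : E ∈ AA T) :
    (E ⊓ Q) ⊔ V ∈ AA T := by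
  have hc : ∀ a ∈ E ⊓ Q, ∀ v ∈ V, a * v = v * a := fun a ha v hv => h.VcQ a ha.2 v hv
  have h1 : IsElementaryAbelian 2 ((E ⊓ Q) ⊔ V : Subgroup G) :=
    isElementaryAbelian_sup (isElementaryAbelian_mono hE.1 inf_le_left) h.Velem
      fun v hv => mem_centralizer_iff.2 fun a ha => hc a ha v hv
  rw [mem_AA_iff]
  refine ⟨h1, sup_le (inf_le_right.trans h.QT) (h.VQ.trans h.QT), ?_⟩
  have h2 := card_sup_comm hc
  rw [h.cent_inf hE, ← h.off E hE] at h2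
  have h3 : Nat.card ↥((E ⊓ Q) ⊔ V : Subgroup G) = Nat.card E :=
    Nat.eq_of_mul_eq_mul_right Nat.card_pos h2
  rw [h3, mm_eq hE]

theorem exists_AQ (h : InK H T Q V V0 N A q) [Finite G] : ∃ E ∈ AA T, E ≤ Q ∧ V ≤ E := by
  obtain ⟨E, hE⟩ := AA_nonempty T
  exact ⟨_, h.replace hE, sup_le inf_le_right h.VQ, le_sup_right⟩

theorem Z_le_Q (h : InK H T Q V V0 N A q) [Finite G] : zj T ≤ Q := by
  obtain ⟨E, hE, hEQ, -⟩ := h.exists_AQ
  exact (zj_le_AA hE).trans hEQ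

theorem mm_le (h : InK H T Q V V0 N A q) [Finite G] : mm T ≤ mm Q := by
  obtain ⟨E, hE, hEQ, -⟩ := h.exists_AQ
  rw [mm_eq hE]
  exact card_le_mm hE.1 hEQ

theorem AA_of_le (h : InK H T Q V V0 N A q) {E : Subgroup G} (hE : E ∈ AA T)
    (hEQ : E ≤ Q) : E ∈ AA Q :=
  ⟨hE.1, hEQ, fun B hB hBQ => hE.2.2 B hB (hBQ.trans h.QT)⟩

theorem jjQ_le (h : InK H T Q V V0 N A q) [Finite G] : jj Q ≤ jj T := jj_mono h.QT h.mm_le

theorem Z_le_zjQ (h : InK H T Q V V0 N A q) [Finite G] : zj T ≤ zj Q := by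
  intro z hz
  obtain ⟨E, hE, hEQ, -⟩ := h.exists_AQ
  have hz' := mem_zj.1 hz
  exact mem_zj.2 ⟨le_jj (h.AA_of_le hE hEQ) (zj_le_AA hE hz), hz'.2.1,
    fun y hy => hz'.2.2 y (h.jjQ_le hy)⟩

theorem V_le_zjQ (h : InK H T Q V V0 N A q) [Finite G] : V ≤ zj Q := by
  intro v hv
  obtain ⟨E, hE, hEQ, hVE⟩ := h.exists_AQ
  exact mem_zj.2 ⟨le_jj (h.AA_of_le hE hEQ) (hVE hv), h.Vsq v hv,
    fun y hy => h.VcQ y (jj_le Q hy) v hv⟩

/-- `zj Q = V C_{zj Q}(E)` for every `E ∈ A(T)`. -/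
theorem split_A (h : InK H T Q V V0 N A q) [Finite G] {E : Subgroup G} (hE : E ∈ AA T) {y : G}
    (hy : y ∈ zj Q) : ∃ v ∈ V, ∃ c ∈ zj Q, (∀ a ∈ E, a * c = c * a) ∧ y = v * c := by
  have hE' := h.replace hE
  have hE'Q : (E ⊓ Q) ⊔ V ≤ Q := sup_le inf_le_right h.VQ
  have hEj : E ⊓ Q ≤ jj Q := le_sup_left.trans (le_jj (h.AA_of_le hE' hE'Q))
  have hc : ∀ a ∈ E ⊓ Q, ∀ z ∈ zj Q, a * z = z * a := fun a ha z hz =>
    (mem_zj.1 hz).2.2 a (hEj ha)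
  have h1 : IsElementaryAbelian 2 ((E ⊓ Q) ⊔ zj Q : Subgroup G) :=
    isElementaryAbelian_sup (isElementaryAbelian_mono hE.1 inf_le_left) (Bau.In.zj_elem Q)
      fun v hv => mem_centralizer_iff.2 fun a ha => hc a ha v hv
  have h2 := hE.2.2 _ h1 (sup_le (inf_le_right.trans h.QT) ((Bau.In.zj_le Q).trans h.QT))
  have h3 := card_sup_comm hc
  set C := (E ⊓ Q) ⊓ zj Q with hC
  have h4 : Nat.card ↥(E ⊓ Q) * Nat.card (zj Q) ≤ Nat.card E * Nat.card C := by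
    rw [← h3]; exact Nat.mul_le_mul_right _ h2
  have hVC : ∀ v ∈ V, ∀ c ∈ C, v * c = c * v := fun v hv c hc' => (h.VcQ c hc'.1.2 v hv).symm
  have h5 := card_sup_comm hVC
  have h6 : V ⊓ C = V ⊓ centralizer (E : Set G) := by
    rw [hC, ← h.cent_inf hE, inf_comm, inf_right_comm]
    exact inf_eq_left.2 (inf_le_right.trans h.V_le_zjQ)
  rw [h6] at h5
  have h7 := h.off E hE
  have hVC2 : V ⊔ C = zj Q := by
    refine Subgroup.eq_of_le_of_card_ge (sup_le h.V_le_zjQ inf_le_right) ?_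
    have hp : 0 < Nat.card ↥(E ⊓ Q) * Nat.card ↥(V ⊓ centralizer (E : Set G)) :=
      Nat.mul_pos Nat.card_pos Nat.card_pos
    refine Nat.le_of_mul_le_mul_right ?_ hp
    calc Nat.card (zj Q) * (Nat.card ↥(E ⊓ Q) * Nat.card ↥(V ⊓ centralizer (E : Set G)))
        = (Nat.card ↥(E ⊓ Q) * Nat.card (zj Q)) * Nat.card ↥(V ⊓ centralizer (E : Set G)) := by
          ring
      _ ≤ (Nat.card E * Nat.card C) * Nat.card ↥(V ⊓ centralizer (E : Set G)) :=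
          Nat.mul_le_mul_right _ h4
      _ = (Nat.card E * Nat.card ↥(V ⊓ centralizer (E : Set G))) * Nat.card C := by ring
      _ = (Nat.card ↥(E ⊓ Q) * Nat.card V) * Nat.card C := by rw [h7]
      _ = Nat.card ↥(E ⊓ Q) * (Nat.card ↥(V ⊔ C) *
            Nat.card ↥(V ⊓ centralizer (E : Set G))) := by rw [h5]; ring
      _ = _ := by ring
  rw [← hVC2] at hy
  obtain ⟨v, hv, c, hc', rfl⟩ := mem_sup_comm hVC hy
  exact ⟨v, hv, c, hc'.2, fun a ha => elem_comm hE.1 a ha c hc'.1.1, rfl⟩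

/-- `[zj Q, a] ≤ {[a, v]}` for `a ∈ E ∈ A(T)`. -/
theorem comm_eq (h : InK H T Q V V0 N A q) [Finite G] {E : Subgroup G} (hE : E ∈ AA T) {a y : G}
    (ha : a ∈ E) (hy : y ∈ zj Q) : ∃ v ∈ V, a * y * a⁻¹ * y⁻¹ = a * v * a⁻¹ * v⁻¹ := by
  obtain ⟨v, hv, c, hc, hac, rfl⟩ := h.split_A hE hy
  refine ⟨v, hv, ?_⟩
  have e : a * (v * c) * a⁻¹ * (v * c)⁻¹ = a * v * a⁻¹ * (a * c * a⁻¹) * c⁻¹ * v⁻¹ := by group
  have e2 : a * c * a⁻¹ = c := by rw [hac a ha]; group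
  rw [e, e2]
  group

theorem zjQ_norm (h : InK H T Q V V0 N A q) [Finite G] {g : G} (hg : g ∈ H) {y : G}
    (hy : y ∈ zj Q) : g * y * g⁻¹ ∈ zj Q :=
  (mem_normalizer_iff.1 (normalizer_le_of_cj (F := zj) zj_cj Q (h.Q_norm hg)) y).1 hy

theorem N_le_normalizer (h : InK H T Q V V0 N A q) [Finite G] (i : ι) :
    jj T ≤ normalizer (N i : Set G) := fun a ha => mem_normalizer_of_cj_le (by
    rintro _ ⟨v, hv, rfl⟩
    exact h.JN a ha i v hv)

/-- `A i` acts only on `N i`. -/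
theorem A_act (h : InK H T Q V V0 N A q) {i : ι} {a v : G} (ha : a ∈ A i) (hv : v ∈ V) :
    a * v * a⁻¹ * v⁻¹ ∈ N i := by
  have haH : a ∈ H := h.TH ((h.AT i).2.1 ha)
  have haJ : a ∈ jj T := le_jj (h.AT i) ha
  let S : Subgroup G :=
    { carrier := {w | w ∈ V ∧ a * w * a⁻¹ * w⁻¹ ∈ N i}
      mul_mem' := by
        rintro x y ⟨hx, hx'⟩ ⟨hy, hy'⟩
        refine ⟨mul_mem hx hy, ?_⟩
        have hyV : a * y * a⁻¹ * y⁻¹ ∈ V := mul_mem (h.Vn a haH y hy) (inv_mem hy)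
        have e : a * (x * y) * a⁻¹ * (x * y)⁻¹ =
          (a * x * a⁻¹) * ((a * y * a⁻¹ * y⁻¹) * x⁻¹) := by group
        rw [e, h.Vcomm _ hyV _ (inv_mem hx), ← mul_assoc]
        exact mul_mem hx' hy'
      one_mem' := ⟨one_mem _, by simp⟩
      inv_mem' := by
        rintro x ⟨hx, hx'⟩
        refine ⟨inv_mem hx, ?_⟩
        have hxV : a * x * a⁻¹ ∈ V := h.Vn a haH x hx
        have e : a * x⁻¹ * a⁻¹ * x⁻¹⁻¹ = (a * x * a⁻¹)⁻¹ * x := by group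
        rw [e, h.Vcomm _ (inv_mem hxV) _ hx]
        have e2 : x * (a * x * a⁻¹)⁻¹ = (a * x * a⁻¹ * x⁻¹)⁻¹ := by group
        rw [e2]
        exact inv_mem hx' }
  have hS : (⨆ j, N j) ≤ S := by
    refine iSup_le fun j w hw => ⟨h.NV j hw, ?_⟩
    by_cases hij : i = j
    · subst hij
      exact mul_mem (h.JN a haJ i w hw) (inv_mem hw)
    · have e : a * w * a⁻¹ * w⁻¹ = 1 := by rw [h.Acent i j hij a ha w hw]; group
      rw [e]; exact one_mem _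
  exact (hS (h.Nsup hv)).2

theorem jj_act (h : InK H T Q V V0 N A q) [Finite G] : ∀ j ∈ jj T, ∀ y ∈ zj Q,
    j * y * j⁻¹ * y⁻¹ ∈ V := by
  let S : Subgroup G :=
    { carrier := {g | g ∈ H ∧ ∀ y ∈ zj Q, g * y * g⁻¹ * y⁻¹ ∈ V}
      mul_mem' := by
        rintro a b ⟨ha, ha'⟩ ⟨hb, hb'⟩
        refine ⟨mul_mem ha hb, fun y hy => ?_⟩
        have e : a * b * y * (a * b)⁻¹ * y⁻¹ =
          (a * (b * y * b⁻¹ * y⁻¹) * a⁻¹) * (a * y * a⁻¹ * y⁻¹) := by group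
        rw [e]
        exact mul_mem (h.Vn a ha _ (hb' y hy)) (ha' y hy)
      one_mem' := ⟨one_mem _, fun y _ => by simp⟩
      inv_mem' := by
        rintro a ⟨ha, ha'⟩
        refine ⟨inv_mem ha, fun y hy => ?_⟩
        have e : a⁻¹ * y * a⁻¹⁻¹ * y⁻¹ = a⁻¹ * (a * y * a⁻¹ * y⁻¹)⁻¹ * a⁻¹⁻¹ := by group
        rw [e]
        exact h.Vn _ (inv_mem ha) _ (inv_mem (ha' y hy)) }
  have hS : jj T ≤ S := by
    rw [jj_eq]
    refine sSup_le fun E hE => fun a ha => ⟨h.TH (hE.2.1 ha), fun y hy => ?_⟩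
    obtain ⟨v, hv, e⟩ := h.comm_eq hE ha hy
    rw [e]
    exact mul_mem (h.Vn a (h.TH (hE.2.1 ha)) v hv) (inv_mem hv)
  exact fun j hj => (hS hj).2

/-! ### The planes `N i` -/

/-- The stabiliser of `N i` in `H`. -/
def St (H : Subgroup G) (W : Subgroup G) : Subgroup G := H ⊓ normalizer (W : Set G)

theorem mem_St {W : Subgroup G} {g : G} : g ∈ St H W ↔ g ∈ H ∧ cj g W = W := by
  rw [St, mem_inf, mem_normalizer_iff_cj]

theorem pl (h : InK H T Q V V0 N A q) (i : ι) :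
    Pl (St H (N i)) (N i) (V1 T V ⊓ N i) V0 q where
  Wn _ hg x hx := (mem_normalizer_iff.1 hg.2 x).1 hx
  Wc v hv w hw := h.Vcomm v (h.NV i hv) w (h.NV i hw)
  W1W := inf_le_right
  W01 := h.V0V1 i
  W0n g hg x hx := h.V0n g hg.1 x hx
  card := h.card1 i
  card1 := h.card0 i
  opp g hg hm v hv hv' := h.opp i g hg.1 (mem_St.1 hg).2 hm v hv hv'

theorem A_exists (h : InK H T Q V V0 N A q) [Finite G] (i : ι) :
    ∃ a ∈ A i, a ∉ Q ∧ ∃ v ∈ N i, a * v ≠ v * a := by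
  obtain ⟨a, ha, haQ⟩ := SetLike.not_le_iff_exists.1 (h.Anle i)
  refine ⟨a, ha, haQ, ?_⟩
  by_contra hc
  push Not at hc
  apply haQ
  refine h.cT a ((h.AT i).2.1 ha) fun v hv => ?_
  have h1 : (⨆ j, N j) ≤ centralizer ({a} : Set G) := by
    refine iSup_le fun j w hw => mem_centralizer_iff.2 fun x hx => ?_
    rw [show x = a from hx]
    by_cases hij : i = j
    · subst hij; exact hc w hw
    · exact h.Acent i j hij a ha w hw
  exact mem_centralizer_iff.1 (h1 (h.Nsup hv)) a rfl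

theorem quad_i (h : InK H T Q V V0 N A q) {i : ι} {b v : G} (hb : b ∈ jj T) (hv : v ∈ N i) :
    b * v * b⁻¹ * v⁻¹ ∈ V1 T V ⊓ N i :=
  mem_inf.2 ⟨h.quad i b hb v hv, mul_mem (h.JN b hb i v hv) (inv_mem hv)⟩

theorem moves_jj (h : InK H T Q V V0 N A q) [Finite G] {i : ι} {g b : G} (hg : g ∈ St H (N i))
    (hm : Mv (V1 T V ⊓ N i) g) (hb : b ∈ jj T) (hbN : ∃ v ∈ N i, b * v ≠ v * b) :
    Mv (V1 T V ⊓ N i) (g * b * g⁻¹) :=
  (h.pl i).moves hg hm (fun _ hv => h.quad_i hb hv) (fun _ hv => (mem_V1.1 hv.1).2 b hb)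
    (h.faith i b hb hbN)

/-- An element of the stabiliser of `N i` moving the line moves `V1`. -/
theorem mv_V1 {i : ι} {g : G} (hg : g ∈ St H (N i))
    (hm : Mv (V1 T V ⊓ N i) g) : Mv (V1 T V) g := by
  obtain ⟨v, hv, hv'⟩ := hm
  exact ⟨v, hv.1, fun h1 => hv' ⟨h1, (mem_normalizer_iff.1 hg.2 v).1 hv.2⟩⟩

/-! ### `Y = Z V` -/

theorem ZcV (h : InK H T Q V V0 N A q) [Finite G] : ∀ z ∈ zj T, ∀ v ∈ V, z * v = v * z :=
  fun z hz v hv => h.VcQ z (h.Z_le_Q hz) v hv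

theorem V1_le_Z (h : InK H T Q V V0 N A q) [Finite G] : V1 T V ≤ zj T := by
  intro v hv
  have hv' := mem_V1.1 hv
  exact mem_zj.2 ⟨mem_jj_of_comm (h.QT (h.VQ hv'.1)) (h.Vsq v hv'.1) hv'.2, h.Vsq v hv'.1, hv'.2⟩

theorem Z_inf_V (h : InK H T Q V V0 N A q) [Finite G] : zj T ⊓ V = V1 T V := by
  apply le_antisymm
  · rintro z ⟨hz, hv⟩
    exact mem_V1.2 ⟨hv, (mem_zj.1 hz).2.2⟩
  · exact fun v hv => ⟨h.V1_le_Z hv, hv.1⟩

theorem Z_inf_N (h : InK H T Q V V0 N A q) [Finite G] (i : ι) :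
    zj T ⊓ N i = V1 T V ⊓ N i := by
  rw [← h.Z_inf_V, inf_assoc, inf_eq_right.2 (h.NV i)]

/-- `Y` is normal in `H`. -/
theorem Y_norm (h : InK H T Q V V0 N A q) [Finite G] [Nonempty ι] :
    ∀ g ∈ H, ∀ y ∈ zj T ⊔ V, g * y * g⁻¹ ∈ zj T ⊔ V := by
  let M : Subgroup G := H ⊓ normalizer ((zj T ⊔ V : Subgroup G) : Set G)
  have hTM : T ≤ M := by
    intro t ht
    refine ⟨h.TH ht, mem_normalizer_of_cj_le ?_⟩
    rw [cj, Subgroup.map_sup]
    refine sup_le ?_ ?_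
    · rintro _ ⟨z, hz, rfl⟩
      exact mem_sup_left (Bau.In.T_norm_Z T ht hz)
    · rintro _ ⟨v, hv, rfl⟩
      exact mem_sup_right (h.Vn t (h.TH ht) v hv)
  obtain ⟨i⟩ := ‹Nonempty ι›
  obtain ⟨g, hg, hgN, hm⟩ := h.ne i
  obtain ⟨a, ha, haQ, haN⟩ := h.A_exists i
  have haJ : a ∈ jj T := le_jj (h.AT i) ha
  have haH : a ∈ H := h.TH (jj_le T haJ)
  have hgS : g ∈ St H (N i) := mem_St.2 ⟨hg, hgN⟩
  have haS : a ∈ St H (N i) := ⟨haH, h.N_le_normalizer i haJ⟩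
  have hxS : g * a * g⁻¹ ∈ St H (N i) := mul_mem (mul_mem hgS haS) (inv_mem hgS)
  have hx : g * a * g⁻¹ ∈ M := by
    have hxH : g * a * g⁻¹ ∈ H := hxS.1
    refine ⟨hxH, mem_normalizer_of_cj_le ?_⟩
    rw [cj, Subgroup.map_sup]
    refine sup_le ?_ ?_
    · rintro _ ⟨z, hz, rfl⟩
      simp only [MulEquiv.toMonoidHom_eq_coe, MonoidHom.coe_coe, MulAut.conj_apply]
      have hz1 : g⁻¹ * z * g ∈ zj Q := by
        have := h.zjQ_norm (inv_mem hg) (h.Z_le_zjQ hz)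
        rwa [inv_inv] at this
      have h2 := h.Vn g hg _ (h.jj_act a haJ _ hz1)
      have e : g * a * g⁻¹ * z * (g * a * g⁻¹)⁻¹ =
        g * (a * (g⁻¹ * z * g) * a⁻¹ * (g⁻¹ * z * g)⁻¹) * g⁻¹ * z := by group
      rw [e]
      exact mul_mem (mem_sup_right h2) (mem_sup_left hz)
    · rintro _ ⟨v, hv, rfl⟩
      exact mem_sup_right (h.Vn _ hxH v hv)
  have hH := h.max M hTM inf_le_left ⟨_, hx, mv_V1 hxS (h.moves_jj hgS hm haJ haN)⟩
  exact fun g hg y hy => (mem_normalizer_iff.1 (hH hg).2 y).1 hy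

theorem bau_dec (h : InK H T Q V V0 N A q) [Finite G] {b : G} (hb : b ∈ bau T) :
    ∃ j ∈ jj T, ∃ x ∈ Q, b = j * x := by
  have h1 := h.field b (bau_le T hb) fun v hv => ((mem_bau.1 hb).2 v (h.V1_le_Z hv)).symm
  exact mem_sup_norm (fun j hj => h.Q_norm (h.TH (jj_le T hj))) h1

/-- The action of `b ∈ B` on `V` is the action of an element of `J(T)`. -/
theorem bau_act (h : InK H T Q V V0 N A q) [Finite G] {b : G} (hb : b ∈ bau T) :
    ∃ j ∈ jj T, ∀ v ∈ V, b * v * b⁻¹ = j * v * j⁻¹ := by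
  obtain ⟨j, hj, x, hx, rfl⟩ := h.bau_dec hb
  refine ⟨j, hj, fun v hv => ?_⟩
  have e : j * x * v * (j * x)⁻¹ = j * (x * v * x⁻¹) * j⁻¹ := by group
  have e2 : x * v * x⁻¹ = v := by rw [h.VcQ x hx v hv]; group
  rw [e, e2]

theorem bau_N (h : InK H T Q V V0 N A q) [Finite G] {i : ι} {b v : G} (hb : b ∈ bau T)
    (hv : v ∈ N i) : b * v * b⁻¹ ∈ N i := by
  obtain ⟨j, hj, e⟩ := h.bau_act hb
  rw [e v (h.NV i hv)]
  exact h.JN j hj i v hv

theorem bau_V1 (h : InK H T Q V V0 N A q) [Finite G] {b v : G} (hb : b ∈ bau T)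
    (hv : v ∈ V1 T V) : b * v = v * b := ((mem_bau.1 hb).2 v (h.V1_le_Z hv)).symm

theorem bau_quad (h : InK H T Q V V0 N A q) [Finite G] {i : ι} {b v : G} (hb : b ∈ bau T)
    (hv : v ∈ N i) : b * v * b⁻¹ * v⁻¹ ∈ V1 T V ⊓ N i := by
  obtain ⟨j, hj, e⟩ := h.bau_act hb
  rw [e v (h.NV i hv)]
  exact h.quad_i hj hv

theorem comm_iff {b v : G} : b * v = v * b ↔ b * v * b⁻¹ = v := by
  constructor
  · intro h; rw [h]; group
  · intro h
    calc b * v = b * v * b⁻¹ * b := by group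
      _ = v * b := by rw [h]

/-- `Q_L = C_B(N i)`. -/
def QL (T N : Subgroup G) : Subgroup G := bau T ⊓ centralizer (N : Set G)

theorem mem_QL {T N : Subgroup G} {x : G} :
    x ∈ QL T N ↔ x ∈ bau T ∧ ∀ v ∈ N, x * v = v * x := by
  rw [QL, mem_inf, mem_centralizer_iff]
  constructor
  · rintro ⟨h1, h2⟩; exact ⟨h1, fun v hv => (h2 v hv).symm⟩
  · rintro ⟨h1, h2⟩; exact ⟨h1, fun v hv => (h2 v hv).symm⟩

theorem not_QL {T N : Subgroup G} {x : G} (hx : x ∈ bau T) (hx' : x ∉ QL T N) :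
    ∃ v ∈ N, x * v ≠ v * x := by
  by_contra hc
  push Not at hc
  exact hx' (mem_QL.2 ⟨hx, hc⟩)

theorem bau_moves (h : InK H T Q V V0 N A q) [Finite G] {i : ι} {g b : G} (hg : g ∈ St H (N i))
    (hm : Mv (V1 T V ⊓ N i) g) (hb : b ∈ bau T) (hbN : b ∉ QL T (N i)) :
    Mv (V1 T V ⊓ N i) (g * b * g⁻¹) := by
  obtain ⟨w, hw, hwb⟩ := not_QL hb hbN
  obtain ⟨j, hj, e⟩ := h.bau_act hb
  have hjN : ∃ v ∈ N i, j * v ≠ v * j := ⟨w, hw, fun h1 => hwb (by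
    rw [comm_iff] at h1 ⊢
    rw [e w (h.NV i hw)]; exact h1)⟩
  refine (h.pl i).moves hg hm (fun v hv => h.bau_quad hb hv) (fun v hv => h.bau_V1 hb hv.1) ?_
  obtain ⟨v, hv, hv0⟩ := h.faith i j hj hjN
  exact ⟨v, hv, by rwa [e v (h.NV i hv)]⟩

theorem N_cent (h : InK H T Q V V0 N A q) [Finite G] {i : ι} {b v : G} (hb : b ∈ bau T)
    (hbN : b ∉ QL T (N i)) (hv : v ∈ N i) (hbv : b * v = v * b) : v ∈ V1 T V := by
  obtain ⟨w, hw, hwb⟩ := not_QL hb hbN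
  obtain ⟨j, hj, e⟩ := h.bau_act hb
  refine h.cb i j hj ⟨w, hw, fun h1 => hwb ?_⟩ v hv ?_
  · rw [comm_iff] at h1 ⊢
    rw [e w (h.NV i hw)]; exact h1
  · rw [comm_iff] at hbv ⊢
    rw [← e v (h.NV i hv)]; exact hbv

/-! ### `V_L = Z N i` -/

theorem ZcN (h : InK H T Q V V0 N A q) [Finite G] (i : ι) :
    ∀ z ∈ zj T, ∀ v ∈ N i, z * v = v * z :=
  fun z hz v hv => h.ZcV z hz v (h.NV i hv)

/-- `V_L = Z N`. -/
def VL (T N : Subgroup G) : Subgroup G := zj T ⊔ N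

theorem mem_VL (h : InK H T Q V V0 N A q) [Finite G] {i : ι} {y : G} (hy : y ∈ VL T (N i)) :
    ∃ z ∈ zj T, ∃ v ∈ N i, y = z * v := mem_sup_comm (h.ZcN i) hy

theorem VL_elem (h : InK H T Q V V0 N A q) [Finite G] (i : ι) :
    IsElementaryAbelian 2 (VL T (N i)) :=
  isElementaryAbelian_sup (Bau.In.zj_elem T) (isElementaryAbelian_mono h.Velem (h.NV i))
    fun v hv => mem_centralizer_iff.2 fun z hz => h.ZcN i z hz v hv

theorem VL_le_Q (h : InK H T Q V V0 N A q) [Finite G] (i : ι) : VL T (N i) ≤ Q :=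
  sup_le h.Z_le_Q ((h.NV i).trans h.VQ)

/-- `C_{V_L}(b) = Z` for `b ∈ B - Q_L`. -/
theorem cent_VL (h : InK H T Q V V0 N A q) [Finite G] {i : ι} {b y : G} (hb : b ∈ bau T)
    (hbN : b ∉ QL T (N i)) (hy : y ∈ VL T (N i)) (hby : b * y = y * b) : y ∈ zj T := by
  obtain ⟨z, hz, v, hv, rfl⟩ := h.mem_VL hy
  refine mul_mem hz (h.V1_le_Z (h.N_cent hb hbN hv ?_))
  have hbz : z * b = b * z := (mem_bau.1 hb).2 z hz
  have e2 : b * (z * v) * b⁻¹ = z * (b * v * b⁻¹) := by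
    calc b * (z * v) * b⁻¹ = (b * z) * v * b⁻¹ := by group
      _ = (z * b) * v * b⁻¹ := by rw [hbz]
      _ = _ := by group
  rw [comm_iff] at hby ⊢
  rw [e2] at hby
  exact mul_left_cancel hby

theorem mem_QL_iff (h : InK H T Q V V0 N A q) [Finite G] {i : ι} {x : G} :
    x ∈ QL T (N i) ↔ x ∈ bau T ∧ ∀ y ∈ VL T (N i), x * y = y * x := by
  rw [mem_QL]
  refine and_congr_right fun hx => ⟨fun h1 y hy => ?_, fun h1 v hv => h1 v (mem_sup_right hv)⟩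
  obtain ⟨z, hz, v, hv, rfl⟩ := h.mem_VL hy
  have e1 : z * x = x * z := (mem_bau.1 hx).2 z hz
  calc x * (z * v) = (x * z) * v := by group
    _ = z * (x * v) := by rw [← e1]; group
    _ = z * v * x := by rw [h1 v hv]; group

theorem VL_le_bau (h : InK H T Q V V0 N A q) [Finite G] (i : ι) : VL T (N i) ≤ bau T := by
  intro y hy
  refine mem_bau.2 ⟨h.QT (h.VL_le_Q i hy), fun z hz => ?_⟩
  exact elem_comm (h.VL_elem i) z (mem_sup_left hz) y hy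

theorem VL_le_QL (h : InK H T Q V V0 N A q) [Finite G] (i : ι) : VL T (N i) ≤ QL T (N i) :=
  fun y hy => h.mem_QL_iff.2 ⟨h.VL_le_bau i hy, fun w hw => elem_comm (h.VL_elem i) y hy w hw⟩

theorem card_VL (h : InK H T Q V V0 N A q) [Finite G] (i : ι) :
    Nat.card (VL T (N i)) = Nat.card (zj T) * q := by
  have h1 := card_sup_comm (h.ZcN i)
  rw [h.Z_inf_N, h.card1 i] at h1
  have hp : 0 < Nat.card ↥(V1 T V ⊓ N i) := Nat.card_pos
  have e : Nat.card (VL T (N i)) * Nat.card ↥(V1 T V ⊓ N i) =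
      Nat.card (zj T) * q * Nat.card ↥(V1 T V ⊓ N i) := by
    rw [VL, h1]; ring
  exact Nat.eq_of_mul_eq_mul_right hp e

/-- `B = A_i Q_L`. -/
theorem bau_eq (h : InK H T Q V V0 N A q) [Finite G] {i : ι} {b : G} (hb : b ∈ bau T) :
    ∃ a ∈ A i, ∃ x ∈ QL T (N i), b = a * x := by
  obtain ⟨j, hj, e⟩ := h.bau_act hb
  obtain ⟨a, ha, e2⟩ := h.full i j hj
  have haB : a ∈ bau T := jj_le_bau T (le_jj (h.AT i) ha)
  refine ⟨a, ha, a⁻¹ * b, mem_QL.2 ⟨mul_mem (inv_mem haB) hb, fun v hv => ?_⟩, by group⟩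
  rw [comm_iff]
  have e3 : a⁻¹ * b * v * (a⁻¹ * b)⁻¹ = a⁻¹ * (b * v * b⁻¹) * a := by group
  rw [e3, e v (h.NV i hv), ← e2 v hv]
  group

theorem card_bau (h : InK H T Q V V0 N A q) [Finite G] (i : ι) :
    Nat.card (bau T) = Nat.card (QL T (N i)) * q := by
  have hAB : A i ≤ bau T := (le_jj (h.AT i)).trans (jj_le_bau T)
  have h1 := Cfsg.Agent.Lib.ProductSet.card_mul_card_inf (A i) (QL T (N i))
  have h2 : (A i : Set G) * ((QL T (N i) : Subgroup G) : Set G) =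
      ((bau T : Subgroup G) : Set G) := by
    ext b
    constructor
    · rintro ⟨a, ha, x, hx, rfl⟩
      exact mul_mem (hAB ha) (mem_QL.1 hx).1
    · intro hb
      obtain ⟨a, ha, x, hx, rfl⟩ := h.bau_eq (i := i) hb
      exact ⟨a, ha, x, hx, rfl⟩
  have h3 : A i ⊓ QL T (N i) = A i ⊓ Q := by
    apply le_antisymm
    · rintro a ⟨ha, ha2⟩
      refine ⟨ha, ?_⟩
      by_contra haQ
      have hc := (mem_QL.1 ha2).2
      apply haQ
      refine h.cT a ((h.AT i).2.1 ha) fun v hv => ?_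
      have h4 : (⨆ j, N j) ≤ centralizer ({a} : Set G) := by
        refine iSup_le fun j w hw => mem_centralizer_iff.2 fun x hx => ?_
        rw [show x = a from hx]
        by_cases hij : i = j
        · subst hij; exact hc w hw
        · exact h.Acent i j hij a ha w hw
      exact mem_centralizer_iff.1 (h4 (h.Nsup hv)) a rfl
    · rintro a ⟨ha, ha2⟩
      exact ⟨ha, mem_QL.2 ⟨hAB ha, fun v hv => h.VcQ a ha2 v (h.NV i hv)⟩⟩
  rw [h3, h.Acard i] at h1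
  have hp : 0 < Nat.card ↥(A i ⊓ Q) := Nat.card_pos
  have e : Nat.card ((A i : Set G) * ((QL T (N i) : Subgroup G) : Set G) : Set G) =
    Nat.card (bau T) := by
    rw [h2]; rfl
  rw [e] at h1
  have e2 : Nat.card (bau T) * Nat.card ↥(A i ⊓ Q) =
      Nat.card (QL T (N i)) * q * Nat.card ↥(A i ⊓ Q) := by
    rw [h1]; ring
  exact Nat.eq_of_mul_eq_mul_right hp e2

theorem bau_sq (h : InK H T Q V V0 N A q) [Finite G] {i : ι} {b : G} (hb : b ∈ bau T) :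
    b * b ∈ QL T (N i) := by
  refine mem_QL.2 ⟨mul_mem hb hb, fun v hv => ?_⟩
  obtain ⟨a, ha, x, hx, e⟩ := h.bau_eq (i := i) hb
  have hxc : ∀ w ∈ N i, x * w * x⁻¹ = w := fun w hw => comm_iff.1 ((mem_QL.1 hx).2 w hw)
  have haa : a * a = 1 := by have := elem_sq (h.AT i).1 a ha; rwa [pow_two] at this
  have h1 : ∀ w ∈ N i, b * w * b⁻¹ = a * w * a⁻¹ := fun w hw => by
    rw [e]
    have : a * x * w * (a * x)⁻¹ = a * (x * w * x⁻¹) * a⁻¹ := by group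
    rw [this, hxc w hw]
  rw [comm_iff]
  have e2 : b * b * v * (b * b)⁻¹ = b * (b * v * b⁻¹) * b⁻¹ := by group
  rw [e2, h1 _ (h.bau_N hb hv), h1 v hv]
  have e3 : a * (a * v * a⁻¹) * a⁻¹ = (a * a) * v * (a * a)⁻¹ := by group
  rw [e3, haa]; group

end InK

end Cfsg.Agent.Omega.SQ1.BauK

end

section


/-!
# SQ1, one block, `b = 1`, `q ≥ 4`: the group `L` (text 2, (4.4))

`L = ⟨B, B^g⟩` (for any `g ∈ H` moving `V1`) satisfies: `L ∩ O₂(H) = Y`, `L` is normal in `H`, `H = L T`,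
`L ∩ T = B`, `L` acts on `V / V0` as `SL₂(F)` with kernel `Y`; `C = C_Y(L) = Z ∩ Z^g` is normal in `H`,
`|Z : C| = q`, `Y = V C`, `C ∩ C^s = 1`; `[Q, L] ≤ Y`.
-/

set_option autoImplicit false
set_option linter.unusedSectionVars false
set_option linter.unusedVariables false

namespace Cfsg.Agent.Omega.SQ1.MatchL

open Subgroup Cfsg Cfsg.Agent.PLocal.ThompsonJ Cfsg.Agent.ZN Cfsg.Agent.ZN.ChoiceBase
open Cfsg.Agent.ZN.ChoiceSit
open Cfsg.Agent.Omega.NatPair Cfsg.Agent.Lib.SL2Mat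
open Cfsg.Agent.PLocal.ElemAbSup
open Cfsg.Agent.Omega.SQ1.Bau
open Cfsg.Agent.Omega.SQ1.Bau.In (Y Z_le_Y V_le_Y)
open Cfsg.Agent.Omega.SQ1.FFOne Cfsg.Agent.Omega.SQ1.MatchOne
open scoped Pointwise commutatorElement

universe u

variable {G : Type u} [Group G]

/-! ### Tools -/

/-- `{x ∈ H | [x, K] ≤ N}` for `N` normalised by `H` -/
def actSub (H N K : Subgroup G) (hN : ∀ h ∈ H, ∀ n ∈ N, h * n * h⁻¹ ∈ N) : Subgroup G where
  carrier := {x | x ∈ H ∧ ∀ y ∈ K, x * y * x⁻¹ * y⁻¹ ∈ N}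
  mul_mem' := by
    rintro a b ⟨ha, ha'⟩ ⟨hb, hb'⟩
    refine ⟨mul_mem ha hb, fun y hy => ?_⟩
    have e : a * b * y * (a * b)⁻¹ * y⁻¹ = (a * (b * y * b⁻¹ * y⁻¹) * a⁻¹) * (a * y * a⁻¹ * y⁻¹) := by
      group
    rw [e]
    exact mul_mem (hN a ha _ (hb' y hy)) (ha' y hy)
  one_mem' := ⟨one_mem H, fun y hy => by simp⟩
  inv_mem' := by
    rintro a ⟨ha, ha'⟩
    refine ⟨inv_mem ha, fun y hy => ?_⟩
    have e : a⁻¹ * y * a⁻¹⁻¹ * y⁻¹ = a⁻¹ * (a * y * a⁻¹ * y⁻¹)⁻¹ * a⁻¹⁻¹ := by group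
    rw [e]
    exact hN _ (inv_mem ha) _ (inv_mem (ha' y hy))

/-- the normal closure of `K` in `H` -/
def nc (H K : Subgroup G) : Subgroup G := closure {x | ∃ g ∈ H, ∃ b ∈ K, x = g * b * g⁻¹}

theorem nc_le {H K S : Subgroup G} (h : ∀ g ∈ H, ∀ b ∈ K, g * b * g⁻¹ ∈ S) : nc H K ≤ S := by
  rw [nc, closure_le]
  rintro _ ⟨g, hg, b, hb, rfl⟩
  exact h g hg b hb

theorem le_nc {H K : Subgroup G} {g b : G} (hg : g ∈ H) (hb : b ∈ K) : g * b * g⁻¹ ∈ nc H K :=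
  subset_closure ⟨g, hg, b, hb, rfl⟩

theorem le_nc' {H K : Subgroup G} : K ≤ nc H K := by
  intro b hb
  have := le_nc (H := H) (one_mem H) hb
  simpa using this

theorem nc_norm {H K : Subgroup G} {g x : G} (hg : g ∈ H) (hx : x ∈ nc H K) :
    g * x * g⁻¹ ∈ nc H K := by
  have hle : nc H K ≤ (nc H K).comap (MulAut.conj g).toMonoidHom := by
    refine nc_le fun g' hg' b hb => ?_
    have e : (MulAut.conj g).toMonoidHom (g' * b * g'⁻¹) = (g * g') * b * (g * g')⁻¹ := by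
      simp only [MulEquiv.toMonoidHom_eq_coe, MonoidHom.coe_coe, MulAut.conj_apply]
      group
    rw [mem_comap, e]
    exact le_nc (mul_mem hg hg') hb
  exact hle hx

theorem commutator_le_right' (L : Subgroup G) : ⁅L, L⁆ ≤ L := by
  rw [commutator_le]
  intro a ha b hb
  rw [commutatorElement_def]
  exact mul_mem (mul_mem (mul_mem ha hb) (inv_mem ha)) (inv_mem hb)

/-- a subgroup without nontrivial elements of odd order is a 2-group -/
theorem isPGroup_of_odd [Finite G] {N : Subgroup G}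
    (h : ∀ x ∈ N, ∀ n : ℕ, Odd n → x ^ n = 1 → x = 1) : IsPGroup 2 N := by
  intro x
  obtain ⟨k, m, hm, e⟩ := Nat.exists_eq_two_pow_mul_odd (orderOf_pos (x : G)).ne'
  refine ⟨k, Subtype.ext ?_⟩
  have h1 : ((x : G) ^ 2 ^ k) ^ m = 1 := by
    rw [← pow_mul, ← e, pow_orderOf_eq_one]
  have := h _ (pow_mem x.2 (2 ^ k)) m hm h1
  simpa using this

variable {F : Type*} [Field F] {H T V V0 : Subgroup G} {s : G}

/-- Input for (4.4) -/
structure LSit (M : FF F H T V V0) (s : G) : Prop where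
  hm : MinH H T
  sit : Sit H T (o2 H) V M.V1 V0 (Nat.card F) s

namespace LSit

variable {M : FF F H T V V0}

theorem TH (h : LSit M s) : T ≤ H := h.hm.syl.1

/-- `b ∈ B` acts as an `up c` -/
theorem bau_up [Finite G] [Finite F] [CharP F 2] (h : LSit M s) {b : G} (hb : b ∈ bau T) :
    ∃ c : F, M.Ind b (up c) := by
  refine M.up_of_comm h.hm (bau_le T hb) fun v hv => ?_
  rw [h.sit.B_cent_Z hb (h.sit.dd.V1_le_Z hv), mul_inv_cancel_right]

theorem exists_b [Finite G] [CharP F 2] (h : LSit M s) (c : F) : ∃ b ∈ bau T, M.Ind b (up c) := by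
  obtain ⟨j, hj, hc⟩ := M.exists_j h.hm c
  exact ⟨j, jj_le_bau T hj, hc⟩

theorem J_SL [Finite G] [Finite F] [CharP F 2] (h : LSit M s) {x : G} (hx : x ∈ nc H (bau T)) :
    x ∈ H ∧ ∃ A, M.Ind x A := by
  let S : Subgroup G :=
    { carrier := {x | x ∈ H ∧ ∃ A, M.Ind x A}
      mul_mem' := by
        rintro a b ⟨ha, A, hA⟩ ⟨hb, B, hB⟩
        exact ⟨mul_mem ha hb, A * B, M.ind_mul ha hb hA hB⟩
      one_mem' := ⟨one_mem H, 1, M.ind_one⟩
      inv_mem' := by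
        rintro a ⟨ha, A, hA⟩
        exact ⟨inv_mem ha, A⁻¹, M.ind_inv ha hA⟩ }
  have hle : nc H (bau T) ≤ S := by
    refine nc_le fun g hg b hb => ?_
    obtain ⟨c, hc⟩ := h.bau_up hb
    have hbH := h.TH (bau_le T hb)
    exact ⟨mul_mem (mul_mem hg hbH) (inv_mem hg), M.norm g hg b hbH _ hc⟩
  exact hle hx

theorem J_le [Finite G] [Finite F] [CharP F 2] (h : LSit M s) : nc H (bau T) ≤ H := fun _ hx => (h.J_SL hx).1

/-- `J` centralises `V0` -/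
theorem J_V0 [Finite G] [Finite F] [CharP F 2] (h : LSit M s) {x v : G} (hx : x ∈ nc H (bau T))
    (hv : v ∈ V0) : x * v = v * x := by
  have hle : nc H (bau T) ≤ centralizer (V0 : Set G) := by
    refine nc_le fun g hg b hb => ?_
    rw [mem_centralizer_iff]
    intro w hw
    have h1 := M.V0n g⁻¹ (inv_mem hg) w hw
    rw [inv_inv] at h1
    have h2 : b * (g⁻¹ * w * g) = g⁻¹ * w * g * b :=
      h.sit.B_cent_Z hb (h.sit.dd.V1_le_Z (M.V01 h1))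
    calc w * (g * b * g⁻¹) = g * ((g⁻¹ * w * g) * b) * g⁻¹ := by group
      _ = g * (b * (g⁻¹ * w * g)) * g⁻¹ := by rw [h2]
      _ = _ := by group
  exact (mem_centralizer_iff.1 (hle hx) v hv).symm

/-- `[J, Y] ≤ V` -/
theorem J_Y [Finite G] [Finite F] [CharP F 2] (h : LSit M s) {x y : G} (hx : x ∈ nc H (bau T))
    (hy : y ∈ Y T V) : x * y * x⁻¹ * y⁻¹ ∈ V := by
  have hle : nc H (bau T) ≤ actSub H V (Y T V) M.Vn := by
    refine nc_le fun g hg b hb => ⟨mul_mem (mul_mem hg (h.TH (bau_le T hb))) (inv_mem hg), ?_⟩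
    intro y hy
    have hy' : g⁻¹ * y * g ∈ Y T V := by
      have := h.sit.dd.Y_norm g⁻¹ (inv_mem hg) y hy
      rwa [inv_inv] at this
    have h1 := M.Vn g hg _ (M.V1V (h.sit.comm_mem hb hy'))
    have e : g * (b * (g⁻¹ * y * g) * b⁻¹ * (g⁻¹ * y * g)⁻¹) * g⁻¹ =
      g * b * g⁻¹ * y * (g * b * g⁻¹)⁻¹ * y⁻¹ := by group
    rwa [e] at h1
  exact (hle hx).2 y hy

/-- `[J, Q] ≤ Y` -/
theorem J_Q [Finite G] [Finite F] [CharP F 2] (h : LSit M s) {x y : G} (hx : x ∈ nc H (bau T))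
    (hy : y ∈ o2 H) : x * y * x⁻¹ * y⁻¹ ∈ Y T V := by
  have hle : nc H (bau T) ≤ actSub H (Y T V) (o2 H) h.sit.dd.Y_norm := by
    refine nc_le fun g hg b hb => ⟨mul_mem (mul_mem hg (h.TH (bau_le T hb))) (inv_mem hg), ?_⟩
    intro y hy
    have hy' : g⁻¹ * y * g ∈ o2 H := by
      have := conj_mem_of_norm (le_normalizer_o2 H (inv_mem hg)) hy
      rwa [inv_inv] at this
    have hbH := h.TH (bau_le T hb)
    have h1 : b * (g⁻¹ * y * g) * b⁻¹ * (g⁻¹ * y * g)⁻¹ ∈ bau T ⊓ o2 H := by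
      refine ⟨?_, ?_⟩
      · have h2 : (g⁻¹ * y * g) * b⁻¹ * (g⁻¹ * y * g)⁻¹ ∈ bau T :=
          conj_mem_of_norm (normalizer_le_bau T (le_normalizer (h.sit.dd.QT hy'))) (inv_mem hb)
        have e : b * (g⁻¹ * y * g) * b⁻¹ * (g⁻¹ * y * g)⁻¹ =
          b * ((g⁻¹ * y * g) * b⁻¹ * (g⁻¹ * y * g)⁻¹) := by group
        rw [e]
        exact mul_mem hb h2
      · exact (o2 H).mul_mem (conj_mem_of_norm (le_normalizer_o2 H hbH) hy') ((o2 H).inv_mem hy')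
    rw [h.sit.star_eq] at h1
    have h2 := h.sit.dd.Y_norm g hg _ h1
    have e : g * (b * (g⁻¹ * y * g) * b⁻¹ * (g⁻¹ * y * g)⁻¹) * g⁻¹ =
      g * b * g⁻¹ * y * (g * b * g⁻¹)⁻¹ * y⁻¹ := by group
    rwa [e] at h2
  exact (hle hx).2 y hy

/-- `J ∩ C_H(V/V0) ≤ Q` -/
theorem J_kern [Finite G] [Finite F] [CharP F 2] (h : LSit M s) :
    nc H (bau T) ⊓ M.kern ≤ o2 H := by
  have hV : IsPGroup 2 V := h.sit.two.to_le (M.VQ.trans (o2_le_syl h.hm.syl))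
  have hV0 : IsPGroup 2 V0 := hV.to_le M.V0V
  have hYp : IsPGroup 2 (Y T V) :=
    h.sit.two.to_le (h.sit.dd.Y_le_Q.trans (o2_le_syl h.hm.syl))
  have key : ∀ x ∈ nc H (bau T) ⊓ M.kern, ∀ n : ℕ, Odd n → x ^ n = 1 → x = 1 := by
    rintro x ⟨hxJ, hxK⟩ n hn hxn
    have hxH := h.J_le hxJ
    have h1 : ∀ v ∈ V, x * v = v * x := fun v hv =>
      Kill.comm_of_odd hxn hn hV0 ((M.mem_kern_iff hxH).1 hxK v hv)
        (h.J_V0 hxJ ((M.mem_kern_iff hxH).1 hxK v hv))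
    have h2 : ∀ y ∈ Y T V, x * y = y * x := fun y hy =>
      Kill.comm_of_odd hxn hn hV (h.J_Y hxJ hy) (h1 _ (h.J_Y hxJ hy))
    have h3 : ∀ y ∈ o2 H, x * y = y * x := fun y hy =>
      Kill.comm_of_odd hxn hn hYp (h.J_Q hxJ hy) (h2 _ (h.J_Q hxJ hy))
    have h4 : x ∈ o2 H := h.hm.self_cent ⟨hxH, mem_centralizer_iff.2 fun y hy => (h3 y hy).symm⟩
    obtain ⟨k, hk⟩ := isPGroup_o2 H ⟨x, h4⟩
    have hk' : x ^ 2 ^ k = 1 := by simpa using congrArg Subtype.val hk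
    have h5 : orderOf x ∣ 2 ^ k := orderOf_dvd_of_pow_eq_one hk'
    have h6 : orderOf x ∣ n := orderOf_dvd_of_pow_eq_one hxn
    exact orderOf_eq_one_iff.1 (Nat.eq_one_of_dvd_coprimes
      (Nat.Coprime.pow_left _ (Nat.coprime_two_left.2 hn)) h5 h6)
  refine le_o2 (isPGroup_of_odd key) (inf_le_left.trans h.J_le) ?_
  intro g hg
  refine mem_norm_of ?_
  rintro k ⟨hk1, hk2⟩
  exact ⟨nc_norm hg hk1, M.kern_norm hg hk2⟩

/-! ### The group `L = ⟨B, B^g⟩` -/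

/-- `⟨B, B^g⟩` -/
def Lg (T : Subgroup G) (g : G) : Subgroup G := bau T ⊔ cj g (bau T)

theorem B_le_L (T : Subgroup G) (g : G) : bau T ≤ Lg T g := le_sup_left

theorem L_le_J (h : LSit M s) {g : G} (hg : g ∈ H) : Lg T g ≤ nc H (bau T) := by
  refine sup_le le_nc' ?_
  rintro _ ⟨b, hb, rfl⟩
  exact le_nc hg hb

theorem Lg_le [Finite G] [Finite F] [CharP F 2] (h : LSit M s) {g : G} (hg : g ∈ H) : Lg T g ≤ H :=
  (h.L_le_J hg).trans h.J_le

theorem Mv_iff (h : LSit M s) [Finite G] [Finite F] {g : G} (hg : g ∈ H) :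
    Mv M.V1 g ↔ M.act g ![1, 0] 1 ≠ 0 := by
  rw [Ne, ← M.mem_norm_V1 hg, ← not_mv_iff, not_not]

/-- `L` is centralised on `Z ∩ Z^g`. -/
theorem L_cent (h : LSit M s) {g x y : G} (hx : x ∈ Lg T g)
    (hy : y ∈ zj T ⊓ cj g (zj T)) : x * y = y * x := by
  have hle : Lg T g ≤ centralizer ((zj T ⊓ cj g (zj T) : Subgroup G) : Set G) := by
    refine sup_le ?_ ?_
    · intro b hb
      exact mem_centralizer_iff.2 fun z hz => (h.sit.B_cent_Z hb (mem_inf.1 hz).1).symm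
    · rintro _ ⟨b, hb, rfl⟩
      refine mem_centralizer_iff.2 fun z hz => ?_
      obtain ⟨z', hz', rfl⟩ := (mem_inf.1 hz).2
      have h1 := h.sit.B_cent_Z hb hz'
      simp only [MulEquiv.toMonoidHom_eq_coe, MonoidHom.coe_coe, MulAut.conj_apply]
      calc g * z' * g⁻¹ * (g * b * g⁻¹) = g * (z' * b) * g⁻¹ := by group
        _ = g * (b * z') * g⁻¹ := by rw [h1]
        _ = _ := by group
  exact (mem_centralizer_iff.1 (hle hx) y hy).symm

/-- `L ∩ Q = Y` -/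
theorem L_inf_Q [Finite G] [Finite F] [CharP F 2] (h : LSit M s) {g : G} (hg : g ∈ H)
    (hm : Mv M.V1 g) : Lg T g ⊓ o2 H = Y T V := by
  apply le_antisymm
  · rintro x ⟨hx, hxQ⟩
    rw [← h.sit.star_eq, h.sit.dd.mem_star_iff]
    refine ⟨h.sit.dd.QT hxQ, fun y hy => ?_⟩
    rw [← (h.sit.dd.card_X hg hm).2] at hy
    obtain ⟨v, hv, z, hz, rfl⟩ := mem_sup_comm (fun v hv z hz =>
      elem_comm h.sit.dd.Y_elem v (V_le_Y T V hv) z (Z_le_Y T V (mem_inf.1 hz).1)) hy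
    have h1 := M.VcQ x hxQ v hv
    have h2 := h.L_cent hx hz
    calc x * (v * z) = (x * v) * z := by group
      _ = v * (x * z) := by rw [h1]; group
      _ = v * z * x := by rw [h2]; group
  · exact le_inf (h.sit.Y_le_B.trans (B_le_L T g)) h.sit.dd.Y_le_Q

/-- all `up c` are induced by elements of `L`, and all `lo a` (for `g e₁ ∈ F e₂`) -/
theorem exists_lo [Finite G] [Finite F] [CharP F 2] (h : LSit M s) {g : G} (hg : g ∈ H)
    (h0 : M.act g ![1, 0] 0 = 0) (h1 : M.act g ![1, 0] 1 ≠ 0) (a : F) :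
    ∃ l ∈ Lg T g, M.Ind l (lo a) := by
  obtain ⟨x, hx, hxa⟩ := M.lift (lo a)
  have hginv := inv_mem hg
  obtain ⟨B, hB⟩ := M.norm g⁻¹ hginv x hx _ hxa
  have hxH : g⁻¹ * x * g⁻¹⁻¹ ∈ H := mul_mem (mul_mem hginv hx) (inv_mem hginv)
  -- `B` fixes `e₁`
  obtain ⟨σ, hσ⟩ := M.exists_semi hg
  obtain ⟨τ, hτ⟩ := M.exists_semi hginv
  have he : M.act g ![1, 0] = (M.act g ![1, 0] 1) • ![0, 1] := by
    apply ext2
    · rw [h0]; simp
    · simp
  set r := M.act g ![1, 0] 1 with hr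
  have hB1 : ap B ![1, 0] = ![1, 0] := by
    have h2 : M.Ind (g⁻¹ * x * g⁻¹⁻¹) B := hB
    rw [← (M.ind_iff hxH).1 h2, inv_inv, M.act_mul (mul_mem hginv hx) hg, M.act_mul hginv hx, he,
      (M.ind_iff hx).1 hxa]
    have h3 : ap (lo a) (r • ![0, 1]) = r • ![0, 1] := by
      apply ext2
      · rw [ap_zero']; simp
      · rw [ap_one']; simp
    rw [h3, ← he, M.act_inv_act hg]
  have hB2 : B = up (ent B 0 1) := by
    have e0 := congrFun hB1 0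
    have e1 := congrFun hB1 1
    rw [ap_zero'] at e0
    rw [ap_one'] at e1
    simp only [Matrix.cons_val_zero, Matrix.cons_val_one, mul_one, mul_zero, add_zero] at e0 e1
    have hd := det_eq B
    rw [e0, e1, one_mul, mul_zero, sub_zero] at hd
    exact ext_ent (by rw [e0, up_00]) (by rw [up_01]) (by rw [e1, up_10]) (by rw [hd, up_11])
  obtain ⟨b, hb, hbc⟩ := h.exists_b (ent B 0 1)
  have hbH := h.TH (bau_le T hb)
  refine ⟨g * b * g⁻¹, mem_sup_right ⟨b, hb, rfl⟩, ?_⟩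
  rw [M.ind_iff (mul_mem (mul_mem hg hbH) hginv)]
  intro y
  rw [M.act_mul (mul_mem hg hbH) hginv, M.act_mul hg hbH, (M.ind_iff hbH).1 hbc, ← hB2]
  have h2 : M.Ind (g⁻¹ * x * g⁻¹⁻¹) B := hB
  rw [← (M.ind_iff hxH).1 h2, inv_inv, M.act_mul (mul_mem hginv hx) hg, M.act_mul hginv hx,
    M.act_act_inv hg, M.act_act_inv hg, (M.ind_iff hx).1 hxa]

/-- normalisation of `g` -/
theorem exists_g [Finite G] [Finite F] [CharP F 2] (h : LSit M s) {g : G} (hg : g ∈ H)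
    (hm : Mv M.V1 g) : ∃ g' ∈ H, Lg T g' = Lg T g ∧ M.act g' ![1, 0] 0 = 0 ∧
      M.act g' ![1, 0] 1 ≠ 0 := by
  rw [h.Mv_iff hg] at hm
  set p := M.act g ![1, 0] with hp
  obtain ⟨b, hb, hbc⟩ := h.exists_b (- (p 0 / p 1))
  have hbH := h.TH (bau_le T hb)
  refine ⟨b * g, mul_mem hbH hg, ?_, ?_, ?_⟩
  · unfold Lg
    have e1 : cj (b * g) (bau T) = cj b (cj g (bau T)) := (cj_cj b g _).symm
    apply le_antisymm
    · refine sup_le le_sup_left ?_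
      rw [e1]
      rintro _ ⟨x, hx, rfl⟩
      exact mul_mem (mul_mem (mem_sup_left hb) (mem_sup_right hx)) (inv_mem (mem_sup_left hb))
    · refine sup_le le_sup_left ?_
      have e2 : cj g (bau T) = cj b⁻¹ (cj (b * g) (bau T)) := by
        rw [e1, cj_inv_cj]
      rw [e2]
      rintro _ ⟨x, hx, rfl⟩
      exact mul_mem (mul_mem (inv_mem (mem_sup_left hb)) (mem_sup_right hx))
        (inv_mem (inv_mem (mem_sup_left hb)))
  · rw [M.act_mul hbH hg, (M.ind_iff hbH).1 hbc, ap_zero', up_00, up_01]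
    field_simp
    ring
  · rw [M.act_mul hbH hg, (M.ind_iff hbH).1 hbc, ap_one', up_10, up_11, zero_mul, zero_add, one_mul]
    exact hm

/-- `L` induces all of `SL₂(F)`, and so does `[L, L]` for `|F| ≥ 4`. -/
theorem exists_l [Finite G] [Finite F] [CharP F 2] (h : LSit M s) {g : G} (hg : g ∈ H)
    (hm : Mv M.V1 g) (A : Matrix.SpecialLinearGroup (Fin 2) F) : ∃ l ∈ Lg T g, M.Ind l A := by
  obtain ⟨g', hg', e, h0, h1⟩ := h.exists_g hg hm
  rw [← e]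
  obtain ⟨a, b, c, d, rfl⟩ := exists_up_lo A
  have hL := h.Lg_le hg'
  have hu : ∀ c : F, ∃ l ∈ Lg T g', M.Ind l (up c) := fun c => by
    obtain ⟨b, hb, hbc⟩ := h.exists_b c
    exact ⟨b, B_le_L T g' hb, hbc⟩
  obtain ⟨l1, hl1, i1⟩ := hu a
  obtain ⟨l2, hl2, i2⟩ := h.exists_lo hg' h0 h1 b
  obtain ⟨l3, hl3, i3⟩ := hu c
  obtain ⟨l4, hl4, i4⟩ := h.exists_lo hg' h0 h1 d
  exact ⟨l1 * l2 * l3 * l4, mul_mem (mul_mem (mul_mem hl1 hl2) hl3) hl4,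
    M.ind_mul (mul_mem (mul_mem (hL hl1) (hL hl2)) (hL hl3)) (hL hl4)
      (M.ind_mul (mul_mem (hL hl1) (hL hl2)) (hL hl3) (M.ind_mul (hL hl1) (hL hl2) i1 i2) i3) i4⟩

omit s in
theorem exists_unit (hF : 4 ≤ Nat.card F) [Finite F] [CharP F 2] : ∃ b : F, b ≠ 0 ∧ b ^ 2 - 1 ≠ 0 := by
  classical
  have := Fintype.ofFinite F
  rw [Nat.card_eq_fintype_card] at hF
  have h1 : ({0, 1} : Finset F).card ≤ 2 := Finset.card_le_two
  obtain ⟨b, hb⟩ : ∃ b : F, b ∉ ({0, 1} : Finset F) := by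
    by_contra hc
    push Not at hc
    have h2 : (Finset.univ : Finset F) ⊆ {0, 1} := fun x _ => hc x
    have h3 := Finset.card_le_card h2
    rw [Finset.card_univ] at h3
    omega
  simp only [Finset.mem_insert, Finset.mem_singleton, not_or] at hb
  refine ⟨b, hb.1, fun h => hb.2 ?_⟩
  have h2 : (b - 1) ^ 2 = 0 := by
    have e : (b - 1) ^ 2 = b ^ 2 - 1 := by
      have h2 : (2 : F) = 0 := CharTwo.two_eq_zero
      linear_combination (1 - b) * h2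
    rw [e, h]
  exact sub_eq_zero.1 (pow_eq_zero_iff two_ne_zero |>.1 h2)

/-- `dg b up c dg b⁻¹ up (-c) = up ((b² - 1) c)` -/
theorem comm_up (b c : F) (hb : b ≠ 0) :
    dg b hb * up c * (dg b hb)⁻¹ * (up c)⁻¹ = up ((b ^ 2 - 1) * c) := by
  rw [dg_up, mul_assoc (up _), mul_inv_cancel, mul_one, up_inv, up_mul]
  congr 1
  ring

theorem comm_lo (b c : F) (hb : b ≠ 0) :
    (dg b hb)⁻¹ * lo c * dg b hb * (lo c)⁻¹ = lo ((b ^ 2 - 1) * c) := by
  have e : (dg b hb)⁻¹ * lo c * dg b hb = lo (b ^ 2 * c) := by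
    have h1 : lo c * dg b hb = dg b hb * lo (b ^ 2 * c) := by
      refine ext_ent ?_ ?_ ?_ ?_ <;> simp [ent_mul]
      field_simp
    rw [mul_assoc, h1, inv_mul_cancel_left]
  rw [e, lo_inv, lo_mul]
  congr 1
  ring

theorem exists_l' [Finite G] [Finite F] [CharP F 2] (h : LSit M s) (hF : 4 ≤ Nat.card F) {g : G}
    (hg : g ∈ H) (hm : Mv M.V1 g) (A : Matrix.SpecialLinearGroup (Fin 2) F) :
    ∃ l ∈ ⁅Lg T g, Lg T g⁆, M.Ind l A := by
  obtain ⟨b, hb0, hb1⟩ := exists_unit hF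
  have hL := h.Lg_le hg
  have hLL : ⁅Lg T g, Lg T g⁆ ≤ Lg T g := commutator_le_right' (Lg T g)
  obtain ⟨t, ht, hti⟩ := h.exists_l hg hm (dg b hb0)
  have key : ∀ (A B : Matrix.SpecialLinearGroup (Fin 2) F),
      ∃ l ∈ ⁅Lg T g, Lg T g⁆, M.Ind l (A * B * A⁻¹ * B⁻¹) := by
    intro A B
    obtain ⟨x, hx, hxi⟩ := h.exists_l hg hm A
    obtain ⟨y, hy, hyi⟩ := h.exists_l hg hm B
    refine ⟨⁅x, y⁆, commutator_mem_commutator hx hy, ?_⟩
    rw [commutatorElement_def]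
    exact M.ind_mul (mul_mem (mul_mem (hL hx) (hL hy)) (inv_mem (hL hx))) (inv_mem (hL hy))
      (M.ind_mul (mul_mem (hL hx) (hL hy)) (inv_mem (hL hx)) (M.ind_mul (hL hx) (hL hy) hxi hyi)
        (M.ind_inv (hL hx) hxi)) (M.ind_inv (hL hy) hyi)
  have hu : ∀ c : F, ∃ l ∈ ⁅Lg T g, Lg T g⁆, M.Ind l (up c) := by
    intro c
    obtain ⟨l, hl, hli⟩ := key (dg b hb0) (up (c / (b ^ 2 - 1)))
    rw [comm_up, mul_div_cancel₀ _ hb1] at hli
    exact ⟨l, hl, hli⟩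
  have hlo : ∀ c : F, ∃ l ∈ ⁅Lg T g, Lg T g⁆, M.Ind l (lo c) := by
    intro c
    obtain ⟨l, hl, hli⟩ := key (dg b hb0)⁻¹ (lo (c / (b ^ 2 - 1)))
    rw [inv_inv, comm_lo, mul_div_cancel₀ _ hb1] at hli
    exact ⟨l, hl, hli⟩
  obtain ⟨a, b, c, d, rfl⟩ := exists_up_lo A
  obtain ⟨l1, hl1, i1⟩ := hu a
  obtain ⟨l2, hl2, i2⟩ := hlo b
  obtain ⟨l3, hl3, i3⟩ := hu c
  obtain ⟨l4, hl4, i4⟩ := hlo d
  have hH : ⁅Lg T g, Lg T g⁆ ≤ H := hLL.trans hL
  exact ⟨l1 * l2 * l3 * l4, mul_mem (mul_mem (mul_mem hl1 hl2) hl3) hl4,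
    M.ind_mul (mul_mem (mul_mem (hH hl1) (hH hl2)) (hH hl3)) (hH hl4)
      (M.ind_mul (mul_mem (hH hl1) (hH hl2)) (hH hl3) (M.ind_mul (hH hl1) (hH hl2) i1 i2) i3) i4⟩

/-! ### `L` is normal in `H` -/

theorem L_kern [Finite G] [Finite F] [CharP F 2] (h : LSit M s) {g : G} (hg : g ∈ H)
    (hm : Mv M.V1 g) {x : G} (hx : x ∈ Lg T g) (hk : x ∈ M.kern) : x ∈ Y T V := by
  rw [← h.L_inf_Q hg hm]
  exact ⟨hx, h.J_kern ⟨h.L_le_J hg hx, hk⟩⟩

theorem J_split [Finite G] [Finite F] [CharP F 2] (h : LSit M s) {g : G} (hg : g ∈ H)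
    (hm : Mv M.V1 g) {j : G} (hj : j ∈ nc H (bau T)) :
    ∃ l ∈ Lg T g, ∃ x ∈ o2 H, x ∈ nc H (bau T) ∧ j = l * x := by
  obtain ⟨hjH, A, hA⟩ := h.J_SL hj
  obtain ⟨l, hl, hlA⟩ := h.exists_l hg hm A
  have hx : l⁻¹ * j ∈ nc H (bau T) := mul_mem (inv_mem (h.L_le_J hg hl)) hj
  refine ⟨l, hl, l⁻¹ * j, h.J_kern ⟨hx, ?_⟩, hx, by group⟩
  exact M.kern_of_ind (h.Lg_le hg hl) hjH hlA hA

theorem Y_le_L [Finite G] [Finite F] [CharP F 2] (h : LSit M s) (g : G) : Y T V ≤ Lg T g :=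
  h.sit.Y_le_B.trans (B_le_L T g)

/-- `Q ∩ J` normalises `L` -/
theorem Q_norm_L [Finite G] [Finite F] [CharP F 2] (h : LSit M s) {g : G} (hg : g ∈ H)
    {x y : G} (hy : y ∈ o2 H) (hx : x ∈ Lg T g) : y * x * y⁻¹ ∈ Lg T g := by
  have h1 := h.J_Q (inv_mem (h.L_le_J hg hx)) hy
  have e : y * x * y⁻¹ = x * (x⁻¹ * y * x⁻¹⁻¹ * y⁻¹) := by group
  rw [e]
  exact mul_mem hx (h.Y_le_L g h1)

theorem comm_J [Finite G] [Finite F] [CharP F 2] (h : LSit M s) {g : G} (hg : g ∈ H)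
    (hm : Mv M.V1 g) : ⁅nc H (bau T), nc H (bau T)⁆ ≤ Lg T g := by
  rw [commutator_le]
  intro a ha b hb
  obtain ⟨l1, hl1, q1, hq1, hq1J, rfl⟩ := h.J_split hg hm ha
  obtain ⟨l2, hl2, q2, hq2, hq2J, rfl⟩ := h.J_split hg hm hb
  have e : ⁅l1 * q1, l2 * q2⁆ = l1 * (q1 * l2 * q1⁻¹) * (q1 * q2 * q1⁻¹ * q2⁻¹) *
      (q2 * l1⁻¹ * q2⁻¹) * l2⁻¹ := by
    rw [commutatorElement_def]; group
  rw [e]
  exact mul_mem (mul_mem (mul_mem (mul_mem hl1 (h.Q_norm_L hg hq1 hl2))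
    (h.Y_le_L g (h.J_Q hq1J hq2))) (h.Q_norm_L hg hq2 (inv_mem hl1))) (inv_mem hl2)

theorem L_eq [Finite G] [Finite F] [CharP F 2] (h : LSit M s) (hF : 4 ≤ Nat.card F) {g : G}
    (hg : g ∈ H) (hm : Mv M.V1 g) : Lg T g = ⁅nc H (bau T), nc H (bau T)⁆ ⊔ Y T V := by
  apply le_antisymm
  · intro l hl
    obtain ⟨hlH, A, hA⟩ := h.J_SL (h.L_le_J hg hl)
    obtain ⟨l', hl', hlA⟩ := h.exists_l' hF hg hm A
    have hl'L : l' ∈ Lg T g := commutator_le_right' _ hl'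
    have h1 := M.kern_of_ind (h.Lg_le hg hl'L) hlH hlA hA
    have h2 : l'⁻¹ * l ∈ Y T V := h.L_kern hg hm (mul_mem (inv_mem hl'L) hl) h1
    have e : l = l' * (l'⁻¹ * l) := by group
    rw [e]
    exact mul_mem (mem_sup_left (commutator_mono (h.L_le_J hg) (h.L_le_J hg) hl'))
      (mem_sup_right h2)
  · exact sup_le (h.comm_J hg hm) (h.Y_le_L g)

theorem L_norm [Finite G] [Finite F] [CharP F 2] (h : LSit M s) (hF : 4 ≤ Nat.card F) {g : G}
    (hg : g ∈ H) (hm : Mv M.V1 g) {x l : G} (hx : x ∈ H) (hl : l ∈ Lg T g) :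
    x * l * x⁻¹ ∈ Lg T g := by
  have hle : cj x (Lg T g) ≤ Lg T g := by
    rw [h.L_eq hF hg hm, cj, Subgroup.map_sup, map_commutator]
    refine sup_le ?_ ?_
    · refine le_sup_of_le_left (commutator_mono ?_ ?_)
      · rintro _ ⟨y, hy, rfl⟩
        exact nc_norm hx hy
      · rintro _ ⟨y, hy, rfl⟩
        exact nc_norm hx hy
    · refine le_sup_of_le_right ?_
      rintro _ ⟨y, hy, rfl⟩
      exact h.sit.dd.Y_norm x hx y hy
  exact hle ⟨l, hl, rfl⟩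

/-- **(4.4)** `⟨B^H⟩ = ⟨B, B^g⟩`. -/
theorem nc_eq [Finite G] [Finite F] [CharP F 2] (h : LSit M s) (hF : 4 ≤ Nat.card F) {g : G}
    (hg : g ∈ H) (hm : Mv M.V1 g) : nc H (bau T) = Lg T g :=
  le_antisymm (nc_le fun x hx b hb => h.L_norm hF hg hm hx (B_le_L T g hb)) (h.L_le_J hg)

/-- an element of `H` moving `V1` -/
theorem exists_mv [Finite G] [Finite F] (h : LSit M s) : ∃ g ∈ H, Mv M.V1 g := M.exists_moves

/-- `L ∩ Q = Y` -/
theorem J_inf_Q [Finite G] [Finite F] [CharP F 2] (h : LSit M s) (hF : 4 ≤ Nat.card F) :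
    nc H (bau T) ⊓ o2 H = Y T V := by
  obtain ⟨g, hg, hm⟩ := h.exists_mv
  rw [h.nc_eq hF hg hm, h.L_inf_Q hg hm]

/-- the kernel of `L` on `V/V0` is `Y` -/
theorem mem_kern_iff [Finite G] [Finite F] [CharP F 2] (h : LSit M s) (hF : 4 ≤ Nat.card F)
    {x : G} (hx : x ∈ nc H (bau T)) : x ∈ M.kern ↔ x ∈ Y T V := by
  constructor
  · intro hk
    rw [← h.J_inf_Q hF]
    exact ⟨hx, h.J_kern ⟨hx, hk⟩⟩
  · intro hY
    exact M.Q_kern h.hm (h.sit.dd.Y_le_Q hY)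

/-- `L` induces `SL₂(F)` -/
theorem exists_j [Finite G] [Finite F] [CharP F 2] (h : LSit M s)
    (A : Matrix.SpecialLinearGroup (Fin 2) F) : ∃ l ∈ nc H (bau T), M.Ind l A := by
  obtain ⟨g, hg, hm⟩ := h.exists_mv
  obtain ⟨l, hl, hA⟩ := h.exists_l hg hm A
  exact ⟨l, h.L_le_J hg hl, hA⟩

/-- `H = L T` -/
theorem H_eq [Finite G] [Finite F] [CharP F 2] (h : LSit M s) : nc H (bau T) ⊔ T = H := by
  apply le_antisymm (sup_le h.J_le h.TH)
  refine M.max h.hm _ le_sup_right (sup_le h.J_le h.TH) ?_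
  obtain ⟨l, hl, hA⟩ := h.exists_j (lo (1 : F))
  have hlH := h.J_le hl
  have h1 : ¬ l ∈ normalizer (M.V1 : Set G) := by
    rw [M.mem_norm_V1 hlH, (M.ind_iff hlH).1 hA, ap_one']
    simp
  rw [← not_mv_iff, not_not] at h1
  exact ⟨l, mem_sup_left hl, h1⟩

/-- an element of `T` acting as a matrix acts as an `up c` -/
theorem T_up [Finite G] [Finite F] [CharP F 2] (h : LSit M s) {t : G} (ht : t ∈ T)
    {A : Matrix.SpecialLinearGroup (Fin 2) F} (hA : M.Ind t A) : ∃ c : F, A = up c := by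
  have htH := h.TH ht
  have h1 : t ∈ normalizer (M.V1 : Set G) := mem_norm_of fun v hv => M.T_norm h.hm ht hv
  rw [M.mem_norm_V1 htH, (M.ind_iff htH).1 hA, ap_one'] at h1
  simp only [Matrix.cons_val_zero, Matrix.cons_val_one, mul_one, mul_zero, add_zero] at h1
  have hpow : ∀ n : ℕ, ap (A ^ n) ![1, 0] = (ent A 0 0) ^ n • ![1, 0] := by
    intro n
    induction n with
    | zero => rw [pow_zero, pow_zero, ap_one, one_smul]
    | succ n ih =>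
      rw [pow_succ', ap_mul, ih, ap_smul]
      have h2 : ap A ![1, 0] = ent A 0 0 • ![1, 0] := by
        apply ext2
        · rw [ap_zero']; simp
        · rw [ap_one', h1]; simp
      rw [h2, smul_smul, pow_succ]
  obtain ⟨n, hn⟩ := h.sit.two ⟨t, ht⟩
  have hn' : t ^ 2 ^ n = 1 := by simpa using congrArg Subtype.val hn
  have hi : ∀ m : ℕ, M.Ind (t ^ m) (A ^ m) := by
    intro m
    induction m with
    | zero => rw [pow_zero, pow_zero]; exact M.ind_one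
    | succ m ih => rw [pow_succ, pow_succ]; exact M.ind_mul (pow_mem htH m) htH ih hA
  have h2 := hi (2 ^ n)
  rw [hn'] at h2
  have h3 : A ^ 2 ^ n = 1 := M.ind_unique (one_mem H) h2 M.ind_one
  have h4 := hpow (2 ^ n)
  rw [h3, ap_one] at h4
  have h5 := congrFun h4 0
  simp only [Matrix.cons_val_zero, Pi.smul_apply, smul_eq_mul, mul_one] at h5
  have h6 : ent A 0 0 = 1 := FF.eq_one_of_pow' (k := n) h5.symm
  have hd := det_eq A
  rw [h6, h1, one_mul, mul_zero, sub_zero] at hd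
  exact ⟨ent A 0 1, ext_ent (by rw [h6, up_00]) (by rw [up_01]) (by rw [h1, up_10])
    (by rw [hd, up_11])⟩

/-- `L ∩ T = B` -/
theorem J_inf_T [Finite G] [Finite F] [CharP F 2] (h : LSit M s) (hF : 4 ≤ Nat.card F) :
    nc H (bau T) ⊓ T = bau T := by
  apply le_antisymm
  · rintro t ⟨htJ, htT⟩
    obtain ⟨htH, A, hA⟩ := h.J_SL htJ
    obtain ⟨c, rfl⟩ := h.T_up htT hA
    obtain ⟨b, hb, hbc⟩ := h.exists_b c
    have h1 := M.kern_of_ind (h.TH (bau_le T hb)) htH hbc hA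
    have h2 := (h.mem_kern_iff hF (mul_mem (inv_mem (le_nc' hb)) htJ)).1 h1
    have e : t = b * (b⁻¹ * t) := by group
    rw [e]
    exact mul_mem hb (h.sit.Y_le_B h2)
  · exact le_inf le_nc' (bau_le T)

/-! ### The group `C = C_Y(L)` -/

/-- `C_Y(L)` -/
def CC (H T V : Subgroup G) : Subgroup G := Y T V ⊓ centralizer (nc H (bau T) : Set G)

theorem mem_CC {x : G} : x ∈ CC H T V ↔ x ∈ Y T V ∧ ∀ l ∈ nc H (bau T), l * x = x * l := by
  rw [CC, mem_inf, mem_centralizer_iff]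
  rfl

theorem CC_eq [Finite G] [Finite F] [CharP F 2] (h : LSit M s) (hF : 4 ≤ Nat.card F) {g : G}
    (hg : g ∈ H) (hm : Mv M.V1 g) : CC H T V = zj T ⊓ cj g (zj T) := by
  apply le_antisymm
  · intro x hx
    obtain ⟨hxY, hxc⟩ := mem_CC.1 hx
    refine ⟨?_, ?_⟩
    · exact h.sit.Y_cent hxY fun u hu => hxc u (le_nc' (h.sit.Ys_le_B hu))
    · change x ∈ cj g (zj T)
      rw [mem_cj]
      have hy : g⁻¹ * x * g ∈ Y T V := by
        have := h.sit.dd.Y_norm g⁻¹ (inv_mem hg) x hxY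
        rwa [inv_inv] at this
      refine h.sit.Y_cent hy fun u hu => ?_
      have h1 := hxc _ (le_nc hg (h.sit.Ys_le_B hu))
      calc u * (g⁻¹ * x * g) = g⁻¹ * ((g * u * g⁻¹) * x) * g := by group
        _ = g⁻¹ * (x * (g * u * g⁻¹)) * g := by rw [h1]
        _ = _ := by group
  · intro x hx
    rw [mem_CC]
    refine ⟨Z_le_Y T V (mem_inf.1 hx).1, fun l hl => ?_⟩
    rw [h.nc_eq hF hg hm] at hl
    exact h.L_cent hl hx

theorem CC_le_Z [Finite G] (h : LSit M s) : CC H T V ≤ zj T := fun x hx =>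
  h.sit.Y_cent (mem_CC.1 hx).1 fun u hu => (mem_CC.1 hx).2 u (le_nc' (h.sit.Ys_le_B hu))

theorem card_Z [Finite G] [Finite F] [CharP F 2] (h : LSit M s) (hF : 4 ≤ Nat.card F) :
    Nat.card (zj T) = Nat.card (CC H T V) * Nat.card F := by
  obtain ⟨g, hg, hm⟩ := h.exists_mv
  rw [h.CC_eq hF hg hm]
  exact (h.sit.dd.card_X hg hm).1

theorem V_sup_CC [Finite G] [Finite F] [CharP F 2] (h : LSit M s) (hF : 4 ≤ Nat.card F) :
    V ⊔ CC H T V = Y T V := by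
  obtain ⟨g, hg, hm⟩ := h.exists_mv
  rw [h.CC_eq hF hg hm]
  exact (h.sit.dd.card_X hg hm).2

theorem V_inf_CC [Finite G] [Finite F] [CharP F 2] (h : LSit M s) (hF : 4 ≤ Nat.card F) :
    V ⊓ CC H T V = V0 := by
  obtain ⟨g, hg, hm⟩ := h.exists_mv
  rw [h.CC_eq hF hg hm]
  exact h.sit.dd.V_inf_X hg hm

theorem Y_split [Finite G] [Finite F] [CharP F 2] (h : LSit M s) (hF : 4 ≤ Nat.card F) {y : G}
    (hy : y ∈ Y T V) : ∃ v ∈ V, ∃ c ∈ CC H T V, y = v * c := by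
  rw [← h.V_sup_CC hF] at hy
  exact mem_sup_comm (fun v hv c hc => elem_comm h.sit.dd.Y_elem v (V_le_Y T V hv) c
    (mem_CC.1 hc).1) hy

/-- `C` is normal in `H` -/
theorem CC_norm [Finite G] [Finite F] [CharP F 2] (h : LSit M s) : ∀ g ∈ H, ∀ c ∈ CC H T V,
    g * c * g⁻¹ ∈ CC H T V := by
  intro g hg c hc
  rw [mem_CC] at hc ⊢
  refine ⟨h.sit.dd.Y_norm g hg c hc.1, fun l hl => ?_⟩
  have h1 := nc_norm (inv_mem hg) hl
  rw [inv_inv] at h1
  have h2 := hc.2 _ h1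
  calc l * (g * c * g⁻¹) = g * ((g⁻¹ * l * g) * c) * g⁻¹ := by group
    _ = g * (c * (g⁻¹ * l * g)) * g⁻¹ := by rw [h2]
    _ = _ := by group

/-- `C ∩ C^s = 1` -/
theorem CC_inf [Finite G] [Finite F] [CharP F 2] (h : LSit M s) : CC H T V ⊓ cj s (CC H T V) = ⊥ := by
  have hT : ∀ t ∈ T, ∀ c ∈ CC H T V, t * c * t⁻¹ ∈ CC H T V := fun t ht => h.CC_norm t (h.TH ht)
  have hT' : ∀ t ∈ T, ∀ c ∈ cj s (CC H T V), t * c * t⁻¹ ∈ cj s (CC H T V) := by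
    rintro t ht _ ⟨c, hc, rfl⟩
    have h1 : s⁻¹ * t * s ∈ T := by
      have := (mem_normalizer_iff.1 (inv_mem h.sit.sN) t).1 ht
      rwa [inv_inv] at this
    refine ⟨(s⁻¹ * t * s) * c * (s⁻¹ * t * s)⁻¹, hT _ h1 c hc, ?_⟩
    simp only [MulEquiv.toMonoidHom_eq_coe, MonoidHom.coe_coe, MulAut.conj_apply]
    group
  refine h.sit.core _ ?_ ?_ ?_
  · exact inf_le_left.trans (h.CC_le_Z.trans ((Z_le_Y T V).trans (h.sit.Y_le_B.trans (bau_le T))))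
  · intro g hg r hr
    have hle : nc H (bau T) ⊔ T ≤
        normalizer ((CC H T V ⊓ cj s (CC H T V) : Subgroup G) : Set G) := by
      refine sup_le ?_ ?_
      · intro l hl
        refine mem_norm_of ?_
        rintro c ⟨hc1, hc2⟩
        have e : l * c * l⁻¹ = c := by rw [(mem_CC.1 hc1).2 l hl]; group
        rw [e]
        exact ⟨hc1, hc2⟩
      · intro t ht
        refine mem_norm_of ?_
        rintro c ⟨hc1, hc2⟩
        exact ⟨hT t ht c hc1, hT' t ht c hc2⟩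
    exact conj_mem_of_norm (hle (by rw [h.H_eq]; exact hg)) hr
  · rintro r ⟨hr1, hr2⟩
    refine ⟨?_, ⟨r, hr1, rfl⟩⟩
    have h1 : s * r * s⁻¹ ∈ cj s (cj s (CC H T V)) := ⟨r, hr2, rfl⟩
    rw [h.sit.cj_ss hT] at h1
    exact h1

/-! ### The natural section `Y / C` -/

open Classical in
/-- the extension of `π` to `Y` with `C` in the kernel -/
noncomputable def πY (M : FF F H T V V0) (y : G) : Fin 2 → F :=
  if hy : ∃ v ∈ V, v⁻¹ * y ∈ CC H T V then M.π hy.choose else 0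

theorem πY_eq [Finite G] [Finite F] [CharP F 2] (h : LSit M s) (hF : 4 ≤ Nat.card F) {v y : G}
    (hv : v ∈ V) (hc : v⁻¹ * y ∈ CC H T V) : πY M y = M.π v := by
  have hy : ∃ v ∈ V, v⁻¹ * y ∈ CC H T V := ⟨v, hv, hc⟩
  rw [πY, dif_pos hy, M.eq_iff hy.choose_spec.1 hv, ← h.V_inf_CC hF]
  refine ⟨V.mul_mem hy.choose_spec.1 (V.inv_mem hv), ?_⟩
  have hcomm : ∀ a ∈ V, ∀ b ∈ V, a * b = b * a := h.sit.dd.Vcomm
  have h1 := mul_mem hc (inv_mem hy.choose_spec.2)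
  have e : v⁻¹ * y * (hy.choose⁻¹ * y)⁻¹ = hy.choose * v⁻¹ := by
    rw [hcomm _ hy.choose_spec.1 _ (inv_mem hv)]; group
  rw [e] at h1
  exact h1

theorem πY_mul_c [Finite G] [Finite F] [CharP F 2] (h : LSit M s) (hF : 4 ≤ Nat.card F) {v c : G}
    (hv : v ∈ V) (hc : c ∈ CC H T V) : πY M (v * c) = M.π v :=
  h.πY_eq hF hv (by rwa [inv_mul_cancel_left])

/-- `Y / C` is a natural module for `H`. -/
noncomputable def natY [Finite G] [Finite F] [CharP F 2] (h : LSit M s) (hF : 4 ≤ Nat.card F) :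
    NatSec F H (Y T V) (CC H T V) where
  π := πY M
  map_mul := by
    intro y hy z hz
    obtain ⟨v, hv, c, hc, rfl⟩ := h.Y_split hF hy
    obtain ⟨w, hw, d, hd, rfl⟩ := h.Y_split hF hz
    have e : v * c * (w * d) = v * w * (c * d) := by
      have h1 : c * w = w * c := elem_comm h.sit.dd.Y_elem c (mem_CC.1 hc).1 w (V_le_Y T V hw)
      calc v * c * (w * d) = v * (c * w) * d := by group
        _ = _ := by rw [h1]; group
    rw [e, h.πY_mul_c hF (mul_mem hv hw) (mul_mem hc hd), h.πY_mul_c hF hv hc,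
      h.πY_mul_c hF hw hd, M.map_mul v hv w hw]
  V0V := fun c hc => (mem_CC.1 hc).1
  ker := by
    intro y hy
    obtain ⟨v, hv, c, hc, rfl⟩ := h.Y_split hF hy
    rw [h.πY_mul_c hF hv hc, M.ker v hv, ← h.V_inf_CC hF]
    constructor
    · rintro ⟨-, h1⟩
      exact mul_mem h1 hc
    · intro h1
      refine ⟨hv, ?_⟩
      have := mul_mem h1 (inv_mem hc)
      rw [mul_inv_cancel_right] at this
      exact this
  surj := by
    intro x
    obtain ⟨v, hv, e⟩ := M.surj x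
    refine ⟨v, V_le_Y T V hv, ?_⟩
    have := h.πY_mul_c hF hv (one_mem (CC H T V))
    rw [mul_one] at this
    rw [this, e]
  Vn := h.sit.dd.Y_norm
  V0n := h.CC_norm
  lift := by
    intro A
    obtain ⟨g, hg, hA⟩ := M.lift A
    refine ⟨g, hg, fun y hy => ?_⟩
    obtain ⟨v, hv, c, hc, rfl⟩ := h.Y_split hF hy
    have e : g * (v * c) * g⁻¹ = (g * v * g⁻¹) * (g * c * g⁻¹) := by group
    rw [e, h.πY_mul_c hF (M.Vn g hg v hv) (h.CC_norm g hg c hc), h.πY_mul_c hF hv hc, hA v hv]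
  norm := by
    intro g hg x hx A hA
    have hA' : ∀ v ∈ V, M.π (x * v * x⁻¹) = ap A (M.π v) := by
      intro v hv
      have h1 := hA v (V_le_Y T V hv)
      have h2 := h.πY_mul_c hF (M.Vn x hx v hv) (one_mem (CC H T V))
      have h3 := h.πY_mul_c hF hv (one_mem (CC H T V))
      rw [mul_one] at h2 h3
      rwa [h2, h3] at h1
    obtain ⟨B, hB⟩ := M.norm g hg x hx A hA'
    refine ⟨B, fun y hy => ?_⟩
    obtain ⟨v, hv, c, hc, rfl⟩ := h.Y_split hF hy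
    have hk : g * x * g⁻¹ ∈ H := mul_mem (mul_mem hg hx) (inv_mem hg)
    have e : g * x * g⁻¹ * (v * c) * (g * x * g⁻¹)⁻¹ =
      (g * x * g⁻¹ * v * (g * x * g⁻¹)⁻¹) * (g * x * g⁻¹ * c * (g * x * g⁻¹)⁻¹) := by group
    rw [e, h.πY_mul_c hF (M.Vn _ hk v hv) (h.CC_norm _ hk c hc), h.πY_mul_c hF hv hc, hB v hv]

/-- `natY` and `M` induce the same matrices. -/
theorem natY_ind [Finite G] [Finite F] [CharP F 2] (h : LSit M s) (hF : 4 ≤ Nat.card F) {g : G}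
    (hg : g ∈ H) {A : Matrix.SpecialLinearGroup (Fin 2) F} : (h.natY hF).Ind g A ↔ M.Ind g A := by
  constructor
  · intro hA v hv
    have h1 := hA v (V_le_Y T V hv)
    have h2 := h.πY_mul_c hF (M.Vn g hg v hv) (one_mem (CC H T V))
    have h3 := h.πY_mul_c hF hv (one_mem (CC H T V))
    rw [mul_one] at h2 h3
    change πY M _ = ap A (πY M _) at h1
    rwa [h2, h3] at h1
  · intro hA y hy
    obtain ⟨v, hv, c, hc, rfl⟩ := h.Y_split hF hy
    have e : g * (v * c) * g⁻¹ = (g * v * g⁻¹) * (g * c * g⁻¹) := by group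
    change πY M _ = ap A (πY M _)
    rw [e, h.πY_mul_c hF (M.Vn g hg v hv) (h.CC_norm g hg c hc), h.πY_mul_c hF hv hc, hA v hv]

theorem natY_act [Finite G] [Finite F] [CharP F 2] (h : LSit M s) (hF : 4 ≤ Nat.card F) {g : G}
    (hg : g ∈ H) (x : Fin 2 → F) : (h.natY hF).act g x = M.act g x := by
  obtain ⟨v, hv, rfl⟩ := M.surj x
  have h3 := h.πY_mul_c hF hv (one_mem (CC H T V))
  have h2 := h.πY_mul_c hF (M.Vn g hg v hv) (one_mem (CC H T V))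
  rw [mul_one] at h2 h3
  have h4 : (h.natY hF).act g ((h.natY hF).π v) = (h.natY hF).π (g * v * g⁻¹) :=
    (h.natY hF).act_π hg (V_le_Y T V hv)
  change (h.natY hF).act g (πY M v) = πY M (g * v * g⁻¹) at h4
  rw [h3, h2] at h4
  rw [h4, M.act_π hg hv]

end LSit

end Cfsg.Agent.Omega.SQ1.MatchL

end

section


/-!
# SQ1, one block, `b = 1`, `q ≥ 4`: `LSit` gives `Mid`

`LSit.mid`: the output of L1-L3 for one block (`LSit`) gives the input of L4 (`Mid`), with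
`B = Baum(T)`, `Y = V Z`, `Z = Ω₁(Z(J(T)))`, `C = C_Y(L)`, `L = ⟨B^H⟩`.
-/

set_option autoImplicit false
set_option linter.unusedSectionVars false
set_option linter.unusedVariables false

namespace Cfsg.Agent.Omega.SQ1.MatchL

open Subgroup Cfsg Cfsg.Agent.PLocal.ThompsonJ Cfsg.Agent.ZN Cfsg.Agent.ZN.ChoiceBase
open Cfsg.Agent.ZN.ChoiceSit
open Cfsg.Agent.Omega.NatPair Cfsg.Agent.Lib.SL2Mat
open Cfsg.Agent.Omega.SQ1.FFOne Cfsg.Agent.Omega.SQ1.MatchOne Cfsg.Agent.Omega.SQ1.MidOne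
open Cfsg.Agent.Omega.SQ1.Bau
open Cfsg.Agent.Omega.SQ1.Bau.In (Y Z_le_Y V_le_Y)
open scoped Pointwise

universe u

variable {G : Type u} [Group G] {F : Type*} [Field F] {H T V V0 : Subgroup G} {s : G}

namespace LSit

variable {M : FFOne.FF F H T V V0}

theorem mem_Z_iff [Finite G] [Finite F] [CharP F 2] (h : LSit M s) (hF : 4 ≤ Nat.card F) {y : G}
    (hy : y ∈ Y T V) : y ∈ zj T ↔ πY M y 1 = 0 := by
  obtain ⟨v, hv, c, hc, rfl⟩ := h.Y_split hF hy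
  rw [h.πY_mul_c hF hv hc]
  have hcZ := h.CC_le_Z hc
  constructor
  · intro h1
    have h2 : v ∈ zj T := by
      have := mul_mem h1 (inv_mem hcZ)
      rwa [mul_inv_cancel_right] at this
    have h3 : v ∈ M.V1 := by
      rw [← h.sit.dd.Z_inf_V]
      exact ⟨h2, hv⟩
    exact (M.mem_V1.1 h3).2
  · intro h1
    exact mul_mem (h.sit.dd.V1_le_Z (M.mem_V1.2 ⟨hv, h1⟩)) hcZ

theorem s_B [Finite G] (h : LSit M s) {b : G} (hb : b ∈ bau T) : s * b * s⁻¹ ∈ bau T := by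
  have : s * b * s⁻¹ ∈ cj s (bau T) := ⟨b, hb, rfl⟩
  rwa [h.sit.cj_bau] at this

theorem s_Z [Finite G] (h : LSit M s) {z : G} (hz : z ∈ zj T) : s * z * s⁻¹ ∈ zj T := by
  have : s * z * s⁻¹ ∈ cj s (zj T) := ⟨z, hz, rfl⟩
  rwa [h.sit.cj_zj] at this

/-- **`LSit ⇒ Mid`** -/
noncomputable def mid [Finite G] [Finite F] [CharP F 2] (h : LSit M s) (hF : 4 ≤ Nat.card F) :
    Mid F H T (bau T) (Y T V) (zj T) (CC H T V) (nc H (bau T)) s :=
  { h.natY hF with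
    TH := h.TH
    LH := h.J_le
    BT := bau_le T
    BL := le_nc'
    YB := h.sit.Y_le_B
    ZY := Z_le_Y T V
    two := h.sit.two
    TL := fun t ht l hl => nc_norm (h.TH ht) hl
    TB := fun t ht b hb => conj_mem_of_norm (normalizer_le_bau T (le_normalizer ht)) hb
    TZ := fun t ht z hz =>
      conj_mem_of_norm (normalizer_le_of_cj (F := zj) zj_cj T (le_normalizer ht)) hz
    ind := fun l hl => by
      obtain ⟨hlH, A, hA⟩ := h.J_SL hl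
      exact ⟨A, (h.natY_ind hF hlH).2 hA⟩
    liftL := fun A => by
      obtain ⟨l, hl, hA⟩ := h.exists_j A
      exact ⟨l, hl, (h.natY_ind hF (h.J_le hl)).2 hA⟩
    kerL := fun l hl hk => by
      rw [← h.mem_kern_iff hF hl, ← M.ind_one_iff (h.J_le hl), ← h.natY_ind hF (h.J_le hl)]
      intro v hv
      rw [ap_one]
      exact hk v hv
    upB := fun b hb => by
      obtain ⟨c, hc⟩ := h.bau_up hb
      exact ⟨c, (h.natY_ind hF (h.TH (bau_le T hb))).2 hc⟩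
    cup := fun c => by
      obtain ⟨b, hb, hc⟩ := h.exists_b c
      exact ⟨b, hb, (h.natY_ind hF (h.TH (bau_le T hb))).2 hc⟩
    Zpi := fun y hy => h.mem_Z_iff hF hy
    cC := fun c => mem_CC
    Ycomm := fun x hx y hy => elem_comm h.sit.dd.Y_elem x hx y hy
    Ysq := fun y hy => h.sit.Ysq hy
    BcZ := fun b hb z hz => h.sit.B_cent_Z hb hz
    cent := fun t ht hc => mem_bau.2 ⟨ht, fun z hz => (hc z hz).symm⟩
    sT := fun t ht => conj_mem_of_norm h.sit.sN ht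
    ss := h.sit.sq
    sB := fun b hb => h.s_B hb
    sZ := fun z hz => h.s_Z hz
    prod := fun b hb => by
      obtain ⟨y, hy, u, ⟨y', hy', rfl⟩, e⟩ := h.sit.split' hb
      exact ⟨y, hy, y', hy', e⟩
    inf := fun y hy hsy => by
      have h1 : s * y * s⁻¹ ∈ Y T V ⊓ cj s (Y T V) := ⟨hsy, ⟨y, hy, rfl⟩⟩
      rw [h.sit.inf_eq, ← h.sit.cj_zj, mem_cj] at h1
      have e : s⁻¹ * (s * y * s⁻¹) * s = y := by group
      rwa [e] at h1
    CC := fun c hc hsc => by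
      have h1 : s * c * s⁻¹ ∈ LSit.CC H T V ⊓ cj s (LSit.CC H T V) := ⟨hsc, ⟨c, hc, rfl⟩⟩
      rw [h.CC_inf, mem_bot] at h1
      have e : c = s⁻¹ * (s * c * s⁻¹) * s := by group
      rw [e, h1]; group }

end LSit

end Cfsg.Agent.Omega.SQ1.MatchL

end

section


/-!
# SQ1, the end for `k = 1`, `q ≥ 4`: (F), (NS), (5.3)  (#11812)

`B = ⟨Y, Y'⟩` weakly closed in its normaliser, `Y' = Y^s`, `L = ⟨B^L⟩ ≤ N(Y)`, `C = C_Y(L)`,
`C' = C^s`, `C ∩ C' = 1`, `K ≤ N_L(B)` of odd order and transitive on `(Z / C) - 0`, `Z = Y ∩ Y'`;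
`z₀ ∈ Z`, `z₀ ≠ 1`, commutes with `s` and `C_G(z₀) ≤ N_G(B)`.

* `mem_of_fused` = (F), `NSIn.normal` = (NS): `L` is normal in `N_G(Y)`;
* `NSIn.dich` = (5.3): `C = 1` (type `L₃`) or `Z = C × C'` (type `Sp₄`);
* `Good z`: `z ∈ Z - (C ∪ C')`; `NSIn.go1`: `N_G(B) ∩ N(Y) ∩ N(Y')` is transitive on the good
  elements; `NSIn.go2`: a nontrivial element of `Z` centralised by an element which swaps `Y` and
  `Y'` is good; `NSIn.cent_good`: `C_G(z) ≤ N_G(B)` for `z` good; `NSIn.fused_good`.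
-/

set_option autoImplicit false

namespace Cfsg.Agent.Omega.SQ1.NS

open Subgroup Cfsg Cfsg.Agent.PLocal.ThompsonJ Cfsg.Agent.ZN Cfsg.Agent.ZN.ChoiceBase

universe u

variable {G : Type u} [Group G]

theorem cj_le_of {g : G} {H K : Subgroup G} (h : ∀ x ∈ H, g * x * g⁻¹ ∈ K) : cj g H ≤ K := by
  intro x hx
  have h1 := h _ (mem_cj.1 hx)
  have e : g * (g⁻¹ * x * g) * g⁻¹ = x := by group
  rwa [e] at h1

theorem mem_of_cj_le {g : G} {H K : Subgroup G} (h : cj g H ≤ K) {x : G} (hx : x ∈ H) :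
    g * x * g⁻¹ ∈ K := by
  apply h
  rw [mem_cj]
  have e : g⁻¹ * (g * x * g⁻¹) * g = x := by group
  rwa [e]

theorem conj_mem_cj {g x : G} {H : Subgroup G} (hx : x ∈ H) : g * x * g⁻¹ ∈ cj g H :=
  mem_of_cj_le le_rfl hx

/-- The weak closure of `B = J(S)` in `N_G(B)`. -/
theorem weak_of_jj [Finite G] {S B : Subgroup G} (hS : IsPGroup 2 S) (hJ : jj S = B)
    (hSyl : ∀ P : Subgroup G, IsPGroup 2 P → P ≤ normalizer (B : Set G) →
      ∃ n ∈ normalizer (B : Set G), cj n P ≤ S) (x : G)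
    (hx : ∀ b ∈ B, x * b * x⁻¹ ∈ normalizer (B : Set G)) : x ∈ normalizer (B : Set G) := by
  have hBS : B ≤ S := hJ ▸ jj_le S
  obtain ⟨n, hn, hnS⟩ := hSyl (cj x B) (isPGroup_cj x (hS.to_le hBS)) (cj_le_of hx)
  rw [cj_cj] at hnS
  have h1 : cj (n * x) B ≤ B := by
    have h2 : jj (cj (n * x) B) ≤ jj S := by
      refine jj_mono hnS ?_
      rw [mm_cj, ← hJ]
      exact (mm_eq_of_jj_le (T := jj S) (U := S) le_rfl (jj_le S)).ge
    rw [jj_cj, ← hJ, jj_eq_of_jj_le (T := jj S) (U := S) le_rfl (jj_le S)] at h2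
    rw [← hJ]
    exact h2
  have h3 : n * x ∈ normalizer (B : Set G) := mem_normalizer_of_cj_le h1
  have h4 := mul_mem (inv_mem hn) h3
  rwa [inv_mul_cancel_left] at h4

/-- (F) -/
theorem mem_of_fused {B : Subgroup G}
    (hw : ∀ x : G, (∀ b ∈ B, x * b * x⁻¹ ∈ normalizer (B : Set G)) → x ∈ normalizer (B : Set G))
    {z g : G} (hz : ∀ x, x * z = z * x → x ∈ normalizer (B : Set G))
    (hg : ∀ b ∈ B, b * (g * z * g⁻¹) = (g * z * g⁻¹) * b) : g ∈ normalizer (B : Set G) := by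
  rw [← inv_mem_iff]
  apply hw
  intro b hb
  apply hz
  have h1 := hg b hb
  have h2 : g⁻¹ * (b * (g * z * g⁻¹)) * g = g⁻¹ * ((g * z * g⁻¹) * b) * g := by rw [h1]
  have e1 : g⁻¹ * (b * (g * z * g⁻¹)) * g = g⁻¹ * b * g⁻¹⁻¹ * z := by group
  have e2 : g⁻¹ * ((g * z * g⁻¹) * b) * g = z * (g⁻¹ * b * g⁻¹⁻¹) := by group
  rw [← e1, ← e2, h2]

/-- (NS) -/
theorem normal_of [Finite G] {B Y L : Subgroup G}
    (hw : ∀ x : G, (∀ b ∈ B, x * b * x⁻¹ ∈ normalizer (B : Set G)) → x ∈ normalizer (B : Set G))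
    (hBL : B ≤ L) (hLY : L ≤ normalizer (Y : Set G))
    (hgen : ∀ N : Subgroup G, (∀ l ∈ L, ∀ b ∈ B, l * b * l⁻¹ ∈ N) → L ≤ N)
    (hcov : ∀ y ∈ Y, ∃ l ∈ L, ∀ b ∈ B, (l * b * l⁻¹) * y = y * (l * b * l⁻¹))
    {z : G} (hzY : z ∈ Y) (hz : ∀ x, x * z = z * x → x ∈ normalizer (B : Set G)) :
    normalizer (Y : Set G) ≤ normalizer (L : Set G) := by
  -- every conjugate of `B` under `N_G(Y)` is a conjugate under `L`
  have key : ∀ g ∈ normalizer (Y : Set G), ∀ b ∈ B, g * b * g⁻¹ ∈ L := by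
    intro g hg
    obtain ⟨l, hl, hlc⟩ := hcov _ ((mem_normalizer_iff.1 hg z).1 hzY)
    -- `g⁻¹ l ∈ N(B)`
    have h1 : l⁻¹ * g ∈ normalizer (B : Set G) := by
      apply mem_of_fused hw hz
      intro b hb
      have h2 := hlc b hb
      have e1 : b * (l⁻¹ * g * z * (l⁻¹ * g)⁻¹) = l⁻¹ * (l * b * l⁻¹ * (g * z * g⁻¹)) * l := by group
      have e2 : (l⁻¹ * g * z * (l⁻¹ * g)⁻¹) * b = l⁻¹ * ((g * z * g⁻¹) * (l * b * l⁻¹)) * l := by group
      rw [e1, e2, h2]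
    intro b hb
    have h3 : l⁻¹ * g * b * (l⁻¹ * g)⁻¹ ∈ B := (mem_normalizer_iff.1 h1 b).1 hb
    have h4 := mul_mem (mul_mem hl (hBL h3)) (inv_mem hl)
    have e : l * (l⁻¹ * g * b * (l⁻¹ * g)⁻¹) * l⁻¹ = g * b * g⁻¹ := by group
    rwa [e] at h4
  intro g hg
  apply mem_normalizer_of_cj_le
  rw [cj_le_iff]
  apply hgen
  intro l hl b hb
  rw [mem_cj]
  have h1 := key (g * l) (mul_mem hg (hLY hl)) b hb
  have e : g⁻¹⁻¹ * (l * b * l⁻¹) * g⁻¹ = g * l * b * (g * l)⁻¹ := by group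
  rwa [e]

/-- Elements of odd order cannot swap. -/
theorem fix_of_odd [Finite G] {B Y Y' : Subgroup G}
    (hsw : ∀ g ∈ normalizer (B : Set G), cj g Y = Y ∨ cj g Y = Y')
    (hsw' : ∀ g ∈ normalizer (B : Set G), cj g Y' = Y ∨ cj g Y' = Y')
    {K : Subgroup G} (hK : Odd (Nat.card K)) (hKB : K ≤ normalizer (B : Set G)) :
    K ≤ normalizer (Y : Set G) := by
  intro k hk
  have hodd : Odd (orderOf k) := by
    have h1 : orderOf k ∣ Nat.card K := by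
      have := orderOf_dvd_natCard (⟨k, hk⟩ : K)
      rwa [Subgroup.orderOf_mk] at this
    exact Odd.of_dvd_nat hK h1
  have h2 : k ^ 2 ∈ normalizer (Y : Set G) := by
    rw [mem_normalizer_iff_cj, pow_two, ← cj_cj]
    rcases hsw k (hKB hk) with h | h
    · rw [h, h]
    · rw [h]
      rcases hsw' k (hKB hk) with h' | h'
      · exact h'
      · have h3 : cj k Y = cj k Y' := by rw [h, h']
        have h4 : Y = Y' := by
          have := congrArg (cj k⁻¹) h3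
          rwa [cj_inv_cj, cj_inv_cj] at this
        rw [h', h4]
  obtain ⟨m, hm⟩ := hodd
  have h3 : k = (k ^ 2) ^ (m + 1) := by
    rw [← pow_mul]
    have e : 2 * (m + 1) = orderOf k + 1 := by omega
    rw [e, pow_add, pow_orderOf_eq_one, one_mul, pow_one]
  rw [h3]
  exact pow_mem h2 _

theorem card_sup {A C : Subgroup G} (hd : A ⊓ C = ⊥) (hc : ∀ a ∈ A, ∀ c ∈ C, a * c = c * a) :
    Nat.card ↥(A ⊔ C) = Nat.card A * Nat.card C := by
  have h1 := Cfsg.Agent.PLocal.ElemAbSup.card_sup_mul_card_inf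
    (A := A) (B := C) fun c hc' => mem_centralizer_iff.2 fun a ha => hc a ha c hc'
  rwa [hd, card_bot, mul_one] at h1

/-- Input for (NS) and (5.3). -/
structure NSIn (B Y Y' L K : Subgroup G) (s z₀ : G) : Prop where
  sY : cj s Y = Y'
  sY' : cj s Y' = Y
  BYY : B = Y ⊔ Y'
  /-- `B` is weakly closed in `N_G(B)` -/
  weak : ∀ x : G, (∀ b ∈ B, x * b * x⁻¹ ∈ normalizer (B : Set G)) → x ∈ normalizer (B : Set G)
  BL : B ≤ L
  LY : L ≤ normalizer (Y : Set G)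
  gen : ∀ N : Subgroup G, (∀ l ∈ L, ∀ b ∈ B, l * b * l⁻¹ ∈ N) → L ≤ N
  cover : ∀ y ∈ Y, ∃ l ∈ L, ∀ b ∈ B, (l * b * l⁻¹) * y = y * (l * b * l⁻¹)
  Bz : ∀ z ∈ Y ⊓ Y', ∀ b ∈ B, b * z = z * b
  zB : ∀ y ∈ Y, (∀ b ∈ B, b * y = y * b) → y ∈ Y'
  z0Y : z₀ ∈ Y
  z0ne : z₀ ≠ 1
  z0s : s * z₀ = z₀ * s
  z0c : ∀ x, x * z₀ = z₀ * x → x ∈ normalizer (B : Set G)
  swap : ∀ g ∈ normalizer (B : Set G), cj g Y = Y ∨ cj g Y = Y'
  swap' : ∀ g ∈ normalizer (B : Set G), cj g Y' = Y ∨ cj g Y' = Y'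
  KL : K ≤ L
  KB : K ≤ normalizer (B : Set G)
  Kodd : Odd (Nat.card K)
  Ktrans : ∀ z ∈ Y ⊓ Y', z ∉ centralizer (L : Set G) → ∀ w ∈ Y ⊓ Y', w ∉ centralizer (L : Set G) →
    ∃ k ∈ K, k * z * k⁻¹ * w⁻¹ ∈ centralizer (L : Set G)
  /-- `C ∩ C^s = 1` -/
  disj : (Y ⊓ centralizer (L : Set G)) ⊓ cj s (Y ⊓ centralizer (L : Set G)) = ⊥

namespace NSIn

variable {B Y Y' L K : Subgroup G} {s z₀ : G}

/-- good elements -/
def Good (Y Y' L : Subgroup G) (s z : G) : Prop :=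
  z ∈ Y ⊓ Y' ∧ z ∉ Y ⊓ centralizer (L : Set G) ∧ z ∉ cj s (Y ⊓ centralizer (L : Set G))

/-- (NS) -/
theorem normal [Finite G] (h : NSIn B Y Y' L K s z₀) :
    normalizer (Y : Set G) ≤ normalizer (L : Set G) :=
  normal_of h.weak h.BL h.LY h.gen h.cover h.z0Y h.z0c

theorem K_Y [Finite G] (h : NSIn B Y Y' L K s z₀) : K ≤ normalizer (Y : Set G) :=
  fix_of_odd h.swap h.swap' h.Kodd h.KB

theorem K_Y' [Finite G] (h : NSIn B Y Y' L K s z₀) : K ≤ normalizer (Y' : Set G) :=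
  fix_of_odd (fun g hg => (h.swap' g hg).symm) (fun g hg => (h.swap g hg).symm) h.Kodd h.KB

/-- `N_G(Y)` normalises `C`. -/
theorem cj_C [Finite G] (h : NSIn B Y Y' L K s z₀) {g : G} (hg : cj g Y = Y) :
    cj g (Y ⊓ centralizer (L : Set G)) = Y ⊓ centralizer (L : Set G) := by
  have hgL := cj_eq_of_mem_normalizer (h.normal (mem_normalizer_iff_cj.2 hg))
  rw [cj_inf, hg, cj_centralizer, hgL]

theorem s_sq (h : NSIn B Y Y' L K s z₀) : cj (s * s) Y = Y := by rw [← cj_cj, h.sY, h.sY']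

theorem cj_sC [Finite G] (h : NSIn B Y Y' L K s z₀) :
    cj s (cj s (Y ⊓ centralizer (L : Set G))) = Y ⊓ centralizer (L : Set G) := by
  rw [cj_cj, h.cj_C h.s_sq]

theorem cj_sinv (h : NSIn B Y Y' L K s z₀) : cj s⁻¹ Y' = Y := by rw [← h.sY, cj_inv_cj]

theorem cj_sinv' (h : NSIn B Y Y' L K s z₀) : cj s⁻¹ Y = Y' := by
  have := cj_inv_cj s Y'
  rwa [h.sY'] at this

/-- an element which maps `Y` to `Y'` maps `C` to `C'`. -/
theorem cj_C_swap [Finite G] (h : NSIn B Y Y' L K s z₀) {g : G} (hg : cj g Y = Y') :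
    cj g (Y ⊓ centralizer (L : Set G)) = cj s (Y ⊓ centralizer (L : Set G)) := by
  have h1 : cj (s⁻¹ * g) Y = Y := by rw [← cj_cj, hg, h.cj_sinv]
  have h2 := h.cj_C h1
  rw [← cj_cj] at h2
  have h3 := congrArg (cj s) h2
  rwa [cj_cj_inv] at h3

/-- an element which maps `Y'` to `Y` maps `C'` to `C`. -/
theorem cj_C'_swap [Finite G] (h : NSIn B Y Y' L K s z₀) {g : G} (hg : cj g Y' = Y) :
    cj g (cj s (Y ⊓ centralizer (L : Set G))) = Y ⊓ centralizer (L : Set G) := by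
  rw [cj_cj]
  apply h.cj_C
  rw [← cj_cj, h.sY, hg]

/-- an element which normalises `Y'` normalises `C'`. -/
theorem cj_C' [Finite G] (h : NSIn B Y Y' L K s z₀) {g : G} (hg : cj g Y' = Y') :
    cj g (cj s (Y ⊓ centralizer (L : Set G))) = cj s (Y ⊓ centralizer (L : Set G)) := by
  rw [cj_cj]
  apply h.cj_C_swap
  rw [← cj_cj, h.sY, hg]

theorem sB (h : NSIn B Y Y' L K s z₀) : s ∈ normalizer (B : Set G) := by
  have h1 : cj s B = cj s Y ⊔ cj s Y' := by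
    rw [h.BYY]
    exact map_sup _ _ _
  rw [mem_normalizer_iff_cj, h1, h.sY, h.sY', h.BYY, sup_comm]

theorem C_Z (h : NSIn B Y Y' L K s z₀) : Y ⊓ centralizer (L : Set G) ≤ Y ⊓ Y' := by
  intro c hc
  exact ⟨hc.1, h.zB c hc.1 fun b hb => mem_centralizer_iff.1 hc.2 b (h.BL hb)⟩

theorem cj_Z (h : NSIn B Y Y' L K s z₀) : cj s (Y ⊓ Y') = Y ⊓ Y' := by
  rw [cj_inf, h.sY, h.sY', inf_comm]

theorem C'_Z (h : NSIn B Y Y' L K s z₀) : cj s (Y ⊓ centralizer (L : Set G)) ≤ Y ⊓ Y' := by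
  rw [← h.cj_Z]
  exact cj_mono s h.C_Z

theorem sinv_Z (h : NSIn B Y Y' L K s z₀) {z : G} (hz : z ∈ Y ⊓ Y') : s⁻¹ * z * s ∈ Y ⊓ Y' := by
  rw [← h.cj_Z] at hz
  exact mem_cj.1 hz

/-- `K` centralises `C`. -/
theorem K_C (h : NSIn B Y Y' L K s z₀) {c k : G} (hc : c ∈ Y ⊓ centralizer (L : Set G))
    (hk : k ∈ K) : k * c = c * k := mem_centralizer_iff.1 hc.2 k (h.KL hk)

/-- `K^s` centralises `C'`. -/
theorem K'_C' (h : NSIn B Y Y' L K s z₀) {c k : G}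
    (hc : c ∈ cj s (Y ⊓ centralizer (L : Set G))) (hk : k ∈ cj s K) : k * c = c * k := by
  have h1 := h.K_C (mem_cj.1 hc) (mem_cj.1 hk)
  have e1 : s⁻¹ * k * s * (s⁻¹ * c * s) = s⁻¹ * (k * c) * s := by group
  have e2 : s⁻¹ * c * s * (s⁻¹ * k * s) = s⁻¹ * (c * k) * s := by group
  rw [e1, e2] at h1
  exact mul_left_cancel (mul_right_cancel h1)

theorem K'_Y [Finite G] (h : NSIn B Y Y' L K s z₀) : cj s K ≤ normalizer (Y : Set G) := by
  have h1 := cj_mono s h.K_Y'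
  rwa [cj_normalizer, h.sY'] at h1

theorem K'_Y' [Finite G] (h : NSIn B Y Y' L K s z₀) : cj s K ≤ normalizer (Y' : Set G) := by
  have h1 := cj_mono s h.K_Y
  rwa [cj_normalizer, h.sY] at h1

theorem K'_B [Finite G] (h : NSIn B Y Y' L K s z₀) : cj s K ≤ normalizer (B : Set G) := by
  have h1 := cj_mono s h.KB
  rwa [cj_normalizer, cj_eq_of_mem_normalizer h.sB] at h1

/-- `C_Z(L)` -/
theorem mem_C_of (_h : NSIn B Y Y' L K s z₀) {z : G} (hz : z ∈ Y)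
    (h' : z ∈ centralizer (L : Set G)) : z ∈ Y ⊓ centralizer (L : Set G) := ⟨hz, h'⟩

/-- `K` is transitive on `(Z/C) - 0`. -/
theorem K_trans [Finite G] (h : NSIn B Y Y' L K s z₀) {z w : G} (hz : z ∈ Y ⊓ Y')
    (hzC : z ∉ Y ⊓ centralizer (L : Set G)) (hw : w ∈ Y ⊓ Y')
    (hwC : w ∉ Y ⊓ centralizer (L : Set G)) :
    ∃ k ∈ K, k * z * k⁻¹ * w⁻¹ ∈ Y ⊓ centralizer (L : Set G) := by
  obtain ⟨k, hk, hkc⟩ := h.Ktrans z hz (fun hc => hzC ⟨hz.1, hc⟩) w hw (fun hc => hwC ⟨hw.1, hc⟩)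
  exact ⟨k, hk, mul_mem ((mem_normalizer_iff.1 (h.K_Y hk) z).1 hz.1) (Y.inv_mem hw.1), hkc⟩

/-- `K^s` is transitive on `(Z/C') - 0`. -/
theorem K'_trans [Finite G] (h : NSIn B Y Y' L K s z₀) {z w : G} (hz : z ∈ Y ⊓ Y')
    (hzC : z ∉ cj s (Y ⊓ centralizer (L : Set G))) (hw : w ∈ Y ⊓ Y')
    (hwC : w ∉ cj s (Y ⊓ centralizer (L : Set G))) :
    ∃ k ∈ cj s K, k * z * k⁻¹ * w⁻¹ ∈ cj s (Y ⊓ centralizer (L : Set G)) := by
  obtain ⟨k, hk, hkc⟩ := h.K_trans (h.sinv_Z hz) (fun hc => hzC (mem_cj.2 hc)) (h.sinv_Z hw)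
    (fun hc => hwC (mem_cj.2 hc))
  refine ⟨s * k * s⁻¹, conj_mem_cj hk, ?_⟩
  rw [mem_cj]
  have e : s⁻¹ * (s * k * s⁻¹ * z * (s * k * s⁻¹)⁻¹ * w⁻¹) * s
      = k * (s⁻¹ * z * s) * k⁻¹ * (s⁻¹ * w * s)⁻¹ := by group
  rwa [e]

/-- `K^s` is transitive on `C - 1`. -/
theorem K'_C_trans [Finite G] (h : NSIn B Y Y' L K s z₀) {c d : G}
    (hc : c ∈ Y ⊓ centralizer (L : Set G)) (hc1 : c ≠ 1)
    (hd : d ∈ Y ⊓ centralizer (L : Set G)) (hd1 : d ≠ 1) : ∃ k ∈ cj s K, k * c * k⁻¹ = d := by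
  have hn : ∀ x ∈ Y ⊓ centralizer (L : Set G), x ≠ 1 →
      x ∉ cj s (Y ⊓ centralizer (L : Set G)) := by
    intro x hx hx1 hx'
    apply hx1
    have : x ∈ (Y ⊓ centralizer (L : Set G)) ⊓ cj s (Y ⊓ centralizer (L : Set G)) := ⟨hx, hx'⟩
    rwa [h.disj, mem_bot] at this
  obtain ⟨k, hk, hkc⟩ := h.K'_trans (h.C_Z hc) (hn c hc hc1) (h.C_Z hd) (hn d hd hd1)
  refine ⟨k, hk, ?_⟩
  have h1 : k * c * k⁻¹ ∈ Y ⊓ centralizer (L : Set G) := by
    have h2 := conj_mem_cj (g := k) hc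
    rwa [h.cj_C (cj_eq_of_mem_normalizer (h.K'_Y hk))] at h2
  have h3 : k * c * k⁻¹ * d⁻¹ ∈
      (Y ⊓ centralizer (L : Set G)) ⊓ cj s (Y ⊓ centralizer (L : Set G)) :=
    ⟨mul_mem h1 (Subgroup.inv_mem _ hd), hkc⟩
  rw [h.disj, mem_bot] at h3
  exact mul_inv_eq_one.1 h3

/-- `K` is transitive on `C' - 1`. -/
theorem K_C'_trans [Finite G] (h : NSIn B Y Y' L K s z₀) {c d : G}
    (hc : c ∈ cj s (Y ⊓ centralizer (L : Set G))) (hc1 : c ≠ 1)
    (hd : d ∈ cj s (Y ⊓ centralizer (L : Set G))) (hd1 : d ≠ 1) :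
    ∃ k ∈ K, k * c * k⁻¹ = d := by
  have hn : ∀ x ∈ cj s (Y ⊓ centralizer (L : Set G)), x ≠ 1 →
      x ∉ Y ⊓ centralizer (L : Set G) := by
    intro x hx hx1 hx'
    apply hx1
    have : x ∈ (Y ⊓ centralizer (L : Set G)) ⊓ cj s (Y ⊓ centralizer (L : Set G)) := ⟨hx', hx⟩
    rwa [h.disj, mem_bot] at this
  obtain ⟨k, hk, hkc⟩ := h.K_trans (h.C'_Z hc) (hn c hc hc1) (h.C'_Z hd) (hn d hd hd1)
  refine ⟨k, hk, ?_⟩
  have h1 : k * c * k⁻¹ ∈ cj s (Y ⊓ centralizer (L : Set G)) := by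
    have h2 := conj_mem_cj (g := k) hc
    rwa [h.cj_C' (cj_eq_of_mem_normalizer (h.K_Y' hk))] at h2
  have h3 : k * c * k⁻¹ * d⁻¹ ∈
      (Y ⊓ centralizer (L : Set G)) ⊓ cj s (Y ⊓ centralizer (L : Set G)) :=
    ⟨hkc, mul_mem h1 (Subgroup.inv_mem _ hd)⟩
  rw [h.disj, mem_bot] at h3
  exact mul_inv_eq_one.1 h3

theorem C'_bot (_h : NSIn B Y Y' L K s z₀) (hC : Y ⊓ centralizer (L : Set G) = ⊥) :
    cj s (Y ⊓ centralizer (L : Set G)) = ⊥ := by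
  rw [hC]
  exact map_bot _

theorem C_comm (h : NSIn B Y Y' L K s z₀) {c d : G} (hc : c ∈ Y ⊓ Y') (hd : d ∈ Y ⊓ Y') :
    c * d = d * c := by
  refine h.Bz d hd c ?_
  rw [h.BYY]
  exact mem_sup_left hc.1

/-- (5.3): `C = 1` or `Z = C C'`. -/
theorem dich [Finite G] (h : NSIn B Y Y' L K s z₀) :
    Y ⊓ centralizer (L : Set G) = ⊥ ∨
      ∀ z ∈ Y ⊓ Y', ∃ c ∈ Y ⊓ centralizer (L : Set G),
        ∃ d ∈ cj s (Y ⊓ centralizer (L : Set G)), z = c * d := by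
  by_cases hC : Y ⊓ centralizer (L : Set G) = ⊥
  · exact Or.inl hC
  right
  obtain ⟨c, hc, hc1⟩ := (bot_or_exists_ne_one _).resolve_left hC
  intro z hz
  by_cases hzC : z ∈ cj s (Y ⊓ centralizer (L : Set G))
  · exact ⟨1, one_mem _, z, hzC, (one_mul z).symm⟩
  have hcC : c ∉ cj s (Y ⊓ centralizer (L : Set G)) := by
    intro hx'
    apply hc1
    have : c ∈ (Y ⊓ centralizer (L : Set G)) ⊓ cj s (Y ⊓ centralizer (L : Set G)) := ⟨hc, hx'⟩
    rwa [h.disj, mem_bot] at this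
  obtain ⟨k, hk, hkc⟩ := h.K'_trans (h.C_Z hc) hcC hz hzC
  have h1 : k * c * k⁻¹ ∈ Y ⊓ centralizer (L : Set G) := by
    have h2 := conj_mem_cj (g := k) hc
    rwa [h.cj_C (cj_eq_of_mem_normalizer (h.K'_Y hk))] at h2
  refine ⟨k * c * k⁻¹, h1, (k * c * k⁻¹ * z⁻¹)⁻¹, inv_mem hkc, ?_⟩
  have h3 := h.C_comm hz (h.C_Z h1)
  rw [mul_inv_rev, inv_inv, ← mul_assoc, ← h3, mul_inv_cancel_right]

theorem Z_eq [Finite G] (h : NSIn B Y Y' L K s z₀) (hC : Y ⊓ centralizer (L : Set G) ≠ ⊥) :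
    Y ⊓ Y' = (Y ⊓ centralizer (L : Set G)) ⊔ cj s (Y ⊓ centralizer (L : Set G)) := by
  apply le_antisymm
  · intro z hz
    obtain ⟨c, hc, d, hd, rfl⟩ := h.dich.resolve_left hC z hz
    exact mul_mem_sup hc hd
  · exact sup_le h.C_Z h.C'_Z

/-- `|C| = q` in type `Sp₄`. -/
theorem card_C [Finite G] (h : NSIn B Y Y' L K s z₀) (hC : Y ⊓ centralizer (L : Set G) ≠ ⊥)
    {q : ℕ} (hq : Nat.card ↥(Y ⊓ Y') = Nat.card ↥(Y ⊓ centralizer (L : Set G)) * q) :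
    Nat.card ↥(Y ⊓ centralizer (L : Set G)) = q := by
  have h1 := Cfsg.Agent.Omega.SQ1.NS.card_sup (h.disj) fun c hc d hd => h.C_comm (h.C_Z hc) (h.C'_Z hd)
  rw [← h.Z_eq hC, hq, card_cj] at h1
  exact (Nat.eq_of_mul_eq_mul_left Nat.card_pos h1).symm

/-- `N_G(B) ∩ N(Y) ∩ N(Y')` is transitive on the good elements. -/
theorem go1 [Finite G] (h : NSIn B Y Y' L K s z₀) {z w : G} (hz : Good Y Y' L s z)
    (hw : Good Y Y' L s w) : ∃ n, n ∈ normalizer (B : Set G) ∧ n ∈ normalizer (Y : Set G) ∧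
      n ∈ normalizer (Y' : Set G) ∧ n * z * n⁻¹ = w := by
  rcases h.dich with hC | hC
  · obtain ⟨k, hk, hkc⟩ := h.K_trans hz.1 hz.2.1 hw.1 hw.2.1
    rw [hC, mem_bot] at hkc
    exact ⟨k, h.KB hk, h.K_Y hk, h.K_Y' hk, mul_inv_eq_one.1 hkc⟩
  · obtain ⟨c, hc, d, hd, rfl⟩ := hC z hz.1
    obtain ⟨c', hc', d', hd', rfl⟩ := hC w hw.1
    have hc1 : c ≠ 1 := by
      rintro rfl
      exact hz.2.2 (by rwa [one_mul])
    have hd1 : d ≠ 1 := by
      rintro rfl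
      exact hz.2.1 (by rwa [mul_one])
    have hc1' : c' ≠ 1 := by
      rintro rfl
      exact hw.2.2 (by rwa [one_mul])
    have hd1' : d' ≠ 1 := by
      rintro rfl
      exact hw.2.1 (by rwa [mul_one])
    obtain ⟨k, hk, hkc⟩ := h.K'_C_trans hc hc1 hc' hc1'
    obtain ⟨l, hl, hld⟩ := h.K_C'_trans hd hd1 hd' hd1'
    refine ⟨l * k, mul_mem (h.KB hl) (h.K'_B hk), mul_mem (h.K_Y hl) (h.K'_Y hk),
      mul_mem (h.K_Y' hl) (h.K'_Y' hk), ?_⟩
    have e1 : k * d * k⁻¹ = d := by rw [h.K'_C' hd hk, mul_inv_cancel_right]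
    have e2 : l * c' * l⁻¹ = c' := by rw [h.K_C hc' hl, mul_inv_cancel_right]
    have e3 : l * k * (c * d) * (l * k)⁻¹ = l * ((k * c * k⁻¹) * (k * d * k⁻¹)) * l⁻¹ := by group
    rw [e3, e1, hkc]
    have e4 : l * (c' * d) * l⁻¹ = (l * c' * l⁻¹) * (l * d * l⁻¹) := by group
    rw [e4, e2, hld]

/-- (*) a nontrivial element of `Z` centralised by a swap is good. -/
theorem go2 [Finite G] (h : NSIn B Y Y' L K s z₀) {x z : G} (hx : cj x Y = Y')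
    (hx' : cj x Y' = Y) (hz : z ∈ Y ⊓ Y') (hz1 : z ≠ 1) (hxz : x * z = z * x) :
    Good Y Y' L s z := by
  have e : x * z * x⁻¹ = z := by rw [hxz, mul_inv_cancel_right]
  refine ⟨hz, fun hc => ?_, fun hc => ?_⟩
  · have h1 := conj_mem_cj (g := x) hc
    rw [h.cj_C_swap hx, e] at h1
    apply hz1
    have : z ∈ (Y ⊓ centralizer (L : Set G)) ⊓ cj s (Y ⊓ centralizer (L : Set G)) := ⟨hc, h1⟩
    rwa [h.disj, mem_bot] at this
  · have h1 := conj_mem_cj (g := x) hc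
    rw [h.cj_C'_swap hx', e] at h1
    apply hz1
    have : z ∈ (Y ⊓ centralizer (L : Set G)) ⊓ cj s (Y ⊓ centralizer (L : Set G)) := ⟨h1, hc⟩
    rwa [h.disj, mem_bot] at this

theorem z0Z (h : NSIn B Y Y' L K s z₀) : z₀ ∈ Y ⊓ Y' := by
  refine ⟨h.z0Y, ?_⟩
  have h1 := conj_mem_cj (g := s) h.z0Y
  rwa [h.sY, h.z0s, mul_inv_cancel_right] at h1

theorem good0 [Finite G] (h : NSIn B Y Y' L K s z₀) : Good Y Y' L s z₀ :=
  h.go2 h.sY h.sY' h.z0Z h.z0ne h.z0s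

/-- `C_G(z) ≤ N_G(B)` for `z` good. -/
theorem cent_good [Finite G] (h : NSIn B Y Y' L K s z₀) {z : G} (hz : Good Y Y' L s z) {x : G}
    (hx : x * z = z * x) : x ∈ normalizer (B : Set G) := by
  obtain ⟨n, hn, -, -, hnz⟩ := h.go1 hz h.good0
  have h1 : n * x * n⁻¹ ∈ normalizer (B : Set G) := by
    apply h.z0c
    rw [← hnz]
    have e1 : n * x * n⁻¹ * (n * z * n⁻¹) = n * (x * z) * n⁻¹ := by group
    have e2 : n * z * n⁻¹ * (n * x * n⁻¹) = n * (z * x) * n⁻¹ := by group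
    rw [e1, e2, hx]
  have h2 := mul_mem (mul_mem (inv_mem hn) h1) hn
  have e : n⁻¹ * (n * x * n⁻¹) * n = x := by group
  rwa [e] at h2

/-- (F) for good elements. -/
theorem fused_good [Finite G] (h : NSIn B Y Y' L K s z₀) {z g : G} (hz : Good Y Y' L s z)
    (hg : g * z * g⁻¹ ∈ Y ⊓ Y') : g ∈ normalizer (B : Set G) :=
  mem_of_fused h.weak (fun _ hx => h.cent_good hz hx) fun b hb => h.Bz _ hg b hb

/-- `N_G(B)` permutes the good elements. -/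
theorem good_conj [Finite G] (h : NSIn B Y Y' L K s z₀) {z n : G} (hz : Good Y Y' L s z)
    (hn : n ∈ normalizer (B : Set G)) : Good Y Y' L s (n * z * n⁻¹) := by
  have hne : Y = Y' → Y ⊓ centralizer (L : Set G) = cj s (Y ⊓ centralizer (L : Set G)) :=
    fun hY => (h.cj_C (by rw [h.sY, hY])).symm
  have key : ∀ {A : Subgroup G} {x : G}, n * x * n⁻¹ ∈ cj n A → x ∈ A := by
    intro A x hx
    have := mem_cj.1 hx
    have e : n⁻¹ * (n * x * n⁻¹) * n = x := by group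
    rwa [e] at this
  rcases h.swap n hn with h1 | h1 <;> rcases h.swap' n hn with h2 | h2
  · have hY : Y = Y' := by
      have := congrArg (cj n⁻¹) (h1.trans h2.symm)
      rwa [cj_inv_cj, cj_inv_cj] at this
    refine ⟨⟨by rw [← h1]; exact conj_mem_cj hz.1.1, by rw [← hY, ← h1]; exact conj_mem_cj hz.1.1⟩,
      fun hc => hz.2.1 ?_, fun hc => hz.2.1 ?_⟩
    · rw [← h.cj_C h1] at hc
      exact key hc
    · rw [← hne hY, ← h.cj_C h1] at hc
      exact key hc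
  · refine ⟨⟨by rw [← h1]; exact conj_mem_cj hz.1.1, by rw [← h2]; exact conj_mem_cj hz.1.2⟩,
      fun hc => hz.2.1 ?_, fun hc => hz.2.2 ?_⟩
    · rw [← h.cj_C h1] at hc
      exact key hc
    · rw [← h.cj_C' h2] at hc
      exact key hc
  · refine ⟨⟨by rw [← h2]; exact conj_mem_cj hz.1.2, by rw [← h1]; exact conj_mem_cj hz.1.1⟩,
      fun hc => hz.2.2 ?_, fun hc => hz.2.1 ?_⟩
    · rw [← h.cj_C'_swap h2] at hc
      exact key hc
    · rw [← h.cj_C_swap h1] at hc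
      exact key hc
  · have hY : Y = Y' := by
      have := congrArg (cj n⁻¹) (h1.trans h2.symm)
      rwa [cj_inv_cj, cj_inv_cj] at this
    refine ⟨⟨by rw [hY, ← h1]; exact conj_mem_cj hz.1.1, by rw [← h1]; exact conj_mem_cj hz.1.1⟩,
      fun hc => hz.2.1 ?_, fun hc => hz.2.1 ?_⟩
    · rw [hne hY, ← h.cj_C_swap h1] at hc
      exact key hc
    · rw [← h.cj_C_swap h1] at hc
      exact key hc

end NSIn

end Cfsg.Agent.Omega.SQ1.NS

end

section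


/-!
# THEOREM FPB (OMEGA #16134, helper526), part 1: the order argument

`S` is a 2-group, `Y ≤ S` elementary abelian, `A ∈ A(S)`.  For `W ≤ Y` and `E ≤ A` we have
`|E| |C_W(E)| ≤ |A| |C_W(A)|`; `BB W A E` says that equality holds.  `BB` is closed under `⊓`,
and `E C_W(E) ∈ A(S)` for `BB W A E`.

`Bk S Y L V`: an abstract Baumann block over `B = bau S` with module `V ≤ Y`.
`Bk.off`: for `V ≤ W ≤ Y` and `E` with `E C_W(E) ∈ A(S)`, `E ≰ P = C_B(V)`: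
`B = E P`, `C_W(E ⊓ P) = V C_W(E)`, `|E : E ⊓ P| = |V : V ⊓ Z_J|`.
-/

set_option autoImplicit false

namespace Cfsg.Agent.Omega.NO3b.FPB.Base

open Subgroup Cfsg Cfsg.Agent.PLocal.ThompsonJ Cfsg.Agent.ZN Cfsg.Agent.ZN.ChoiceBase
open Cfsg.Agent.PLocal.ElemAbSup
open Cfsg.Agent.Omega.SQ1.Bau (mem_AA_of_comm zj_le_AA elem_comm elem_sq mem_sup_comm card_sup_comm
  mem_sup_norm Mv not_mv_iff mv_inv exists_min)
open Cfsg.Agent.Omega.SQ1.BauK.InK (QL mem_QL not_QL)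
open scoped Pointwise

universe u

variable {G : Type u} [Group G]

/-! ### `C_W(E)` -/

/-- `C_W(E)`. -/
def cW (W E : Subgroup G) : Subgroup G := W ⊓ centralizer (E : Set G)

theorem mem_cW {W E : Subgroup G} {x : G} : x ∈ cW W E ↔ x ∈ W ∧ ∀ e ∈ E, e * x = x * e := by
  rw [cW, mem_inf, mem_centralizer_iff]
  rfl

theorem cW_le (W E : Subgroup G) : cW W E ≤ W := inf_le_left

theorem cW_anti (W : Subgroup G) {E F : Subgroup G} (h : E ≤ F) : cW W F ≤ cW W E :=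
  fun _ hx => mem_cW.2 ⟨(mem_cW.1 hx).1, fun e he => (mem_cW.1 hx).2 e (h he)⟩

theorem cW_sup (W E F : Subgroup G) : cW W (E ⊔ F) = cW W E ⊓ cW W F := by
  apply le_antisymm (le_inf (cW_anti W le_sup_left) (cW_anti W le_sup_right))
  rintro x ⟨h1, h2⟩
  obtain ⟨h1, h1'⟩ := mem_cW.1 h1
  obtain ⟨-, h2'⟩ := mem_cW.1 h2
  refine mem_cW.2 ⟨h1, ?_⟩
  have h3 : E ⊔ F ≤ centralizer ({x} : Set G) := by
    refine sup_le (fun e he => ?_) (fun e he => ?_)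
    · rw [mem_centralizer_iff]
      intro y hy
      rw [show y = x from hy]
      exact (h1' e he).symm
    · rw [mem_centralizer_iff]
      intro y hy
      rw [show y = x from hy]
      exact (h2' e he).symm
  exact fun e he => (mem_centralizer_iff.1 (h3 he) x rfl).symm

/-- `C_W(A) = A ⊓ W` for `A ∈ A(S)`. -/
theorem cW_eq [Finite G] {S W A : Subgroup G} (hA : A ∈ AA S) (hWS : W ≤ S)
    (hW : IsElementaryAbelian 2 W) : cW W A = A ⊓ W := by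
  apply le_antisymm
  · intro x hx
    obtain ⟨h1, h2⟩ := mem_cW.1 hx
    exact ⟨mem_AA_of_comm hA (hWS h1) (elem_sq hW x h1) h2, h1⟩
  · rintro x ⟨h1, h2⟩
    exact mem_cW.2 ⟨h2, fun e he => elem_comm hA.1 e he x h1⟩

theorem cW_comm {W E : Subgroup G} : ∀ e ∈ E, ∀ c ∈ cW W E, e * c = c * e :=
  fun e he _ hc => (mem_cW.1 hc).2 e he

/-- `|E C_W(E)| |E ⊓ W| = |E| |C_W(E)|`. -/
theorem card_star [Finite G] {W E : Subgroup G} (hE : IsElementaryAbelian 2 E) :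
    Nat.card ↥(E ⊔ cW W E) * Nat.card ↥(E ⊓ W) = Nat.card E * Nat.card (cW W E) := by
  rw [← card_sup_comm cW_comm]
  have h : E ⊓ cW W E = E ⊓ W := by
    apply le_antisymm (inf_le_inf_left E (cW_le W E))
    rintro x ⟨h1, h2⟩
    exact ⟨h1, mem_cW.2 ⟨h2, fun e he => elem_comm hE e he x h1⟩⟩
  rw [h]

theorem star_elem [Finite G] {W E : Subgroup G} (hE : IsElementaryAbelian 2 E)
    (hW : IsElementaryAbelian 2 W) : IsElementaryAbelian 2 (E ⊔ cW W E : Subgroup G) :=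
  isElementaryAbelian_sup hE (isElementaryAbelian_mono hW (cW_le W E))
    fun _ hc => mem_centralizer_iff.2 fun e he => cW_comm e he _ hc

theorem star_le {S W E : Subgroup G} (hES : E ≤ S) (hWS : W ≤ S) : E ⊔ cW W E ≤ S :=
  sup_le hES ((cW_le W E).trans hWS)

/-- `|E| |C_W(E)| ≤ |A| |C_W(A)|`. -/
theorem card_le [Finite G] {S W A E : Subgroup G} (hA : A ∈ AA S) (hWS : W ≤ S)
    (hW : IsElementaryAbelian 2 W) (hE : E ≤ A) :
    Nat.card E * Nat.card (cW W E) ≤ Nat.card A * Nat.card (cW W A) := by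
  have hE2 := isElementaryAbelian_mono hA.1 hE
  rw [← card_star hE2, cW_eq hA hWS hW]
  exact Nat.mul_le_mul (hA.2.2 _ (star_elem hE2 hW) (star_le (hE.trans hA.2.1) hWS))
    (Subgroup.card_le_of_le (inf_le_inf_right W hE))

/-- `E ≤ A` with `|E| |C_W(E)| = |A| |C_W(A)|`. -/
def BB (W A E : Subgroup G) : Prop :=
  E ≤ A ∧ Nat.card A * Nat.card (cW W A) = Nat.card E * Nat.card (cW W E)

theorem BB.self (W A : Subgroup G) : BB W A A := ⟨le_rfl, rfl⟩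

theorem BB.star [Finite G] {S W A E : Subgroup G} (hA : A ∈ AA S) (hWS : W ≤ S)
    (hW : IsElementaryAbelian 2 W) (h : BB W A E) : E ⊔ cW W E ∈ AA S := by
  have hE2 := isElementaryAbelian_mono hA.1 h.1
  have h1 := h.2
  rw [← card_star hE2, cW_eq hA hWS hW] at h1
  have h2 : Nat.card ↥(E ⊓ W) ≤ Nat.card ↥(A ⊓ W) :=
    Subgroup.card_le_of_le (inf_le_inf_right W h.1)
  have h3 : 0 < Nat.card ↥(A ⊓ W) := Nat.card_pos
  rw [mem_AA_iff, mm_eq hA]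
  refine ⟨star_elem hE2 hW, star_le (h.1.trans hA.2.1) hWS, ?_⟩
  refine Nat.le_of_mul_le_mul_right ?_ h3
  rw [h1]
  exact Nat.mul_le_mul_left _ h2

theorem BB.inf [Finite G] {S W A E F : Subgroup G} (hA : A ∈ AA S) (hWS : W ≤ S)
    (hW : IsElementaryAbelian 2 W) (h : BB W A E) (h' : BB W A F) : BB W A (E ⊓ F) := by
  refine ⟨inf_le_left.trans h.1, le_antisymm ?_ ?_⟩
  · have h1 : Nat.card ↥(E ⊔ F) * Nat.card ↥(E ⊓ F) = Nat.card E * Nat.card F :=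
      card_sup_comm fun a ha b hb => elem_comm hA.1 a (h.1 ha) b (h'.1 hb)
    have h2 : Nat.card ↥(cW W E ⊔ cW W F) * Nat.card ↥(cW W E ⊓ cW W F) =
        Nat.card (cW W E) * Nat.card (cW W F) :=
      card_sup_comm fun a ha b hb => elem_comm hW a (cW_le W E ha) b (cW_le W F hb)
    have h3 : Nat.card ↥(cW W E ⊔ cW W F) ≤ Nat.card (cW W (E ⊓ F)) :=
      Subgroup.card_le_of_le (sup_le (cW_anti W inf_le_left) (cW_anti W inf_le_right))
    rw [← cW_sup] at h2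
    have h4 := card_le hA hWS hW (sup_le h.1 h'.1)
    set m := Nat.card A * Nat.card (cW W A) with hm
    have hmpos : 0 < m := Nat.mul_pos Nat.card_pos Nat.card_pos
    refine Nat.le_of_mul_le_mul_right ?_ hmpos
    calc m * m = (Nat.card E * Nat.card (cW W E)) * (Nat.card F * Nat.card (cW W F)) := by
          rw [← h.2, ← h'.2]
      _ = (Nat.card E * Nat.card F) * (Nat.card (cW W E) * Nat.card (cW W F)) := by ring
      _ = (Nat.card ↥(E ⊔ F) * Nat.card ↥(E ⊓ F)) *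
          (Nat.card ↥(cW W E ⊔ cW W F) * Nat.card (cW W (E ⊔ F))) := by rw [h1, h2]
      _ = (Nat.card ↥(E ⊓ F) * Nat.card ↥(cW W E ⊔ cW W F)) *
          (Nat.card ↥(E ⊔ F) * Nat.card (cW W (E ⊔ F))) := by ring
      _ ≤ (Nat.card ↥(E ⊓ F) * Nat.card (cW W (E ⊓ F))) * m :=
          Nat.mul_le_mul (Nat.mul_le_mul_left _ h3) h4
  · exact card_le hA hWS hW (inf_le_left.trans h.1)

/-! ### Abstract Baumann blocks -/

/-- The line `V ⊓ Z_J`. -/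
def ln (S V : Subgroup G) : Subgroup G := V ⊓ zj S

theorem mem_ln {S V : Subgroup G} {v : G} : v ∈ ln S V ↔ v ∈ V ∧ v ∈ zj S := mem_inf

/-- An abstract Baumann block `(L, V)` over `B = bau S`, `P = QL S V = C_B(V)`. -/
structure Bk (S Y L V : Subgroup G) : Prop where
  BL : bau S ≤ L
  LY : L ≤ normalizer (Y : Set G)
  LV : L ≤ normalizer (V : Set G)
  LP : L ≤ normalizer (QL S V : Set G)
  VY : V ≤ Y
  quad : ∀ b ∈ bau S, ∀ v ∈ V, b * v * b⁻¹ * v⁻¹ ∈ zj S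
  cent : ∀ b ∈ bau S, b ∉ QL S V → ∀ v ∈ V, b * v = v * b → v ∈ zj S
  card : Nat.card (bau S) * Nat.card (ln S V) ≤ Nat.card (QL S V) * Nat.card V
  off : ∃ A ∈ AA S, ¬ A ≤ QL S V
  gen : ∀ x ∈ L, Mv (ln S V) x → ∀ X : Subgroup G, bau S ≤ X → cj x (bau S) ≤ X → L ≤ X
  split : ∀ z ∈ zj S, ∃ a ∈ ln S V, ∃ c ∈ zj S, (∀ l ∈ L, l * c = c * l) ∧ z = a * c
  mv : ∀ x ∈ L, Mv (ln S V) x → ∀ e ∈ bau S, e ∉ QL S V → Mv (ln S V) (x * e * x⁻¹)
  faith : ∀ v ∈ V, ∀ b ∈ bau S, (∀ l ∈ L, l * (b * v * b⁻¹ * v⁻¹) = b * v * b⁻¹ * v⁻¹ * l) →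
    b * v = v * b
  ne : ∃ x ∈ L, Mv (ln S V) x

theorem comm_iff {b v : G} : b * v = v * b ↔ b * v * b⁻¹ * v⁻¹ = 1 := by
  constructor
  · intro h; rw [h]; group
  · intro h
    calc b * v = (b * v * b⁻¹ * v⁻¹) * (v * b) := by group
      _ = v * b := by rw [h, one_mul]

namespace Bk

variable {S Y L V W E : Subgroup G}

theorem PB : QL S V ≤ bau S := inf_le_left

theorem P_cent {p v : G} (hp : p ∈ QL S V) (hv : v ∈ V) : p * v = v * p := (mem_QL.1 hp).2 v hv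

/-- The main order argument. -/
theorem order (k : Bk S Y L V) [Finite G] (hY : IsElementaryAbelian 2 Y) (hYS : Y ≤ S)
    (hVW : V ≤ W) (hWY : W ≤ Y) (hE : E ⊔ cW W E ∈ AA S) (hEP : ¬ E ≤ QL S V) :
    Nat.card E * Nat.card (ln S V) = Nat.card ↥(E ⊓ QL S V) * Nat.card V ∧
    (∀ b ∈ bau S, ∃ e ∈ E, ∃ p ∈ QL S V, b = e * p) ∧
    cW W (E ⊓ QL S V) = V ⊔ cW W E ∧
    Nat.card E * Nat.card (cW W E) =
      Nat.card ↥(E ⊓ QL S V) * Nat.card (cW W (E ⊓ QL S V)) := by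
  have hW := isElementaryAbelian_mono hY hWY
  have hWS := hWY.trans hYS
  have hE1 : E ≤ E ⊔ cW W E := le_sup_left
  have hE2 := isElementaryAbelian_mono hE.1 hE1
  have hEB : E ≤ bau S := hE1.trans ((le_jj hE).trans (jj_le_bau S))
  have hES : E ≤ S := hE1.trans hE.2.1
  set F := E ⊓ QL S V with hF
  have hFE : F ≤ E := inf_le_left
  have hF2 := isElementaryAbelian_mono hE2 hFE
  -- `F ⊓ W = E ⊓ W`
  have hFW : F ⊓ W = E ⊓ W := by
    apply le_antisymm (inf_le_inf_right W hFE)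
    rintro x ⟨h1, h2⟩
    exact ⟨⟨h1, mem_QL.2 ⟨hEB h1, fun v hv => elem_comm hY x (hWY h2) v (k.VY hv)⟩⟩, h2⟩
  have h1 : Nat.card F * Nat.card (cW W F) ≤ Nat.card E * Nat.card (cW W E) := by
    rw [← card_star hF2, ← card_star hE2, hFW]
    exact Nat.mul_le_mul_right _ (hE.2.2 _ (star_elem hF2 hW) (star_le (hFE.trans hES) hWS))
  -- `C_V(E) ≤ line`
  obtain ⟨b, hb, hbP⟩ := SetLike.not_le_iff_exists.1 hEP
  have hVE : V ⊓ cW W E ≤ ln S V := by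
    rintro v ⟨hv, hv2⟩
    exact mem_ln.2 ⟨hv, k.cent b (hEB hb) hbP v hv ((mem_cW.1 hv2).2 b hb)⟩
  have h2 : V ⊔ cW W E ≤ cW W F := by
    refine sup_le (fun v hv => mem_cW.2 ⟨hVW hv, fun e he => ?_⟩) (cW_anti W hFE)
    exact P_cent (mem_inf.1 he).2 hv
  have h3 : Nat.card ↥(V ⊔ cW W E) * Nat.card ↥(V ⊓ cW W E) = Nat.card V * Nat.card (cW W E) :=
    card_sup_comm fun a ha c hc => elem_comm hW a (hVW ha) c (cW_le W E hc)
  -- `|E| / |F| ≤ |B| / |P|`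
  have h4 : Nat.card ((E : Set G) * ((QL S V : Subgroup G) : Set G) : Set G) ≤
      Nat.card (bau S) := by
    refine Nat.card_mono (Set.toFinite _) ?_
    rintro _ ⟨e, he, p, hp, rfl⟩
    exact mul_mem (hEB he) (PB hp)
  have h5 := Cfsg.Agent.Lib.ProductSet.card_mul_card_inf E (QL S V)
  rw [← hF] at h5
  -- the numbers
  have pF : 0 < Nat.card F := Nat.card_pos
  have pV : 0 < Nat.card V := Nat.card_pos
  have pP : 0 < Nat.card (QL S V) := Nat.card_pos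
  have pE : 0 < Nat.card E := Nat.card_pos
  have pL : 0 < Nat.card (ln S V) := Nat.card_pos
  have pc : 0 < Nat.card (cW W E) := Nat.card_pos
  have hcB := k.card
  set cE := Nat.card E
  set cF := Nat.card F
  set cV := Nat.card V
  set cP := Nat.card (QL S V)
  set cB := Nat.card (bau S)
  set cl := Nat.card (ln S V)
  set cC := Nat.card (cW W E)
  set cD := Nat.card (cW W F)
  set cEP := Nat.card ((E : Set G) * ((QL S V : Subgroup G) : Set G) : Set G)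
  set cU := Nat.card ↥(V ⊔ cW W E)
  set cI := Nat.card ↥(V ⊓ cW W E)
  have hI : cI ≤ cl := Subgroup.card_le_of_le hVE
  have hU : cU ≤ cD := Subgroup.card_le_of_le h2
  -- (a) `cE * cl ≤ cF * cV`
  have ha : cE * cl ≤ cF * cV := by
    refine Nat.le_of_mul_le_mul_right ?_ pP
    calc cE * cl * cP = (cE * cP) * cl := by ring
      _ = cEP * cF * cl := by rw [← h5]
      _ ≤ cB * cF * cl := Nat.mul_le_mul_right _ (Nat.mul_le_mul_right _ h4)
      _ = cF * (cB * cl) := by ring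
      _ ≤ cF * (cP * cV) := Nat.mul_le_mul_left _ hcB
      _ = cF * cV * cP := by ring
  -- (b) `cF * cV ≤ cE * cl`
  have hb1 : cF * (cV * cC) ≤ cE * cl * cC := by
    calc cF * (cV * cC) = cF * (cU * cI) := by rw [h3]
      _ ≤ cF * (cD * cl) := Nat.mul_le_mul_left _ (Nat.mul_le_mul hU hI)
      _ = (cF * cD) * cl := by ring
      _ ≤ (cE * cC) * cl := Nat.mul_le_mul_right _ h1
      _ = cE * cl * cC := by ring
  have hb : cF * cV ≤ cE * cl := Nat.le_of_mul_le_mul_right (by rw [mul_assoc]; exact hb1) pc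
  have hab : cE * cl = cF * cV := le_antisymm ha hb
  -- equalities everywhere
  have e1 : cF * (cU * cI) = (cE * cC) * cl := by
    rw [h3]
    calc cF * (cV * cC) = cF * cV * cC := by ring
      _ = cE * cl * cC := by rw [hab]
      _ = _ := by ring
  have e2 : cF * cD * cl ≤ cF * (cU * cI) := by
    rw [e1]
    exact Nat.mul_le_mul_right _ h1
  have e3 : cD ≤ cU := by
    have h6 : cF * cD * cl ≤ cF * cU * cl := by
      refine e2.trans ?_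
      rw [← mul_assoc]
      exact Nat.mul_le_mul_left _ hI
    have h7 := Nat.le_of_mul_le_mul_right h6 pL
    exact Nat.le_of_mul_le_mul_left h7 pF
  have e4 : V ⊔ cW W E = cW W F := Subgroup.eq_of_le_of_card_ge h2 e3
  have e5 : cE * cC = cF * cD := by
    apply le_antisymm _ h1
    have h6 : (cE * cC) * cl ≤ (cF * cD) * cl := by
      rw [← e1]
      calc cF * (cU * cI) ≤ cF * (cD * cl) := Nat.mul_le_mul_left _ (Nat.mul_le_mul hU hI)
        _ = _ := by ring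
    exact Nat.le_of_mul_le_mul_right h6 pL
  have e6 : cB ≤ cEP := by
    have h6 : cB * (cF * cl) ≤ cEP * (cF * cl) := by
      calc cB * (cF * cl) = cF * (cB * cl) := by ring
        _ ≤ cF * (cP * cV) := Nat.mul_le_mul_left _ hcB
        _ = (cF * cV) * cP := by ring
        _ = (cE * cl) * cP := by rw [hab]
        _ = (cE * cP) * cl := by ring
        _ = cEP * cF * cl := by rw [← h5]
        _ = cEP * (cF * cl) := by ring
    exact Nat.le_of_mul_le_mul_right h6 (Nat.mul_pos pF pL)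
  refine ⟨hab, ?_, e4.symm, e5⟩
  have h8 : (E : Set G) * ((QL S V : Subgroup G) : Set G) = ((bau S : Subgroup G) : Set G) := by
    refine Set.eq_of_subset_of_ncard_le ?_ ?_ (Set.toFinite _)
    · rintro _ ⟨e, he, p, hp, rfl⟩
      exact mul_mem (hEB he) (PB hp)
    · rw [← Nat.card_coe_set_eq, ← Nat.card_coe_set_eq]
      exact e6
  intro b hb
  have h9 : b ∈ (E : Set G) * ((QL S V : Subgroup G) : Set G) := by rw [h8]; exact hb
  obtain ⟨e, he, p, hp, rfl⟩ := h9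
  exact ⟨e, he, p, hp, rfl⟩

end Bk

end Cfsg.Agent.Omega.NO3b.FPB.Base

end

section


/-!
# THEOREM FPB (OMEGA #16134, helper526), part 2: the CLAIM

Two blocks `(L₁,V₁)`, `(L₂,V₂)` over `B = bau S` with different `P₁ = C_B(V₁) ≠ P₂ = C_B(V₂)`:
`[V₂,B] ≤ C(L₁)`.
-/

set_option autoImplicit false

namespace Cfsg.Agent.Omega.NO3b.FPB.Claim

open Subgroup Cfsg Cfsg.Agent.PLocal.ThompsonJ Cfsg.Agent.ZN Cfsg.Agent.ZN.ChoiceBase
open Cfsg.Agent.PLocal.ElemAbSup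
open Cfsg.Agent.Omega.SQ1.Bau (mem_AA_of_comm zj_le_AA elem_comm elem_sq mem_sup_comm card_sup_comm
  mem_sup_norm Mv not_mv_iff mv_inv exists_min)
open Cfsg.Agent.Omega.SQ1.BauK.InK (QL mem_QL not_QL)
open Cfsg.Agent.Omega.NO3b.FPB.Base
open scoped Pointwise

universe u

variable {G : Type u} [Group G]

theorem mem_cj_iff {g x : G} {H : Subgroup G} : x ∈ cj g H ↔ ∃ y ∈ H, x = g * y * g⁻¹ := by
  rw [mem_cj]
  constructor
  · intro h
    exact ⟨_, h, by group⟩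
  · rintro ⟨y, hy, rfl⟩
    have : g⁻¹ * (g * y * g⁻¹) * g = y := by group
    rwa [this]

theorem conj_mem_cj {g y : G} {H : Subgroup G} (hy : y ∈ H) : g * y * g⁻¹ ∈ cj g H :=
  mem_cj_iff.2 ⟨y, hy, rfl⟩

theorem conj_mem_cj_iff {g y : G} {H : Subgroup G} : g * y * g⁻¹ ∈ cj g H ↔ y ∈ H := by
  rw [mem_cj]
  have : g⁻¹ * (g * y * g⁻¹) * g = y := by group
  rw [this]

theorem Mv_cj {g x : G} {U : Subgroup G} : Mv (cj g U) (g * x * g⁻¹) ↔ Mv U x := by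
  constructor
  · rintro ⟨v, hv, h⟩
    obtain ⟨w, hw, rfl⟩ := mem_cj_iff.1 hv
    refine ⟨w, hw, fun h1 => h ?_⟩
    have e : g * x * g⁻¹ * (g * w * g⁻¹) * (g * x * g⁻¹)⁻¹ = g * (x * w * x⁻¹) * g⁻¹ := by group
    rw [e]
    exact conj_mem_cj h1
  · rintro ⟨v, hv, h⟩
    refine ⟨_, conj_mem_cj (g := g) hv, fun h1 => h ?_⟩
    have e : g * x * g⁻¹ * (g * v * g⁻¹) * (g * x * g⁻¹)⁻¹ = g * (x * v * x⁻¹) * g⁻¹ := by group
    rw [e] at h1
    exact conj_mem_cj_iff.1 h1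

theorem QL_cj (g : G) (S V : Subgroup G) : QL (cj g S) (cj g V) = cj g (QL S V) := by
  unfold QL
  rw [bau_cj, ← cj_centralizer, ← cj_inf]

theorem ln_cj (g : G) (S V : Subgroup G) : ln (cj g S) (cj g V) = cj g (ln S V) := by
  unfold ln
  rw [zj_cj, ← cj_inf]

theorem comm_conj {g a b : G} (h : a * b = b * a) :
    g * a * g⁻¹ * (g * b * g⁻¹) = g * b * g⁻¹ * (g * a * g⁻¹) := by
  calc g * a * g⁻¹ * (g * b * g⁻¹) = g * (a * b) * g⁻¹ := by group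
    _ = g * (b * a) * g⁻¹ := by rw [h]
    _ = _ := by group

theorem comm_conj_iff {g a b : G} :
    g * a * g⁻¹ * (g * b * g⁻¹) = g * b * g⁻¹ * (g * a * g⁻¹) ↔ a * b = b * a := by
  refine ⟨fun h => ?_, comm_conj⟩
  have := comm_conj (g := g⁻¹) h
  have e : ∀ a : G, g⁻¹ * (g * a * g⁻¹) * g⁻¹⁻¹ = a := fun a => by group
  rwa [e, e] at this

theorem comm_el {g b v : G} : g * b * g⁻¹ * (g * v * g⁻¹) * (g * b * g⁻¹)⁻¹ * (g * v * g⁻¹)⁻¹ =
    g * (b * v * b⁻¹ * v⁻¹) * g⁻¹ := by group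

/-- Conjugating a block. -/
theorem Bk.conj {S Y L V : Subgroup G} (k : Bk S Y L V) [Finite G] {g : G} (hg : cj g Y = Y) :
    Bk (cj g S) Y (cj g L) (cj g V) where
  BL := by rw [bau_cj]; exact cj_mono g k.BL
  LY := by
    have := cj_mono g k.LY
    rwa [cj_normalizer, hg] at this
  LV := by
    have := cj_mono g k.LV
    rwa [cj_normalizer] at this
  LP := by
    have := cj_mono g k.LP
    rwa [cj_normalizer, ← QL_cj] at this
  VY := by
    have := cj_mono g k.VY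
    rwa [hg] at this
  quad := by
    intro b hb v hv
    rw [bau_cj] at hb
    obtain ⟨b, hb0, rfl⟩ := mem_cj_iff.1 hb
    obtain ⟨v, hv0, rfl⟩ := mem_cj_iff.1 hv
    rw [comm_el, zj_cj]
    exact conj_mem_cj (k.quad b hb0 v hv0)
  cent := by
    intro b hb hbP v hv hbv
    rw [bau_cj] at hb
    obtain ⟨b, hb0, rfl⟩ := mem_cj_iff.1 hb
    obtain ⟨v, hv0, rfl⟩ := mem_cj_iff.1 hv
    rw [QL_cj, conj_mem_cj_iff] at hbP
    rw [comm_conj_iff] at hbv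
    rw [zj_cj]
    exact conj_mem_cj (k.cent b hb0 hbP v hv0 hbv)
  card := by
    rw [bau_cj, QL_cj, ln_cj, card_cj, card_cj, card_cj, card_cj]
    exact k.card
  off := by
    obtain ⟨A, hA, hAP⟩ := k.off
    refine ⟨cj g A, cj_mem_AA g hA, fun h => hAP ?_⟩
    rw [QL_cj] at h
    intro a ha
    exact conj_mem_cj_iff.1 (h (conj_mem_cj ha))
  gen := by
    intro x hx hm X hX1 hX2
    obtain ⟨x, hx0, rfl⟩ := mem_cj_iff.1 hx
    rw [ln_cj, Mv_cj] at hm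
    rw [bau_cj] at hX1 hX2
    rw [cj_cj] at hX2
    rw [cj_le_iff] at hX1 ⊢
    refine k.gen x hx0 hm _ hX1 ?_
    have h1 := cj_mono g⁻¹ hX2
    rw [cj_cj] at h1
    have e : g⁻¹ * (g * x * g⁻¹ * g) = x := by group
    rwa [e] at h1
  split := by
    intro z hz
    rw [zj_cj] at hz
    obtain ⟨z, hz0, rfl⟩ := mem_cj_iff.1 hz
    obtain ⟨a, ha, c, hc, hlc, rfl⟩ := k.split z hz0
    refine ⟨g * a * g⁻¹, by rw [ln_cj]; exact conj_mem_cj ha, g * c * g⁻¹,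
      by rw [zj_cj]; exact conj_mem_cj hc, fun l hl => ?_, by group⟩
    obtain ⟨l, hl0, rfl⟩ := mem_cj_iff.1 hl
    exact comm_conj (hlc l hl0)
  mv := by
    intro x hx hm e he heP
    obtain ⟨x, hx0, rfl⟩ := mem_cj_iff.1 hx
    rw [ln_cj, Mv_cj] at hm
    rw [bau_cj] at he
    obtain ⟨e, he0, rfl⟩ := mem_cj_iff.1 he
    rw [QL_cj, conj_mem_cj_iff] at heP
    have h1 : g * x * g⁻¹ * (g * e * g⁻¹) * (g * x * g⁻¹)⁻¹ = g * (x * e * x⁻¹) * g⁻¹ := by group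
    rw [h1, ln_cj, Mv_cj]
    exact k.mv x hx0 hm e he0 heP
  faith := by
    intro v hv b hb h
    rw [bau_cj] at hb
    obtain ⟨b, hb0, rfl⟩ := mem_cj_iff.1 hb
    obtain ⟨v, hv0, rfl⟩ := mem_cj_iff.1 hv
    refine comm_conj (k.faith v hv0 b hb0 fun l hl => ?_)
    have h1 := h (g * l * g⁻¹) (conj_mem_cj hl)
    rw [comm_el] at h1
    exact comm_conj_iff.1 h1
  ne := by
    obtain ⟨x, hx, hm⟩ := k.ne
    exact ⟨g * x * g⁻¹, conj_mem_cj hx, by rw [ln_cj, Mv_cj]; exact hm⟩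

/-- `Z_J ⊓ Z_J^x ≤ C(L)`. -/
theorem Bk.inter {S Y L V : Subgroup G} (k : Bk S Y L V) {x z : G} (hx : x ∈ L)
    (hm : Mv (ln S V) x) (hz : z ∈ zj S) (hz' : x⁻¹ * z * x ∈ zj S) : z ∈ centralizer (L : Set G) := by
  have h1 : L ≤ centralizer ({z} : Set G) := by
    refine k.gen x hx hm _ (fun b hb => mem_centralizer_iff.2 fun y hy => ?_) ?_
    · rw [show y = z from hy]
      exact (mem_bau.1 hb).2 z hz
    · intro b hb
      obtain ⟨b, hb0, rfl⟩ := mem_cj_iff.1 hb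
      rw [mem_centralizer_iff]
      intro y hy
      rw [show y = z from hy]
      have h2 := (mem_bau.1 hb0).2 _ hz'
      have h3 := comm_conj (g := x) h2
      have e : x * (x⁻¹ * z * x) * x⁻¹ = z := by group
      rwa [e] at h3
  rw [mem_centralizer_iff]
  intro l hl
  exact (mem_centralizer_iff.1 (h1 hl) z rfl).symm

theorem conj_mem_of_norm {H K : Subgroup G} (h : H ≤ normalizer (K : Set G)) {x y : G} (hx : x ∈ H)
    (hy : y ∈ K) : x * y * x⁻¹ ∈ K := (mem_normalizer_iff.1 (h hx) y).1 hy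

theorem conj_mem_of_norm' {H K : Subgroup G} (h : H ≤ normalizer (K : Set G)) {x y : G} (hx : x ∈ H)
    (hy : y ∈ K) : x⁻¹ * y * x ∈ K := by
  have := (mem_normalizer_iff.1 (h (inv_mem hx)) y).1 hy
  rwa [inv_inv] at this

/-- `[w c, ..]`: `d (v c) d⁻¹ (v c)⁻¹ = d v d⁻¹ v⁻¹` if `d` commutes with `c`. -/
theorem comm_drop {d v c : G} (h : d * c = c * d) :
    d * (v * c) * d⁻¹ * (v * c)⁻¹ = d * v * d⁻¹ * v⁻¹ := by
  calc d * (v * c) * d⁻¹ * (v * c)⁻¹ = d * v * (c * d⁻¹) * c⁻¹ * v⁻¹ := by group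
    _ = d * v * (d⁻¹ * c) * c⁻¹ * v⁻¹ := by
      rw [show c * d⁻¹ = d⁻¹ * c from ((show Commute d c from h).inv_left).symm]
    _ = _ := by group

/-- `(p q) v (p q)⁻¹ v⁻¹ = p v p⁻¹ v⁻¹` if `q` commutes with `v`. -/
theorem comm_drop' {p q v : G} (h : q * v = v * q) :
    p * q * v * (p * q)⁻¹ * v⁻¹ = p * v * p⁻¹ * v⁻¹ := by
  calc p * q * v * (p * q)⁻¹ * v⁻¹ = p * (q * v) * q⁻¹ * p⁻¹ * v⁻¹ := by group
    _ = p * (v * q) * q⁻¹ * p⁻¹ * v⁻¹ := by rw [h]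
    _ = _ := by group

section

variable {S Y L L' V V' : Subgroup G}

/-- `(A ⊓ P)*` etc.: `D C_W(D) ∈ A(S^x)` if `D ≤ P`. -/
theorem star_conj [Finite G] (hY : IsElementaryAbelian 2 Y) (hYS : Y ≤ S) (k : Bk S Y L V)
    {W A D : Subgroup G} (hWY : W ≤ Y) (hA : A ∈ AA S) (hD : BB W A D) (hDP : D ≤ QL S V) {x : G}
    (hx : x ∈ L) : D ⊔ cW W D ∈ AA (cj x S) ∧ D ⊔ cW W D ≤ QL S V := by
  have hW := isElementaryAbelian_mono hY hWY
  have h1 := hD.star hA (hWY.trans hYS) hW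
  have h2 : D ⊔ cW W D ≤ QL S V := by
    refine sup_le hDP fun c hc => mem_QL.2 ⟨jj_le_bau S (le_jj h1 (mem_sup_right hc)), fun v hv => ?_⟩
    exact elem_comm hY c (hWY (cW_le W D hc)) v (k.VY hv)
  refine ⟨?_, h2⟩
  rw [mem_AA_iff, mm_cj]
  refine ⟨h1.1, ?_, (mm_eq h1).le⟩
  intro y hy
  have h3 := conj_mem_of_norm' k.LP hx (h2 hy)
  exact mem_cj.2 (bau_le S (Bk.PB h3))

/-- CLAIM, case (i). -/
theorem case_i [Finite G] (hY : IsElementaryAbelian 2 Y) (hYS : Y ≤ S) (k : Bk S Y L V)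
    (k' : Bk S Y L' V') {W A E : Subgroup G} (hWY : W ≤ Y)
    (hVW' : ∀ y ∈ L, cj y V' ≤ W) (hWmin : ∀ X : Subgroup G, V ≤ X → (∀ y ∈ L, cj y V' ≤ X) → W ≤ X)
    (hWn : L ≤ normalizer (W : Set G))
    (hA : A ∈ AA S) (hE : BB W A E) (hEP : ¬ E ≤ QL S V) (hE0 : BB W A (E ⊓ QL S V))
    {x : G} (hx : x ∈ L) (hm : Mv (ln S V) x) (hnle : ¬ E ⊓ QL S V ≤ cj x (QL S V')) :
    ∀ b ∈ bau S, ∀ v ∈ V', b * v * b⁻¹ * v⁻¹ ∈ centralizer (L : Set G) := by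
  have hW := isElementaryAbelian_mono hY hWY
  have hWS := hWY.trans hYS
  have hYn : ∀ y ∈ L, cj y Y = Y := fun y hy => cj_eq_of_mem_normalizer (k.LY hy)
  have hcb : ∀ y ∈ L, ∀ p ∈ QL S V, p ∈ cj y (bau S) := fun y hy p hp =>
    mem_cj.2 (Bk.PB (conj_mem_of_norm' k.LP hy hp))
  -- the minimal `D`
  obtain ⟨D, ⟨hD1, hD2, hD3⟩, -, hDmin⟩ := exists_min
    (fun D : Subgroup G => BB W A D ∧ D ≤ E ⊓ QL S V ∧ ¬ D ≤ cj x (QL S V'))
    (X := E ⊓ QL S V) ⟨hE0, le_rfl, hnle⟩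
  have hDP : D ≤ QL S V := hD2.trans inf_le_right
  have hord : ∀ y ∈ L, ¬ D ≤ cj y (QL S V') →
      Nat.card D * Nat.card (ln S V') = Nat.card ↥(D ⊓ cj y (QL S V')) * Nat.card V' ∧
      (∀ b ∈ cj y (bau S), ∃ e ∈ D, ∃ p ∈ cj y (QL S V'), b = e * p) ∧
      cW W (D ⊓ cj y (QL S V')) = cj y V' ⊔ cW W D ∧ BB W A (D ⊓ cj y (QL S V')) := by
    intro y hy hny
    have h1 := (Bk.conj k' (hYn y hy)).order hY (W := W) (E := D) ?_ (hVW' y hy) hWY
      (star_conj hY hYS k hWY hA hD1 hDP hy).1 (by rw [QL_cj]; exact hny)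
    · rw [QL_cj, ln_cj, card_cj, card_cj, bau_cj] at h1
      obtain ⟨h2, h3, h4, h5⟩ := h1
      exact ⟨h2, h3, h4, inf_le_left.trans hD1.1, by rw [hD1.2, h5]⟩
    · have := cj_mono y hYS
      rwa [hYn y hy] at this
  have hposV : 0 < Nat.card V' := Nat.card_pos
  -- `D ⊓ P₂^x` centralises `W`
  have hcent : W ≤ centralizer ((D ⊓ cj x (QL S V') : Subgroup G) : Set G) := by
    refine hWmin _ (fun v hv => mem_centralizer_iff.2 fun d hd => ?_) (fun y hy v hv =>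
      mem_centralizer_iff.2 fun d hd => ?_)
    · exact Bk.P_cent (hDP (mem_inf.1 hd).1) hv
    · have hdy : d ∈ cj y (QL S V') := by
        by_cases hny : D ≤ cj y (QL S V')
        · exact hny (mem_inf.1 hd).1
        · obtain ⟨h1, -, -, h4⟩ := hord y hy hny
          obtain ⟨h1', -, -, -⟩ := hord x hx hD3
          have h5 : D ⊓ cj y (QL S V') ≤ cj x (QL S V') := by
            by_contra hcon
            have h6 := hDmin (D ⊓ cj y (QL S V')) ⟨h4, inf_le_left.trans hD2, hcon⟩ inf_le_left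
            exact hny (h6.trans inf_le_right)
          have h6 : D ⊓ cj y (QL S V') = D ⊓ cj x (QL S V') := by
            refine Subgroup.eq_of_le_of_card_ge (le_inf inf_le_left h5) ?_
            have h7 : Nat.card ↥(D ⊓ cj x (QL S V')) * Nat.card V' =
                Nat.card ↥(D ⊓ cj y (QL S V')) * Nat.card V' := by rw [← h1, ← h1']
            exact (Nat.eq_of_mul_eq_mul_right hposV h7).le
          rw [← h6] at hd
          exact (mem_inf.1 hd).2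
      obtain ⟨d', hd', rfl⟩ := mem_cj_iff.1 hdy
      obtain ⟨v', hv', rfl⟩ := mem_cj_iff.1 hv
      exact comm_conj (Bk.P_cent hd' hv')
  obtain ⟨-, hD4, hD5, -⟩ := hord x hx hD3
  have hWdec : ∀ w ∈ W, ∃ v ∈ cj x V', ∃ c ∈ cW W D, w = v * c := by
    intro w hw
    have h1 : w ∈ cW W (D ⊓ cj x (QL S V')) :=
      mem_cW.2 ⟨hw, fun e he => mem_centralizer_iff.1 (hcent hw) e he⟩
    rw [hD5] at h1
    exact mem_sup_comm (fun a ha c hc => elem_comm hW a (hVW' x hx ha) c (cW_le W D hc)) h1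
  -- the elements `d v d⁻¹ v⁻¹`
  obtain ⟨e, he, heP⟩ := SetLike.not_le_iff_exists.1 hEP
  have heB : e ∈ bau S := jj_le_bau S (le_jj hA (hE.1 he))
  have heL : e ∈ L := k.BL heB
  have hzj : ∀ d ∈ D, ∀ v ∈ cj x V', d * v * d⁻¹ * v⁻¹ ∈ cj x (zj S) := by
    intro d hd v hv
    obtain ⟨d', hd', rfl⟩ := mem_cj_iff.1 (hcb x hx d (hDP hd))
    obtain ⟨v', hv', rfl⟩ := mem_cj_iff.1 hv
    rw [comm_el]
    exact conj_mem_cj (k'.quad d' hd' v' hv')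
  have key : ∀ d ∈ D, ∀ v ∈ cj x V', d * v * d⁻¹ * v⁻¹ ∈ centralizer (L : Set G) := by
    intro d hd v hv
    have hz := hzj d hd v hv
    -- the conjugate by `e`
    have hde : e * d = d * e := elem_comm hA.1 e (hE.1 he) d (hE.1 (mem_inf.1 (hD2 hd)).1)
    have hw : e * v * e⁻¹ ∈ W := conj_mem_of_norm hWn heL (hVW' x hx hv)
    obtain ⟨v', hv', c', hc', e1⟩ := hWdec _ hw
    have hdc : d * c' = c' * d := (mem_cW.1 hc').2 d hd
    have hze : e * (d * v * d⁻¹ * v⁻¹) * e⁻¹ = d * v' * d⁻¹ * v'⁻¹ := by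
      have e2 : e * (d * v * d⁻¹ * v⁻¹) * e⁻¹ =
          (e * d * e⁻¹) * (e * v * e⁻¹) * (e * d * e⁻¹)⁻¹ * (e * v * e⁻¹)⁻¹ := by group
      have e3 : e * d * e⁻¹ = d := by rw [hde]; group
      rw [e2, e3, e1, comm_drop hdc]
    have hz' : e * (d * v * d⁻¹ * v⁻¹) * e⁻¹ ∈ cj x (zj S) := by
      rw [hze]; exact hzj d hd v' hv'
    set z := d * v * d⁻¹ * v⁻¹ with hzdef
    -- split `z`
    obtain ⟨z0, hz0, ez⟩ := mem_cj_iff.1 hz
    obtain ⟨a, ha, c, hc, hlc, rfl⟩ := k.split z0 hz0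
    have hxc : x * c * x⁻¹ = c := by rw [hlc x hx]; group
    have ez2 : z = (x * a * x⁻¹) * c := by
      rw [ez]
      calc x * (a * c) * x⁻¹ = (x * a * x⁻¹) * (x * c * x⁻¹) := by group
        _ = _ := by rw [hxc]
    set z1 := x * a * x⁻¹ with hz1
    have hz1V : z1 ∈ V := conj_mem_of_norm k.LV hx (mem_ln.1 ha).1
    have hec : e * c * e⁻¹ = c := by rw [hlc e heL]; group
    have ez3 : e * z * e⁻¹ = (e * z1 * e⁻¹) * c := by
      rw [ez2]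
      calc e * (z1 * c) * e⁻¹ = (e * z1 * e⁻¹) * (e * c * e⁻¹) := by group
        _ = _ := by rw [hec]
    have hcz : c ∈ cj x (zj S) := mem_cj_iff.2 ⟨c, hc, hxc.symm⟩
    have hz1' : e * z1 * e⁻¹ ∈ cj x (zj S) := by
      rw [ez3] at hz'
      have := mul_mem hz' (inv_mem hcz)
      rwa [mul_inv_cancel_right] at this
    -- `t = x⁻¹ (e z1 e⁻¹) x`
    have hcen : x⁻¹ * (e * z1 * e⁻¹) * x ∈ centralizer (L : Set G) := by
      have hmx : Mv (ln S V) x⁻¹ := mv_inv.2 hm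
      have hmv := k.mv x⁻¹ (inv_mem hx) hmx e heB heP
      have hyL : x⁻¹ * e * x⁻¹⁻¹ ∈ L := mul_mem (mul_mem (inv_mem hx) heL) (inv_mem (inv_mem hx))
      refine Bk.inter k hyL hmv (mem_cj.1 hz1') ?_
      have e4 : (x⁻¹ * e * x⁻¹⁻¹)⁻¹ * (x⁻¹ * (e * z1 * e⁻¹) * x) * (x⁻¹ * e * x⁻¹⁻¹) = a := by
        rw [hz1]; group
      rw [e4]
      exact (mem_ln.1 ha).2
    have hLc : L ≤ normalizer (centralizer (L : Set G) : Set G) := by
      intro l hl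
      rw [mem_normalizer_iff_cj, cj_centralizer]
      congr 1
      exact_mod_cast cj_eq_of_mem_normalizer (Subgroup.le_normalizer hl)
    have h8 : z1 ∈ centralizer (L : Set G) := by
      have h9 := conj_mem_of_norm hLc (mul_mem (inv_mem heL) hx) hcen
      have e5 : e⁻¹ * x * (x⁻¹ * (e * z1 * e⁻¹) * x) * (e⁻¹ * x)⁻¹ = z1 := by group
      rwa [e5] at h9
    rw [ez2]
    refine mul_mem h8 (mem_centralizer_iff.2 fun l hl => hlc l hl)
  -- conclusion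
  intro b hb v hv
  obtain ⟨d, hd, p, hp, e1⟩ := hD4 (x * b * x⁻¹) (conj_mem_cj hb)
  have hpv : p * (x * v * x⁻¹) = x * v * x⁻¹ * p := by
    obtain ⟨p', hp', rfl⟩ := mem_cj_iff.1 hp
    exact comm_conj (Bk.P_cent hp' hv)
  have h1 := key d hd (x * v * x⁻¹) (conj_mem_cj hv)
  rw [← comm_drop' hpv, ← e1, comm_el] at h1
  rw [mem_centralizer_iff] at h1 ⊢
  intro l hl
  have h2 := h1 (x * l * x⁻¹) (mul_mem (mul_mem hx hl) (inv_mem hx))
  exact comm_conj_iff.1 h2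

end

end Cfsg.Agent.Omega.NO3b.FPB.Claim

end

section


/-!
# THEOREM FPB (OMEGA #16134, helper526), part 3: case (ii) and the CLAIM
-/

set_option autoImplicit false

namespace Cfsg.Agent.Omega.NO3b.FPB.CaseTwo

open Subgroup Cfsg Cfsg.Agent.PLocal.ThompsonJ Cfsg.Agent.ZN Cfsg.Agent.ZN.ChoiceBase
open Cfsg.Agent.PLocal.ElemAbSup
open Cfsg.Agent.Omega.SQ1.Bau (mem_AA_of_comm zj_le_AA elem_comm elem_sq mem_sup_comm card_sup_comm
  mem_sup_norm Mv not_mv_iff mv_inv exists_min)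
open Cfsg.Agent.Omega.SQ1.BauK.InK (QL mem_QL not_QL)
open Cfsg.Agent.Omega.NO3b.FPB.Base Cfsg.Agent.Omega.NO3b.FPB.Claim
open scoped Pointwise

universe u

variable {G : Type u} [Group G] {S Y L L' V V' : Subgroup G}

theorem norm_of_conj {X : Subgroup G} [Finite G] {g : G} (hX : ∀ x ∈ X, g * x * g⁻¹ ∈ X) :
    g ∈ normalizer (X : Set G) := mem_normalizer_of_cj_le (by
    rintro _ ⟨v, hv, rfl⟩
    exact hX v hv)

/-- Case (ii), first half: `[V₂, P₁] ≤ C(L₁)`. -/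
theorem case_ii [Finite G] (hY : IsElementaryAbelian 2 Y) (k : Bk S Y L V)
    (k' : Bk S Y L' V') {E F : Subgroup G}
    (hEB : E ≤ bau S) (hEP : ¬ E ≤ QL S V) (hEb : ∀ b ∈ bau S, ∃ e ∈ E, ∃ p ∈ QL S V, b = e * p)
    (hF : ∀ c ∈ F, c ∈ Y ∧ ∀ e ∈ E, e * c = c * e)
    {x : G} (hx : x ∈ L) (hm : Mv (ln S V) x) (hxF : cj x V' ≤ V ⊔ F) :
    ∀ g ∈ QL S V, ∀ v ∈ V', g * v * g⁻¹ * v⁻¹ ∈ centralizer (L : Set G) := by
  have hYn : ∀ y ∈ L, cj y Y = Y := fun y hy => cj_eq_of_mem_normalizer (k.LY hy)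
  have hxY : cj x V' ≤ Y := by
    have := cj_mono x k'.VY
    rwa [hYn x hx] at this
  set U := V ⊔ cj x V' with hU
  have hUY : U ≤ Y := sup_le k.VY hxY
  have hUdec : ∀ u ∈ U, ∃ v ∈ V, ∃ w ∈ cj x V', u = v * w := fun u hu =>
    mem_sup_comm (fun a ha b hb => elem_comm hY a (k.VY ha) b (hxY hb)) hu
  have hVF : ∀ w ∈ cj x V', ∃ v ∈ V, ∃ c ∈ F, w = v * c := fun w hw =>
    mem_sup_comm (fun a ha b hb => elem_comm hY a (k.VY ha) b (hF b hb).1) (hxF hw)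
  have hEL : E ≤ L := hEB.trans k.BL
  -- `[U, E] ≤ V`
  have hUE : ∀ e ∈ E, ∀ u ∈ U, e * u * e⁻¹ * u⁻¹ ∈ V := by
    intro e he u hu
    obtain ⟨v, hv, w, hw, rfl⟩ := hUdec u hu
    obtain ⟨v1, hv1, c, hc, rfl⟩ := hVF w hw
    have h1 : e * (v * v1 * c) * e⁻¹ * (v * v1 * c)⁻¹ =
        e * (v * v1) * e⁻¹ * (v * v1)⁻¹ := comm_drop ((hF c hc).2 e he)
    rw [← mul_assoc v v1 c, h1]
    exact mul_mem (conj_mem_of_norm k.LV (hEL he) (mul_mem hv hv1)) (inv_mem (mul_mem hv hv1))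
  have hEU : ∀ e ∈ E, ∀ u ∈ U, e * u * e⁻¹ ∈ U := by
    intro e he u hu
    have h1 := mul_mem (mem_sup_left (hUE e he u hu) : _ ∈ U) hu
    rwa [inv_mul_cancel_right] at h1
  -- `x bau S x⁻¹` normalises `U`
  have hBx : cj x (bau S) ≤ normalizer (U : Set G) := by
    intro b hb
    refine norm_of_conj fun u hu => ?_
    obtain ⟨v, hv, w, hw, rfl⟩ := hUdec u hu
    have hbL : b ∈ L := by
      obtain ⟨b', hb', rfl⟩ := mem_cj_iff.1 hb
      exact mul_mem (mul_mem hx (k.BL hb')) (inv_mem hx)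
    have e1 : b * (v * w) * b⁻¹ = (b * v * b⁻¹) * (b * w * b⁻¹) := by group
    rw [e1]
    refine mul_mem (mem_sup_left (conj_mem_of_norm k.LV hbL hv)) (mem_sup_right ?_)
    obtain ⟨b', hb', rfl⟩ := mem_cj_iff.1 hb
    obtain ⟨w', hw', rfl⟩ := mem_cj_iff.1 hw
    have e2 : x * b' * x⁻¹ * (x * w' * x⁻¹) * (x * b' * x⁻¹)⁻¹ = x * (b' * w' * b'⁻¹) * x⁻¹ := by
      group
    rw [e2]
    exact conj_mem_cj (conj_mem_of_norm k'.LV (k'.BL hb') hw')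
  have hPx : ∀ p ∈ QL S V, p ∈ cj x (bau S) := fun p hp =>
    mem_cj.2 (Bk.PB (conj_mem_of_norm' k.LP hx hp))
  have hLU : L ≤ normalizer (U : Set G) := by
    refine k.gen x hx hm _ (fun b hb => ?_) hBx
    obtain ⟨e, he, p, hp, rfl⟩ := hEb b hb
    exact mul_mem (norm_of_conj (hEU e he)) (hBx (hPx p hp))
  -- `V' ≤ U`
  have hV'U : V' ≤ U := by
    intro v hv
    have h1 : x * v * x⁻¹ ∈ U := mem_sup_right (conj_mem_cj hv)
    have h2 := conj_mem_of_norm' hLU hx h1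
    have e1 : x⁻¹ * (x * v * x⁻¹) * x = v := by group
    rwa [e1] at h2
  obtain ⟨e, he, heP⟩ := SetLike.not_le_iff_exists.1 hEP
  have heB : e ∈ bau S := hEB he
  have heL : e ∈ L := k.BL heB
  set z := x * e * x⁻¹ with hz
  have hzL : z ∈ L := mul_mem (mul_mem hx heL) (inv_mem hx)
  have hzm : Mv (ln S V) z := k.mv x hx hm e heB heP
  have hzU : ∀ u ∈ U, z * u * z⁻¹ * u⁻¹ ∈ V := by
    intro u hu
    have h1 := hUE e he _ (conj_mem_of_norm' hLU hx hu)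
    have h2 := conj_mem_of_norm k.LV hx h1
    have e1 : x * (e * (x⁻¹ * u * x) * e⁻¹ * (x⁻¹ * u * x)⁻¹) * x⁻¹ = z * u * z⁻¹ * u⁻¹ := by
      rw [hz]; group
    rwa [e1] at h2
  intro g hg v hv
  have hvU := hV'U hv
  -- `w = z v z⁻¹ v⁻¹ ∈ V`
  have hw := hzU v hvU
  set w := z * v * z⁻¹ * v⁻¹ with hwdef
  have hgw : g * w = w * g := Bk.P_cent hg hw
  have hzv : z * v * z⁻¹ = w * v := by rw [hwdef]; group
  have hwv : w * v = v * w := elem_comm hY w (k.VY hw) v (k'.VY hv)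
  have h1 : g * (z * v * z⁻¹) * g⁻¹ * (z * v * z⁻¹)⁻¹ = g * v * g⁻¹ * v⁻¹ := by
    rw [hzv, hwv]; exact comm_drop hgw
  have hh : z⁻¹ * g * z ∈ QL S V := conj_mem_of_norm' k.LP hzL hg
  have h2 : z⁻¹ * (g * v * g⁻¹ * v⁻¹) * z =
      (z⁻¹ * g * z) * v * (z⁻¹ * g * z)⁻¹ * v⁻¹ := by
    rw [← h1]; group
  refine Bk.inter k hzL hzm (k'.quad g (Bk.PB hg) v hv) ?_
  rw [h2]
  exact k'.quad _ (Bk.PB hh) v hv

/-- Case (ii), second half. -/
theorem case_ii' [Finite G] (hY : IsElementaryAbelian 2 Y) (hYS : Y ≤ S) (k : Bk S Y L V)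
    (k' : Bk S Y L' V') (hne : QL S V ≠ QL S V')
    (h : ∀ g ∈ QL S V, ∀ v ∈ V', g * v * g⁻¹ * v⁻¹ ∈ centralizer (L : Set G)) :
    ∀ b ∈ bau S, ∀ v ∈ V', b * v * b⁻¹ * v⁻¹ ∈ centralizer (L : Set G) := by
  by_cases hcov : ∀ b ∈ bau S, ∃ p ∈ QL S V, ∃ p' ∈ QL S V', b = p * p'
  · intro b hb v hv
    obtain ⟨p, hp, p', hp', rfl⟩ := hcov b hb
    rw [comm_drop' (Bk.P_cent hp' hv)]
    exact h p hp v hv
  exfalso
  -- `A ≤ P₁ ↔ A ≤ P₂`
  have hstar : ∀ {A : Subgroup G}, A ∈ AA S → A ⊔ cW Y A ∈ AA S := fun hA =>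
    (BB.self Y _).star hA hYS hY
  have hA12 : ∀ A ∈ AA S, A ≤ QL S V → A ≤ QL S V' := by
    intro A hA hAP
    by_contra hAP'
    apply hcov
    obtain ⟨-, h1, -, -⟩ := k'.order hY hYS k'.VY le_rfl (hstar hA) hAP'
    intro b hb
    obtain ⟨a, ha, p, hp, rfl⟩ := h1 b hb
    exact ⟨a, hAP ha, p, hp, rfl⟩
  have hA21 : ∀ A ∈ AA S, A ≤ QL S V' → A ≤ QL S V := by
    intro A hA hAP'
    by_contra hAP
    apply hcov
    obtain ⟨-, h1, -, -⟩ := k.order hY hYS k.VY le_rfl (hstar hA) hAP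
    intro b hb
    obtain ⟨a, ha, p, hp, e⟩ := h1 b⁻¹ (inv_mem hb)
    refine ⟨p⁻¹, inv_mem hp, a⁻¹, inv_mem (hAP' ha), ?_⟩
    rw [← mul_inv_rev, ← e, inv_inv]
  obtain ⟨A, hA, hAP⟩ := k.off
  have hAP' : ¬ A ≤ QL S V' := fun h1 => hAP (hA21 A hA h1)
  obtain ⟨h1, h2, h3, h4⟩ := k.order hY hYS k.VY le_rfl (hstar hA) hAP
  obtain ⟨h1', h2', h3', h4'⟩ := k'.order hY hYS k'.VY le_rfl (hstar hA) hAP'
  have hi : A ⊓ QL S V ≤ QL S V' := by
    obtain ⟨h5, h6⟩ := star_conj hY hYS k le_rfl hA (D := A ⊓ QL S V) ⟨inf_le_left, h4⟩ inf_le_right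
      (one_mem L)
    rw [cj_one] at h5
    exact le_sup_left.trans (hA12 _ h5 h6)
  have hi' : A ⊓ QL S V' ≤ QL S V := by
    obtain ⟨h5, h6⟩ := star_conj hY hYS k' le_rfl hA (D := A ⊓ QL S V') ⟨inf_le_left, h4'⟩
      inf_le_right (one_mem L')
    rw [cj_one] at h5
    exact le_sup_left.trans (hA21 _ h5 h6)
  have hi2 : A ⊓ QL S V = A ⊓ QL S V' :=
    le_antisymm (le_inf inf_le_left hi) (le_inf inf_le_left hi')
  -- `|P₁| = |P₂|`
  have hcard : Nat.card (QL S V) = Nat.card (QL S V') := by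
    have hAB : A ≤ bau S := (le_jj hA).trans (jj_le_bau S)
    have e : ∀ {P : Subgroup G}, P ≤ bau S → (∀ b ∈ bau S, ∃ e ∈ A, ∃ p ∈ P, b = e * p) →
        Nat.card (bau S) * Nat.card ↥(A ⊓ P) = Nat.card A * Nat.card P := by
      intro P hP hPd
      have h5 := Cfsg.Agent.Lib.ProductSet.card_mul_card_inf A P
      have h6 : (A : Set G) * (P : Set G) = ((bau S : Subgroup G) : Set G) := by
        ext b
        constructor
        · rintro ⟨a, ha, p, hp, rfl⟩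
          exact mul_mem (hAB ha) (hP hp)
        · intro hb
          obtain ⟨a, ha, p, hp, rfl⟩ := hPd b hb
          exact ⟨a, ha, p, hp, rfl⟩
      rw [h6] at h5
      exact h5
    have e1 := e Bk.PB h2
    have e2 := e Bk.PB h2'
    rw [hi2, e2] at e1
    exact (Nat.eq_of_mul_eq_mul_left Nat.card_pos e1).symm
  have hnle : ¬ QL S V ≤ QL S V' := fun h5 => hne (Subgroup.eq_of_le_of_card_ge h5 hcard.ge)
  obtain ⟨g, hg, hg'⟩ := SetLike.not_le_iff_exists.1 hnle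
  obtain ⟨a, ha, p, hp, e⟩ := h2' g (Bk.PB hg)
  have haB : a ∈ bau S := jj_le_bau S (le_jj hA ha)
  have haP' : a ∉ QL S V' := fun h5 => hg' (by rw [e]; exact mul_mem h5 hp)
  apply haP'
  refine mem_QL.2 ⟨haB, fun v hv => ?_⟩
  -- `v = v₁ c`
  have hvc : v ∈ V ⊔ cW Y A := by
    rw [← h3, hi2, h3']
    exact mem_sup_left hv
  obtain ⟨v1, hv1, c, hc, rfl⟩ := mem_sup_comm
    (fun a ha b hb => elem_comm hY a (k.VY ha) b (cW_le Y A hb)) hvc
  have h5 := h g hg _ hv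
  rw [e, comm_drop' (Bk.P_cent hp hv), comm_drop ((mem_cW.1 hc).2 a ha)] at h5
  have h6 := k.faith v1 hv1 a haB fun l hl => (mem_centralizer_iff.1 h5 l hl)
  have h7 := (mem_cW.1 hc).2 a ha
  calc a * (v1 * c) = (a * v1) * c := by group
    _ = v1 * (a * c) := by rw [h6]; group
    _ = v1 * c * a := by rw [h7]; group

/-- **CLAIM.** `P₁ ≠ P₂ ⇒ [V₂, B] ≤ C(L₁)`. -/
theorem claim [Finite G] (hY : IsElementaryAbelian 2 Y) (hYS : Y ≤ S) (k : Bk S Y L V)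
    (k' : Bk S Y L' V') (hne : QL S V ≠ QL S V') :
    ∀ b ∈ bau S, ∀ v ∈ V', b * v * b⁻¹ * v⁻¹ ∈ centralizer (L : Set G) := by
  have hYn : ∀ y ∈ L, cj y Y = Y := fun y hy => cj_eq_of_mem_normalizer (k.LY hy)
  set W : Subgroup G := V ⊔ ⨆ y : L, cj (y : G) V' with hWdef
  have hVW : V ≤ W := le_sup_left
  have hVW' : ∀ y ∈ L, cj y V' ≤ W := fun y hy =>
    (le_iSup (fun y : L => cj (y : G) V') ⟨y, hy⟩).trans le_sup_right
  have hWmin : ∀ X : Subgroup G, V ≤ X → (∀ y ∈ L, cj y V' ≤ X) → W ≤ X := fun X h1 h2 =>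
    sup_le h1 (iSup_le fun y => h2 y y.2)
  have hWY : W ≤ Y := hWmin Y k.VY fun y hy => by
    have := cj_mono y k'.VY
    rwa [hYn y hy] at this
  have hWn : L ≤ normalizer (W : Set G) := by
    intro l hl
    refine mem_normalizer_of_cj_le ?_
    rw [cj_le_iff]
    refine hWmin _ ?_ fun y hy => ?_
    · rw [← cj_le_iff, cj_eq_of_mem_normalizer (k.LV hl)]
      exact hVW
    · rw [← cj_le_iff, cj_cj]
      exact hVW' _ (mul_mem hl hy)
  have hW := isElementaryAbelian_mono hY hWY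
  have hWS := hWY.trans hYS
  obtain ⟨A, hA, hAP⟩ := k.off
  have hAB : A ≤ bau S := (le_jj hA).trans (jj_le_bau S)
  obtain ⟨h1, h2, h3, h4⟩ := k.order hY hYS hVW hWY ((BB.self W A).star hA hWS hW) hAP
  by_cases hcase : ∃ x ∈ L, Mv (ln S V) x ∧ ¬ A ⊓ QL S V ≤ cj x (QL S V')
  · obtain ⟨x, hx, hm, hnle⟩ := hcase
    exact case_i hY hYS k k' hWY hVW' hWmin hWn hA (BB.self W A) hAP ⟨inf_le_left, h4⟩ hx hm hnle
  · push Not at hcase
    obtain ⟨x, hx, hm⟩ := k.ne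
    refine case_ii' hY hYS k k' hne ?_
    refine case_ii hY k k' (E := A) (F := cW W A) hAB hAP h2
      (fun c hc => ⟨hWY (cW_le W A hc), (mem_cW.1 hc).2⟩) hx hm ?_
    rw [← h3]
    intro v hv
    refine mem_cW.2 ⟨hVW' x hx hv, fun e he => ?_⟩
    obtain ⟨e', he', rfl⟩ := mem_cj_iff.1 (hcase x hx hm he)
    obtain ⟨v', hv', rfl⟩ := mem_cj_iff.1 hv
    exact comm_conj (Bk.P_cent he' hv')

end Cfsg.Agent.Omega.NO3b.FPB.CaseTwo

end

section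


/-!
# THEOREM FPB: `Bk` depends only on `bau S`
-/

set_option autoImplicit false

namespace Cfsg.Agent.Omega.NO3b.FPB.Move

open Subgroup Cfsg Cfsg.Agent.ZN Cfsg.Agent.ZN.ChoiceBase
open Cfsg.Agent.Omega.SQ1.BauK.InK (QL mem_QL not_QL)
open Cfsg.Agent.Omega.NO3b.FPB.Base

universe u

variable {G : Type u} [Group G] {S T Y L V : Subgroup G}

theorem AA_bau [Finite G] (S : Subgroup G) : AA (bau S) = AA S := by
  ext A
  constructor
  · intro hA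
    rw [mem_AA_iff] at hA ⊢
    exact ⟨hA.1, hA.2.1.trans (bau_le S), by rw [← mm_bau]; exact hA.2.2⟩
  · intro hA
    have h1 := (le_jj hA).trans (jj_le_bau S)
    rw [mem_AA_iff] at hA ⊢
    exact ⟨hA.1, h1, by rw [mm_bau]; exact hA.2.2⟩

theorem AA_eq [Finite G] (h : bau T = bau S) : AA T = AA S := by
  rw [← AA_bau T, ← AA_bau S, h]

theorem zj_eq [Finite G] (h : bau T = bau S) : zj T = zj S := by
  rw [← zj_bau T, ← zj_bau S, h]

/-- `Bk` depends only on `bau S`. -/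
theorem Bk.of_bau [Finite G] (k : Bk T Y L V) (h : bau T = bau S) : Bk S Y L V := by
  have hz := zj_eq h
  have hA := AA_eq h
  have hQ : QL T V = QL S V := by unfold QL; rw [h]
  have hl : ln T V = ln S V := by unfold ln; rw [hz]
  exact
    { BL := h ▸ k.BL
      LY := k.LY
      LV := k.LV
      LP := hQ ▸ k.LP
      VY := k.VY
      quad := by rw [← h, ← hz]; exact k.quad
      cent := by rw [← h, ← hQ, ← hz]; exact k.cent
      card := by rw [← h, ← hQ, ← hl]; exact k.card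
      off := by rw [← hA, ← hQ]; exact k.off
      gen := by rw [← h, ← hl]; exact k.gen
      split := by rw [← hz, ← hl]; exact k.split
      mv := by rw [← h, ← hQ, ← hl]; exact k.mv
      faith := by rw [← h]; exact k.faith
      ne := by rw [← hl]; exact k.ne }

end Cfsg.Agent.Omega.NO3b.FPB.Move

end
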