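import Cfsg.Agent.Mrg.Omega.Assembly
import Cfsg.Agent.Lib.GoldschmidtFusion
import Cfsg.Agent.Omega.SQ1.Match
import Mathlib.GroupTheory.Nilpotent
import Mathlib.GroupTheory.PGroup
import Mathlib.GroupTheory.Sylow
import Mathlib.Tactic
import Cfsg.Agent.Mrg.Omega.FrameI
import Cfsg.Agent.Mrg.Omega.SQ1.FFOf
import Cfsg.Agent.Mrg.Omega.SQ1.FFKNat
import Cfsg.Agent.Mrg.Omega.SQ1.Choice
import Mathlib
import Cfsg.Agent.MinSimple.Choice97
import Cfsg.Agent.MinSimple.CaseOneAP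
import Cfsg.Agent.S1442
import Cfsg.Agent.MinSimple.PushOne
import Cfsg.Agent.MinSimple.SelfCentFour
import Cfsg.Agent.TwoFusion.SectionalRank
import Cfsg.Agent.S0112
import Cfsg.Agent.S0113
import Cfsg.Agent.Mrg.Omega.SQ1.BauSMin
set_option linter.all false

-- part: Mrg/Omega/SQ1/End0
section
/-!
# The end `k = 1`, `q ≥ 4` of the unique maximal 2-local case (SQ1.7), part 0

`B = Q₁ Q₂` with `Q₁`, `Q₂` elementary abelian, `D = Q₁ ∩ Q₂` (a Sylow 2-subgroup of type `L₃(q)` or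
`Sp₄(q)`), `T` the normalizer of `Q₁` in the 2-group `S`, `s ∈ S` swapping `Q₁` and `Q₂`.  "Good" elements
of `D` are the elements outside `C₁ ∪ C₂`; commutators of elements of `Q₁ - D` and `Q₂ - D` are good.
Elements `t ∈ T - B` with `t² ∈ B` act freely (`Free`) on `B/Qᵢ`, `Qᵢ/D`, `D/Cᵢ`.

* `Base`: this situation.
* `Base.mem_S`: `S = T ∪ sT`.
* `Base.eq_of_elem`: `Q₁`, `Q₂` are the only elementary abelian subgroups of order `≥ |Q₁|` of `S`.
-/

set_option autoImplicit false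
set_option Elab.async false

namespace Cfsg.Agent.Omega.SQ1.End

open Subgroup Cfsg

universe u

variable {G : Type u} [Group G]

/-- `y` acts freely on `X/Y`: the classes of `X` modulo `Y` fixed by `y` are those of the elements
`u · yuy⁻¹`. -/
def Free (y : G) (X Y : Subgroup G) : Prop :=
  ∀ x ∈ X, x⁻¹ * (y * x * y⁻¹) ∈ Y → ∃ u ∈ X, x⁻¹ * (u * (y * u * y⁻¹)) ∈ Y

/-- Good elements of `D`. -/
def Gd (D C₁ C₂ : Subgroup G) (d : G) : Prop := d ∈ D ∧ d ∉ C₁ ∧ d ∉ C₂

/-- The local situation. -/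
structure Base (S T B Q₁ Q₂ D C₁ C₂ : Subgroup G) (s : G) (q : ℕ) : Prop where
  two : IsPGroup 2 S
  c1 : ∀ x ∈ Q₁, ∀ y ∈ Q₁, x * y = y * x
  c2 : ∀ x ∈ Q₂, ∀ y ∈ Q₂, x * y = y * x
  sq1 : ∀ x ∈ Q₁, x * x = 1
  sq2 : ∀ x ∈ Q₂, x * x = 1
  memD : ∀ x, x ∈ D ↔ x ∈ Q₁ ∧ x ∈ Q₂
  Q1B : Q₁ ≤ B
  Q2B : Q₂ ≤ B
  prod : ∀ x ∈ B, ∃ a ∈ Q₁, ∃ b ∈ Q₂, x = a * b
  good : ∀ a ∈ Q₁, a ∉ D → ∀ b ∈ Q₂, b ∉ D → Gd D C₁ C₂ (a * b * a⁻¹ * b⁻¹)
  C12 : C₁ ⊓ C₂ = ⊥
  card1 : Nat.card Q₁ = q * Nat.card D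
  card2 : Nat.card Q₂ = q * Nat.card D
  hq : 4 ≤ q
  BT : B ≤ T
  TS : T ≤ S
  sS : s ∈ S
  s1 : ∀ x ∈ Q₁, s * x * s⁻¹ ∈ Q₂
  s2 : ∀ x ∈ Q₂, s * x * s⁻¹ ∈ Q₁
  sC1 : ∀ x ∈ C₁, s * x * s⁻¹ ∈ C₂
  sC2 : ∀ x ∈ C₂, s * x * s⁻¹ ∈ C₁
  T1 : ∀ t ∈ T, ∀ x ∈ Q₁, t * x * t⁻¹ ∈ Q₁
  T2 : ∀ t ∈ T, ∀ x ∈ Q₂, t * x * t⁻¹ ∈ Q₂
  TC1 : ∀ t ∈ T, ∀ x ∈ C₁, t * x * t⁻¹ ∈ C₁
  TC2 : ∀ t ∈ T, ∀ x ∈ C₂, t * x * t⁻¹ ∈ C₂
  memT : ∀ x ∈ S, (∀ a ∈ Q₁, x * a * x⁻¹ ∈ Q₁) → x ∈ T
  free1 : ∀ t ∈ T, t ∉ B → t * t ∈ B → Free t B Q₁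
  free2 : ∀ t ∈ T, t ∉ B → t * t ∈ B → Free t B Q₂
  free1D : ∀ t ∈ T, t ∉ B → t * t ∈ B → Free t Q₁ D
  free2D : ∀ t ∈ T, t ∉ B → t * t ∈ B → Free t Q₂ D
  freeC1 : ∀ t ∈ T, t ∉ B → t * t ∈ B → Free t D C₁
  freeC2 : ∀ t ∈ T, t ∉ B → t * t ∈ B → Free t D C₂
  C1D : C₁ ≤ D
  C2D : C₂ ≤ D
  cardC1 : Nat.card D = q * Nat.card C₁
  cardC2 : Nat.card D = q * Nat.card C₂
  cenD : ∀ t ∈ T, (∀ d ∈ D, t * d * t⁻¹ = d) → t ∈ B
  uniq : ∀ t ∈ T, t ∉ B → t * t ∈ B → ∀ t' ∈ T, t' ∉ B → t' * t' ∈ B → t⁻¹ * t' ∈ B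

/-- `L` is a block over its Sylow 2-subgroup `B` on `Q`, `N` the stabiliser `N_L(BK)` of the point `B` of the
projective line (`K` the kernel of the action on the line, possibly of odd order modulo `Q`), `C = C_Q(L)`,
`D = C_Q(B)`. -/
structure Blk (T B Q D C L N : Subgroup G) : Prop where
  BN : B ≤ N
  NL : N ≤ L
  QL : ∀ l ∈ L, ∀ x ∈ Q, l * x * l⁻¹ ∈ Q
  TL : ∀ t ∈ T, ∀ l ∈ L, t * l * t⁻¹ ∈ L
  TN : ∀ t ∈ T, ∀ n ∈ N, t * n * t⁻¹ ∈ N
  syl : ∀ P : Subgroup G, IsPGroup 2 P → B ≤ P → P ≤ L → P = B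
  ne : ∃ l ∈ L, l ∉ N
  tr : ∀ l ∈ L, l ∉ N → ∀ l' ∈ L, l' ∉ N → ∃ b ∈ B, l⁻¹ * b⁻¹ * l' ∈ N
  st : ∀ b ∈ B, ∀ l ∈ L, l ∉ N → l⁻¹ * b * l ∈ N → b ∈ Q
  ti : ∀ b ∈ B, b ∉ Q → ∀ b' ∈ B, b' ∉ Q → ∀ l ∈ L, l ∉ N → ∀ P : Subgroup G, IsPGroup 2 P →
    b ∈ P → l * b' * l⁻¹ ∉ P
  line : ∀ d ∈ D, d ∉ C → ∀ l ∈ L, l ∉ N → l * d * l⁻¹ ∉ D
  fus : ∀ x ∈ Q, ∃ l ∈ L, l * x * l⁻¹ ∈ D

section

variable {S T B Q₁ Q₂ D C₁ C₂ : Subgroup G} {s : G} {q : ℕ}

/-- Conjugation by a subgroup-stabilising element is surjective on a finite subgroup. -/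
theorem mem_normalizer_of [Finite G] {g : G} {X : Subgroup G} (h : ∀ x ∈ X, g * x * g⁻¹ ∈ X) :
    g ∈ normalizer (X : Set G) := by
  have h1 : X.map (MulAut.conj g).toMonoidHom ≤ X := by
    rintro _ ⟨x, hx, rfl⟩
    exact h x hx
  exact Lib.GoldschmidtFusion.mem_normalizer_iff_map_conj.2
    (Subgroup.eq_of_le_of_card_ge h1 (by rw [Lib.GoldschmidtFusion.card_map_conj]))

theorem inv_conj_mem [Finite G] {g : G} {X : Subgroup G} (h : ∀ x ∈ X, g * x * g⁻¹ ∈ X) :
    ∀ x ∈ X, g⁻¹ * x * g ∈ X := by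
  intro x hx
  have h1 := (mem_normalizer_iff''.1 (mem_normalizer_of h) x).1 hx
  exact h1

namespace Base

variable (h : Base S T B Q₁ Q₂ D C₁ C₂ s q)

include h

theorem D1 : D ≤ Q₁ := fun x hx => ((h.memD x).1 hx).1

theorem D2 : D ≤ Q₂ := fun x hx => ((h.memD x).1 hx).2

theorem DB : D ≤ B := h.D1.trans h.Q1B

theorem inv1 {x : G} (hx : x ∈ Q₁) : x⁻¹ = x := inv_eq_of_mul_eq_one_right (h.sq1 x hx)

theorem inv2 {x : G} (hx : x ∈ Q₂) : x⁻¹ = x := inv_eq_of_mul_eq_one_right (h.sq2 x hx)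

theorem sqD {x : G} (hx : x ∈ D) : x * x = 1 := h.sq1 x (h.D1 hx)

/-- `D` is central in `B`. -/
theorem centD {d x : G} (hd : d ∈ D) (hx : x ∈ B) : d * x = x * d := by
  obtain ⟨a, ha, b, hb, rfl⟩ := h.prod x hx
  calc d * (a * b) = (d * a) * b := by group
    _ = a * (d * b) := by rw [h.c1 d (h.D1 hd) a ha]; group
    _ = a * b * d := by rw [h.c2 d (h.D2 hd) b hb]; group

theorem comm12 {a b : G} (ha : a ∈ Q₁) (hb : b ∈ Q₂) : a * b * a⁻¹ * b⁻¹ ∈ D := by
  by_cases h1 : a ∈ D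
  · rw [h.c2 a (h.D2 h1) b hb]
    have : b * a * a⁻¹ * b⁻¹ = 1 := by group
    rw [this]; exact one_mem _
  by_cases h2 : b ∈ D
  · rw [h.c1 a ha b (h.D1 h2)]
    have : b * a * a⁻¹ * b⁻¹ = 1 := by group
    rw [this]; exact one_mem _
  exact (h.good a ha h1 b hb h2).1

/-- `B' ≤ D`. -/
theorem commB {x y : G} (hx : x ∈ B) (hy : y ∈ B) : x * y * x⁻¹ * y⁻¹ ∈ D := by
  obtain ⟨a, ha, b, hb, rfl⟩ := h.prod x hx
  obtain ⟨a', ha', b', hb', rfl⟩ := h.prod y hy
  have h1 := h.comm12 ha' hb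
  have h2 := h.comm12 ha hb'
  set d := a' * b * a'⁻¹ * b⁻¹ with hd
  set e := a * b' * a⁻¹ * b'⁻¹ with he
  have e1 : a' * b = d * (b * a') := by rw [hd]; group
  have e2 : a * b' = e * (b' * a) := by rw [he]; group
  have hdi : d⁻¹ ∈ D := D.inv_mem h1
  have e1' : b * a' = d⁻¹ * (a' * b) := by rw [hd]; group
  have e2' : b' * a = e⁻¹ * (a * b') := by rw [he]; group
  have k1 : a * b * (a' * b') = d⁻¹ * (a * a' * (b * b')) := by
    calc a * b * (a' * b') = a * (b * a') * b' := by group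
      _ = (a * d⁻¹) * a' * b * b' := by rw [e1']; group
      _ = d⁻¹ * (a * a' * (b * b')) := by rw [← h.centD hdi (h.Q1B ha)]; group
  have k2 : a' * b' * (a * b) = e⁻¹ * (a * a' * (b * b')) := by
    calc a' * b' * (a * b) = a' * (b' * a) * b := by group
      _ = (a' * e⁻¹) * (a * (b' * b)) := by rw [e2']; group
      _ = e⁻¹ * (a' * a) * (b' * b) := by
          rw [← h.centD (D.inv_mem h2) (h.Q1B ha')]; group
      _ = e⁻¹ * (a * a' * (b * b')) := by rw [h.c1 a' ha' a ha, h.c2 b' hb' b hb]; group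
  have k3 : a * b * (a' * b') * (a * b)⁻¹ * (a' * b')⁻¹ = d⁻¹ * e := by
    calc a * b * (a' * b') * (a * b)⁻¹ * (a' * b')⁻¹
        = (a * b * (a' * b')) * (a' * b' * (a * b))⁻¹ := by group
      _ = d⁻¹ * e := by rw [k1, k2]; group
  rw [k3]
  exact D.mul_mem hdi h2

theorem conjQ1 {x a : G} (hx : x ∈ B) (ha : a ∈ Q₁) : x * a * x⁻¹ ∈ Q₁ := by
  have h1 := Q₁.mul_mem (h.D1 (h.commB hx (h.Q1B ha))) ha
  have h2 : x * a * x⁻¹ * a⁻¹ * a = x * a * x⁻¹ := by group
  rwa [h2] at h1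

theorem conjQ2 {x a : G} (hx : x ∈ B) (ha : a ∈ Q₂) : x * a * x⁻¹ ∈ Q₂ := by
  have h1 := Q₂.mul_mem (h.D2 (h.commB hx (h.Q2B ha))) ha
  have h2 : x * a * x⁻¹ * a⁻¹ * a = x * a * x⁻¹ := by group
  rwa [h2] at h1

theorem good_ne {d : G} (hd : Gd D C₁ C₂ d) : d ≠ 1 := by
  rintro rfl
  exact hd.2.1 (one_mem _)

/-- Involutions of `B` lie in `Q₁ ∪ Q₂`. -/
theorem inv_mem_or {e : G} (he : e ∈ B) (he2 : e * e = 1) : e ∈ Q₁ ∨ e ∈ Q₂ := by
  obtain ⟨a, ha, b, hb, rfl⟩ := h.prod e he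
  by_cases h1 : a ∈ D
  · exact Or.inr (Q₂.mul_mem (h.D2 h1) hb)
  by_cases h2 : b ∈ D
  · exact Or.inl (Q₁.mul_mem ha (h.D1 h2))
  exfalso
  apply h.good_ne (h.good a ha h1 b hb h2)
  rw [h.inv1 ha, h.inv2 hb]
  calc a * b * a * b = (a * b) * (a * b) := by group
    _ = 1 := he2

/-- Elementary abelian subgroups of `B` lie in `Q₁` or `Q₂`. -/
theorem elem_le_or {E : Subgroup G} (hE : E ≤ B) (hE2 : ∀ x ∈ E, x * x = 1) : E ≤ Q₁ ∨ E ≤ Q₂ := by
  by_contra hcon
  push Not at hcon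
  obtain ⟨h1, h2⟩ := hcon
  obtain ⟨e, he, he1⟩ := Set.not_subset.1 h1
  obtain ⟨f, hf, hf1⟩ := Set.not_subset.1 h2
  have he2 : e ∈ Q₂ := (h.inv_mem_or (hE he) (hE2 e he)).resolve_left he1
  have hf2 : f ∈ Q₁ := (h.inv_mem_or (hE hf) (hE2 f hf)).resolve_right hf1
  rcases h.inv_mem_or (hE (E.mul_mem he hf)) (hE2 _ (E.mul_mem he hf)) with h3 | h3
  · apply he1
    have h4 := Q₁.mul_mem h3 (Q₁.inv_mem hf2)
    rwa [mul_inv_cancel_right] at h4
  · apply hf1
    have h4 := Q₂.mul_mem (Q₂.inv_mem he2) h3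
    rwa [inv_mul_cancel_left] at h4

theorem exists_a [Finite G] : ∃ a ∈ Q₁, a ∉ D := by
  by_contra hcon
  push Not at hcon
  have h1 : Q₁ = D := le_antisymm hcon h.D1
  have h2 := h.card1
  rw [h1] at h2
  have h3 : 0 < Nat.card D := Nat.card_pos
  have h4 := h.hq
  nlinarith

theorem exists_b [Finite G] : ∃ b ∈ Q₂, b ∉ D := by
  by_contra hcon
  push Not at hcon
  have h1 : Q₂ = D := le_antisymm hcon h.D2
  have h2 := h.card2
  rw [h1] at h2
  have h3 : 0 < Nat.card D := Nat.card_pos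
  have h4 := h.hq
  nlinarith

theorem one_lt_D [Finite G] : 1 < Nat.card D := by
  obtain ⟨a, ha, ha'⟩ := h.exists_a
  obtain ⟨b, hb, hb'⟩ := h.exists_b
  have h1 := h.good a ha ha' b hb hb'
  rw [Subgroup.one_lt_card_iff_ne_bot]
  intro h2
  have h3 := h1.1
  rw [h2, mem_bot] at h3
  exact h.good_ne h1 h3

/-! ### Counting -/

end Base

/-- `|F|² ≤ |X| |Y|` if `y` acts freely on `X/Y` and centralises `F/Y`. -/
theorem card_sq_le [Finite G] {y : G} {X Y F : Subgroup G} (hYX : Y ≤ X) (hYF : Y ≤ F) (hFX : F ≤ X)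
    (hc : ∀ a ∈ X, ∀ b ∈ X, a * b = b * a) (hsq : ∀ a ∈ X, a * a = 1)
    (hX : ∀ x ∈ X, y * x * y⁻¹ ∈ X) (hfr : Free y X Y)
    (hF : ∀ x ∈ F, x⁻¹ * (y * x * y⁻¹) ∈ Y) : Nat.card F ^ 2 ≤ Nat.card X * Nat.card Y := by
  let ν : X →* X :=
    { toFun := fun u => ⟨u * (y * u * y⁻¹), X.mul_mem u.2 (hX _ u.2)⟩
      map_one' := by ext; simp
      map_mul' := by
        intro a b
        ext
        show (a : G) * b * (y * (a * b) * y⁻¹) = a * (y * a * y⁻¹) * (b * (y * b * y⁻¹))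
        have h1 := hc _ b.2 _ (hX _ a.2)
        calc (a : G) * b * (y * (a * b) * y⁻¹) = a * (b * (y * a * y⁻¹)) * (y * b * y⁻¹) := by group
          _ = a * (y * a * y⁻¹) * (b * (y * b * y⁻¹)) := by rw [h1]; group }
  have hYn : (Y.subgroupOf X).Normal := by
    refine ⟨fun n hn g => ?_⟩
    have : g * n * g⁻¹ = n := by
      ext
      show (g : G) * n * (g : G)⁻¹ = n
      rw [hc _ g.2 _ n.2]; group
    rwa [this]
  let μ : X →* X ⧸ Y.subgroupOf X := (QuotientGroup.mk' _).comp ν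
  have hμ : ∀ u : X, μ u = 1 ↔ (u : G) * (y * u * y⁻¹) ∈ Y := by
    intro u
    show ((ν u : X) : X ⧸ Y.subgroupOf X) = 1 ↔ _
    rw [QuotientGroup.eq_one_iff, mem_subgroupOf]
    rfl
  have hker : F.subgroupOf X ≤ μ.ker := by
    intro u hu
    rw [mem_subgroupOf] at hu
    rw [MonoidHom.mem_ker, hμ]
    have h1 := hF _ hu
    rwa [inv_eq_of_mul_eq_one_right (hsq _ u.2)] at h1
  have hrange : (F.subgroupOf X).map (QuotientGroup.mk' (Y.subgroupOf X)) ≤ μ.range := by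
    rintro _ ⟨x, hx, rfl⟩
    have hx' : (x : G) ∈ F := hx
    obtain ⟨u, hu, hu2⟩ := hfr x (hFX hx') (hF _ hx')
    refine ⟨⟨u, hu⟩, ?_⟩
    show ((ν ⟨u, hu⟩ : X) : X ⧸ Y.subgroupOf X) = (x : X ⧸ Y.subgroupOf X)
    rw [eq_comm, QuotientGroup.eq, mem_subgroupOf]
    exact hu2
  have h1 : Nat.card μ.ker * Nat.card μ.range = Nat.card X := by
    rw [← Subgroup.index_ker, Subgroup.card_mul_index]
  have h2 : Nat.card F ≤ Nat.card μ.ker := by
    have : Nat.card F = Nat.card (F.subgroupOf X) :=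
      (Nat.card_congr (Subgroup.subgroupOfEquivOfLe hFX).toEquiv).symm
    rw [this]
    exact Subgroup.card_le_of_le hker
  have h3 : Nat.card F ≤ Nat.card μ.range * Nat.card Y := by
    have h4 : Nat.card ((F.subgroupOf X).map (QuotientGroup.mk' (Y.subgroupOf X))) * Nat.card Y
        = Nat.card F := by
      rw [← Subgroup.relIndex_ker, QuotientGroup.ker_mk', Subgroup.relIndex_subgroupOf hFX]
      have h5 := Subgroup.relIndex_mul_relIndex ⊥ Y F bot_le hYF
      rw [Subgroup.relIndex_bot_left, Subgroup.relIndex_bot_left] at h5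
      rw [← h5, mul_comm]
    rw [← h4]
    exact Nat.mul_le_mul_right _ (Subgroup.card_le_of_le hrange)
  calc Nat.card F ^ 2 = Nat.card F * Nat.card F := by ring
    _ ≤ Nat.card μ.ker * (Nat.card μ.range * Nat.card Y) := Nat.mul_le_mul h2 h3
    _ = Nat.card X * Nat.card Y := by rw [← h1]; ring

theorem card_le_two_mul [Finite G] {E E₀ : Subgroup G} {f : G} (hf : f ∈ E)
    (h : ∀ e ∈ E, e ∈ E₀ ∨ f⁻¹ * e ∈ E₀) : Nat.card E ≤ 2 * Nat.card E₀ := by
  classical
  let φ : E → E₀ × Bool := fun e => if he : (e : G) ∈ E₀ then (⟨e, he⟩, true) else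
    (⟨f⁻¹ * e, (h e e.2).resolve_left he⟩, false)
  have hφ : Function.Injective φ := by
    intro a b hab
    by_cases ha : (a : G) ∈ E₀ <;> by_cases hb : (b : G) ∈ E₀ <;> simp [φ, ha, hb] at hab
    · exact hab
    · exact hab
  have h1 := Nat.card_le_card_of_injective φ hφ
  rw [Nat.card_prod, Nat.card_eq_fintype_card (α := Bool), Fintype.card_bool] at h1
  omega

namespace Base

variable [Finite G] (h : Base S T B Q₁ Q₂ D C₁ C₂ s q)

include h

theorem card12 : Nat.card Q₁ = Nat.card Q₂ := by rw [h.card1, h.card2]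

theorem cardC12 : Nat.card C₁ = Nat.card C₂ := by
  have h1 := h.cardC1
  rw [h.cardC2] at h1
  have h2 := h.hq
  exact (Nat.eq_of_mul_eq_mul_left (by omega) h1).symm

theorem map_s1 : Q₁.map (MulAut.conj s).toMonoidHom = Q₂ := by
  apply Subgroup.eq_of_le_of_card_ge
  · rintro _ ⟨x, hx, rfl⟩
    exact h.s1 x hx
  · rw [Lib.GoldschmidtFusion.card_map_conj, h.card12]

theorem map_s2 : Q₂.map (MulAut.conj s).toMonoidHom = Q₁ := by
  apply Subgroup.eq_of_le_of_card_ge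
  · rintro _ ⟨x, hx, rfl⟩
    exact h.s2 x hx
  · rw [Lib.GoldschmidtFusion.card_map_conj, h.card12]

theorem s1' {x : G} (hx : x ∈ Q₂) : s⁻¹ * x * s ∈ Q₁ := by
  rw [← h.map_s1] at hx
  obtain ⟨y, hy, rfl⟩ := hx
  have : s⁻¹ * (MulAut.conj s).toMonoidHom y * s = y := by
    show s⁻¹ * (s * y * s⁻¹) * s = y
    group
  rw [this]; exact hy

theorem s2' {x : G} (hx : x ∈ Q₁) : s⁻¹ * x * s ∈ Q₂ := by
  rw [← h.map_s2] at hx
  obtain ⟨y, hy, rfl⟩ := hx
  have : s⁻¹ * (MulAut.conj s).toMonoidHom y * s = y := by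
    show s⁻¹ * (s * y * s⁻¹) * s = y
    group
  rw [this]; exact hy

/-- `s` normalises `T`. -/
theorem sT {t : G} (ht : t ∈ T) : s * t * s⁻¹ ∈ T := by
  apply h.memT _ (S.mul_mem (S.mul_mem h.sS (h.TS ht)) (S.inv_mem h.sS))
  intro a ha
  have h1 := h.s2 _ (h.T2 t ht _ (h.s2' ha))
  have h2 : s * t * s⁻¹ * a * (s * t * s⁻¹)⁻¹ = s * (t * (s⁻¹ * a * s) * t⁻¹) * s⁻¹ := by group
  rw [h2]; exact h1

theorem ss_mem : s * s ∈ T := by
  apply h.memT _ (S.mul_mem h.sS h.sS)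
  intro a ha
  have h1 := h.s2 _ (h.s1 a ha)
  have h2 : s * s * a * (s * s)⁻¹ = s * (s * a * s⁻¹) * s⁻¹ := by group
  rw [h2]; exact h1

theorem sT' {t : G} (ht : t ∈ T) : s⁻¹ * t * s ∈ T := by
  have h1 := inv_conj_mem (g := s) (X := T) (fun x hx => h.sT hx) t ht
  exact h1

theorem s_notMem : s ∉ T := by
  intro hs
  obtain ⟨a, ha, haD⟩ := h.exists_a
  have h1 := h.s1' (h.s1 a ha)
  have h2 := h.T1 s hs a ha
  have h3 : s * a * s⁻¹ ∈ D := (h.memD _).2 ⟨h2, h.s1 a ha⟩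
  have h4 : a ∈ Q₂ := by
    have h5 := h.s2' (h.D1 h3)
    have h6 : s⁻¹ * (s * a * s⁻¹) * s = a := by group
    rwa [h6] at h5
  exact haD ((h.memD a).2 ⟨ha, h4⟩)

/-- The symmetric situation. -/
theorem symm : Base S T B Q₂ Q₁ D C₂ C₁ s q where
  two := h.two
  c1 := h.c2
  c2 := h.c1
  sq1 := h.sq2
  sq2 := h.sq1
  memD := fun x => (h.memD x).trans and_comm
  Q1B := h.Q2B
  Q2B := h.Q1B
  prod := by
    intro x hx
    obtain ⟨a, ha, b, hb, rfl⟩ := h.prod x hx
    have h1 := h.conjQ1 (B.inv_mem (h.Q2B hb)) ha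
    refine ⟨b, hb, b⁻¹ * a * b, ?_, by group⟩
    rwa [inv_inv] at h1
  good := by
    intro b hb hb' a ha ha'
    have h1 := h.good a ha ha' b hb hb'
    have h2 : b * a * b⁻¹ * a⁻¹ = (a * b * a⁻¹ * b⁻¹)⁻¹ := by group
    rw [h2, h.inv1 (h.D1 h1.1)]
    exact ⟨h1.1, h1.2.2, h1.2.1⟩
  C12 := by rw [inf_comm]; exact h.C12
  card1 := h.card2
  card2 := h.card1
  hq := h.hq
  BT := h.BT
  TS := h.TS
  sS := h.sS
  s1 := h.s2
  s2 := h.s1
  sC1 := h.sC2
  sC2 := h.sC1
  T1 := h.T2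
  T2 := h.T1
  TC1 := h.TC2
  TC2 := h.TC1
  memT := by
    intro x hx hx2
    have h1 : s⁻¹ * x * s ∈ T := by
      apply h.memT _ (S.mul_mem (S.mul_mem (S.inv_mem h.sS) hx) h.sS)
      intro a ha
      have h1 := h.s1' (hx2 _ (h.s1 a ha))
      have h2 : s⁻¹ * x * s * a * (s⁻¹ * x * s)⁻¹ = s⁻¹ * (x * (s * a * s⁻¹) * x⁻¹) * s := by group
      rw [h2]; exact h1
    have h2 := h.sT h1
    have h3 : s * (s⁻¹ * x * s) * s⁻¹ = x := by group
    rwa [h3] at h2
  free1 := h.free2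
  free2 := h.free1
  free1D := h.free2D
  free2D := h.free1D
  freeC1 := h.freeC2
  freeC2 := h.freeC1
  C1D := h.C2D
  C2D := h.C1D
  cardC1 := h.cardC2
  cardC2 := h.cardC1
  cenD := h.cenD
  uniq := h.uniq

theorem T_D {t x : G} (ht : t ∈ T) (hx : x ∈ D) : t * x * t⁻¹ ∈ D :=
  (h.memD _).2 ⟨h.T1 t ht x (h.D1 hx), h.T2 t ht x (h.D2 hx)⟩

/-- The elements of `D` fixed modulo `C₁`. -/
def fixC {t : G} (ht : t ∈ T) : Subgroup G where
  carrier := {x | x ∈ D ∧ x⁻¹ * (t * x * t⁻¹) ∈ C₁}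
  one_mem' := ⟨one_mem _, by simp⟩
  mul_mem' := by
    rintro x y ⟨hx, hx2⟩ ⟨hy, hy2⟩
    refine ⟨D.mul_mem hx hy, ?_⟩
    have e1 := h.c1 y⁻¹ (Q₁.inv_mem (h.D1 hy)) (x⁻¹ * (t * x * t⁻¹)) (h.D1 (h.C1D hx2))
    have e2 : (x * y)⁻¹ * (t * (x * y) * t⁻¹) = (x⁻¹ * (t * x * t⁻¹)) * (y⁻¹ * (t * y * t⁻¹)) := by
      calc (x * y)⁻¹ * (t * (x * y) * t⁻¹) = y⁻¹ * (x⁻¹ * (t * x * t⁻¹)) * (t * y * t⁻¹) := by group
        _ = _ := by rw [e1]; group
    rw [e2]
    exact C₁.mul_mem hx2 hy2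
  inv_mem' := by
    rintro x ⟨hx, hx2⟩
    refine ⟨D.inv_mem hx, ?_⟩
    rw [h.inv1 (h.D1 hx)]; exact hx2

theorem card_fixC {t : G} (ht : t ∈ T) (htB : t ∉ B) (ht2 : t * t ∈ B) :
    Nat.card (h.fixC ht) ^ 2 ≤ Nat.card D * Nat.card C₁ :=
  card_sq_le (y := t) (X := D) (Y := C₁) (F := h.fixC ht) h.C1D
    (fun c hc => ⟨h.C1D hc, C₁.mul_mem (C₁.inv_mem hc) (h.TC1 t ht c hc)⟩) (fun x hx => hx.1)
    (fun a ha b hb => h.c1 a (h.D1 ha) b (h.D1 hb)) (fun a ha => h.sqD ha)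
    (fun x hx => h.T_D ht hx) (h.freeC1 t ht htB ht2) (fun x hx => hx.2)

theorem C1_le_fixC {t : G} (ht : t ∈ T) : C₁ ≤ h.fixC ht :=
  fun c hc => ⟨h.C1D hc, C₁.mul_mem (C₁.inv_mem hc) (h.TC1 t ht c hc)⟩

theorem le_fixC {t : G} (ht : t ∈ T) {E : Subgroup G} (hE : E ≤ D) (hc : ∀ e ∈ E, t * e * t⁻¹ = e) :
    E ≤ h.fixC ht :=
  fun e he => ⟨hE he, by rw [hc e he, inv_mul_cancel]; exact one_mem _⟩

/-- An element of `T - B` with square in `B` centralises few elements of `D`. -/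
theorem card_cD {t : G} (ht : t ∈ T) (htB : t ∉ B) (ht2 : t * t ∈ B) {E : Subgroup G} (hE : E ≤ D)
    (hc : ∀ e ∈ E, t * e * t⁻¹ = e) : Nat.card E ^ 2 ≤ Nat.card D * Nat.card C₁ :=
  le_trans (Nat.pow_le_pow_left (Subgroup.card_le_of_le (h.le_fixC ht hE hc)) 2)
    (h.card_fixC ht htB ht2)

/-- A subgroup of `D` meeting `C₁` trivially has order at most `q`. -/
theorem card_le_q {E : Subgroup G} (hE : E ≤ D) (hEC : E ⊓ C₁ = ⊥) : Nat.card E ≤ q := by
  have h4 := Subgroup.relIndex_mul_relIndex ⊥ (E ⊓ C₁) E bot_le inf_le_left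
  rw [Subgroup.relIndex_bot_left, Subgroup.relIndex_bot_left, Subgroup.inf_relIndex_left, hEC,
    Subgroup.card_bot, one_mul] at h4
  have h5 : C₁.relIndex E ≤ C₁.relIndex D :=
    Subgroup.relIndex_le_of_le_right hE (Subgroup.FiniteIndex.index_ne_zero)
  have h6 := Subgroup.relIndex_mul_relIndex ⊥ C₁ D bot_le h.C1D
  rw [Subgroup.relIndex_bot_left, Subgroup.relIndex_bot_left, h.cardC1, mul_comm] at h6
  have h7 := Nat.eq_of_mul_eq_mul_right (Nat.card_pos) h6
  rw [← h4, ← h7]; exact h5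

/-- A subgroup of `D` centralised by `t` and meeting `C₁` trivially has order at most `√q`. -/
theorem card_sq_le_q {t : G} (ht : t ∈ T) (htB : t ∉ B) (ht2 : t * t ∈ B) {E : Subgroup G} (hE : E ≤ D)
    (hc : ∀ e ∈ E, t * e * t⁻¹ = e) (hEC : E ⊓ C₁ = ⊥) : Nat.card E ^ 2 ≤ q := by
  have h4 := Subgroup.relIndex_mul_relIndex ⊥ (E ⊓ C₁) E bot_le inf_le_left
  rw [Subgroup.relIndex_bot_left, Subgroup.relIndex_bot_left, Subgroup.inf_relIndex_left, hEC,
    Subgroup.card_bot, one_mul] at h4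
  have h5 : C₁.relIndex E ≤ C₁.relIndex (h.fixC ht) :=
    Subgroup.relIndex_le_of_le_right (h.le_fixC ht hE hc) (Subgroup.FiniteIndex.index_ne_zero)
  have h6 := Subgroup.relIndex_mul_relIndex ⊥ C₁ (h.fixC ht) bot_le (h.C1_le_fixC ht)
  rw [Subgroup.relIndex_bot_left, Subgroup.relIndex_bot_left] at h6
  have h7 := h.card_fixC ht htB ht2
  rw [← h6, h.cardC1] at h7
  rw [h4] at h5
  have h8 : 0 < Nat.card C₁ := Nat.card_pos
  have h9 : Nat.card E ^ 2 * (Nat.card C₁ * Nat.card C₁) ≤ q * (Nat.card C₁ * Nat.card C₁) := by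
    calc Nat.card E ^ 2 * (Nat.card C₁ * Nat.card C₁)
        ≤ (C₁.relIndex (h.fixC ht)) ^ 2 * (Nat.card C₁ * Nat.card C₁) :=
          Nat.mul_le_mul_right _ (Nat.pow_le_pow_left h5 2)
      _ = (Nat.card C₁ * C₁.relIndex (h.fixC ht)) ^ 2 := by ring
      _ ≤ q * Nat.card C₁ * Nat.card C₁ := h7
      _ = q * (Nat.card C₁ * Nat.card C₁) := by ring
  exact Nat.le_of_mul_le_mul_right h9 (Nat.mul_pos h8 h8)

/-- An element of `T - B` with square in `B` centralises few elements of `Q₁`. -/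
theorem card_cQ1 {t : G} (ht : t ∈ T) (htB : t ∉ B) (ht2 : t * t ∈ B) {E : Subgroup G} (hE : E ≤ Q₁)
    (hc : ∀ e ∈ E, t * e * t⁻¹ = e) : Nat.card E ^ 2 ≤ Nat.card Q₁ * Nat.card C₁ := by
  have h1 := h.card_cD ht htB ht2 (E := E ⊓ D) inf_le_right (fun e he => hc e he.1)
  let F : Subgroup G :=
    { carrier := {x | x ∈ Q₁ ∧ x⁻¹ * (t * x * t⁻¹) ∈ D}
      one_mem' := ⟨one_mem _, by simp⟩
      mul_mem' := by
        rintro x y ⟨hx, hx2⟩ ⟨hy, hy2⟩
        refine ⟨Q₁.mul_mem hx hy, ?_⟩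
        have e1 := h.c1 y⁻¹ (Q₁.inv_mem hy) (x⁻¹ * (t * x * t⁻¹)) (h.D1 hx2)
        have e2 : (x * y)⁻¹ * (t * (x * y) * t⁻¹) = (x⁻¹ * (t * x * t⁻¹)) * (y⁻¹ * (t * y * t⁻¹)) := by
          calc (x * y)⁻¹ * (t * (x * y) * t⁻¹) = y⁻¹ * (x⁻¹ * (t * x * t⁻¹)) * (t * y * t⁻¹) := by group
            _ = _ := by rw [e1]; group
        rw [e2]
        exact D.mul_mem hx2 hy2
      inv_mem' := by
        rintro x ⟨hx, hx2⟩
        refine ⟨Q₁.inv_mem hx, ?_⟩
        rw [h.inv1 hx]; exact hx2 }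
  have hFQ : F ≤ Q₁ := fun x hx => hx.1
  have hDF : D ≤ F := fun x hx => ⟨h.D1 hx, D.mul_mem (D.inv_mem hx) (h.T_D ht hx)⟩
  have hEF : E ≤ F := fun x hx => ⟨hE hx, by rw [hc x hx, inv_mul_cancel]; exact one_mem _⟩
  have h2 := card_sq_le (y := t) (X := Q₁) (Y := D) (F := F) h.D1 hDF hFQ h.c1 h.sq1 (h.T1 t ht)
    (h.free1D t ht htB ht2) (fun x hx => hx.2)
  have h3 := Subgroup.relIndex_mul_relIndex ⊥ D F bot_le hDF
  rw [Subgroup.relIndex_bot_left, Subgroup.relIndex_bot_left] at h3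
  have h4 := Subgroup.relIndex_mul_relIndex ⊥ (E ⊓ D) E bot_le inf_le_left
  rw [Subgroup.relIndex_bot_left, Subgroup.relIndex_bot_left, Subgroup.inf_relIndex_left] at h4
  have h5 : D.relIndex E ≤ D.relIndex F :=
    Subgroup.relIndex_le_of_le_right hEF (Subgroup.FiniteIndex.index_ne_zero)
  have h6 : 0 < Nat.card D := Nat.card_pos
  rw [← h4, mul_pow]
  rw [← h3, mul_pow] at h2
  have h7 : (D.relIndex F) ^ 2 * Nat.card D ≤ Nat.card Q₁ := by
    apply Nat.le_of_mul_le_mul_right _ h6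
    calc (D.relIndex F) ^ 2 * Nat.card D * Nat.card D = Nat.card D ^ 2 * D.relIndex F ^ 2 := by ring
      _ ≤ _ := h2
  calc Nat.card (E ⊓ D : Subgroup G) ^ 2 * D.relIndex E ^ 2
      ≤ Nat.card D * Nat.card C₁ * D.relIndex F ^ 2 := Nat.mul_le_mul h1 (Nat.pow_le_pow_left h5 2)
    _ = D.relIndex F ^ 2 * Nat.card D * Nat.card C₁ := by ring
    _ ≤ _ := Nat.mul_le_mul_right _ h7

/-- An element of `T - B` with square in `B` centralises few elements of `Qᵢ`. -/
theorem card_cQ {t : G} (ht : t ∈ T) (htB : t ∉ B) (ht2 : t * t ∈ B) {E : Subgroup G}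
    (hE : E ≤ Q₁ ∨ E ≤ Q₂) (hc : ∀ e ∈ E, t * e * t⁻¹ = e) :
    Nat.card E ^ 2 ≤ Nat.card Q₁ * Nat.card C₁ := by
  rcases hE with hE | hE
  · exact h.card_cQ1 ht htB ht2 hE hc
  · rw [h.card12, h.cardC12]
    exact h.symm.card_cQ1 ht htB ht2 hE hc

theorem mem_T_or {x y : G} (hx : x ∈ S) (hy : y ∈ S) (hx' : x ∈ T ∨ s⁻¹ * x ∈ T)
    (hy' : y ∈ T ∨ s⁻¹ * y ∈ T) : x * y ∈ T ∨ s⁻¹ * (x * y) ∈ T := by
  rcases hx' with hx' | hx' <;> rcases hy' with hy' | hy'
  · exact Or.inl (T.mul_mem hx' hy')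
  · right
    have h1 := T.mul_mem (h.sT' hx') hy'
    have h2 : s⁻¹ * x * s * (s⁻¹ * y) = s⁻¹ * (x * y) := by group
    rwa [h2] at h1
  · right
    have h1 := T.mul_mem hx' hy'
    rwa [mul_assoc] at h1
  · left
    have h1 := T.mul_mem (T.mul_mem (h.sT hx') h.ss_mem) hy'
    have h2 : s * (s⁻¹ * x) * s⁻¹ * (s * s) * (s⁻¹ * y) = x * y := by group
    rwa [h2] at h1

omit [Finite G] h in
theorem elem_comm {E : Subgroup G} (hE : ∀ x ∈ E, x * x = 1) {x y : G} (hx : x ∈ E) (hy : y ∈ E) :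
    x * y * x⁻¹ = y := by
  have h1 := hE _ (E.mul_mem hx hy)
  have h2 : x⁻¹ = x := inv_eq_of_mul_eq_one_right (hE x hx)
  have h3 : y⁻¹ = y := inv_eq_of_mul_eq_one_right (hE y hy)
  have h4 : x * y * x = y⁻¹ := by
    rw [eq_inv_iff_mul_eq_one]
    calc x * y * x * y = (x * y) * (x * y) := by group
      _ = 1 := h1
  rw [h2, h4, h3]

theorem swap1 {x : G} (hx : s⁻¹ * x ∈ T) {a : G} (ha : a ∈ Q₁) : x * a * x⁻¹ ∈ Q₂ := by
  have h1 := h.s1 _ (h.T1 _ hx a ha)
  have h2 : s * (s⁻¹ * x * a * (s⁻¹ * x)⁻¹) * s⁻¹ = x * a * x⁻¹ := by group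
  rwa [h2] at h1

theorem swap2 {x : G} (hx : s⁻¹ * x ∈ T) {a : G} (ha : a ∈ Q₂) : x * a * x⁻¹ ∈ Q₁ := by
  have h1 := h.s2 _ (h.T2 _ hx a ha)
  have h2 : s * (s⁻¹ * x * a * (s⁻¹ * x)⁻¹) * s⁻¹ = x * a * x⁻¹ := by group
  rwa [h2] at h1

/-- Large elementary abelian subgroups of `T ∪ sT` lie in `B`. -/
theorem elem_le_B {E : Subgroup G} (hEA : ∀ e ∈ E, e ∈ T ∨ s⁻¹ * e ∈ T)
    (hE : ∀ x ∈ E, x * x = 1) (hcard : Nat.card Q₁ ≤ Nat.card E) : E ≤ B := by
  by_contra hnot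
  have hd := h.one_lt_D
  have hk := h.card1
  have hq := h.hq
  have hcc : ∀ x ∈ E, ∀ y ∈ E, x * y * x⁻¹ = y := fun x hx y hy => elem_comm hE hx hy
  -- two elements of `(E ∩ T) - B` are congruent modulo `B`
  have hcong : ∀ f ∈ E, f ∈ T → f ∉ B → ∀ e ∈ E, e ∈ T → e ∈ E ⊓ B ∨ f⁻¹ * e ∈ E ⊓ B := by
    intro f hf hfT hfB e he heT
    by_cases heB : e ∈ B
    · exact Or.inl ⟨he, heB⟩
    · exact Or.inr ⟨E.mul_mem (E.inv_mem hf) he, h.uniq f hfT hfB (by rw [hE f hf]; exact one_mem _)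
        e heT heB (by rw [hE e he]; exact one_mem _)⟩
  have hE0 : (E ⊓ B : Subgroup G) ≤ Q₁ ∨ (E ⊓ B : Subgroup G) ≤ Q₂ :=
    h.elem_le_or inf_le_right (fun x hx => hE x hx.1)
  by_cases hT : E ≤ T
  · obtain ⟨f, hf, hfB⟩ := Set.not_subset.1 hnot
    have h1 := card_le_two_mul hf (fun e he => hcong f hf (hT hf) hfB e he (hT he))
    have h2 := h.card_cQ (hT hf) hfB (by rw [hE f hf]; exact one_mem _) hE0
      (fun e he => hcc f hf e he.1)
    have hc := h.cardC1
    have hc0 : 0 < Nat.card C₁ := Nat.card_pos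
    generalize Nat.card E = n at *
    generalize Nat.card (E ⊓ B : Subgroup G) = m at *
    generalize Nat.card Q₁ = k at *
    generalize Nat.card D = d at *
    generalize Nat.card C₁ = c at *
    have h4 : k * k ≤ 4 * (m ^ 2) := by nlinarith
    have h5 : 0 < k := by rw [hk]; exact Nat.mul_pos (by omega) (by omega)
    have h6 : k * k ≤ k * (4 * c) := by nlinarith
    have h7 : k ≤ 4 * c := Nat.le_of_mul_le_mul_left h6 h5
    rw [hk, hc] at h7
    have h8 : q * q * c ≤ 4 * c := by nlinarith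
    have h9 := Nat.le_of_mul_le_mul_right h8 hc0
    nlinarith
  · obtain ⟨f, hf, hfT⟩ := Set.not_subset.1 hT
    have hfs : s⁻¹ * f ∈ T := (hEA f hf).resolve_left hfT
    have h1 : Nat.card E ≤ 2 * Nat.card (E ⊓ T : Subgroup G) := by
      apply card_le_two_mul hf
      intro e he
      rcases hEA e he with h2 | h2
      · exact Or.inl ⟨he, h2⟩
      · right
        refine ⟨E.mul_mem (E.inv_mem hf) he, ?_⟩
        have h3 := T.mul_mem (T.inv_mem hfs) h2
        have h4 : (s⁻¹ * f)⁻¹ * (s⁻¹ * e) = f⁻¹ * e := by group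
        rwa [h4] at h3
    have hED : (E ⊓ B : Subgroup G) ≤ D := by
      intro x hx
      have hfx := hcc f hf x hx.1
      rcases h.inv_mem_or hx.2 (hE x hx.1) with h2 | h2
      · refine (h.memD x).2 ⟨h2, ?_⟩
        have h3 := h.swap1 hfs h2
        rwa [hfx] at h3
      · refine (h.memD x).2 ⟨?_, h2⟩
        have h3 := h.swap2 hfs h2
        rwa [hfx] at h3
    have hEC : (E ⊓ B ⊓ C₁ : Subgroup G) = ⊥ := by
      rw [eq_bot_iff]
      intro x hx
      have hfx := hcc f hf x hx.1.1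
      have h2 := h.sC1 _ (h.TC1 _ hfs x hx.2)
      have h3 : s * (s⁻¹ * f * x * (s⁻¹ * f)⁻¹) * s⁻¹ = f * x * f⁻¹ := by group
      rw [h3, hfx] at h2
      rw [← h.C12]
      exact ⟨hx.2, h2⟩
    have hc := h.cardC1
    have hc0 : 0 < Nat.card C₁ := Nat.card_pos
    have hq2 : q * q ≤ Nat.card Q₁ := by rw [hk, hc]; nlinarith
    by_cases hTB : (E ⊓ T : Subgroup G) ≤ B
    · have h2 : (E ⊓ T : Subgroup G) ≤ E ⊓ B := fun x hx => ⟨hx.1, hTB hx⟩
      have h3 := Subgroup.card_le_of_le h2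
      have h4 := h.card_le_q hED hEC
      nlinarith
    · obtain ⟨e, he, heB⟩ := Set.not_subset.1 hTB
      have h2 : Nat.card (E ⊓ T : Subgroup G) ≤ 2 * Nat.card (E ⊓ B : Subgroup G) := by
        apply card_le_two_mul he
        intro x hx
        exact hcong e he.1 he.2 heB x hx.1 hx.2
      have h3 := h.card_sq_le_q he.2 heB (by rw [hE e he.1]; exact one_mem _) hED
        (fun x hx => hcc e he.1 x hx.1) hEC
      generalize Nat.card E = n at *
      generalize Nat.card (E ⊓ B : Subgroup G) = m at *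
      generalize Nat.card (E ⊓ T : Subgroup G) = l at *
      generalize Nat.card Q₁ = k at *
      have h4 : n ≤ 4 * m := by omega
      have h5 : q * q ≤ 4 * m := by omega
      have h6 : (q * q) * (q * q) ≤ 16 * q := by nlinarith
      have h7 : 16 * (q * q) ≤ (q * q) * (q * q) := Nat.mul_le_mul_right _ (by nlinarith)
      nlinarith

/-- In `T ∪ sT` the groups `Q₁`, `Q₂` are the only elementary abelian subgroups of order `≥ |Q₁|`. -/
theorem eq_of_elem' {E : Subgroup G} (hEA : ∀ e ∈ E, e ∈ T ∨ s⁻¹ * e ∈ T)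
    (hE : ∀ x ∈ E, x * x = 1) (hcard : Nat.card Q₁ ≤ Nat.card E) : E = Q₁ ∨ E = Q₂ := by
  rcases h.elem_le_or (h.elem_le_B hEA hE hcard) hE with h1 | h1
  · exact Or.inl (Subgroup.eq_of_le_of_card_ge h1 hcard)
  · exact Or.inr (Subgroup.eq_of_le_of_card_ge h1 (by rw [← h.card12]; exact hcard))

/-- The subgroup `T ∪ sT`. -/
def A : Subgroup G where
  carrier := {x | x ∈ S ∧ (x ∈ T ∨ s⁻¹ * x ∈ T)}
  one_mem' := ⟨one_mem _, Or.inl (one_mem _)⟩
  mul_mem' := by
    rintro x y ⟨hx, hx'⟩ ⟨hy, hy'⟩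
    exact ⟨S.mul_mem hx hy, h.mem_T_or hx hy hx' hy'⟩
  inv_mem' := by
    rintro x ⟨hx, hx'⟩
    refine ⟨S.inv_mem hx, ?_⟩
    rcases hx' with hx' | hx'
    · exact Or.inl (T.inv_mem hx')
    · right
      have h1 := T.mul_mem (T.inv_mem h.ss_mem) (h.sT (T.inv_mem hx'))
      have h2 : (s * s)⁻¹ * (s * (s⁻¹ * x)⁻¹ * s⁻¹) = s⁻¹ * x⁻¹ := by group
      rwa [h2] at h1

/-- (0) `S = T ∪ sT`. -/
theorem mem_S {x : G} (hx : x ∈ S) : x ∈ T ∨ s⁻¹ * x ∈ T := by
  by_contra hcon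
  have hlt : h.A < S := by
    refine lt_of_le_of_ne (fun y hy => hy.1) ?_
    intro h1
    rw [← h1] at hx
    exact hcon hx.2
  have h1 := Lib.GoldschmidtFusion.lt_inf_normalizer h.two hlt
  obtain ⟨y, ⟨hyS, hyN⟩, hyA⟩ := Set.exists_of_ssubset h1
  have hyN' : ∀ z, z ∈ h.A → y * z * y⁻¹ ∈ h.A := fun z hz => (mem_normalizer_iff.1 hyN z).1 hz
  have key : ∀ Q : Subgroup G, Q ≤ h.A → (∀ z ∈ Q, z * z = 1) → Nat.card Q₁ ≤ Nat.card Q →
      Q.map (MulAut.conj y).toMonoidHom = Q₁ ∨ Q.map (MulAut.conj y).toMonoidHom = Q₂ := by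
    intro Q hQ hQ2 hQ3
    apply h.eq_of_elem'
    · rintro _ ⟨z, hz, rfl⟩
      exact (hyN' z (hQ hz)).2
    · rintro _ ⟨z, hz, rfl⟩
      show y * z * y⁻¹ * (y * z * y⁻¹) = 1
      calc y * z * y⁻¹ * (y * z * y⁻¹) = y * (z * z) * y⁻¹ := by group
        _ = 1 := by rw [hQ2 z hz]; group
    · rw [Lib.GoldschmidtFusion.card_map_conj]; exact hQ3
  have hQ1A : Q₁ ≤ h.A := fun z hz => ⟨h.TS (h.BT (h.Q1B hz)), Or.inl (h.BT (h.Q1B hz))⟩
  rcases key Q₁ hQ1A h.sq1 le_rfl with h2 | h2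
  · apply hyA
    refine ⟨hyS, Or.inl (h.memT y hyS ?_)⟩
    intro a ha
    have h3 : (MulAut.conj y).toMonoidHom a ∈ Q₁.map (MulAut.conj y).toMonoidHom := ⟨a, ha, rfl⟩
    rw [h2] at h3
    exact h3
  · apply hyA
    refine ⟨hyS, Or.inr (h.memT _ (S.mul_mem (S.inv_mem h.sS) hyS) ?_)⟩
    intro a ha
    have h3 : (MulAut.conj y).toMonoidHom a ∈ Q₁.map (MulAut.conj y).toMonoidHom := ⟨a, ha, rfl⟩
    rw [h2] at h3
    have h4 : y * a * y⁻¹ ∈ Q₂ := h3
    have h5 := h.s1' h4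
    have h6 : s⁻¹ * (y * a * y⁻¹) * s = s⁻¹ * y * a * (s⁻¹ * y)⁻¹ := by group
    rwa [h6] at h5

/-- (0) `Q₁`, `Q₂` are the only elementary abelian subgroups of order `≥ |Q₁|` of `S`. -/
theorem eq_of_elem {E : Subgroup G} (hES : E ≤ S) (hE : ∀ x ∈ E, x * x = 1)
    (hcard : Nat.card Q₁ ≤ Nat.card E) : E = Q₁ ∨ E = Q₂ :=
  h.eq_of_elem' (fun e he => h.mem_S (hES he)) hE hcard

/-- If `gBg⁻¹ ≤ S` then `g` normalises `B`. -/
theorem conj_B {g : G} (hg : ∀ b ∈ B, g * b * g⁻¹ ∈ S) : g ∈ normalizer (B : Set G) := by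
  apply mem_normalizer_of
  have key : ∀ Q : Subgroup G, Q ≤ B → (∀ z ∈ Q, z * z = 1) → Nat.card Q₁ ≤ Nat.card Q →
      Q.map (MulAut.conj g).toMonoidHom ≤ B := by
    intro Q hQ hQ2 hQ3
    have h1 : Q.map (MulAut.conj g).toMonoidHom = Q₁ ∨ Q.map (MulAut.conj g).toMonoidHom = Q₂ := by
      apply h.eq_of_elem
      · rintro _ ⟨z, hz, rfl⟩
        exact hg z (hQ hz)
      · rintro _ ⟨z, hz, rfl⟩
        show g * z * g⁻¹ * (g * z * g⁻¹) = 1
        calc g * z * g⁻¹ * (g * z * g⁻¹) = g * (z * z) * g⁻¹ := by group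
          _ = 1 := by rw [hQ2 z hz]; group
      · rw [Lib.GoldschmidtFusion.card_map_conj]; exact hQ3
    rcases h1 with h1 | h1
    · rw [h1]; exact h.Q1B
    · rw [h1]; exact h.Q2B
  intro x hx
  obtain ⟨a, ha, b, hb, rfl⟩ := h.prod x hx
  have h1 : g * a * g⁻¹ ∈ B := key Q₁ h.Q1B h.sq1 le_rfl ⟨a, ha, rfl⟩
  have h2 : g * b * g⁻¹ ∈ B := key Q₂ h.Q2B h.sq2 h.card12.le ⟨b, hb, rfl⟩
  have h3 : g * (a * b) * g⁻¹ = g * a * g⁻¹ * (g * b * g⁻¹) := by group
  rw [h3]; exact B.mul_mem h1 h2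

/-- `S` normalises `B`. -/
theorem S_B {x : G} (hx : x ∈ S) {b : G} (hb : b ∈ B) : x * b * x⁻¹ ∈ B := by
  have h1 : x ∈ normalizer (B : Set G) :=
    h.conj_B (fun b hb => S.mul_mem (S.mul_mem hx (h.TS (h.BT hb))) (S.inv_mem hx))
  exact (mem_normalizer_iff.1 h1 b).1 hb

end Base

end

end Cfsg.Agent.Omega.SQ1.End
end

-- part: Omega/SQ1/LocTwo
section
-- merged: Cfsg.Agent.Omega.SQ1.Block
section

/-!
# SQ1: the structure of one block after the matching

For a block `L` over `B` (structure `PushUp.Dat`) which has a noncommuting conjugate: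
`V = Z Z^l` for moving `l`, `[v, b] ∈ C(L)` only in the trivial cases.
(bb OMEGA #12483.)
-/

set_option autoImplicit false

namespace Cfsg.Agent.Omega.SQ1.Block

open Cfsg.Agent.MinSimple.PushUp Cfsg.Agent.Omega.PushUp Cfsg.Agent.Omega.SQ1.Match

variable {G : Type*} [Group G]

/-- If `U ≤ B` covers as many cosets of `Q` as `B`, then `B = U Q`. -/
theorem exists_mul_of_relIndex [Finite G] {Q B U : Subgroup G} (hUB : U ≤ B)
    (hle : Q.relIndex B ≤ Q.relIndex U) {b : G} (hb : b ∈ B) :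
    ∃ u ∈ U, ∃ q ∈ Q, b = u * q := by
  classical
  let f := Subgroup.quotientSubgroupOfEmbeddingOfLE Q hUB
  have hbij : Function.Bijective f := Function.Injective.bijective_of_nat_card_le f.injective hle
  obtain ⟨x, hx⟩ := hbij.2 (QuotientGroup.mk (⟨b, hb⟩ : B))
  obtain ⟨u, rfl⟩ := QuotientGroup.mk_surjective x
  have h1 : (QuotientGroup.mk (⟨u.1, hUB u.2⟩ : B) : B ⧸ Q.subgroupOf B) =
      QuotientGroup.mk (⟨b, hb⟩ : B) := hx
  rw [QuotientGroup.eq] at h1
  refine ⟨u, u.2, (u : G)⁻¹ * b, ?_, by simp⟩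
  simpa [Subgroup.mem_subgroupOf] using h1

/-- comparison of indices by an elementwise injection -/
theorem relIndex_le_of_map [Finite G] {Q B F Z : Subgroup G} (f : G → G)
    (hf : ∀ b ∈ B, f b ∈ Z)
    (hinj : ∀ b ∈ B, ∀ c ∈ B, (f b)⁻¹ * f c ∈ F → b⁻¹ * c ∈ Q) :
    Q.relIndex B ≤ F.relIndex Z := by
  classical
  have : Function.Injective (fun x : B ⧸ Q.subgroupOf B =>
      (QuotientGroup.mk (⟨f (Quotient.out x : B), hf _ (Quotient.out x : B).2⟩ : Z) :
        Z ⧸ F.subgroupOf Z)) := by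
    intro x y hxy
    simp only at hxy
    rw [QuotientGroup.eq, Subgroup.mem_subgroupOf] at hxy
    have h1 := hinj _ (Quotient.out x : B).2 _ (Quotient.out y : B).2 (by simpa using hxy)
    have h2 : (QuotientGroup.mk (Quotient.out x : B) : B ⧸ Q.subgroupOf B) =
        QuotientGroup.mk (Quotient.out y : B) := by
      rw [QuotientGroup.eq, Subgroup.mem_subgroupOf]
      simpa using h1
    rwa [QuotientGroup.out_eq', QuotientGroup.out_eq'] at h2
  exact Nat.card_le_card_of_injective _ this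

theorem Dm_relIndex (g : G) (H K : Subgroup G) : (Dm H g).relIndex (Dm K g) = H.relIndex K :=
  Subgroup.relIndex_map_map_of_injective _ _ (MulAut.conj g).injective

theorem Dm_le_iff {g : G} {H K : Subgroup G} : Dm H g ≤ K ↔ ∀ x ∈ H, cj g x ∈ K := by
  constructor
  · intro h x hx; exact h (cj_mem_Dm hx)
  · intro h x hx
    rw [mem_Dm] at hx
    have := h _ hx
    rwa [cj_cj_inv] at this

theorem Dm_eq_of [Finite G] {g : G} {H : Subgroup G} (h : ∀ x ∈ H, cj g x ∈ H) : Dm H g = H := by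
  apply Subgroup.eq_of_le_of_card_ge (Dm_le_iff.2 h)
  rw [Dm, Subgroup.card_map_of_injective (MulAut.conj g).injective]

variable {A T L B Q V Z D : Subgroup G}

section dat

variable (h : Dat A T L B Q V Z D)

include h

/-- `|V : Z| = |B : Q|` -/
theorem idx_eq [Finite G] : Z.relIndex V = Q.relIndex B := by
  apply le_antisymm _ h.card
  obtain ⟨t, ht, v, hv, u, hu, hne⟩ := h.exists_noncommuting
  have hc : ∀ m < 0, ∀ w ∈ W A L m, Com V w := fun m hm => absurd hm (Nat.not_lt_zero m)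
  exact h.crit_card hc (show t ∈ W A L 0 from ht) (fun hcom => hne (hcom v hv u hu))

/-- `Z ∩ Z^m ≤ C(L)` for moving `m` -/
theorem cent_inter {m : G} (hm : m ∈ L) (hmv : Mv D Z m) {z : G} (hz : z ∈ Z)
    (hz' : cj m⁻¹ z ∈ Z) {y : G} (hy : y ∈ L) : y * z = z * y := by
  have hle : L ≤ Subgroup.centralizer {z} := by
    apply h.gen m hm hmv
    · intro b hb
      rw [Subgroup.mem_centralizer_iff]
      intro x hx
      rw [Set.mem_singleton_iff] at hx
      rw [hx]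
      exact (h.BcZ b hb z hz).symm
    · intro b hb
      rw [Subgroup.mem_centralizer_iff]
      intro x hx
      rw [Set.mem_singleton_iff] at hx
      rw [hx]
      have h1 := (cj_comm (g := m)).2 (h.BcZ b hb _ hz')
      rw [cj_cj_inv] at h1
      exact h1.symm
  exact (Subgroup.mem_centralizer_iff.1 (hle hy) z rfl).symm

/-- an element of `V` in a conjugate of `Z` -/
theorem inj_aux {l : G} (hl : l ∈ L) (hmv : Mv D Z l) {z : G} (hz : z ∈ Z) {b : G} (hb : b ∈ B)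
    (hf : ∀ y ∈ L, y * (cj l z * b * (cj l z)⁻¹ * b⁻¹) = (cj l z * b * (cj l z)⁻¹ * b⁻¹) * y) :
    b ∈ Q ∨ cj l z ∈ Z := by
  by_cases hbQ : b ∈ Q
  · exact Or.inl hbQ
  right
  have hm := h.ti l hl hmv b hb hbQ
  have hmL : l⁻¹ * b * l ∈ L := L.mul_mem (L.mul_mem (L.inv_mem hl) (h.BL hb)) hl
  set f := cj l z * b * (cj l z)⁻¹ * b⁻¹ with hfd
  have hzV : cj l z ∈ V := h.cjV hl (h.ZV hz)
  have hfD : f ∈ D := h.comm _ hzV b hb
  have hfZ : f ∈ Z := h.DZ hfD
  -- `cj b (cj l z) = f⁻¹ * cj l z`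
  have e1 : cj b (cj l z) = f⁻¹ * cj l z := by rw [hfd]; simp [cj, mul_assoc]
  have e2 : cj l⁻¹ f = f := cj_eq_self.2 (hf _ (L.inv_mem hl))
  set w := cj b (cj l z) with hw
  have hwl : cj l⁻¹ w ∈ Z := by
    rw [e1, cj_prod, cj_inv, e2, cj_inv_cj]
    exact Z.mul_mem (Z.inv_mem hfZ) hz
  have e3 : cj l⁻¹ w = cj (l⁻¹ * b * l) z := by rw [hw]; simp [cj, mul_assoc]
  have hcen : ∀ y ∈ L, y * cj l⁻¹ w = cj l⁻¹ w * y := by
    intro y hy
    apply cent_inter h hmL hm hwl _ hy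
    rw [e3, cj_inv_cj]; exact hz
  have e4 : w = cj l⁻¹ w := by
    have h1 := cj_eq_self.2 (hcen l hl)
    rw [cj_cj_inv] at h1
    exact h1
  have hwZ : w ∈ Z := by rw [e4]; exact hwl
  have h2 : cj l z = f * w := by rw [e1]; simp
  rw [h2]; exact Z.mul_mem hfZ hwZ

/-- `V = Z Z^l` for moving `l` -/
theorem VZZ [Finite G] {l : G} (hl : l ∈ L) (hmv : Mv D Z l) {v : G} (hv : v ∈ V) :
    ∃ z ∈ Z, ∃ z' ∈ Z, v = z * cj l z' := by
  have hVl : Dm V l = V := Dm_eq_of fun x hx => h.cjV hl hx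
  obtain ⟨d, hd, hdZ⟩ := hmv
  have hmv : Mv D Z l := ⟨d, hd, hdZ⟩
  have hdZ' := h.DZ hd
  have hx : cj l d ∈ V := h.cjV hl (h.ZV hdZ')
  have h1 : Q.relIndex B ≤ (Dm Z l).relIndex Z := by
    apply relIndex_le_of_map (fun b => cj l d * b * (cj l d)⁻¹ * b⁻¹)
    · intro b hb; exact h.DZ (h.comm _ hx b hb)
    · intro b hb c hc hbc
      have hcB : b⁻¹ * c ∈ B := B.mul_mem (B.inv_mem hb) hc
      -- the commutator is a homomorphism in `b`
      have hcb := h.comm _ hx b hb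
      have hcc := h.comm _ hx c hc
      have hcbc := h.comm _ hx _ hcB
      have e : cj l d * (b⁻¹ * c) * (cj l d)⁻¹ * (b⁻¹ * c)⁻¹ =
          (cj l d * b * (cj l d)⁻¹ * b⁻¹)⁻¹ * (cj l d * c * (cj l d)⁻¹ * c⁻¹) := by
        set x := cj l d
        have r1 := h.BcZ b hb _ (h.DZ hcb)
        have r2 : b⁻¹ * (x * b * x⁻¹ * b⁻¹)⁻¹ * b = (x * b * x⁻¹ * b⁻¹)⁻¹ := by
          have : Commute b (x * b * x⁻¹ * b⁻¹)⁻¹ := Commute.inv_right r1
          rw [mul_assoc, ← this.eq, ← mul_assoc, inv_mul_cancel, one_mul]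
        have r3 := h.BcZ b⁻¹ (B.inv_mem hb) _ (h.DZ hcc)
        calc x * (b⁻¹ * c) * x⁻¹ * (b⁻¹ * c)⁻¹
            = (b⁻¹ * (x * b * x⁻¹ * b⁻¹)⁻¹ * b) * (b⁻¹ * (x * c * x⁻¹ * c⁻¹)) * b := by
              simp [mul_assoc]
          _ = (x * b * x⁻¹ * b⁻¹)⁻¹ * ((x * c * x⁻¹ * c⁻¹) * b⁻¹) * b := by rw [r2, r3]
          _ = _ := by simp [mul_assoc]
      have hF : ∀ y ∈ L, y * (cj l d * (b⁻¹ * c) * (cj l d)⁻¹ * (b⁻¹ * c)⁻¹) =
          (cj l d * (b⁻¹ * c) * (cj l d)⁻¹ * (b⁻¹ * c)⁻¹) * y := by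
        intro y hy
        apply cent_inter h hl hmv (h.DZ hcbc) _ hy
        rw [e]
        exact mem_Dm.1 hbc
      rcases inj_aux h hl hmv hdZ' hcB hF with h2 | h2
      · exact h2
      · exact absurd h2 hdZ
  have h2 : (Dm Z l).relIndex V = Z.relIndex V := by
    conv_lhs => rw [← hVl]
    exact Dm_relIndex l Z V
  obtain ⟨z, hz, z', hz', he⟩ := exists_mul_of_relIndex (Q := Dm Z l) (B := V) (U := Z) h.ZV
    (by rw [h2, idx_eq h]; exact h1) hv
  exact ⟨z, hz, cj l⁻¹ z', mem_Dm.1 hz', by rw [cj_cj_inv]; exact he⟩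

/-- `|B : Q| ≤ |Z : Z ∩ Z^l|` -/
theorem idx_ZZ [Finite G] {l : G} (hl : l ∈ L) (hmv : Mv D Z l) :
    Q.relIndex B ≤ (Dm Z l).relIndex Z := by
  classical
  have hVl : Dm V l = V := Dm_eq_of fun x hx => h.cjV hl hx
  have h2 : (Dm Z l).relIndex V = Z.relIndex V := by
    conv_lhs => rw [← hVl]
    exact Dm_relIndex l Z V
  rw [← idx_eq h, ← h2]
  apply relIndex_le_of_map (fun v => if hv : v ∈ V then Classical.choose (VZZ h hl hmv hv) else 1)
  · intro b hb
    rw [dif_pos hb]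
    exact (Classical.choose_spec (VZZ h hl hmv hb)).1
  · intro b hb c hc hbc
    rw [dif_pos hb, dif_pos hc] at hbc
    obtain ⟨hz, z', hz', he⟩ := Classical.choose_spec (VZZ h hl hmv hb)
    obtain ⟨hy, y', hy', he'⟩ := Classical.choose_spec (VZZ h hl hmv hc)
    set z := Classical.choose (VZZ h hl hmv hb)
    set y := Classical.choose (VZZ h hl hmv hc)
    rw [he, he']
    have e : (z * cj l z')⁻¹ * (y * cj l y') = (cj l z')⁻¹ * (z⁻¹ * y) * cj l y' := by
      simp [mul_assoc]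
    rw [e]
    exact (Dm Z l).mul_mem ((Dm Z l).mul_mem ((Dm Z l).inv_mem (cj_mem_Dm hz')) hbc)
      (cj_mem_Dm hy')

/-- `[v, b] ∈ C(L)` only if `v ∈ Z` or `b ∈ Q` -/
theorem star [Finite G] {v : G} (hv : v ∈ V) (hvZ : v ∉ Z) {b : G} (hb : b ∈ B)
    (hf : ∀ y ∈ L, y * (v * b * v⁻¹ * b⁻¹) = (v * b * v⁻¹ * b⁻¹) * y) : b ∈ Q := by
  obtain ⟨l, hl, hmv⟩ := h.moves
  obtain ⟨z, hz, z', hz', rfl⟩ := VZZ h hl hmv hv
  have hx : cj l z' ∈ V := h.cjV hl (h.ZV hz')
  have hcb := h.comm _ hx b hb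
  have e : (z * cj l z') * b * (z * cj l z')⁻¹ * b⁻¹ = cj l z' * b * (cj l z')⁻¹ * b⁻¹ := by
    set x := cj l z'
    have r1 : b * z⁻¹ = z⁻¹ * b := h.BcZ b hb _ (Z.inv_mem hz)
    have r2 : z * (x * b * x⁻¹ * b⁻¹) = (x * b * x⁻¹ * b⁻¹) * z :=
      h.BcZ z (h.VB (h.ZV hz)) _ (h.DZ hcb)
    calc (z * x) * b * (z * x)⁻¹ * b⁻¹ = z * x * b * x⁻¹ * (z⁻¹ * b⁻¹) := by simp [mul_assoc]
      _ = z * x * b * x⁻¹ * (b⁻¹ * z⁻¹) := by
        have : Commute b⁻¹ z⁻¹ := Commute.inv_left r1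
        rw [this.eq]
      _ = (z * (x * b * x⁻¹ * b⁻¹)) * z⁻¹ := by simp [mul_assoc]
      _ = _ := by rw [r2]; simp [mul_assoc]
  rw [e] at hf
  rcases inj_aux h hl hmv hz' hb hf with h1 | h1
  · exact h1
  · exact absurd (Z.mul_mem hz h1) hvZ

end dat

end Cfsg.Agent.Omega.SQ1.Block

end

-- merged: Cfsg.Agent.Omega.SQ1.BlockO
section

/-!
# The subgroup generated by the elements of odd order of a subgroup
-/

set_option autoImplicit false

namespace Cfsg.Agent.Omega.SQ1.BlockO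

open Subgroup

variable {G : Type*} [Group G]

/-- the subgroup generated by the elements of odd order of `L` -/
def O2 (L : Subgroup G) : Subgroup G := closure {x | x ∈ L ∧ Odd (orderOf x)}

theorem O2_le (L : Subgroup G) : O2 L ≤ L := by
  rw [O2, closure_le]
  exact fun x hx => hx.1

theorem mem_O2 {L : Subgroup G} {x : G} (hx : x ∈ L) (ho : Odd (orderOf x)) : x ∈ O2 L :=
  subset_closure ⟨hx, ho⟩

theorem O2_norm {L : Subgroup G} {l x : G} (hl : l ∈ L) (hx : x ∈ O2 L) : l * x * l⁻¹ ∈ O2 L := by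
  have hle : O2 L ≤ (O2 L).comap (MulAut.conj l).toMonoidHom := by
    conv_lhs => rw [O2]
    rw [closure_le]
    rintro y ⟨hy, ho⟩
    simp only [coe_comap, Set.mem_preimage, SetLike.mem_coe]
    have e : (MulAut.conj l).toMonoidHom y = l * y * l⁻¹ := by simp
    rw [e]
    refine mem_O2 (mul_mem (mul_mem hl hy) (inv_mem hl)) ?_
    have : orderOf (l * y * l⁻¹) = orderOf y := by
      have h1 := orderOf_injective (MulAut.conj l).toMonoidHom (MulAut.conj l).injective y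
      rwa [e] at h1
    rw [this]; exact ho
  have := hle hx
  simpa using this

/-- a suitable 2-power of each element of `L` lies in `O2 L` -/
theorem pow_mem_O2 [Finite G] {L : Subgroup G} {y : G} (hy : y ∈ L) : ∃ k, y ^ 2 ^ k ∈ O2 L := by
  obtain ⟨k, m, hm, he⟩ := Nat.exists_eq_two_pow_mul_odd (n := orderOf y) (orderOf_pos y).ne'
  refine ⟨k, mem_O2 (pow_mem hy _) ?_⟩
  have h1 : orderOf (y ^ 2 ^ k) = m := by
    rw [orderOf_pow_of_dvd (by positivity) (by rw [he]; exact dvd_mul_right _ _), he]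
    exact Nat.mul_div_cancel_left _ (by positivity)
  rw [h1]; exact hm

/-- In a finite group `L` with a normal subgroup `X` of 2-power index: a subgroup `B` which
generates `L` together with a conjugate supplements `X`. -/
theorem le_sup_of_gen [Finite G] {L X B : Subgroup G} (hXL : X ≤ L)
    (hXn : ∀ l ∈ L, ∀ x ∈ X, l * x * l⁻¹ ∈ X) (hq : ∀ y ∈ L, ∃ k, y ^ 2 ^ k ∈ X) (hBL : B ≤ L)
    {l : G} (hl : l ∈ L)
    (hgen : ∀ K : Subgroup G, B ≤ K → (∀ b ∈ B, l * b * l⁻¹ ∈ K) → L ≤ K) : L ≤ X ⊔ B := by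
  classical
  by_contra hcon
  -- a maximal proper subgroup over `X B`
  obtain ⟨M, ⟨hXM, hML, hLM⟩, hmax⟩ := Set.exists_max_image
    {M : Subgroup G | X ⊔ B ≤ M ∧ M ≤ L ∧ ¬ L ≤ M} (fun M => Nat.card M) (Set.toFinite _)
    ⟨X ⊔ B, le_rfl, sup_le hXL hBL, hcon⟩
  -- the quotient
  have hn : (X.subgroupOf L).Normal := by
    constructor
    intro n hn g
    rw [mem_subgroupOf] at hn ⊢
    exact hXn g g.2 n hn
  have hp : IsPGroup 2 (L ⧸ X.subgroupOf L) := by
    intro g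
    obtain ⟨y, rfl⟩ := QuotientGroup.mk_surjective g
    obtain ⟨k, hk⟩ := hq y y.2
    refine ⟨k, ?_⟩
    rw [← QuotientGroup.mk_pow, QuotientGroup.eq_one_iff, mem_subgroupOf]
    exact hk
  have : Group.IsNilpotent (L ⧸ X.subgroupOf L) := hp.isNilpotent
  have hnc := Group.normalizerCondition_of_isNilpotent (G := L ⧸ X.subgroupOf L)
  set π := QuotientGroup.mk' (X.subgroupOf L) with hπ
  have hcomap : ((M.subgroupOf L).map π).comap π = M.subgroupOf L := by
    rw [comap_map_eq, QuotientGroup.ker_mk', sup_eq_left]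
    intro x hx
    rw [mem_subgroupOf] at hx ⊢
    exact hXM (le_sup_left (a := X) hx)
  have hlt : (M.subgroupOf L).map π < ⊤ := by
    rw [lt_top_iff_ne_top]
    intro htop
    rw [htop, comap_top] at hcomap
    apply hLM
    intro y hy
    have : (⟨y, hy⟩ : L) ∈ M.subgroupOf L := by rw [← hcomap]; trivial
    exact mem_subgroupOf.1 this
  have hlt2 := hnc _ hlt
  obtain ⟨g, hg1, hg2⟩ := SetLike.exists_of_lt hlt2
  obtain ⟨y, rfl⟩ := QuotientGroup.mk_surjective g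
  have hyM : (y : G) ∉ M := by
    intro hyM
    apply hg2
    exact ⟨y, mem_subgroupOf.2 hyM, rfl⟩
  have hmemM : ∀ z : L, π z ∈ (M.subgroupOf L).map π ↔ (z : G) ∈ M := by
    intro z
    rw [← mem_comap, hcomap, mem_subgroupOf]
  have hyN : (y : G) ∈ normalizer (M : Set G) := by
    rw [mem_normalizer_iff] at hg1 ⊢
    intro z
    constructor
    · intro hz
      have h1 := (hg1 (π ⟨z, hML hz⟩)).1 ((hmemM _).2 hz)
      exact (hmemM (y * ⟨z, hML hz⟩ * y⁻¹)).1 h1
    · intro hz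
      have hzL : z ∈ L := by
        have := mul_mem (mul_mem (inv_mem y.2) (hML hz)) y.2
        simpa [mul_assoc] using this
      have h1 := (hg1 (π ⟨z, hzL⟩)).2 ((hmemM (y * ⟨z, hzL⟩ * y⁻¹)).2 hz)
      exact (hmemM ⟨z, hzL⟩).1 h1
  -- the normaliser of `M` in `L` is `L`
  have hLN : L ≤ normalizer (M : Set G) := by
    by_contra hLN
    have h1 := hmax (L ⊓ normalizer (M : Set G))
      ⟨hXM.trans (le_inf hML le_normalizer), inf_le_left, fun h => hLN (h.trans inf_le_right)⟩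
    have h2 : M ≤ L ⊓ normalizer (M : Set G) := le_inf hML le_normalizer
    have h3 := Subgroup.eq_of_le_of_card_ge h2 h1
    apply hyM
    rw [h3]
    exact ⟨y.2, hyN⟩
  apply hLM
  apply hgen M (le_sup_right.trans hXM)
  intro b hb
  exact (mem_normalizer_iff.1 (hLN hl) b).1 (hXM (le_sup_right (a := X) hb))

/-- an element of odd order which centralises the 2-element `[x, r]` centralises `r` -/
theorem comm_of_odd {x r c : G} (hn : Odd (orderOf x)) (hc : x * r * x⁻¹ = c * r)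
    (hcx : x * c = c * x) {m : ℕ} (hm : c ^ 2 ^ m = 1) : x * r = r * x := by
  have hcx' : ∀ k : ℕ, x * c ^ k = c ^ k * x := fun k =>
    ((show Commute x c from hcx).pow_right k).eq
  have key : ∀ k : ℕ, x ^ k * r * (x ^ k)⁻¹ = c ^ k * r := by
    intro k
    induction k with
    | zero => simp
    | succ k ih =>
      have : x ^ (k + 1) * r * (x ^ (k + 1))⁻¹ = x * (x ^ k * r * (x ^ k)⁻¹) * x⁻¹ := by
        rw [pow_succ']; group
      rw [this, ih]
      calc x * (c ^ k * r) * x⁻¹ = (x * c ^ k) * r * x⁻¹ := by group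
        _ = c ^ k * (x * r * x⁻¹) := by rw [hcx' k]; group
        _ = c ^ (k + 1) * r := by rw [hc, pow_succ]; group
  have h2 : c ^ orderOf x = 1 := by
    have := key (orderOf x)
    rw [pow_orderOf_eq_one] at this
    simpa using this.symm
  have h3 : orderOf c ∣ orderOf x := orderOf_dvd_of_pow_eq_one h2
  have h4 : orderOf c ∣ 2 ^ m := orderOf_dvd_of_pow_eq_one hm
  have h5 : Nat.Coprime (2 ^ m) (orderOf x) := Nat.Coprime.pow_left _ (Nat.coprime_two_left.2 hn)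
  have h6 : orderOf c = 1 := Nat.eq_one_of_dvd_coprimes h5 h4 h3
  have h7 : c = 1 := orderOf_eq_one_iff.1 h6
  rw [h7, one_mul, mul_inv_eq_iff_eq_mul] at hc
  exact hc

end Cfsg.Agent.Omega.SQ1.BlockO

end

-- merged: Cfsg.Agent.Omega.SQ1.Loc
section

/-!
# SQ1: local structure of a block (fields `loc`, `kick` of the killing lemma)

For a matched pair `(i, j)`: `Q_i = V_i C` where `C` is centralised by `O²(L_i)`; a 2-group which
normalises `P` and is normalised by `O²(L_i)` and `B` is centralised by `O²(L_i)` or contains `D_i`.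
(bb OMEGA #12483.)
-/

set_option autoImplicit false

namespace Cfsg.Agent.Omega.SQ1.Block

open Cfsg.Agent.MinSimple.PushUp Cfsg.Agent.Omega.PushUp Cfsg.Agent.Omega.SQ1.Match
open Cfsg.Agent.Omega.SQ1.BlockO Subgroup
open scoped Pointwise

variable {G : Type*} [Group G] {ι : Type*}
variable {A T B Z P : Subgroup G} {s : G} {L Q V D : ι → Subgroup G}

theorem cj_pow (g x : G) (n : ℕ) : cj g (x ^ n) = cj g x ^ n := by
  simp [cj]

theorem mem_norm_of [Finite G] {H : Subgroup G} {x : G} (h : ∀ y ∈ H, x * y * x⁻¹ ∈ H) :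
    x ∈ normalizer (H : Set G) := by
  have e : Dm H x = H := Dm_eq_of fun y hy => h y hy
  rw [mem_normalizer_iff]
  intro y
  refine ⟨h y, fun hy => ?_⟩
  have h1 : cj x y ∈ Dm H x := by rw [e]; exact hy
  have h2 := mem_Dm.1 h1
  rwa [cj_inv_cj] at h2

theorem norm_cj {H : Subgroup G} {x y : G} (h : x ∈ normalizer (H : Set G)) (hy : y ∈ H) :
    cj x y ∈ H := (mem_normalizer_iff.1 h y).1 hy

variable (h : MIn A T B Z P s L Q V D)

section basic

include h

/-- `V' = (V_j)^s` is normalised by `B` -/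
theorem B_norm_V' (j : ι) {b u : G} (hb : b ∈ B) (hu : u ∈ Dm (V j) s) :
    cj b u ∈ Dm (V j) s := by
  rw [mem_Dm] at hu ⊢
  have e : cj s⁻¹ (cj b u) = cj (cj s⁻¹ b) (cj s⁻¹ u) := by simp [cj, mul_assoc]
  rw [e]
  obtain ⟨d, hd, he⟩ := (h.dat j).commB hu (h.cjsB' j hb)
  rw [he]
  exact (V j).mul_mem ((h.dat j).DV hd) hu

theorem V'_le_B (j : ι) : Dm (V j) s ≤ B := by
  rw [Dm_le_iff]
  intro v hv
  exact h.cjsB j ((h.dat j).VB hv)

theorem Z_le_V' (j : ι) : Z ≤ Dm (V j) s := by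
  intro z hz
  rw [mem_Dm]
  exact (h.dat j).ZV ((h.dat j).cjZ (A.inv_mem h.sA) hz)

theorem mem_Q' (j : ι) {x : G} (hx : x ∈ B) :
    x ∈ Dm (Q j) s ↔ ∀ u ∈ Dm (V j) s, x * u = u * x := by
  rw [mem_Dm]
  constructor
  · intro hq u hu
    have h1 := (h.dat j).VcQ _ hq _ (mem_Dm.1 hu)
    have h2 := (cj_comm (g := s)).2 h1
    rwa [cj_cj_inv, cj_cj_inv] at h2
  · intro hc
    apply (h.dat j).QcV _ (h.cjsB' j hx)
    intro v hv
    have h1 := hc _ (cj_mem_Dm hv)
    have h2 := (cj_comm (g := s⁻¹)).2 h1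
    rwa [cj_inv_cj] at h2

theorem Q'_le_B (j : ι) : Dm (Q j) s ≤ B := by
  rw [Dm_le_iff]
  intro v hv
  exact h.cjsB j ((h.dat j).QB hv)

/-- `Q' = C_B(V')` is normalised by `B` -/
theorem B_norm_Q' (j : ι) {b x : G} (hb : b ∈ B) (hx : x ∈ Dm (Q j) s) : cj b x ∈ Dm (Q j) s := by
  have hxB := Q'_le_B h j hx
  have hbx : cj b x ∈ B := B.mul_mem (B.mul_mem hb hxB) (B.inv_mem hb)
  rw [mem_Q' h j hbx]
  intro u hu
  have h1 := (mem_Q' h j hxB).1 hx _ (B_norm_V' h j (B.inv_mem hb) hu)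
  have h2 := (cj_comm (g := b)).2 h1
  rwa [cj_cj_inv] at h2

theorem idx_ij [Finite G] (i j : ι) : Z.relIndex (V i) = Z.relIndex (V j) := by
  obtain ⟨t, ht, hD⟩ := h.trans i j
  have h12 := h.perm_eq ht hD
  have h1 := h12.1
  have h2 := h12.2.1
  have e1 : Dm (V i) t = V j := by
    apply le_antisymm (Dm_le_iff.2 h1)
    intro v hv
    rw [mem_Dm]
    simpa [cj] using h2 v hv
  have e2 : Dm Z t = Z := Dm_eq_of fun z hz => (h.dat i).cjZ (h.TA i ht) hz
  have := Dm_relIndex t Z (V i)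
  rw [e1, e2] at this
  exact this.symm

end basic

section pair

variable {i j : ι} (hp : Par s V i j)

include h hp

theorem V'_cap {u : G} (hu : u ∈ Dm (V j) s) (hc : ∀ v ∈ V i, u * v = v * u) : u ∈ Z := by
  have h1 : cj s⁻¹ u ∈ Z := by
    apply h.inv.par_Z (MIn.par_symm hp) (mem_Dm.1 hu)
    intro v hv
    exact (cj_comm (g := s⁻¹)).2 (hc v hv)
  have h2 := (h.dat i).cjZ h.sA h1
  rwa [cj_cj_inv] at h2

theorem V_cap {v : G} (hv : v ∈ V i) (hc : ∀ u ∈ Dm (V j) s, v * u = u * v) : v ∈ Z :=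
  h.par_Z hp hv fun u hu => hc _ (cj_mem_Dm hu)

theorem B_eq [Finite G] {b : G} (hb : b ∈ B) : ∃ u ∈ Dm (V j) s, ∃ q ∈ Q i, b = u * q := by
  obtain ⟨v, hv, q, hq, he⟩ := h.par_B hp hb
  exact ⟨_, cj_mem_Dm hv, q, hq, he⟩

/-- `C_Q(V', V'^l)` -/
def Cq (s l : G) (Q : ι → Subgroup G) (i j : ι) : Subgroup G :=
  Q i ⊓ (Dm (Q j) s ⊓ Dm (Dm (Q j) s) l)

omit h hp in
theorem mem_Cq {l x : G} : x ∈ Cq s l Q i j ↔
    x ∈ Q i ∧ x ∈ Dm (Q j) s ∧ cj l⁻¹ x ∈ Dm (Q j) s := by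
  unfold Cq
  rw [mem_inf, mem_inf, mem_Dm (g := l)]

/-- `Q = V C_Q(V', V'^l)` -/
theorem dec [Finite G] {l : G} (hl : l ∈ L i) (hmv : Mv (D i) Z l) {f : G} (hf : f ∈ Q i) :
    ∃ v ∈ V i, ∃ c ∈ Cq s l Q i j, f = v * c := by
  set C1 := Dm (Q j) s with hC1
  set C2 := Dm C1 l with hC2
  set q := Z.relIndex (V i) with hq
  have hqj : (Q j).relIndex B = q := by
    rw [← idx_eq (h.dat j), ← idx_ij h i j]
  have hqi : (Q i).relIndex B = q := by rw [← idx_eq (h.dat i)]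
  have hBs : Dm B s = B := Dm_eq_of fun x hx => h.cjsB i hx
  have hQl : Dm (Q i) l = Q i := Dm_eq_of fun x hx => (h.dat i).cjQ hl hx
  have hne : ∀ H K : Subgroup G, H.relIndex K ≠ 0 := fun H K => Nat.card_pos.ne'
  have u1 : C1.relIndex (Q i) ≤ q := by
    have h1 : C1.relIndex B = q := by
      conv_lhs => rw [← hBs]
      rw [hC1, Dm_relIndex]; exact hqj
    rw [← h1]
    exact relIndex_le_of_le_right (h.dat i).QB (hne _ _)
  have u2 : C2.relIndex (Q i) ≤ q := by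
    have h1 : C2.relIndex (Q i) = C1.relIndex (Q i) := by
      conv_lhs => rw [← hQl]
      rw [hC2, Dm_relIndex]
    rw [h1]; exact u1
  have u3 : (C1 ⊓ C2).relIndex (Q i) ≤ q * q :=
    (relIndex_inf_le).trans (Nat.mul_le_mul u1 u2)
  have hcap : (C1 ⊓ C2) ⊓ V i ≤ Z ⊓ Dm Z l := by
    rintro x ⟨⟨hx1, hx2⟩, hxV⟩
    refine ⟨V_cap h hp hxV ((mem_Q' h j (Q'_le_B h j hx1)).1 hx1), ?_⟩
    show x ∈ Dm Z l
    rw [mem_Dm]
    have hx3 : cj l⁻¹ x ∈ C1 := mem_Dm.1 hx2
    exact V_cap h hp ((h.dat i).cjV ((L i).inv_mem hl) hxV)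
      ((mem_Q' h j (Q'_le_B h j hx3)).1 hx3)
  have l1 : q * q ≤ (C1 ⊓ C2).relIndex (V i) := by
    rw [← inf_relIndex_right]
    have h1 : q * q ≤ (Z ⊓ Dm Z l).relIndex (V i) := by
      rw [← relIndex_mul_relIndex (Z ⊓ Dm Z l) Z (V i) inf_le_left (h.dat i).ZV]
      apply Nat.mul_le_mul_right
      rw [inf_relIndex_left, ← hqi]
      exact idx_ZZ (h.dat i) hl hmv
    exact h1.trans (relIndex_le_of_le_left hcap (hne _ _))
  obtain ⟨v, hv, c, hc, he⟩ := exists_mul_of_relIndex (Q := C1 ⊓ C2) (B := Q i) (U := V i)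
    (h.dat i).VQ (u3.trans l1) hf
  refine ⟨v, hv, c, ⟨?_, hc⟩, he⟩
  have : c = v⁻¹ * f := by rw [he]; simp
  rw [this]
  exact (Q i).mul_mem ((Q i).inv_mem ((h.dat i).VQ hv)) hf

omit hp in
theorem Cq_V' {l c u : G} (hc : c ∈ Cq s l Q i j) (hu : u ∈ Dm (V j) s) : c * u = u * c := by
  have h1 := (mem_Cq.1 hc).2.1
  exact (mem_Q' h j (Q'_le_B h j h1)).1 h1 u hu

omit hp in
theorem Cq_V'l {l c u : G} (hc : c ∈ Cq s l Q i j) (hu : u ∈ Dm (V j) s) :
    c * cj l u = cj l u * c := by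
  have h1 := (mem_Cq.1 hc).2.2
  have h2 := (mem_Q' h j (Q'_le_B h j h1)).1 h1 u hu
  have h3 := (cj_comm (g := l)).2 h2
  rwa [cj_cj_inv] at h3

/-- `L` normalises `C_Q(V', V'^l)` -/
theorem L_norm_Cq [Finite G] {l : G} (hl : l ∈ L i) (hmv : Mv (D i) Z l) :
    L i ≤ normalizer (Cq s l Q i j : Set G) := by
  have hcen : ∀ u : G, (∀ c ∈ Cq s l Q i j, c * u = u * c) →
      u ∈ normalizer (Cq s l Q i j : Set G) := by
    intro u hu
    apply mem_norm_of
    intro c hc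
    rw [← hu c hc, mul_assoc, mul_inv_cancel, mul_one]; exact hc
  have hQ : Q i ≤ normalizer (Cq s l Q i j : Set G) := by
    intro q hq
    apply mem_norm_of
    intro c hc
    obtain ⟨h1, h2, h3⟩ := mem_Cq.1 hc
    refine mem_Cq.2 ⟨(Q i).mul_mem ((Q i).mul_mem hq h1) ((Q i).inv_mem hq), ?_, ?_⟩
    · exact B_norm_Q' h j ((h.dat i).QB hq) h2
    · have e : cj l⁻¹ (q * c * q⁻¹) = cj (cj l⁻¹ q) (cj l⁻¹ c) := by simp [cj, mul_assoc]
      rw [e]
      exact B_norm_Q' h j ((h.dat i).QB ((h.dat i).cjQ ((L i).inv_mem hl) hq)) h3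
  apply (h.dat i).gen l hl hmv
  · intro b hb
    obtain ⟨u, hu, q, hq, rfl⟩ := B_eq h hp hb
    exact mul_mem (hcen u fun c hc => Cq_V' h hc hu) (hQ hq)
  · intro b hb
    obtain ⟨u, hu, q, hq, rfl⟩ := B_eq h hp hb
    have e : l * (u * q) * l⁻¹ = cj l u * cj l q := by simp [cj, mul_assoc]
    rw [e]
    exact mul_mem (hcen _ fun c hc => Cq_V'l h hc hu) (hQ ((h.dat i).cjQ hl hq))

/-- `O²(L)` centralises `C_Q(V', V'^l)` -/
theorem O2_cent [Finite G] (hB2 : IsPGroup 2 B) {l : G} (hl : l ∈ L i) (hmv : Mv (D i) Z l)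
    {y c : G} (hy : y ∈ O2 (L i)) (hc : c ∈ Cq s l Q i j) : y * c = c * y := by
  set C := Cq s l Q i j with hC
  set X : Subgroup G := L i ⊓ centralizer (C : Set G) with hX
  have hXm : ∀ x, x ∈ X ↔ x ∈ L i ∧ ∀ c ∈ C, c * x = x * c := by
    intro x
    rw [hX, mem_inf, mem_centralizer_iff]; rfl
  have hLN := L_norm_Cq h hp hl hmv
  -- `X` is normal in `L`
  have hXn : ∀ g ∈ L i, ∀ x ∈ X, g * x * g⁻¹ ∈ X := by
    intro g hg x hx
    obtain ⟨hx1, hx2⟩ := (hXm x).1 hx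
    refine (hXm _).2 ⟨mul_mem (mul_mem hg hx1) (inv_mem hg), fun c hc => ?_⟩
    have h1 := hx2 _ (norm_cj (inv_mem (hLN hg)) hc)
    have h2 := (cj_comm (g := g)).2 h1
    rwa [cj_cj_inv] at h2
  -- `L = X Q`
  have hLX : ∀ g ∈ L i, ∃ x ∈ X, ∃ q ∈ Q i, g = x * q := by
    let K : Subgroup G :=
      { carrier := {g | ∃ x ∈ X, ∃ q ∈ Q i, g = x * q}
        one_mem' := ⟨1, one_mem _, 1, one_mem _, by simp⟩
        mul_mem' := by
          rintro _ _ ⟨x, hx, q, hq, rfl⟩ ⟨x', hx', q', hq', rfl⟩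
          have hqL : q ∈ L i := (h.dat i).BL ((h.dat i).QB hq)
          exact ⟨x * (q * x' * q⁻¹), mul_mem hx (hXn q hqL x' hx'), q * q', mul_mem hq hq',
            by simp [mul_assoc]⟩
        inv_mem' := by
          rintro _ ⟨x, hx, q, hq, rfl⟩
          have hqL : q ∈ L i := (h.dat i).BL ((h.dat i).QB hq)
          refine ⟨q⁻¹ * x⁻¹ * q⁻¹⁻¹, hXn _ (inv_mem hqL) _ (inv_mem hx), q⁻¹, inv_mem hq, ?_⟩
          simp [mul_assoc] }
    have hLK : L i ≤ K := by
      apply (h.dat i).gen l hl hmv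
      · intro b hb
        obtain ⟨u, hu, q, hq, rfl⟩ := B_eq h hp hb
        exact ⟨u, (hXm u).2 ⟨(h.dat i).BL (V'_le_B h j hu), fun c hc => Cq_V' h hc hu⟩, q, hq,
          rfl⟩
      · intro b hb
        obtain ⟨u, hu, q, hq, rfl⟩ := B_eq h hp hb
        refine ⟨cj l u, (hXm _).2 ⟨?_, fun c hc => Cq_V'l h hc hu⟩, cj l q,
          (h.dat i).cjQ hl hq, by simp [cj, mul_assoc]⟩
        exact mul_mem (mul_mem hl ((h.dat i).BL (V'_le_B h j hu))) (inv_mem hl)
    exact fun g hg => hLK hg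
  have hle : O2 (L i) ≤ X := by
    rw [O2, closure_le]
    rintro y ⟨hyL, hodd⟩
    obtain ⟨x, hx, q, hq, rfl⟩ := hLX y hyL
    have hqL : q ∈ L i := (h.dat i).BL ((h.dat i).QB hq)
    have key : ∀ k : ℕ, ∃ x' ∈ X, (x * q) ^ k = x' * q ^ k := by
      intro k
      induction k with
      | zero => exact ⟨1, one_mem _, by simp⟩
      | succ k ih =>
        obtain ⟨x', hx', he⟩ := ih
        refine ⟨x' * (q ^ k * x * (q ^ k)⁻¹), mul_mem hx' (hXn _ (pow_mem hqL k) x hx), ?_⟩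
        rw [pow_succ, he, pow_succ]
        simp [mul_assoc]
    obtain ⟨m, hm⟩ := IsPGroup.iff_card.1 (hB2.to_le (h.dat i).QB)
    obtain ⟨x', hx', he⟩ := key (2 ^ m)
    have hq1 : q ^ 2 ^ m = 1 := by
      have := pow_card_eq_one' (G := Q i) (x := ⟨q, hq⟩)
      rw [hm] at this
      simpa using congrArg Subtype.val this
    rw [hq1, mul_one] at he
    have hcop : Nat.Coprime (2 ^ m) (orderOf (x * q)) :=
      Nat.Coprime.pow_left _ (Nat.coprime_two_left.2 hodd)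
    obtain ⟨k, hk⟩ := exists_pow_eq_self_of_coprime hcop
    show x * q ∈ X
    rw [← hk, he]
    exact pow_mem hx' k
  exact (((hXm y).1 (hle hy)).2 c hc).symm

omit hp in
/-- `L ≤ O²(L) B` -/
theorem L_le [Finite G] : L i ≤ O2 (L i) ⊔ B := by
  obtain ⟨l, hl, hmv⟩ := (h.dat i).moves
  exact le_sup_of_gen (O2_le _) (fun _ hg _ hx => O2_norm hg hx) (fun _ hy => pow_mem_O2 hy)
    (h.dat i).BL hl ((h.dat i).gen l hl hmv)

omit hp in
/-- some element of `O²(L)` moves `D` -/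
theorem O2_moves [Finite G] : ∃ y ∈ O2 (L i), Mv (D i) Z y := by
  obtain ⟨l, hl, d, hd, hdZ⟩ := (h.dat i).moves
  have hl' := L_le h hl
  have hBn : B ≤ normalizer (O2 (L i) : Set G) := fun b hb =>
    mem_norm_of fun x hx => O2_norm ((h.dat i).BL hb) hx
  have h1 : l ∈ ((O2 (L i) : Subgroup G) : Set G) * ((B : Subgroup G) : Set G) := by
    rw [← coe_mul_of_right_le_normalizer_left (O2 (L i)) B hBn]
    exact hl'
  obtain ⟨y, hy, b, hb, rfl⟩ := Set.mem_mul.1 h1
  refine ⟨y, hy, d, hd, ?_⟩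
  rw [cj_mul, cj_eq_self.2 ((h.dat i).BcZ b hb d ((h.dat i).DZ hd))] at hdZ
  exact hdZ

end pair

end Cfsg.Agent.Omega.SQ1.Block

end

-- merged: Cfsg.Agent.Omega.SQ1.LocTwo
section

/-!
# SQ1: 2-groups normalised by a block (field `loc` of the killing lemma)
-/

set_option autoImplicit false

namespace Cfsg.Agent.Omega.SQ1.Block

open Cfsg.Agent.MinSimple.PushUp Cfsg.Agent.Omega.PushUp Cfsg.Agent.Omega.SQ1.Match
open Cfsg.Agent.Omega.SQ1.BlockO Subgroup
open scoped Pointwise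

variable {G : Type*} [Group G] {ι : Type*}
variable {A T B Z P : Subgroup G} {s : G} {L Q V D : ι → Subgroup G}

/-- elements normalising `B` normalise `Z = Ω₁(Z(B))` -/
theorem normB_Z (i : ι) (h : MIn A T B Z P s L Q V D)
    (hZ : ∀ x ∈ B, x * x = 1 → (∀ b ∈ B, x * b = b * x) → x ∈ Z)
    {x z : G} (hx : x ∈ normalizer (B : Set G)) (hz : z ∈ Z) : cj x z ∈ Z := by
  have hzV := (h.dat i).ZV hz
  have hzB := (h.dat i).VB hzV
  apply hZ _ (norm_cj hx hzB)
  · rw [← cj_prod, (h.dat i).Vsq z hzV]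
    simp [cj]
  · intro b hb
    have h1 := (h.dat i).BcZ _ (norm_cj (inv_mem hx) hb) z hz
    have h2 := (cj_comm (g := x)).2 h1
    rw [cj_cj_inv] at h2
    exact h2.symm

/-- hypotheses on a 2-group `R` -/
structure Two (B P : Subgroup G) (L : Subgroup G) (R : Subgroup G) : Prop where
  two : IsPGroup 2 R
  RP : R ≤ normalizer (P : Set G)
  X : ∀ y ∈ O2 L, ∀ r ∈ R, cj y r ∈ R
  B : ∀ b ∈ B, ∀ r ∈ R, cj b r ∈ R

section two

variable (h : MIn A T B Z P s L Q V D)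
  (hZ : ∀ x ∈ B, x * x = 1 → (∀ b ∈ B, x * b = b * x) → x ∈ Z)
  (hB2 : IsPGroup 2 B)
  (hJC : ∀ R : Subgroup G, IsPGroup 2 R → B ≤ R → R ≤ normalizer (P : Set G) →
    R ≤ normalizer (B : Set G))
  {i : ι} {R : Subgroup G} (hR : Two B P (L i) R)

include h hR

theorem R_L [Finite G] {y r : G} (hy : y ∈ L i) (hr : r ∈ R) : cj y r ∈ R := by
  have h1 : L i ≤ normalizer (R : Set G) := by
    refine (L_le h).trans (sup_le ?_ ?_)
    · exact fun x hx => mem_norm_of fun r hr => hR.X x hx r hr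
    · exact fun x hx => mem_norm_of fun r hr => hR.B x hx r hr
  exact norm_cj (h1 hy) hr

include hB2 hJC

theorem R_NB [Finite G] : R ≤ normalizer (B : Set G) := by
  have h1 : B ≤ normalizer (R : Set G) := fun x hx => mem_norm_of fun r hr => hR.B x hx r hr
  have h2 : IsPGroup 2 (R ⊔ B : Subgroup G) := IsPGroup.to_sup_of_normal_left' hR.two hB2 h1
  have h3 : B ≤ normalizer (P : Set G) := fun b hb =>
    mem_norm_of fun x hx => h.LP i b ((h.dat i).BL hb) x hx
  exact le_sup_left.trans (hJC _ h2 le_sup_right (sup_le hR.RP h3))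

include hZ

theorem R_cap [Finite G] {r : G} (hr : r ∈ R) (hrB : r ∈ B) : r ∈ Q i := by
  by_contra hrQ
  obtain ⟨l, hl, hmv⟩ := (h.dat i).moves
  obtain ⟨d, hd, hdZ⟩ := (h.dat i).ti l hl hmv r hrB hrQ
  apply hdZ
  apply normB_Z i h hZ _ ((h.dat i).DZ hd)
  have h1 := R_L h hR ((L i).inv_mem hl) hr
  have h2 : cj l⁻¹ r = l⁻¹ * r * l := by simp [cj]
  rw [h2] at h1
  exact R_NB h hB2 hJC hR h1

omit hZ hB2 hJC in
/-- the case that `R` contains an element of `V` which is not centralised by `L` -/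
theorem D_le [Finite G] {m : G} (hmR : m ∈ R) (hmV : m ∈ V i)
    (hm : ∃ y ∈ L i, y * m ≠ m * y) : D i ≤ R := by
  have hd := h.dat i
  obtain ⟨l, hl, hmv⟩ := hd.moves
  have hli := (L i).inv_mem hl
  -- an element outside `Z`
  obtain ⟨m, hmR, hmV, hmZ⟩ : ∃ m ∈ R, m ∈ V i ∧ m ∉ Z := by
    by_contra hcon
    push Not at hcon
    obtain ⟨y, hy, hne⟩ := hm
    exact hne (cent_inter hd hl hmv (hcon m hmR hmV)
      (hcon _ (R_L h hR hli hmR) (hd.cjV hli hmV)) hy)
  have hcR : ∀ v ∈ R, ∀ b ∈ B, v * b * v⁻¹ * b⁻¹ ∈ R := by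
    intro v hv b hb
    have e : v * b * v⁻¹ * b⁻¹ = v * cj b v⁻¹ := by simp [cj, mul_assoc]
    rw [e]
    exact mul_mem hv (hR.B b hb _ (inv_mem hv))
  have hVl : Dm (V i) l = V i := Dm_eq_of fun x hx => hd.cjV hl hx
  have h0 : (Dm Z l).relIndex Z ≤ (Q i).relIndex B := by
    rw [← idx_eq hd]
    have h2 : (Dm Z l).relIndex (V i) = Z.relIndex (V i) := by
      conv_lhs => rw [← hVl]
      exact Dm_relIndex l Z (V i)
    rw [← h2]
    exact relIndex_le_of_le_right hd.ZV Nat.card_pos.ne'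
  have h1 : (Q i).relIndex B ≤ (Dm Z l).relIndex (R ⊓ Z) := by
    apply relIndex_le_of_map (fun b => m * b * m⁻¹ * b⁻¹)
    · intro b hb
      exact ⟨hcR m hmR b hb, hd.DZ (hd.comm m hmV b hb)⟩
    · intro b hb c hc hbc
      have hcB : b⁻¹ * c ∈ B := B.mul_mem (B.inv_mem hb) hc
      apply star hd hmV hmZ hcB
      have hcb := hd.comm _ hmV b hb
      have hcc := hd.comm _ hmV c hc
      have hcbc := hd.comm _ hmV _ hcB
      have e : m * (b⁻¹ * c) * m⁻¹ * (b⁻¹ * c)⁻¹ =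
          (m * b * m⁻¹ * b⁻¹)⁻¹ * (m * c * m⁻¹ * c⁻¹) := by
        have r1 := hd.BcZ b hb _ (hd.DZ hcb)
        have r2 : b⁻¹ * (m * b * m⁻¹ * b⁻¹)⁻¹ * b = (m * b * m⁻¹ * b⁻¹)⁻¹ := by
          have : Commute b (m * b * m⁻¹ * b⁻¹)⁻¹ := Commute.inv_right r1
          rw [mul_assoc, ← this.eq, ← mul_assoc, inv_mul_cancel, one_mul]
        have r3 := hd.BcZ b⁻¹ (B.inv_mem hb) _ (hd.DZ hcc)
        calc m * (b⁻¹ * c) * m⁻¹ * (b⁻¹ * c)⁻¹
            = (b⁻¹ * (m * b * m⁻¹ * b⁻¹)⁻¹ * b) * (b⁻¹ * (m * c * m⁻¹ * c⁻¹)) * b := by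
              simp [mul_assoc]
          _ = (m * b * m⁻¹ * b⁻¹)⁻¹ * ((m * c * m⁻¹ * c⁻¹) * b⁻¹) * b := by rw [r2, r3]
          _ = _ := by simp [mul_assoc]
      intro y hy
      apply cent_inter hd hl hmv (hd.DZ hcbc) _ hy
      rw [e]
      exact mem_Dm.1 hbc
  -- `Z ≤ (R ∩ Z) C(L)`
  have h2 : ∀ z ∈ Z, ∃ r ∈ R, ∃ f ∈ Z, z = r * f ∧ ∀ y ∈ L i, y * f = f * y := by
    intro z hz
    obtain ⟨r, hr, f, hf, he⟩ := exists_mul_of_relIndex (Q := Dm Z l) (B := Z) (U := R ⊓ Z)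
      inf_le_right (h0.trans h1) hz
    have hfZ : f ∈ Z := by
      have : f = r⁻¹ * z := by rw [he]; simp
      rw [this]; exact Z.mul_mem (Z.inv_mem hr.2) hz
    exact ⟨r, hr.1, f, hfZ, he, fun y hy => cent_inter hd hl hmv hfZ (mem_Dm.1 hf) hy⟩
  refine hd.Dgen.trans ?_
  rw [closure_le]
  rintro x ⟨v, hv, b, hb, rfl⟩
  obtain ⟨z, hz, z', hz', rfl⟩ := VZZ hd hl hmv hv
  obtain ⟨r, hr, f, hf, rfl, hfc⟩ := h2 z hz
  obtain ⟨r', hr', f', hf', rfl, hfc'⟩ := h2 z' hz'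
  have hρ : r * cj l r' ∈ R := mul_mem hr (R_L h hR hl hr')
  have hrL : ∀ g ∈ Z, g ∈ L i := fun g hg => hd.BL (hd.VB (hd.ZV hg))
  have e1 : cj l (r' * f') = cj l r' * f' := by
    rw [cj_prod, cj_eq_self.2 (hfc' l hl)]
  have hr'V : cj l r' ∈ V i := by
    have : r' = (r' * f') * f'⁻¹ := by simp
    rw [this]
    exact hd.cjV hl ((V i).mul_mem (hd.ZV hz') ((V i).inv_mem (hd.ZV hf')))
  have hρL : cj l r' ∈ L i := hd.BL (hd.VB hr'V)
  have e2 : r * f * cj l (r' * f') = (r * cj l r') * (f * f') := by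
    rw [e1]
    have := hfc _ hρL
    calc r * f * (cj l r' * f') = r * (f * cj l r') * f' := by simp [mul_assoc]
      _ = r * (cj l r' * f) * f' := by rw [this]
      _ = _ := by simp [mul_assoc]
  set ρ := r * cj l r' with hρd
  set g := f * f' with hg
  have hgb : g * b = b * g := by
    have c1 : Commute f b := (hfc b (hd.BL hb)).symm
    have c2 : Commute f' b := (hfc' b (hd.BL hb)).symm
    exact c1.mul_left c2
  have e3 : (ρ * g) * b * (ρ * g)⁻¹ * b⁻¹ = ρ * b * ρ⁻¹ * b⁻¹ := by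
    calc (ρ * g) * b * (ρ * g)⁻¹ * b⁻¹ = ρ * (g * b) * g⁻¹ * ρ⁻¹ * b⁻¹ := by simp [mul_assoc]
      _ = ρ * (b * g) * g⁻¹ * ρ⁻¹ * b⁻¹ := by rw [hgb]
      _ = _ := by simp [mul_assoc]
  simp only [SetLike.mem_coe]
  rw [e2, e3]
  exact hcR ρ hρ b hb

/-- **loc**: `R` contains `D` or is centralised by `O²(L)`. -/
theorem loc [Finite G] {j : ι} (hp : Par s V i j) :
    (∀ x ∈ O2 (L i), ∀ r ∈ R, x * r = r * x) ∨ D i ≤ R := by
  have hd := h.dat i
  by_cases hF : ∃ m ∈ R, m ∈ V i ∧ ∃ y ∈ L i, y * m ≠ m * y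
  · obtain ⟨m, hmR, hmV, hm⟩ := hF
    exact Or.inr (D_le h hR hmR hmV hm)
  left
  push Not at hF
  obtain ⟨l, hl, hmv⟩ := hd.moves
  have hli := (L i).inv_mem hl
  -- odd elements centralise `R ∩ Q`
  have step1 : ∀ y ∈ L i, Odd (orderOf y) → ∀ f ∈ R, f ∈ Q i → y * f = f * y := by
    intro y hy hodd f hfR hfQ
    obtain ⟨v, hv, c, hc, rfl⟩ := dec h hp hl hmv hfQ
    have hyc := O2_cent h hp hB2 hl hmv (mem_O2 hy hodd) hc
    have e1 : cj y (v * c) = cj y v * c := by rw [cj_prod, cj_eq_self.2 hyc]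
    set e := cj y v * v⁻¹ with he
    have heV : e ∈ V i := (V i).mul_mem (hd.cjV hy hv) ((V i).inv_mem hv)
    have heR : e ∈ R := by
      have : e = cj y (v * c) * (v * c)⁻¹ := by rw [e1, he]; simp [mul_assoc]
      rw [this]
      exact mul_mem (R_L h hR hy hfR) (inv_mem hfR)
    have hye := hF e heR heV y hy
    apply comm_of_odd hodd (c := e) (m := 1) _ hye
    · rw [pow_one, pow_two]; exact hd.Vsq e heV
    · have : y * (v * c) * y⁻¹ = cj y (v * c) := rfl
      rw [this, e1, he]; simp [mul_assoc]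
  have hRQ : ∀ y ∈ L i, ∀ f ∈ R ⊓ Q i, cj y f ∈ R ⊓ Q i := fun y hy f hf =>
    ⟨R_L h hR hy hf.1, hd.cjQ hy hf.2⟩
  -- `[L, R] ≤ R ∩ Q`
  have hNB := R_NB h hB2 hJC hR
  have step2 : ∀ r ∈ R, ∀ g ∈ L i, cj g r * r⁻¹ ∈ R ⊓ Q i := by
    intro r hr
    have hBr : ∀ r ∈ R, ∀ b ∈ B, cj b r * r⁻¹ ∈ R ⊓ Q i := by
      intro r hr b hb
      have h1 : cj b r * r⁻¹ ∈ R := mul_mem (hR.B b hb r hr) (inv_mem hr)
      have h2 : cj b r * r⁻¹ ∈ B := by
        have e : cj b r * r⁻¹ = b * cj r b⁻¹ := by simp [cj, mul_assoc]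
        rw [e]
        exact mul_mem hb (norm_cj (hNB hr) (inv_mem hb))
      exact ⟨h1, R_cap h hZ hB2 hJC hR h1 h2⟩
    let N : Subgroup G :=
      { carrier := {g | g ∈ L i ∧ cj g r * r⁻¹ ∈ R ⊓ Q i}
        one_mem' := ⟨one_mem _, by rw [cj_one, mul_inv_cancel]; exact one_mem _⟩
        mul_mem' := by
          rintro a b ⟨ha, ha'⟩ ⟨hb, hb'⟩
          refine ⟨mul_mem ha hb, ?_⟩
          have e : cj (a * b) r * r⁻¹ = cj a (cj b r * r⁻¹) * (cj a r * r⁻¹) := by
            simp [cj, mul_assoc]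
          rw [e]
          exact mul_mem (hRQ a ha _ hb') ha'
        inv_mem' := by
          rintro a ⟨ha, ha'⟩
          refine ⟨inv_mem ha, ?_⟩
          have e : cj a⁻¹ r * r⁻¹ = cj a⁻¹ (cj a r * r⁻¹)⁻¹ := by
            simp [cj, mul_assoc]
          rw [e]
          exact hRQ _ (inv_mem ha) _ (inv_mem ha') }
    have hLN : L i ≤ N := by
      apply hd.gen l hl hmv
      · exact fun b hb => ⟨hd.BL hb, hBr r hr b hb⟩
      · intro b hb
        refine ⟨mul_mem (mul_mem hl (hd.BL hb)) hli, ?_⟩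
        have h1 := hRQ l hl _ (hBr (cj l⁻¹ r) (R_L h hR hli hr) b hb)
        have e : cj l (cj b (cj l⁻¹ r) * (cj l⁻¹ r)⁻¹) = cj (l * b * l⁻¹) r * r⁻¹ := by
          simp [cj, mul_assoc]
        rwa [e] at h1
    exact fun g hg => (hLN hg).2
  have hle : ∀ r ∈ R, O2 (L i) ≤ centralizer {r} := by
    intro r hr
    rw [O2, closure_le]
    rintro y ⟨hy, hodd⟩
    simp only [SetLike.mem_coe]
    rw [mem_centralizer_iff]
    intro r' hr'
    rw [Set.mem_singleton_iff] at hr'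
    rw [hr']
    have h1 := step2 r hr y hy
    set e := cj y r * r⁻¹ with he
    obtain ⟨m, hm⟩ := hR.two ⟨e, h1.1⟩
    have hm' : e ^ 2 ^ m = 1 := by simpa using congrArg Subtype.val hm
    refine (comm_of_odd hodd (c := e) ?_ (step1 y hy hodd e h1.1 h1.2) hm').symm
    rw [he]; simp [cj]
  intro x hx r hr
  exact (mem_centralizer_iff.1 (hle r hr hx) r rfl).symm

end two

end Cfsg.Agent.Omega.SQ1.Block

end
end

-- part: Omega/SQ1/NoTwist
section
/-!
# SQ1: there are no twists for `q ≥ 4`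

An element `x ∈ N_G(B)` which centralises `[x, Q]` normalises `Q` (bb OMEGA #12483).
-/

set_option autoImplicit false

namespace Cfsg.Agent.Omega.SQ1.NoTwist

open Subgroup

variable {G : Type*} [Group G]

/-- Input: `Q = ∏ V i` is elementary abelian, self-centralising and normal in `B`. -/
structure In {ι : Type*} (B Z Q : Subgroup G) (V D F : ι → Subgroup G) : Prop where
  QB : Q ≤ B
  Qsq : ∀ v ∈ Q, v * v = 1
  Qab : ∀ v ∈ Q, ∀ w ∈ Q, v * w = w * v
  BnQ : ∀ b ∈ B, ∀ v ∈ Q, b * v * b⁻¹ ∈ Q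
  ZV : ∀ i, Z ≤ V i
  VQ : ∀ i, V i ≤ Q
  Qgen : Q ≤ ⨆ i, V i
  QcV : ∀ b ∈ B, (∀ i, ∀ v ∈ V i, b * v = v * b) → b ∈ Q
  DZ : ∀ i, D i ≤ Z
  BcZ : ∀ b ∈ B, ∀ z ∈ Z, b * z = z * b
  nc : ∀ i, ∀ v ∈ V i, v ∉ Z → ∀ b ∈ B, b * v = v * b → ∀ w ∈ V i, b * w = w * b
  star : ∀ i, ∀ v ∈ V i, v ∉ Z → ∀ b ∈ B, v * b * v⁻¹ * b⁻¹ ∈ F i → ∀ w ∈ V i, b * w = w * b
  comm : ∀ i, ∀ v ∈ V i, ∀ b ∈ B, v * b * v⁻¹ * b⁻¹ ∈ D i
  DF : ∀ i j, i ≠ j → D j ≤ F i
  big : ∀ i, ∃ v ∈ V i, ∃ w ∈ V i, v ∉ Z ∧ w ∉ Z ∧ v * w ∉ Z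

theorem sw [Finite G] {ι : Type*} {B Z Q : Subgroup G} {V D F : ι → Subgroup G}
    (h : In B Z Q V D F)
    {x : G} (hxB : ∀ b ∈ B, x * b * x⁻¹ ∈ B) (hxZ : ∀ z ∈ Z, x * z * x⁻¹ ∈ Z)
    (hc : ∀ v ∈ Q, x * (x * v * x⁻¹ * v⁻¹) = (x * v * x⁻¹ * v⁻¹) * x)
    (jc : (∀ v ∈ Q, x * x * v * (x * x)⁻¹ ∈ Q) → (∀ z ∈ Z, x * x * z = z * (x * x)) → x * x ∈ B) :
    x ∈ normalizer (Q : Set G) := by
  -- the action of `x²`
  have hact : ∀ v ∈ Q, x * x * v * (x * x)⁻¹ = (x * v * x⁻¹) * v * (x * v * x⁻¹)⁻¹ := by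
    intro v hv
    have h1 := hc v hv
    have hvi : v⁻¹ = v := inv_eq_of_mul_eq_one_left (h.Qsq v hv)
    have h2 : x * (x * v * x⁻¹ * v⁻¹) * x⁻¹ = x * v * x⁻¹ * v⁻¹ := by rw [h1]; group
    rw [hvi] at h2
    have e1 : x * (x * v * x⁻¹ * v) * x⁻¹ = (x * x * v * (x * x)⁻¹) * (x * v * x⁻¹) := by group
    rw [e1] at h2
    exact eq_mul_inv_of_mul_eq h2
  have hyB : ∀ v ∈ Q, x * v * x⁻¹ ∈ B := fun v hv => hxB v (h.QB hv)
  have hZQ : ∀ i, Z ≤ Q := fun i => (h.ZV i).trans (h.VQ i)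
  by_cases hne : Nonempty ι
  swap
  · have hbot : Q ≤ ⊥ := by
      refine h.Qgen.trans ?_
      exact iSup_le fun i => absurd ⟨i⟩ hne
    have hQ : Q = ⊥ := le_bot_iff.1 hbot
    rw [hQ]
    rw [mem_normalizer_iff]
    intro g
    simp
  obtain ⟨i₀⟩ := hne
  have hb : x * x ∈ B := by
    apply jc
    · intro v hv
      rw [hact v hv]
      exact h.BnQ _ (hyB v hv) v hv
    · intro z hz
      have h1 := hact z (hZQ i₀ hz)
      have h2 : (x * z * x⁻¹) * z = z * (x * z * x⁻¹) := by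
        have := h.BcZ _ (hyB z (hZQ i₀ hz)) z hz
        exact this
      rw [h2] at h1
      have h3 : x * x * z * (x * x)⁻¹ = z := by rw [h1]; group
      exact (mul_inv_eq_iff_eq_mul).1 h3
  set b := x * x with hbdef
  -- `y_v⁻¹ b` commutes with `v`
  have hcomm : ∀ v ∈ Q, ((x * v * x⁻¹)⁻¹ * b) * v = v * ((x * v * x⁻¹)⁻¹ * b) := by
    intro v hv
    have h1 := hact v hv
    set y := x * v * x⁻¹
    have h2 : b * v = y * v * y⁻¹ * b := (mul_inv_eq_iff_eq_mul).1 h1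
    calc (y⁻¹ * b) * v = y⁻¹ * (b * v) := by group
      _ = y⁻¹ * (y * v * y⁻¹ * b) := by rw [h2]
      _ = v * (y⁻¹ * b) := by group
  have hVZ : ∀ i, ∀ v ∈ V i, ∀ c ∈ B, c * v * c⁻¹ ∈ V i := by
    intro i v hv c hcB
    have h1 := h.comm i v hv c hcB
    have h2 : c * v * c⁻¹ = (v * c * v⁻¹ * c⁻¹)⁻¹ * v := by group
    rw [h2]
    exact mul_mem (inv_mem (h.ZV i (h.DZ i h1))) hv
  -- the centraliser of `V i` in `B`
  have key : ∀ i, (∀ w ∈ V i, b * w = w * b) ∧
      ∀ v ∈ V i, ∀ w ∈ V i, (x * v * x⁻¹) * w = w * (x * v * x⁻¹) := by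
    intro i
    have hnc : ∀ v ∈ V i, v ∉ Z → ∀ w ∈ V i,
        ((x * v * x⁻¹)⁻¹ * b) * w = w * ((x * v * x⁻¹)⁻¹ * b) := by
      intro v hv hvZ
      exact h.nc i v hv hvZ _ (mul_mem (inv_mem (hyB v (h.VQ i hv))) hb) (hcomm v (h.VQ i hv))
    obtain ⟨v, hv, w, hw, hvZ, hwZ, hvwZ⟩ := h.big i
    have c1 := hnc v hv hvZ
    have c2 := hnc w hw hwZ
    have c3 := hnc (v * w) (mul_mem hv hw) hvwZ
    have e3 : x * (v * w) * x⁻¹ = (x * v * x⁻¹) * (x * w * x⁻¹) := by group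
    rw [e3] at c3
    set y := x * v * x⁻¹ with hy
    set y' := x * w * x⁻¹ with hy'
    -- `b⁻¹ y b` centralises `V i`
    have c4 : ∀ u ∈ V i, (b⁻¹ * y * b) * u = u * (b⁻¹ * y * b) := by
      intro u hu
      have d3 : Commute ((y * y')⁻¹ * b) u := c3 u hu
      have d2 : Commute (y'⁻¹ * b) u := c2 u hu
      have d := d3.inv_left.mul_left d2
      have e : ((y * y')⁻¹ * b)⁻¹ * (y'⁻¹ * b) = b⁻¹ * y * b := by group
      rw [e] at d
      exact d
    have hyV : ∀ u ∈ V i, y * u = u * y := by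
      intro u hu
      have hu' := hVZ i u hu b⁻¹ (inv_mem hb)
      have d : Commute (b⁻¹ * y * b) (b⁻¹ * u * b⁻¹⁻¹) := c4 _ hu'
      have e1 : (b⁻¹ * y * b) * (b⁻¹ * u * b⁻¹⁻¹) = b⁻¹ * (y * u) * b := by group
      have e2 : (b⁻¹ * u * b⁻¹⁻¹) * (b⁻¹ * y * b) = b⁻¹ * (u * y) * b := by group
      have d' := d.eq
      rw [e1, e2] at d'
      exact mul_left_cancel (mul_right_cancel d')
    have hbV : ∀ u ∈ V i, b * u = u * b := by
      intro u hu
      have d1 : Commute y u := hyV u hu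
      have d2 : Commute (y⁻¹ * b) u := c1 u hu
      have d := d1.mul_left d2
      have e : y * (y⁻¹ * b) = b := by group
      rw [e] at d
      exact d
    refine ⟨hbV, ?_⟩
    intro v' hv' w' hw'
    by_cases hv'Z : v' ∈ Z
    · have h1 : x * v' * x⁻¹ ∈ Z := hxZ v' hv'Z
      exact (h.BcZ w' (h.QB (h.VQ i hw')) _ h1).symm
    · have d1 : Commute b w' := hbV w' hw'
      have d2 : Commute ((x * v' * x⁻¹)⁻¹ * b) w' := hnc v' hv' hv'Z w' hw'
      have d := d1.mul_left d2.inv_left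
      have e : b * ((x * v' * x⁻¹)⁻¹ * b)⁻¹ = x * v' * x⁻¹ := by group
      rw [e] at d
      exact d
  -- `b` centralises `Q`
  have hbQ : ∀ u ∈ Q, b * u = u * b := by
    have h1 : b ∈ Q := h.QcV b hb fun i v hv => (key i).1 v hv
    exact fun u hu => h.Qab b h1 u hu
  have hself : ∀ u ∈ Q, (x * u * x⁻¹) * u = u * (x * u * x⁻¹) := by
    intro u hu
    have d1 : Commute b u := hbQ u hu
    have d2 : Commute ((x * u * x⁻¹)⁻¹ * b) u := hcomm u hu
    have d := d1.mul_left d2.inv_left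
    have e : b * ((x * u * x⁻¹)⁻¹ * b)⁻¹ = x * u * x⁻¹ := by group
    rw [e] at d
    exact d
  -- the other components
  have hcross : ∀ i j, ∀ w ∈ V i, ∀ u ∈ V j, (x * w * x⁻¹) * u = u * (x * w * x⁻¹) := by
    intro i j w hw
    by_cases hij : j = i
    · subst hij; exact (key j).2 w hw
    obtain ⟨v, hv, -, -, hvZ, -, -⟩ := h.big j
    apply h.star j v hv hvZ _ (hyB w (h.VQ i hw))
    set y := x * v * x⁻¹ with hy
    set y' := x * w * x⁻¹ with hy'
    have hyB' : y ∈ B := hyB v (h.VQ j hv)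
    have hyB'' : y' ∈ B := hyB w (h.VQ i hw)
    -- polarise
    have s1 : y * v = v * y := hself v (h.VQ j hv)
    have s2 : y' * w = w * y' := hself w (h.VQ i hw)
    have s3 : (y * y') * (v * w) = (v * w) * (y * y') := by
      have := hself (v * w) (mul_mem (h.VQ j hv) (h.VQ i hw))
      have e3 : x * (v * w) * x⁻¹ = y * y' := by rw [hy, hy']; group
      rwa [e3] at this
    set d := v * y' * v⁻¹ * y'⁻¹ with hd
    set e := w * y * w⁻¹ * y⁻¹ with he
    have hdD : d ∈ D j := h.comm j v hv y' hyB''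
    have heD : e ∈ D i := h.comm i w hw y hyB'
    have hdZ := h.DZ j hdD
    have heZ := h.DZ i heD
    have r1 : v * y' = d * (y' * v) := by rw [hd]; group
    have r2 : w * y = e * (y * w) := by rw [he]; group
    have cB : ∀ g ∈ B, g * d = d * g := fun g hg => h.BcZ g hg d hdZ
    have cE : ∀ g ∈ B, g * e = e * g := fun g hg => h.BcZ g hg e heZ
    have hvB : v ∈ B := h.QB (h.VQ j hv)
    have hwB : w ∈ B := h.QB (h.VQ i hw)
    -- compute `(v w)(y y')`
    have s4 : (v * w) * (y * y') = (d * e) * ((y * y') * (v * w)) := by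
      calc (v * w) * (y * y') = v * (w * y) * y' := by group
        _ = v * (e * (y * w)) * y' := by rw [r2]
        _ = (v * e) * y * w * y' := by group
        _ = (e * v) * y * w * y' := by rw [cE v hvB]
        _ = e * (v * y) * (w * y') := by group
        _ = e * (y * v) * (y' * w) := by rw [s1, s2]
        _ = e * y * (v * y') * w := by group
        _ = e * y * (d * (y' * v)) * w := by rw [r1]
        _ = e * (y * d) * y' * v * w := by group
        _ = e * (d * y) * y' * v * w := by rw [cB y hyB']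
        _ = (e * d) * ((y * y') * (v * w)) := by group
        _ = (d * e) * ((y * y') * (v * w)) := by rw [cE d (h.QB (hZQ i hdZ))]
    rw [s3] at s4
    have hde : d * e = 1 := by
      have := s4
      exact (mul_eq_right.1 this.symm)
    have hde' : d = e⁻¹ := eq_inv_of_mul_eq_one_left hde
    show d ∈ F j
    rw [hde']
    exact h.DF j i hij (inv_mem heD)
  have hQx : ∀ u ∈ Q, x * u * x⁻¹ ∈ Q := by
    intro u hu
    have hle : (⨆ i, V i) ≤ Q.comap (MulAut.conj x).toMonoidHom := by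
      refine iSup_le fun i w hw => ?_
      rw [mem_comap]
      have : (MulAut.conj x).toMonoidHom w = x * w * x⁻¹ := by simp
      rw [this]
      exact h.QcV _ (hyB w (h.VQ i hw)) fun j v hv => hcross i j w hw v hv
    have := hle (h.Qgen hu)
    simpa using this
  rw [mem_normalizer_iff]
  intro g
  refine ⟨hQx g, fun hg => ?_⟩
  -- finiteness
  have hfin : Function.Bijective (fun u : Q => (⟨x * u * x⁻¹, hQx u u.2⟩ : Q)) := by
    apply Finite.injective_iff_bijective.1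
    intro u v huv
    have := congrArg Subtype.val huv
    simp only at this
    exact Subtype.ext (mul_left_cancel (mul_right_cancel this))
  obtain ⟨u, hu⟩ := hfin.2 ⟨x * g * x⁻¹, hg⟩
  have h1 := congrArg Subtype.val hu
  simp only at h1
  have h2 : (u : G) = g := mul_left_cancel (mul_right_cancel h1)
  rw [← h2]; exact u.2

end Cfsg.Agent.Omega.SQ1.NoTwist
end

-- part: Mrg/Omega/SQ1/Main
section
/-!
# SQ1 = case I of the frame: assembly (project OMEGA)

`c : Config M T H s` is the configuration chosen in `SQ1.Choice`; `V = zl T H = ⟨Ω₁(Z(T))^H⟩`.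

* `EndOne`: one natural summand, `q ≥ 4`, after the pushing up theorem (`MatchL.LSit`): contradiction;
* `EndMany`: `k ≥ 2` natural summands, `q ≥ 4`: contradiction;
* `EndTwo`: `k` natural summands with `q = 2`, or `k` even-subset modules of `S_{2^m+1}`: contradiction;
* `noConfig`: the FF theorem and the three ends imply `FrameI.NoConfig`;
* `nodeI`: hence `Frame.NodeI`.
-/

set_option autoImplicit false

namespace Cfsg.Agent.Omega.SQ1.Main

open Subgroup Cfsg Cfsg.Agent.ZN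
open Cfsg.Agent.Omega.MinPar
open Cfsg.Agent.Omega.SQ1.Choice (Config)
open Cfsg.Agent.Omega.FFThm (NatK SymK Concl NoOver)
open Cfsg.Agent.Omega.FrameFF (cv)
open Cfsg.Agent.Omega.SQ1.MatchL (LSit)

universe u

/-- The standing hypotheses of case I: `M` contains all 2-local subgroups over the Sylow 2-subgroup `S`,
`T`, `H`, `s` is the configuration of `SQ1.Choice`. -/
structure Hyp (G : Type u) [Group G] [Finite G] (S : Sylow 2 G) (M T H : Subgroup G) (s : G) : Prop where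
  simple : IsSimpleGroup G
  nonComm : ¬ IsMulCommutative G
  char2 : IsCharacteristicTwoType G
  rank : ¬ SectionalPRankLE 2 4 G
  proper : M ≠ ⊤
  loc : ∀ N : Subgroup G, IsTwoLocal N → (S : Subgroup G) ≤ N → N ≤ M
  cfg : Config M T H s

/-- One natural summand, `q ≥ 4` (owners: helper538 (4.5), helper761 node (A), helper69 `EndAll`). -/
def EndOne : Prop :=
  ∀ (G : Type u) [Group G] [Finite G] (S : Sylow 2 G) (M T H : Subgroup G) (s : G), Hyp G S M T H s →
    ∀ (F : Type) [Field F] [Finite F] [CharP F 2], 4 ≤ Nat.card F →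
      ∀ N : FFOne.FF F H T (zl T H) (cv T H), LSit N s → False

/-- `k ≥ 2` natural summands, `q ≥ 4` (owners: helper346 `NatK ⇒ InK`, helper132 `GlueK`). -/
def EndMany : Prop :=
  ∀ (G : Type u) [Group G] [Finite G] (S : Sylow 2 G) (M T H : Subgroup G) (s : G), Hyp G S M T H s →
    ∀ (F : Type) [Field F] [Finite F] [CharP F 2], 4 ≤ Nat.card F →
      ∀ k : ℕ, 2 ≤ k → NatK F T H (zl T H) (cv T H) k → False

/-- `q = 2`: natural `SL₂(2)`-modules or even-subset modules, any number of summands (owners: helper670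
`Concl ⇒ BauS.In`, helper525 `TwoAll`, helper799 `KillTwo`, helper663 `GlueTwo`). -/
def EndTwo : Prop :=
  ∀ (G : Type u) [Group G] [Finite G] (S : Sylow 2 G) (M T H : Subgroup G) (s : G), Hyp G S M T H s →
    NoOver (zl T H) H →
    (∀ (F : Type) [Field F] [Finite F] [CharP F 2], Nat.card F = 2 →
      ∀ k : ℕ, 0 < k → NatK F T H (zl T H) (cv T H) k → False) ∧
    ∀ k m : ℕ, 0 < k → 2 ≤ m → SymK T H (zl T H) (cv T H) k m → False

/-- **Case I from the FF theorem and its three ends.** -/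
theorem noConfig (hFF : FFThm.Stmt.{u}) (h1 : EndOne.{u}) (hk : EndMany.{u}) (h2 : EndTwo.{u}) :
    FrameI.NoConfig.{u} := by
  intro G _ _ hs hna hc hr S M hM hloc T H s cfg
  have h : Hyp G S M T H s := ⟨hs, hna, hc, hr, hM, hloc, cfg⟩
  obtain ⟨hno, ⟨F, i1, i2, i3, k, hk0, ⟨N⟩⟩ | ⟨k, m, hk0, hm, ⟨N⟩⟩⟩ := FFOf.concl_of_config hFF cfg
  · rcases FrameFF.two_le_card (F := F) with hF | hF
    · exact (h2 G S M T H s h hno).1 F hF k hk0 N
    · rcases Nat.lt_or_ge k 2 with hk2 | hk2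
      · have e : k = 1 := by omega
        subst e
        exact h1 G S M T H s h F hF (FFOf.ff cfg N) (SitOf.LSit.of_config cfg _)
      · exact hk G S M T H s h F hF k hk2 N
  · exact (h2 G S M T H s h hno).2 k m hk0 hm N

/-- **Node I.** -/
theorem nodeI (hFF : FFThm.Stmt.{u}) (h1 : EndOne.{u}) (hk : EndMany.{u}) (h2 : EndTwo.{u}) :
    Frame.NodeI.{u} :=
  FrameI.nodeI_of_noConfig (noConfig hFF h1 hk h2)

end Cfsg.Agent.Omega.SQ1.Main
end

-- part: Mrg/Omega/SQ1/KillQ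
section
section


/-!
# SQ1: there is only one block if `q ≥ 4`

`MIn` (blocks and matching, any number of blocks) in a group of characteristic 2 type; if there are
two different blocks, the killing lemma `Kill.Data.false` gives a contradiction.
No tori, no structure of `SL₂(q)`.  (bb OMEGA #12483.)
-/

set_option autoImplicit false

namespace Cfsg.Agent.Omega.SQ1.Block

open Cfsg.Agent.MinSimple.PushUp Cfsg.Agent.Omega.PushUp Cfsg.Agent.Omega.SQ1.Match
open Cfsg.Agent.Omega.SQ1.BlockO Subgroup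
open Cfsg.Agent.Omega.SQ1.Kill (bh mem_bh)
open scoped Pointwise

variable {G : Type*} [Group G] {ι : Type*}
variable {A T B Z P : Subgroup G} {s : G} {L Q V D : ι → Subgroup G}

theorem Dm_inv_Dm (g : G) (H : Subgroup G) : Dm (Dm H g) g⁻¹ = H := by
  ext x
  rw [mem_Dm, mem_Dm, inv_inv, cj_inv_cj]

theorem norm_Dm {H : Subgroup G} {x g : G} (h : x ∈ normalizer (H : Set G)) :
    cj g x ∈ normalizer ((Dm H g : Subgroup G) : Set G) := by
  rw [mem_normalizer_iff] at h ⊢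
  intro y
  rw [mem_Dm, mem_Dm, h (cj g⁻¹ y)]
  have e : cj g⁻¹ (cj g x * y * (cj g x)⁻¹) = x * cj g⁻¹ y * x⁻¹ := by simp [cj, mul_assoc]
  rw [e]

theorem norm_Dm' {H : Subgroup G} {x g : G} (h : cj g⁻¹ x ∈ normalizer (H : Set G)) :
    x ∈ normalizer ((Dm H g : Subgroup G) : Set G) := by
  have := norm_Dm (g := g) h
  rwa [cj_cj_inv] at this

/-- the hypotheses on 2-groups normalising `P` -/
def JCond (B Z P : Subgroup G) : Prop :=
  ∀ R : Subgroup G, IsPGroup 2 R → B ≤ R → R ≤ normalizer (P : Set G) →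
    R ≤ normalizer (B : Set G) ∧ normalizer (R : Set G) ≤ normalizer (B : Set G) ∧
      ∀ r ∈ R, (∀ z ∈ Z, r * z = z * r) → r ∈ B

section

variable (h : MIn A T B Z P s L Q V D)
  (hZ : ∀ x ∈ B, x * x = 1 → (∀ b ∈ B, x * b = b * x) → x ∈ Z)
  (hB2 : IsPGroup 2 B) (hself : centralizer (P : Set G) ≤ P) (hJC : JCond B Z P)
  (hbig : ∀ i, ∃ v ∈ V i, ∃ w ∈ V i, v ∉ Z ∧ w ∉ Z ∧ v * w ∉ Z)

include h

theorem P_le_B : P ≤ B := fun x hx => ((h.Pmem x).1 hx).1

include hZ hbig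

theorem noTwist [Finite G] [Finite ι] (i₀ : ι) :
    NoTwist.In B Z P V D (fun i => centralizer (L i : Set G)) where
  QB := P_le_B h
  Qsq := fun v hv => h.Psq i₀ hv
  Qab := fun v hv w hw => h.Pcomm i₀ hv hw
  BnQ := fun b hb v hv => h.LP i₀ b ((h.dat i₀).BL hb) v hv
  ZV := fun i => (h.dat i).ZV
  VQ := fun i v hv => h.VP hv
  Qgen := (h.P_eq i₀ hZ).le
  QcV := fun b hb hc => (h.Pmem b).2 ⟨hb, fun i => (h.dat i).QcV b hb (hc i)⟩
  DZ := fun i => (h.dat i).DZ
  BcZ := (h.dat i₀).BcZ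
  nc := by
    intro i v hv hvZ b hb hc w hw
    by_cases hbQ : b ∈ Q i
    · exact (h.dat i).VcQ b hbQ w hw
    · exact absurd hc.symm ((h.dat i).ncomm v hv hvZ b hb hbQ)
  star := by
    intro i v hv hvZ b hb hc w hw
    refine (h.dat i).VcQ b (star (h.dat i) hv hvZ hb fun y hy => ?_) w hw
    exact mem_centralizer_iff.1 hc y hy
  comm := fun i v hv b hb => (h.dat i).comm v hv b hb
  DF := by
    intro i j hij d hd
    rw [mem_centralizer_iff]
    intro l hl
    exact h.cross j i (Ne.symm hij) l hl d hd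
  big := hbig

include hB2 hself hJC

theorem sw_of [Finite G] [Finite ι] (i₀ : ι) {x : G} (hx : x ∈ normalizer (B : Set G))
    (hc : ∀ b ∈ B, x * (x * b * x⁻¹ * b⁻¹) = (x * b * x⁻¹ * b⁻¹) * x) :
    x ∈ normalizer (P : Set G) := by
  have hPB := P_le_B h
  refine NoTwist.sw (noTwist h hZ hbig i₀) (fun b hb => norm_cj hx hb)
    (fun z hz => normB_Z i₀ h hZ hx hz) (fun v hv => hc v (hPB hv)) ?_
  intro hP hcZ
  -- `x` is a 2-element
  obtain ⟨n, hn⟩ := IsPGroup.iff_card.1 hB2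
  have hBn : ∀ b ∈ B, b ^ 2 ^ n = 1 := by
    intro b hb
    have := pow_card_eq_one' (G := B) (x := ⟨b, hb⟩)
    rw [hn] at this
    simpa using congrArg Subtype.val this
  have hxB : x ^ 2 ^ n ∈ B := by
    apply hPB
    apply hself
    rw [mem_centralizer_iff]
    intro b hb
    have hbB : b ∈ B := hPB hb
    set c := x * b * x⁻¹ * b⁻¹ with hcd
    have hxc : Commute x c := hc b hbB
    have hcB : c ∈ B := mul_mem (norm_cj hx hbB) (inv_mem hbB)
    have key : ∀ k : ℕ, x ^ k * b * (x ^ k)⁻¹ = c ^ k * b := by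
      intro k
      induction k with
      | zero => simp
      | succ k ih =>
        have e : x ^ (k + 1) * b * (x ^ (k + 1))⁻¹ = x * (x ^ k * b * (x ^ k)⁻¹) * x⁻¹ := by
          rw [pow_succ']; group
        have e2 : x * b * x⁻¹ = c * b := by rw [hcd]; group
        rw [e, ih]
        calc x * (c ^ k * b) * x⁻¹ = (x * c ^ k) * b * x⁻¹ := by group
          _ = c ^ k * (x * b * x⁻¹) := by rw [(hxc.pow_right k).eq]; group
          _ = c ^ (k + 1) * b := by rw [e2, pow_succ]; group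
    have h1 := key (2 ^ n)
    rw [hBn c hcB, one_mul] at h1
    exact ((mul_inv_eq_iff_eq_mul).1 h1).symm
  have hx2 : IsPGroup 2 (zpowers (x * x)) := by
    have hord : orderOf (x * x) ∣ 2 ^ (n + n) := by
      apply orderOf_dvd_of_pow_eq_one
      have h0 : x ^ 2 ^ (n + n) = 1 := by
        rw [pow_add, pow_mul]; exact hBn _ hxB
      rw [← pow_two, ← pow_mul, mul_comm, pow_mul, h0, one_pow]
    obtain ⟨k, -, hk⟩ := (Nat.dvd_prime_pow Nat.prime_two).1 hord
    apply IsPGroup.of_card (n := k)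
    rw [Nat.card_zpowers, hk]
  have hN : zpowers (x * x) ≤ normalizer (B : Set G) := by
    rw [zpowers_le]; exact mul_mem hx hx
  have h2 : IsPGroup 2 (zpowers (x * x) ⊔ B : Subgroup G) :=
    IsPGroup.to_sup_of_normal_right' hx2 hB2 hN
  have h3 : (zpowers (x * x) ⊔ B : Subgroup G) ≤ normalizer (P : Set G) := by
    refine sup_le ?_ ?_
    · rw [zpowers_le]
      exact mem_norm_of fun y hy => hP y hy
    · intro b hb
      exact mem_norm_of fun y hy => h.LP i₀ b ((h.dat i₀).BL hb) y hy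
  exact (hJC _ h2 le_sup_right h3).2.2 _ (mem_sup_left (mem_zpowers _)) hcZ

end

/-- `O²(L_j)^s` -/
theorem Dm_O2_norm (h : MIn A T B Z P s L Q V D) {j : ι} {b x : G} (hb : b ∈ B)
    (hx : x ∈ Dm (O2 (L j)) s) : cj b x ∈ Dm (O2 (L j)) s := by
  rw [mem_Dm] at hx ⊢
  have e : cj s⁻¹ (cj b x) = cj (cj s⁻¹ b) (cj s⁻¹ x) := by simp [cj, mul_assoc]
  rw [e]
  exact O2_norm ((h.dat j).BL (h.cjsB' j hb)) hx

/-- some nontrivial element of `L` has odd order -/
theorem exists_odd [Finite G] (h : MIn A T B Z P s L Q V D) (i : ι) :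
    ∃ x ∈ L i, Odd (orderOf x) ∧ x ≠ 1 := by
  by_contra hcon
  push Not at hcon
  obtain ⟨y, hy, d, hd, hdZ⟩ := O2_moves h (i := i)
  have hle : O2 (L i) ≤ ⊥ := by
    rw [O2, closure_le]
    rintro x ⟨hx, ho⟩
    simp only [SetLike.mem_coe, mem_bot]
    exact hcon x hx ho
  have hy1 : y = 1 := by simpa using hle hy
  apply hdZ
  rw [hy1, cj_one]
  exact (h.dat i).DZ hd

/-- **There are no two blocks** (`q ≥ 4`). -/
theorem one_block [Finite G] [Finite ι] (hG : Kill.CharTwo G) (h : MIn A T B Z P s L Q V D)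
    (hZ : ∀ x ∈ B, x * x = 1 → (∀ b ∈ B, x * b = b * x) → x ∈ Z)
    (hB2 : IsPGroup 2 B) (hself : centralizer (P : Set G) ≤ P) (hJC : JCond B Z P)
    (hbig : ∀ i, ∃ v ∈ V i, ∃ w ∈ V i, v ∉ Z ∧ w ∉ Z ∧ v * w ∉ Z)
    {i i' : ι} (hii : i ≠ i') : False := by
  obtain ⟨j, hp⟩ := h.par_exists i
  obtain ⟨j', hp'⟩ := h.par_exists i'
  have hjj : j ≠ j' := fun hj => hii (h.par_inj hp (hj ▸ hp'))
  have hPB := P_le_B h
  set X : Bool → Subgroup G := fun b => if b then O2 (L i) else Dm (O2 (L j)) s with hXdef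
  set Qf : Bool → Subgroup G := fun b => if b then P else Dm P s with hQdef
  have hXt : X true = O2 (L i) := rfl
  have hXf : X false = Dm (O2 (L j)) s := rfl
  have hQt : Qf true = P := rfl
  have hQf : Qf false = Dm P s := rfl
  have hBP : B ≤ normalizer (P : Set G) := fun b hb =>
    mem_norm_of fun y hy => h.LP i b ((h.dat i).BL hb) y hy
  have hLP : ∀ k, L k ≤ normalizer (P : Set G) := fun k l hl =>
    mem_norm_of fun y hy => h.LP k l hl y hy
  have hBPs : B ≤ normalizer ((Dm P s : Subgroup G) : Set G) := fun b hb =>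
    norm_Dm' (hBP (h.cjsB' i hb))
  -- `D i' ≤ Bh`
  have hDB : D i' ≤ bh B X := by
    intro d hd
    rw [mem_bh]
    refine ⟨(h.dat i').VB ((h.dat i').DV hd), fun b x hx => ?_⟩
    cases b with
    | true => exact h.cross i' i hii.symm x (O2_le _ hx) d hd
    | false =>
      have h1 : cj s⁻¹ x ∈ L j := O2_le _ (mem_Dm.1 hx)
      have h2 : cj s⁻¹ d ∈ D j' := h.par_D' hp' hd
      have h3 := h.cross j' j hjj.symm _ h1 _ h2
      have h4 := (cj_comm (g := s)).2 h3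
      rwa [cj_cj_inv, cj_cj_inv] at h4
  have hbne : bh B X ≠ ⊥ := by
    intro hbot
    obtain ⟨d, hd, hd1⟩ := (h.dat i').exists_ne
    apply hd1
    have := hDB hd
    rw [hbot] at this
    simpa using this
  have hbh2 : IsPGroup 2 (bh B X) := hB2.to_le inf_le_left
  obtain ⟨R, hR2, hRN, hNR, hbR, hcR⟩ := hG _ hbne hbh2
  -- the blocks normalise `Bh`
  have hXbh : ∀ b, X b ≤ normalizer (bh B X : Set G) := by
    intro b x hx
    apply mem_norm_of
    intro c hc
    have h1 := (mem_bh.1 hc).2 b x hx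
    rw [h1, mul_assoc, mul_inv_cancel, mul_one]; exact hc
  have hBX : ∀ b, ∀ c ∈ B, ∀ x ∈ X b, cj c x ∈ X b := by
    intro b c hc x hx
    cases b with
    | true => exact O2_norm ((h.dat i).BL hc) hx
    | false => exact Dm_O2_norm h hc hx
  have hBbh : B ≤ normalizer (bh B X : Set G) := by
    intro b hb
    apply mem_norm_of
    intro c hc
    obtain ⟨h1, h2⟩ := mem_bh.1 hc
    refine mem_bh.2 ⟨mul_mem (mul_mem hb h1) (inv_mem hb), fun t x hx => ?_⟩
    have h3 := h2 t _ (hBX t b⁻¹ (inv_mem hb) x hx)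
    have h4 := (cj_comm (g := b)).2 h3
    rwa [cj_cj_inv] at h4
  -- the local structure
  have hJC' : ∀ R : Subgroup G, IsPGroup 2 R → B ≤ R → R ≤ normalizer (P : Set G) →
      R ≤ normalizer (B : Set G) := fun R h1 h2 h3 => (hJC R h1 h2 h3).1
  have hDs : ∀ d ∈ D i, cj s⁻¹ d ∈ D j := fun d hd => h.par_D' hp hd
  have data : Kill.Data B R Qf (fun _ => D i) X := by
    refine ⟨hB2, ?_, ?_, hBbh, hR2, hRN, hNR, hbR, hcR, ?_, ?_, ?_, ?_⟩
    · intro t
      cases t with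
      | true => exact hBP
      | false => exact hBPs
    · intro t
      cases t with
      | true => exact (O2_le _).trans (hLP i)
      | false =>
        intro x hx
        exact norm_Dm' (hLP j (O2_le _ (mem_Dm.1 hx)))
    · -- loc
      intro t F hF2 hFN hXF hBF
      cases t with
      | true =>
        have hT : Two B P (L i) F := ⟨hF2, hFN, fun y hy r hr => norm_cj (hXF hy) hr,
          fun b hb r hr => norm_cj (hBF hb) hr⟩
        exact loc h hZ hB2 hJC' hT hp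
      | false =>
        have hT : Two B P (L j) (Dm F s⁻¹) := by
          refine ⟨hF2.map _, ?_, ?_, ?_⟩
          · intro x hx
            rw [mem_Dm, inv_inv] at hx
            have h1 := norm_Dm (g := s⁻¹) (hFN hx)
            rw [cj_inv_cj] at h1
            have e : Dm (Qf false) s⁻¹ = P := Dm_inv_Dm s P
            rwa [e] at h1
          · intro y hy r hr
            rw [mem_Dm, inv_inv] at hr ⊢
            have e : cj s (cj y r) = cj (cj s y) (cj s r) := by simp [cj, mul_assoc]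
            rw [e]
            exact norm_cj (hXF (show cj s y ∈ Dm (O2 (L j)) s from cj_mem_Dm hy)) hr
          · intro b hb r hr
            rw [mem_Dm, inv_inv] at hr ⊢
            have e : cj s (cj b r) = cj (cj s b) (cj s r) := by simp [cj, mul_assoc]
            rw [e]
            exact norm_cj (hBF (h.cjsB i hb)) hr
        rcases loc h.inv hZ hB2 hJC' hT (MIn.par_symm hp) with h1 | h1
        · left
          intro x hx f hf
          have h2 := h1 _ (mem_Dm.1 hx) (cj s⁻¹ f) (by rw [mem_Dm, inv_inv, cj_cj_inv]; exact hf)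
          have h3 := (cj_comm (g := s)).2 h2
          rwa [cj_cj_inv, cj_cj_inv] at h3
        · right
          intro d hd
          have h2 := h1 (hDs d hd)
          rwa [mem_Dm, inv_inv, cj_cj_inv] at h2
    · -- kick
      intro _ hDR
      have hT : Two B P (L i) (R ⊓ normalizer (P : Set G)) := by
        refine ⟨hR2.to_le inf_le_left, inf_le_right, ?_, ?_⟩
        · intro y hy r hr
          have hyP : y ∈ normalizer (P : Set G) := hLP i (O2_le _ hy)
          have h1 : cj y r ∈ normalizer (P : Set G) :=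
            mul_mem (mul_mem hyP (mem_inf.1 hr).2) (inv_mem hyP)
          exact mem_inf.2 ⟨norm_cj (hNR (hXbh true hy)) (mem_inf.1 hr).1, h1⟩
        · intro b hb r hr
          have h1 : cj b r ∈ normalizer (P : Set G) :=
            mul_mem (mul_mem (hBP hb) (mem_inf.1 hr).2) (inv_mem (hBP hb))
          exact mem_inf.2 ⟨norm_cj (hNR (hBbh hb)) (mem_inf.1 hr).1, h1⟩
      obtain ⟨y, hy, d, hd, hdZ⟩ := O2_moves h (i := j)
      apply hdZ
      have h1 : cj s (cj y d) ∈ R := by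
        have e : cj s (cj y d) = cj (cj s y) (cj s d) := by simp [cj, mul_assoc]
        rw [e]
        exact norm_cj (hNR (hXbh false (show cj s y ∈ Dm (O2 (L j)) s from cj_mem_Dm hy)))
          (hDR (h.par_D hp hd))
      have hyd : cj y d ∈ V j := (h.dat j).cjV (O2_le _ hy) ((h.dat j).DV hd)
      have h2 : cj s (cj y d) ∈ Dm (V j) s := cj_mem_Dm hyd
      have h3 : cj s (cj y d) ∈ B := V'_le_B h j h2
      have h4 : cj s (cj y d) ∈ Q i := R_cap h hZ hB2 hJC' hT ⟨h1, hBP h3⟩ h3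
      have h5 := V'_cap h hp h2 fun v hv => (h.dat i).VcQ _ h4 v hv
      have h6 := (h.dat i).cjZ (A.inv_mem h.sA) h5
      rwa [cj_inv_cj] at h6
    · -- grow
      intro P' hP' hBP' _ hPQ
      exact (hJC P' hP' hBP' (hPQ true)).2.1
    · -- tw
      intro x hxB hxc hcom t
      have hc : ∀ b ∈ B, x * (x * b * x⁻¹ * b⁻¹) = (x * b * x⁻¹ * b⁻¹) * x := fun b hb =>
        hxc _ (hcom b hb)
      cases t with
      | true => exact sw_of h hZ hB2 hself hJC hbig i hxB hc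
      | false =>
        apply norm_Dm'
        refine sw_of h hZ hB2 hself hJC hbig i ?_ ?_
        · have h1 := norm_Dm (g := s⁻¹) hxB
          have e : Dm B s⁻¹ = B := Dm_eq_of fun b hb => h.cjsB' i hb
          rwa [e] at h1
        · intro b hb
          have h1 := hc _ (h.cjsB i hb)
          have h2 := (cj_comm (g := s⁻¹)).2 h1
          have e : cj s⁻¹ (x * cj s b * x⁻¹ * (cj s b)⁻¹) =
              cj s⁻¹ x * b * (cj s⁻¹ x)⁻¹ * b⁻¹ := by simp [cj, mul_assoc]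
          rwa [e] at h2
  obtain ⟨x, hx, hodd, hx1⟩ := exists_odd h i
  exact data.false true (mem_O2 hx hodd) (pow_orderOf_eq_one x) hodd hx1

end Cfsg.Agent.Omega.SQ1.Block

end

section


/-!
# SQ1: the matching and the Thompson subgroup

`MIn` with `B = bau T`, `Z = zj T`: `P`, `P^s` are elementary abelian subgroups of `T` of maximal
order, `J(T) = B`, elementary abelian subgroups of `T` of maximal order lie in `B`.
-/

set_option autoImplicit false

namespace Cfsg.Agent.Omega.SQ1.Match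

open Cfsg Cfsg.Agent.Omega.PushUp Cfsg.Agent.ZN Cfsg.Agent.ZN.ChoiceBase
open Cfsg.Agent.PLocal.ThompsonJ

universe u v

variable {G : Type u} [Group G] {ι : Type v}
variable {A T P : Subgroup G} {s : G} {L Q V D : ι → Subgroup G}

/-- involutions of `T` centralising `bau T` lie in `zj T` -/
theorem hZ_bau [Finite G] : ∀ x ∈ bau T, x * x = 1 → (∀ b ∈ bau T, x * b = b * x) → x ∈ zj T := by
  intro x hx hxx hc
  have hx2 : x ^ 2 = 1 := by rw [pow_two]; exact hxx
  have hcj : ∀ y ∈ jj T, y * x = x * y := fun y hy => (hc y (jj_le_bau T hy)).symm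
  exact mem_zj.2 ⟨mem_jj_of_comm (bau_le T hx) hx2 hcj, hx2, hcj⟩

namespace MIn

variable (h : MIn A T (bau T) (zj T) P s L Q V D)

include h

theorem P_elem [Finite ι] [Finite G] (i : ι) : IsElementaryAbelian 2 P :=
  isElementaryAbelian_iff.2 ⟨fun _ hx _ hy => h.Pcomm i hx hy,
    fun _ hx => by rw [pow_two]; exact h.Psq i hx⟩

theorem P_le_T : P ≤ T := fun x hx => bau_le T ((h.Pmem x).1 hx).1

/-- `P ∈ A(T)` if `P` contains a member of `A(T)`. -/
theorem P_AA [Finite ι] [Finite G] (i : ι) {E : Subgroup G} (hE : E ∈ AA T) (hEP : E ≤ P) :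
    P ∈ AA T := by
  rw [mem_AA_iff]
  refine ⟨h.P_elem i, h.P_le_T, ?_⟩
  rw [mm_eq hE]
  exact Subgroup.card_le_of_le hEP

theorem T_conj (i : ι) {a t : G} (ha : a ∈ A) (ht : t ∈ T) : a * t * a⁻¹ ∈ T := by
  by_cases haT : a ∈ T
  · exact T.mul_mem (T.mul_mem haT ht) (T.inv_mem haT)
  · have h1 : a⁻¹ ∉ T := fun h1 => haT (by simpa using T.inv_mem h1)
    have h2 : (a * t)⁻¹ ∉ T := by
      intro h2
      apply haT
      have := T.mul_mem (T.inv_mem h2) (T.inv_mem ht)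
      simpa using this
    have h3 := (h.dat i).idx (a * t)⁻¹ (A.inv_mem (A.mul_mem ha (h.TA i ht))) a⁻¹ (A.inv_mem ha)
      h2 h1
    simpa using h3

theorem s_normT (i : ι) [Finite G] : cj s T = T := by
  apply cj_eq_of_mem_normalizer
  apply mem_normalizer_of_cj_le
  rintro _ ⟨t, ht, rfl⟩
  exact h.T_conj i h.sA ht

theorem Ps_AA [Finite G] (i : ι) (hP : P ∈ AA T) : cj s P ∈ AA T := by
  refine ⟨isElementaryAbelian_map hP.1 _, ?_, fun E hE hET => ?_⟩
  · rw [← h.s_normT i]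
    exact cj_mono s hP.2.1
  · rw [card_cj]
    exact hP.2.2 E hE hET

theorem J_eq [Finite ι] [Finite G] (i : ι) (hP : P ∈ AA T) : jj T = bau T := by
  apply le_antisymm (jj_le_bau T)
  intro b hb
  obtain ⟨y, hy, p, hp, rfl⟩ := h.cover hb
  apply mul_mem
  · apply le_jj (h.Ps_AA i hP)
    rw [ChoiceBase.mem_cj]
    have : s⁻¹ * Cfsg.Agent.MinSimple.PushUp.cj s y * s = y := by
      simp [Cfsg.Agent.MinSimple.PushUp.cj, mul_assoc]
    rw [this]
    exact h.Y_le hy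
  · exact le_jj hP hp

/-- elementary abelian subgroups of maximal order of `T` lie in `B` -/
theorem AA_le [Finite ι] [Finite G] (i : ι) (hP : P ∈ AA T) {E : Subgroup G} (hE : E ∈ AA T) :
    E ≤ bau T := by
  rw [← h.J_eq i hP]
  exact le_jj hE

end MIn

end Cfsg.Agent.Omega.SQ1.Match

end

section


/-!
# SQ1: facts about `N_G(P)` used by the killing lemma (helper132)

* `jc`: `T` Sylow in `N`, `J(T) = B = bau T`; then `J(R) = B` for every 2-subgroup `R` of `N` over `B`.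
* `hself`: `C_G(P) ≤ P`.
* `charTwo`: characteristic 2 type ⇒ `Kill.CharTwo`.
-/

set_option autoImplicit false

namespace Cfsg.Agent.Omega.SQ1.JC

open Subgroup Cfsg Cfsg.Agent.ZN Cfsg.Agent.ZN.ChoiceBase Cfsg.Agent.ZN.ChoiceSit
open Cfsg.Agent.MinSimple.Choice97 (Loc2 loc2_normalizer)
open Cfsg.Agent.Omega.SQ1.Choice (Config)

universe u v

variable {G : Type u} [Group G]

/-- Every 2-subgroup `R` with `B ≤ R ≤ N` has `J(R) = B`. -/
theorem jc [Finite G] {T N R : Subgroup G} (hT : Syl T N) (hJ : jj T = bau T) (hR : IsPGroup 2 R)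
    (hBR : bau T ≤ R) (hRN : R ≤ N) :
    jj R = bau T ∧ R ≤ normalizer (bau T : Set G) ∧
      normalizer (R : Set G) ≤ normalizer (bau T : Set G) ∧
      ∀ r ∈ R, (∀ z ∈ zj T, r * z = z * r) → r ∈ bau T := by
  obtain ⟨U, hU, hRU⟩ := exists_syl hR hRN
  obtain ⟨g, hgN, hg⟩ := syl_conj hT hU
  subst hg
  have hmm : mm (cj g T) = mm T := mm_cj g T
  have hjU : jj (cj g T) = cj g (bau T) := by rw [jj_cj, hJ]
  have hm1 : mm (bau T) ≤ mm R := mm_mono hBR
  have hm2 : mm R ≤ mm (cj g T) := mm_mono hRU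
  rw [mm_bau] at hm1
  have h1 : bau T ≤ jj R := by
    have := jj_mono hBR (by rw [mm_bau]; exact hm2.trans hmm.le)
    rw [jj_bau, hJ] at this
    exact this
  have h2 : jj R ≤ cj g (bau T) := by
    rw [← hjU]
    exact jj_mono hRU (by rw [hmm]; exact hm1)
  have h3 : cj g (bau T) = bau T :=
    (Subgroup.eq_of_le_of_card_ge (h1.trans h2) (card_cj g (bau T)).le).symm
  have h4 : jj R = bau T := le_antisymm (h2.trans h3.le) h1
  have h5 : normalizer (R : Set G) ≤ normalizer (bau T : Set G) := by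
    rw [← h4]; exact normalizer_le_jj R
  refine ⟨h4, le_normalizer.trans h5, h5, ?_⟩
  intro r hr hz
  have h6 : zj (cj g T) = zj T := zj_congr (by rw [hjU, h3, hJ])
  have h7 : r ∈ bau (cj g T) := by
    refine mem_bau.2 ⟨hRU hr, ?_⟩
    rw [h6]
    exact fun z hz' => (hz z hz').symm
  rw [bau_cj, h3] at h7
  exact h7

/-- The same for the conjugate by an element normalising `T`. -/
theorem jc_cj [Finite G] {T N R : Subgroup G} {s : G} (hs : cj s T = T) (hT : Syl T N)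
    (hJ : jj T = bau T) (hR : IsPGroup 2 R) (hBR : bau T ≤ R) (hRN : R ≤ cj s N) :
    jj R = bau T ∧ R ≤ normalizer (bau T : Set G) ∧
      normalizer (R : Set G) ≤ normalizer (bau T : Set G) ∧
      ∀ r ∈ R, (∀ z ∈ zj T, r * z = z * r) → r ∈ bau T := by
  refine jc (N := cj s N) ?_ hJ hR hBR hRN
  obtain ⟨h1, h2, h3⟩ := hT
  refine ⟨?_, h2, fun Q hQ hQ2 hTQ => ?_⟩
  · rw [← hs]; exact cj_mono s h1
  · have h4 : cj s⁻¹ Q ≤ N := by
      have := cj_mono s⁻¹ hQ
      rwa [cj_inv_cj] at this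
    have h5 : T ≤ cj s⁻¹ Q := by
      have := cj_mono s⁻¹ hTQ
      have h6 : cj s⁻¹ T = T := by
        have := congrArg (cj s⁻¹) hs
        rw [cj_inv_cj] at this
        exact this.symm
      rwa [h6] at this
    have h6 := h3 _ h4 (isPGroup_cj _ hQ2) h5
    have h7 := congrArg (cj s) h6
    rwa [cj_cj_inv, hs] at h7

/-- `C_G(P) ≤ P` -/
theorem self_cent_of [Finite G] (hG : IsCharacteristicTwoType G) {T P : Subgroup G}
    (hP : IsPGroup 2 P) (hP0 : P ≠ ⊥) (hT : Syl T (normalizer (P : Set G)))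
    (hc : ∀ x ∈ T, (∀ y ∈ P, x * y = y * x) → x ∈ P) : centralizer (P : Set G) ≤ P := by
  set N : Subgroup G := normalizer (P : Set G) with hN
  have hloc : IsTwoLocal N := ⟨P, hP, hP0, rfl⟩
  have hself := self_cent hG hloc
  have hO2 := isPGroup_o2 N
  have hON := le_normalizer_o2 N
  have hOT := o2_le_syl hT
  have hcN : centralizer (P : Set G) ≤ N := by
    intro x hx
    refine Kill.mem_norm (fun a ha => ?_) fun a ha => ?_
    · have := (mem_centralizer_iff.1 hx a ha)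
      rw [← this, mul_inv_cancel_right]; exact ha
    · have := (mem_centralizer_iff.1 hx a ha)
      rw [mul_assoc, this, inv_mul_cancel_left]; exact ha
  have hcc : ∀ x ∈ centralizer (P : Set G), ∀ y ∈ P, x * y = y * x := fun x hx y hy =>
    (mem_centralizer_iff.1 hx y hy).symm
  -- conjugates of `C_G(P)` by `N`
  have hcn : ∀ g ∈ N, ∀ x ∈ centralizer (P : Set G), g * x * g⁻¹ ∈ centralizer (P : Set G) := by
    intro g hg x hx
    rw [mem_centralizer_iff]
    intro y hy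
    have h1 : g⁻¹ * y * g ∈ P := Kill.norm_conj' hg hy
    have h2 := hcc x hx _ h1
    calc y * (g * x * g⁻¹) = g * ((g⁻¹ * y * g) * x) * g⁻¹ := by group
      _ = g * (x * (g⁻¹ * y * g)) * g⁻¹ := by rw [h2]
      _ = _ := by group
  -- `[C_G(P), O_2(N)] ≤ P`
  have hcO : ∀ x ∈ centralizer (P : Set G), ∀ r ∈ o2 N, x * r * x⁻¹ * r⁻¹ ∈ P := by
    intro x hx r hr
    have h1 : x * r * x⁻¹ * r⁻¹ ∈ o2 N :=
      mul_mem (Kill.norm_conj (hON (hcN hx)) hr) (inv_mem hr)
    have h2 : x * r * x⁻¹ * r⁻¹ ∈ centralizer (P : Set G) := by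
      have : x * r * x⁻¹ * r⁻¹ = x * (r * x⁻¹ * r⁻¹) := by group
      rw [this]
      exact mul_mem hx (hcn r (hT.1 (hOT hr)) _ (inv_mem hx))
    exact hc _ (hOT h1) (hcc _ h2)
  -- elements of odd order
  have hodd : ∀ x ∈ centralizer (P : Set G), ∀ m, Odd m → x ^ m = 1 → x = 1 := by
    intro x hx m hm hxm
    have h1 : x ∈ N ⊓ centralizer ((o2 N : Subgroup G) : Set G) := by
      refine mem_inf.2 ⟨hcN hx, mem_centralizer_iff.2 ?_⟩
      intro r hr
      have h2 := hcO x hx r hr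
      refine (Kill.comm_of_odd hxm hm hO2 ?_ (hcc x hx _ h2)).symm
      exact mul_mem (Kill.norm_conj (hON (hcN hx)) hr) (inv_mem hr)
    have h2 : x ∈ o2 N := hself h1
    obtain ⟨k, hk⟩ := hO2 ⟨x, h2⟩
    have h4 : orderOf x ∣ 2 ^ k := by
      apply orderOf_dvd_of_pow_eq_one
      simpa using congrArg Subtype.val hk
    have h5 : Nat.Coprime (2 ^ k) m := Nat.Coprime.pow_left _ (Nat.coprime_two_left.2 hm)
    exact orderOf_eq_one_iff.1 (Nat.eq_one_of_dvd_coprimes h5 h4 (orderOf_dvd_of_pow_eq_one hxm))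
  have hC2 : IsPGroup 2 (centralizer (P : Set G)) := by
    intro x
    -- `x ^ (2 ^ k)` has odd order
    obtain ⟨k, m, hm, hkm⟩ := Nat.exists_eq_two_pow_mul_odd (n := orderOf (x : G))
      (orderOf_pos (x : G)).ne'
    refine ⟨k, ?_⟩
    have h1 : ((x : G) ^ (2 ^ k)) ^ m = 1 := by
      rw [← pow_mul, ← hkm, pow_orderOf_eq_one]
    have h2 := hodd _ (pow_mem x.2 (2 ^ k)) m hm h1
    exact Subtype.ext (by simpa using h2)
  -- `C_G(P)` is a normal 2-subgroup of `N`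
  have hCO : centralizer (P : Set G) ≤ o2 N := by
    refine le_o2 hC2 hcN ?_
    intro g hg
    refine Kill.mem_norm (fun a ha => hcn g hg a ha) fun a ha => ?_
    have := hcn g⁻¹ (inv_mem hg) a ha
    simpa using this
  intro x hx
  exact hc x (hOT (hCO hx)) (hcc x hx)

/-- characteristic 2 type implies the form of the killing lemma -/
theorem charTwo [Finite G] (hG : IsCharacteristicTwoType G) : Kill.CharTwo G := by
  intro A hA hA2
  have hloc : IsTwoLocal (normalizer (A : Set G)) := ⟨A, hA2, hA, rfl⟩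
  set N : Subgroup G := normalizer (A : Set G) with hN
  have hAO : A ≤ o2 N := le_o2 hA2 le_normalizer le_rfl
  refine ⟨o2 N, isPGroup_o2 N, ?_, le_normalizer_o2 N, hAO, ?_⟩
  · obtain ⟨S, hS, -⟩ := exists_syl (T := A) hA2 (le_normalizer : A ≤ N)
    exact (o2_le_syl hS).trans hS.1
  · intro x hx
    refine self_cent hG hloc ⟨?_, hx⟩
    have h1 : x ∈ centralizer (A : Set G) := centralizer_le hAO hx
    refine Kill.mem_norm (fun a ha => ?_) fun a ha => ?_
    · have := (mem_centralizer_iff.1 h1 a ha)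
      rw [← this, mul_inv_cancel_right]; exact ha
    · have := (mem_centralizer_iff.1 h1 a ha)
      rw [mul_assoc, this, inv_mul_cancel_left]; exact ha

section

variable {M T Y P : Subgroup G} {s : G} {ι : Type v} {A : Subgroup G}
variable {L Q V D : ι → Subgroup G}

/-- `T` is a Sylow 2-subgroup of `N_G(P)`. -/
theorem syl_P [Finite G] (c : Config M T Y s) (hP : IsPGroup 2 P) (hP0 : P ≠ ⊥)
    (hYP : Y ≤ normalizer (P : Set G)) : Syl T (normalizer (P : Set G)) :=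
  c.syl_of_loc (c.TY.trans hYP) (loc2_normalizer hP hP0) fun h => c.notM (hYP.trans h)

/-- `C_G(P) ≤ P` from the matching. -/
theorem hself [Finite G] (hG : IsCharacteristicTwoType G) (c : Config M T Y s)
    (h : Match.MIn A T (bau T) (zj T) P s L Q V D) (i : ι) (hP0 : P ≠ ⊥)
    (hYP : Y ≤ normalizer (P : Set G)) : centralizer (P : Set G) ≤ P := by
  have hP2 : IsPGroup 2 P := c.two.to_le h.P_le_T
  refine self_cent_of hG hP2 hP0 (syl_P c hP2 hP0 hYP) ?_
  intro x hx hxP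
  have hZP : ∀ z ∈ zj T, z ∈ P := fun z hz => h.VP ((h.dat i).ZV hz)
  have hxB : x ∈ bau T := mem_bau.2 ⟨hx, fun z hz => (hxP z (hZP z hz)).symm⟩
  refine (h.Pmem x).2 ⟨hxB, fun j => ?_⟩
  exact (h.dat j).QcV x hxB fun v hv => hxP v (h.VP hv)

end

end Cfsg.Agent.Omega.SQ1.JC

end

section


/-!
# SQ1: one block (`q ≥ 4`), in the language of `Choice.Config`

`one_block_config`: in the configuration `Config M T Y s` the matching data `MIn` with
`|V i : Z| > 2` has at most one block.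
-/

set_option autoImplicit false

namespace Cfsg.Agent.Omega.SQ1.Block

open Subgroup Cfsg Cfsg.Agent.ZN Cfsg.Agent.ZN.ChoiceBase Cfsg.Agent.ZN.ChoiceSit
open Cfsg.Agent.Omega.SQ1.Choice (Config)
open Cfsg.Agent.Omega.SQ1.Match

universe u v

variable {G : Type u} [Group G] {ι : Type v}
variable {M A T Y P : Subgroup G} {s : G} {L Q V D : ι → Subgroup G}

theorem jcond_of [Finite G] (hT : Syl T (normalizer (P : Set G))) (hJ : jj T = bau T) :
    JCond (bau T) (zj T) P := by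
  intro R h1 h2 h3
  obtain ⟨-, a, b, c⟩ := JC.jc hT hJ h1 h2 h3
  exact ⟨a, b, c⟩

/-- `|V : Z| > 2` gives three elements of `V ∖ Z` forming a four-group modulo `Z`. -/
theorem big_of [Finite G] {Z V : Subgroup G} (hsq : ∀ v ∈ V, v * v = 1)
    (hq : 2 < Z.relIndex V) : ∃ v ∈ V, ∃ w ∈ V, v ∉ Z ∧ w ∉ Z ∧ v * w ∉ Z := by
  classical
  by_contra hcon
  push Not at hcon
  -- at most two cosets
  by_cases hVZ : V ≤ Z
  · rw [relIndex_eq_one.2 hVZ] at hq
    omega
  obtain ⟨v, hv, hvZ⟩ := SetLike.not_le_iff_exists.1 hVZ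
  have hle : Z.relIndex V ≤ 2 := by
    have hsurj : Function.Surjective (fun b : Bool =>
        (QuotientGroup.mk (if b then (⟨v, hv⟩ : V) else 1) : V ⧸ Z.subgroupOf V)) := by
      intro x
      obtain ⟨w, rfl⟩ := QuotientGroup.mk_surjective x
      by_cases hw : (w : G) ∈ Z
      · refine ⟨false, ?_⟩
        simp only [Bool.false_eq_true, if_false]
        rw [QuotientGroup.eq, mem_subgroupOf]
        simpa using hw
      · refine ⟨true, ?_⟩
        simp only [if_true]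
        rw [QuotientGroup.eq, mem_subgroupOf]
        have h1 := hcon v hv w w.2 hvZ hw
        have h2 : v⁻¹ = v := inv_eq_of_mul_eq_one_left (hsq v hv)
        simpa [h2] using h1
    have h1 := Nat.card_le_card_of_surjective _ hsurj
    have h2 : Nat.card Bool = 2 := by simp
    rw [h2] at h1
    exact h1
  omega

/-- **At most one block** in the configuration of the unique maximal 2-local case. -/
theorem one_block_config [Finite G] [Finite ι] (hG : IsCharacteristicTwoType G)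
    (c : Config M T Y s) (h : MIn A T (bau T) (zj T) P s L Q V D)
    (hYP : Y ≤ normalizer (P : Set G)) {E : Subgroup G} (hE : E ∈ AA T) (hEP : E ≤ P)
    (hq : ∀ i, 2 < (zj T).relIndex (V i)) : Subsingleton ι := by
  constructor
  intro i i'
  by_contra hii
  have hP2 : IsPGroup 2 P := c.two.to_le h.P_le_T
  have hP0 : P ≠ ⊥ := by
    intro h0
    obtain ⟨d, hd, hd1⟩ := (h.dat i).exists_ne
    apply hd1
    have h1 := h.VP ((h.dat i).DV hd)
    rw [h0] at h1
    simpa using h1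
  have hJ : jj T = bau T := h.J_eq i (h.P_AA i hE hEP)
  exact one_block (JC.charTwo hG) h hZ_bau (c.two.to_le (bau_le T))
    (JC.hself hG c h i hP0 hYP) (jcond_of (JC.syl_P c hP2 hP0 hYP) hJ)
    (fun k => big_of ((h.dat k).Vsq) (hq k)) hii

end Cfsg.Agent.Omega.SQ1.Block

end

section


/-!
# SQ1, several natural blocks, `q ≥ 4`: the end

`subsingleton_of_inK`: in the configuration `Config M T H s` the Baumann data `BauK.InK` with
`q > 2` have at most one block (matching + `Block.one_block_config`).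
-/

set_option autoImplicit false

namespace Cfsg.Agent.Omega.SQ1.EndManyOf

open Subgroup Cfsg Cfsg.Agent.PLocal.ThompsonJ Cfsg.Agent.ZN Cfsg.Agent.ZN.ChoiceBase
open Cfsg.Agent.ZN.ChoiceSit
open Cfsg.Agent.Omega.SQ1.Choice (Config)
open Cfsg.Agent.Omega.SQ1.BauK
open Cfsg.Agent.Omega.SQ1

universe u

variable {G : Type u} [Group G]

/-- **At most one block** (`q ≥ 4`). -/
theorem subsingleton_of_inK [Finite G] {M T H Q V V0 : Subgroup G} {s : G} {ι : Type} [Finite ι]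
    {N E : ι → Subgroup G} {q : ℕ} (hG : IsCharacteristicTwoType G) (c : Config M T H s)
    (h : InK H T Q V V0 N E q) (hq : 2 < q) : Subsingleton ι := by
  rcases isEmpty_or_nonempty ι with hι | hι
  · infer_instance
  have hTA : T ≤ T ⊔ zpowers s := le_sup_left
  have hAT : T ⊔ zpowers s ≤ normalizer (T : Set G) := sup_le le_normalizer (zpowers_le.2 c.sN)
  have idx : ∀ a ∈ T ⊔ zpowers s, ∀ b ∈ T ⊔ zpowers s, a ∉ T → b ∉ T → a⁻¹ * b ∈ T := by
    intro a ha b hb haT hbT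
    have h1 := (SitOf.mem_A c.sN c.sq ha).resolve_left haT
    have h2 := (SitOf.mem_A c.sN c.sq hb).resolve_left hbT
    have h3 := mul_mem (inv_mem h1) h2
    have e : (s⁻¹ * a)⁻¹ * (s⁻¹ * b) = a⁻¹ * b := by group
    rwa [e] at h3
  obtain ⟨L, -, hM⟩ := h.min_in hTA hAT idx (fun R hR hH hA =>
      SitOf.core_of_config c R hR hH (hA s (mem_sup_right (mem_zpowers s))))
    (mem_sup_right (mem_zpowers s)) c.sT
  have hn : H ≤ normalizer ((bau T ⊓ Q : Subgroup G) : Set G) := fun x hx =>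
    FFOne.mem_norm_of (h.star_norm x hx)
  obtain ⟨A, hA, hAQ, -⟩ := h.exists_AQ
  refine Block.one_block_config hG c hM hn hA (le_inf ((le_jj hA).trans (jj_le_bau T)) hAQ) ?_
  intro i
  have h1 := h.card_VL i
  have h2 := relIndex_mul_relIndex (⊥ : Subgroup G) (zj T) (InK.VL T (N i)) bot_le le_sup_left
  rw [relIndex_bot_left, relIndex_bot_left, h1] at h2
  rw [Nat.eq_of_mul_eq_mul_left Nat.card_pos h2]
  exact hq

end Cfsg.Agent.Omega.SQ1.EndManyOf

end

section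


/-!
# SQ1: `Main.EndMany` (`k ≥ 2` natural summands, `q ≥ 4`)
-/

set_option autoImplicit false

namespace Cfsg.Agent.Omega.SQ1.EndManyOf

open Subgroup Cfsg Cfsg.Agent.ZN

universe u

/-- **`k ≥ 2` natural summands, `q ≥ 4`, do not occur.** -/
theorem endMany : Main.EndMany.{u} := by
  intro G _ _ S M T H s h F _ _ _ hF k hk N
  obtain ⟨N', E, hI⟩ := FFOne.exists_inK h.cfg.syl (FFOf.isMinPar h.cfg) h.cfg.self_cent
    (VOf.nle h.cfg) (by omega) N
  have h1 := subsingleton_of_inK h.char2 h.cfg hI (by omega)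
  have h2 := Fin.subsingleton_iff_le_one.1 h1
  omega

end Cfsg.Agent.Omega.SQ1.EndManyOf

end

section


/-!
# Blocks of type `A₄` over a 2-group (project OMEGA, SQ1, L7; step (a) of #11855)

`Blk B d e r` : `V = {1, d, e, d e}` is a four-group, `r` permutes `d → e → d e → d`, `d` is central in
`B`, and `B` normalises `⟨V, r⟩`: an element of `B` centralising `e` centralises `r` modulo `V`, the other
elements invert `r` modulo `V`.
-/

set_option autoImplicit false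

namespace Cfsg.Agent.Omega.SQ1.TwistBase

open Subgroup

universe u v

variable {G : Type u} [Group G]

/-- conjugation -/
def cj (x y : G) : G := x * y * x⁻¹

theorem cj_mul (x y z : G) : cj x (y * z) = cj x y * cj x z := by unfold cj; group
theorem cj_inv (x y : G) : cj x y⁻¹ = (cj x y)⁻¹ := by unfold cj; group
theorem mul_cj (x y z : G) : cj (x * y) z = cj x (cj y z) := by unfold cj; group
theorem cj_one (x : G) : cj x 1 = 1 := by unfold cj; group
theorem cj_inv_cj (x y : G) : cj x⁻¹ (cj x y) = y := by unfold cj; group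
theorem cj_cj_inv (x y : G) : cj x (cj x⁻¹ y) = y := by unfold cj; group
theorem cj_inj {x y z : G} (h : cj x y = cj x z) : y = z := by
  rw [← cj_inv_cj x y, h, cj_inv_cj]
theorem cj_eq_iff {x y : G} : cj x y = y ↔ x * y = y * x := by
  unfold cj; rw [mul_inv_eq_iff_eq_mul]

theorem cj_comm_iff {x y z : G} : cj x y * cj x z = cj x z * cj x y ↔ y * z = z * y := by
  rw [← cj_mul, ← cj_mul]
  exact ⟨fun h => cj_inj h, fun h => by rw [h]⟩

/-- `v ∈ {1, d, e, d e}` -/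
def InV (d e v : G) : Prop := v = 1 ∨ v = d ∨ v = e ∨ v = d * e

/-- A block of type `A₄`. -/
structure Blk (B : Subgroup G) (d e r : G) : Prop where
  dB : d ∈ B
  eB : e ∈ B
  dc : ∀ b ∈ B, d * b = b * d
  dd : d * d = 1
  ee : e * e = 1
  dne : d ≠ 1
  rd : cj r d = e
  re : cj r e = d * e
  r3 : r * r * r = 1
  inner : ∀ b ∈ B, b * e = e * b → ∃ v, InV d e v ∧ cj b r = r * v
  outer : ∀ b ∈ B, b * e ≠ e * b → ∃ v, InV d e v ∧ cj b r = r⁻¹ * v

variable {B : Subgroup G} {d e r : G}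

theorem InV.mem (h : Blk B d e r) {v : G} (hv : InV d e v) : v ∈ B := by
  rcases hv with rfl | rfl | rfl | rfl
  · exact B.one_mem
  · exact h.dB
  · exact h.eB
  · exact B.mul_mem h.dB h.eB

theorem InV.sq (h : Blk B d e r) {v : G} (hv : InV d e v) : v * v = 1 := by
  rcases hv with rfl | rfl | rfl | rfl
  · rw [one_mul]
  · exact h.dd
  · exact h.ee
  · calc d * e * (d * e) = d * (e * d) * e := by group
      _ = (d * d) * (e * e) := by rw [← h.dc e h.eB]; group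
      _ = 1 := by rw [h.dd, h.ee, one_mul]

theorem InV.comm (h : Blk B d e r) {v b : G} (hv : InV d e v) (hb : b ∈ B) (hbe : b * e = e * b) :
    b * v = v * b := by
  rcases hv with rfl | rfl | rfl | rfl
  · rw [one_mul, mul_one]
  · exact (h.dc b hb).symm
  · exact hbe
  · rw [← mul_assoc, ← h.dc b hb, mul_assoc, hbe, mul_assoc]

namespace Blk

theorem de (h : Blk B d e r) : d * e = e * d := h.dc e h.eB

theorem ene (h : Blk B d e r) : e ≠ 1 := by
  intro h1
  have := h.rd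
  rw [h1, ← cj_one r] at this
  exact h.dne (cj_inj this)

theorem ri_e (h : Blk B d e r) : cj r⁻¹ e = d := by rw [← h.rd, cj_inv_cj]

theorem ri_d (h : Blk B d e r) : cj r⁻¹ d = d * e := by
  have h1 : cj r⁻¹ (d * e) = e := by rw [← h.re, cj_inv_cj]
  rw [cj_mul, h.ri_e] at h1
  have h2 : cj r⁻¹ d = e * d⁻¹ := by rw [← h1]; group
  rw [h2, inv_eq_of_mul_eq_one_right h.dd, h.de]

/-- `d` acts on `r` as `r ↦ r e`. -/
theorem cj_d_r (h : Blk B d e r) : cj d r = r * e := by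
  have h1 := h.ri_d
  have h2 : cj d r = r * (cj r⁻¹ d * d⁻¹) := by unfold cj; group
  rw [h2, h1, h.de, mul_assoc, mul_inv_cancel, mul_one]

theorem not_comm_d (h : Blk B d e r) : d * r ≠ r * d := by
  intro h1
  have h2 := cj_eq_iff.mpr h1
  rw [h.cj_d_r] at h2
  exact h.ene (by simpa using h2)

theorem r_de (h : Blk B d e r) : cj r (d * e) = d := by
  rw [cj_mul, h.rd, h.re, ← mul_assoc, ← h.de, mul_assoc, h.ee, mul_one]

theorem ri_de (h : Blk B d e r) : cj r⁻¹ (d * e) = e := by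
  rw [← h.re, cj_inv_cj]

theorem cj_inv_r (h : Blk B d e r) {v : G} (hv : InV d e v) : InV d e (cj r v) := by
  rcases hv with rfl | rfl | rfl | rfl
  · left; exact cj_one r
  · right; right; left; exact h.rd
  · right; right; right; exact h.re
  · right; left; exact h.r_de

theorem cj_inv_ri (h : Blk B d e r) {v : G} (hv : InV d e v) : InV d e (cj r⁻¹ v) := by
  rcases hv with rfl | rfl | rfl | rfl
  · left; exact cj_one _
  · right; right; right; exact h.ri_d
  · right; left; exact h.ri_e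
  · right; right; left; exact h.ri_de

/-- Dichotomy: an element of `B` commuting with `e` and with an outer element `k` acts on `r`
trivially or like `d`. -/
theorem dich (h : Blk B d e r) {k b : G} (hk : k ∈ B) (hke : k * e = d * (e * k)) (hb : b ∈ B)
    (hbe : b * e = e * b) (hbk : b * k = k * b) : b * r = r * b ∨ cj b r = r * e := by
  obtain ⟨v, hv, h1⟩ := h.inner b hb hbe
  have hke' : k * e ≠ e * k := by
    intro h2
    rw [h2] at hke
    exact h.dne (by simpa using hke.symm)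
  have hedne : e ≠ d := by
    intro h2
    apply hke'
    rw [h2]
    exact (h.dc k hk).symm
  obtain ⟨w, hw, h2⟩ := h.outer k hk hke'
  have hkd : cj k d = d := cj_eq_iff.mpr (h.dc k hk).symm
  have hkee : cj k e = d * e := by
    unfold cj
    rw [hke]; group
  have hkde : cj k (d * e) = e := by
    rw [cj_mul, hkd, hkee, ← mul_assoc, h.dd, one_mul]
  have hkv : InV d e (cj k v) := by
    rcases hv with rfl | rfl | rfl | rfl
    · left; exact cj_one _
    · right; left; exact hkd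
    · right; right; right; exact hkee
    · right; right; left; exact hkde
  have hwe : w * e = e * w := by
    rcases hw with rfl | rfl | rfl | rfl
    · rw [one_mul, mul_one]
    · exact h.de
    · rfl
    · rw [mul_assoc, ← mul_assoc e, ← h.de, mul_assoc]
  have h3 : cj b (cj k r) = cj k (cj b r) := by rw [← mul_cj, ← mul_cj, hbk]
  have hbw : cj b w = w := cj_eq_iff.mpr (hw.comm h hb hbe)
  rw [h2, h1, cj_mul, cj_inv, hbw, h1, cj_mul, h2] at h3
  -- `(r v)⁻¹ w = r⁻¹ w (cj k v)`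
  have h4 : w * cj k v = cj k v * w := hkv.comm h (hw.mem h) hwe
  have h5 : v⁻¹ = cj r⁻¹ (cj k v) := by
    rw [mul_assoc r⁻¹ w, h4, ← mul_assoc] at h3
    have h6 := mul_right_cancel h3
    unfold cj at h6 ⊢
    calc v⁻¹ = (r * v)⁻¹ * r := by group
      _ = _ := by rw [h6]; group
  have hvv : v⁻¹ = v := inv_eq_of_mul_eq_one_right (hv.sq h)
  rw [hvv] at h5
  have key : cj r v = cj k v := by rw [h5, cj_cj_inv]; rw [← h5]
  rcases hv with rfl | rfl | rfl | rfl
  · left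
    rw [mul_one] at h1
    exact cj_eq_iff.mp h1
  · rw [h.rd, hkd] at key
    exact absurd key hedne
  · right; exact h1
  · rw [h.r_de, hkde] at key
    exact absurd key.symm hedne

theorem iff_mul (h : Blk B d e r) {k b b' : G} (hk : k ∈ B) (hke : k * e = d * (e * k))
    (hb : b ∈ B) (hbe : b * e = e * b) (hbk : b * k = k * b)
    (hb' : b' ∈ B) (hbe' : b' * e = e * b') (hbk' : b' * k = k * b') :
    (b * b' * r = r * (b * b')) ↔ (b * r = r * b ↔ b' * r = r * b') := by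
  have hee : e * e = 1 := h.ee
  by_cases h1 : b * r = r * b
  · have h3 : (b * b' * r = r * (b * b')) ↔ b' * r = r * b' := by
      rw [mul_assoc, ← mul_assoc r b b', ← h1, mul_assoc b r b']
      exact mul_right_inj b
    rw [h3]
    tauto
  · have h1' := (h.dich hk hke hb hbe hbk).resolve_left h1
    by_cases h2 : b' * r = r * b'
    · have h3 : ¬ (b * b' * r = r * (b * b')) := by
        intro h4
        apply h1
        have h5 : b * r * b' = r * b * b' := by
          rw [mul_assoc, ← h2, ← mul_assoc, h4, mul_assoc]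
        exact mul_right_cancel h5
      tauto
    · have h2' := (h.dich hk hke hb' hbe' hbk').resolve_left h2
      have h3 : b * b' * r = r * (b * b') := by
        apply cj_eq_iff.mp
        rw [mul_cj, h2', cj_mul, h1', cj_eq_iff.mpr hbe, mul_assoc, hee, mul_one]
      tauto

/-- Elements of `B` commuting with `e` are centralised by `r` modulo `V`. -/
theorem cj_r (h : Blk B d e r) {b : G} (hb : b ∈ B) (hbe : b * e = e * b) :
    ∃ w, InV d e w ∧ cj r b = w * b := by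
  obtain ⟨v, hv, h1⟩ := h.inner b hb hbe
  refine ⟨cj r v⁻¹, ?_, ?_⟩
  · rw [inv_eq_of_mul_eq_one_right (hv.sq h)]
    exact h.cj_inv_r hv
  · have h2 : b * r = r * v * b := by rw [← h1]; unfold cj; group
    unfold cj
    calc r * b * r⁻¹ = r * v⁻¹ * r⁻¹ * (r * v * b) * r⁻¹ := by group
      _ = r * v⁻¹ * r⁻¹ * b := by rw [← h2]; group

theorem cj_ri (h : Blk B d e r) {b : G} (hb : b ∈ B) (hbe : b * e = e * b) :
    ∃ w, InV d e w ∧ cj r⁻¹ b = w * b := by
  obtain ⟨v, hv, h1⟩ := h.inner b hb hbe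
  refine ⟨v, hv, ?_⟩
  have h2 : b * r = r * v * b := by rw [← h1]; unfold cj; group
  unfold cj
  calc r⁻¹ * b * r⁻¹⁻¹ = r⁻¹ * (b * r) := by group
    _ = v * b := by rw [h2]; group

end Blk

end Cfsg.Agent.Omega.SQ1.TwistBase

end

section


/-!
# SQ1, `q = 2`: the blocks of `MIn` contain subgroups `A₄` normalised by `B` (L7)

If `|V i : Z| = 2` (field `h2`), then there are `d ∈ D i`, `e ∈ V i`, `r ∈ O²(L i)` of order 3 with
`Blk B d e r`, and `C_B(r) = C_B(O²(L i))`.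
-/

set_option autoImplicit false

namespace Cfsg.Agent.Omega.SQ1.TwistBlk

open Cfsg.Agent.MinSimple.PushUp Cfsg.Agent.Omega.PushUp Cfsg.Agent.Omega.SQ1.Match
open Cfsg.Agent.Omega.SQ1.BlockO Cfsg.Agent.Omega.SQ1.Block Subgroup
open Cfsg.Agent.Omega.SQ1.TwistBase (Blk InV)

variable {G : Type*} [Group G] {ι : Type*}

/-- the elements of `V` outside `Z` form one coset -/
def Small (Z V : Subgroup G) : Prop := ∀ v ∈ V, ∀ w ∈ V, v ∉ Z → w ∉ Z → v * w ∈ Z

section dat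

variable {A T L B Q V Z D : Subgroup G}

theorem index_two (h : Dat A T L B Q V Z D) [Finite G] (h2 : Small Z V) : Q.relIndex B = 2 := by
  rw [← idx_eq h, Subgroup.relIndex, Subgroup.index_eq_two_iff]
  obtain ⟨l, hl, d, hd, hdZ⟩ := h.moves
  have he : cj l d ∈ V := h.cjV hl (h.DV hd)
  refine ⟨⟨cj l d, he⟩, fun b => ?_⟩
  rw [mem_subgroupOf, mem_subgroupOf]
  change Xor ((b : G) * cj l d ∈ Z) ((b : G) ∈ Z)
  by_cases hb : (b : G) ∈ Z
  · right
    refine ⟨hb, fun h3 => hdZ ?_⟩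
    have : cj l d = (b : G)⁻¹ * (b * cj l d) := by group
    rw [this]
    exact Z.mul_mem (Z.inv_mem hb) h3
  · left
    exact ⟨h2 _ b.2 _ he hb hdZ, hb⟩

theorem coset_Q (h : Dat A T L B Q V Z D) [Finite G] (h2 : Small Z V) {b b' : G} (hb : b ∈ B)
    (hb' : b' ∈ B) (hbQ : b ∉ Q) (hbQ' : b' ∉ Q) : b⁻¹ * b' ∈ Q := by
  have h1 : (Q.subgroupOf B).index = 2 := index_two h h2
  have h3 := Subgroup.mul_mem_iff_of_index_two h1 (a := (⟨b, hb⟩ : B)⁻¹) (b := ⟨b', hb'⟩)
  rw [inv_mem_iff, mem_subgroupOf, mem_subgroupOf, mem_subgroupOf] at h3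
  exact h3.2 (iff_of_false hbQ hbQ')

theorem exists_f (h : Dat A T L B Q V Z D) [Finite G] (h2 : Small Z V) : ∃ f ∈ B, f ∉ Q := by
  by_contra hno
  push Not at hno
  have h1 : Q.relIndex B = 1 := relIndex_eq_one.2 fun b hb => hno b hb
  rw [index_two h h2] at h1
  omega

/-- the action of `B \ Q` on `V \ Z` -/
theorem exists_d (h : Dat A T L B Q V Z D) [Finite G] (h2 : Small Z V) :
    ∃ d ∈ D, d ≠ 1 ∧ (∀ x ∈ D, x = 1 ∨ x = d) ∧
      ∀ v ∈ V, v ∉ Z → ∀ b ∈ B, b ∉ Q → cj b v = d * v := by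
  obtain ⟨l, hl, d₀, hd₀, hdZ⟩ := h.moves
  obtain ⟨f, hf, hfQ⟩ := exists_f h h2
  set e := cj l d₀ with he
  have heV : e ∈ V := h.cjV hl (h.DV hd₀)
  obtain ⟨d, hd, hde⟩ := h.commB heV hf
  have hdd : d * d = 1 := h.Vsq d (h.DV hd)
  have hd1 : d ≠ 1 := by
    rintro rfl
    rw [one_mul, cj_eq_self] at hde
    exact h.ncomm e heV hdZ f hf hfQ hde.symm
  have key : ∀ v ∈ V, v ∉ Z → ∀ b ∈ B, b ∉ Q → cj b v = d * v := by
    intro v hv hvZ b hb hbQ
    have hz : e * v ∈ Z := h2 e heV v hv hdZ hvZ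
    have hee : e * e = 1 := h.Vsq e heV
    have hve : v = e * (e * v) := by rw [← mul_assoc, hee, one_mul]
    have hq := coset_Q h h2 hf hb hfQ hbQ
    have h1 : cj b v = cj f (cj (f⁻¹ * b) v) := by rw [← cj_mul]; congr 1; group
    have h3 : cj (f⁻¹ * b) v = v := cj_eq_self.2 (h.VcQ _ hq v hv)
    rw [h1, h3]
    conv_lhs => rw [hve, cj_prod, hde, cj_eq_self.2 (h.BcZ f hf _ hz)]
    rw [mul_assoc, ← hve]
  refine ⟨d, hd, hd1, ?_, key⟩
  let W : Subgroup G :=
    { carrier := {x | x = 1 ∨ x = d}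
      one_mem' := Or.inl rfl
      mul_mem' := by
        rintro a b (rfl | rfl) (rfl | rfl)
        · left; simp
        · right; simp
        · right; simp
        · left; exact hdd
      inv_mem' := by
        rintro a (rfl | rfl)
        · left; simp
        · right; exact inv_eq_of_mul_eq_one_left hdd }
  have hDW : D ≤ W := by
    refine h.Dgen.trans ((closure_le _).2 ?_)
    rintro _ ⟨v, hv, b, hb, rfl⟩
    have e1 : v * b * v⁻¹ * b⁻¹ = v * (cj b v)⁻¹ := by simp [cj, mul_assoc]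
    rw [e1]
    by_cases hvZ : v ∈ Z
    · left
      rw [cj_eq_self.2 (h.BcZ b hb v hvZ), mul_inv_cancel]
    · by_cases hbQ : b ∈ Q
      · left
        rw [cj_eq_self.2 (h.VcQ b hbQ v hv), mul_inv_cancel]
      · right
        rw [key v hv hvZ b hb hbQ, mul_inv_rev, ← mul_assoc, mul_inv_cancel, one_mul]
        exact inv_eq_of_mul_eq_one_left hdd
  exact fun x hx => hDW hx

/-- elements of `Z` modulo `C_Z(L)` -/
theorem Z_split (h : Dat A T L B Q V Z D) [Finite G] (h2 : Small Z V) {l d : G} (hl : l ∈ L)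
    (hmv : Mv D Z l) (hd : d ∈ D) (hdl : cj l⁻¹ d ∉ Z) {z : G} (hz : z ∈ Z) :
    ∃ c ∈ Z, (∀ y ∈ L, y * c = c * y) ∧ (z = c ∨ z = d * c) := by
  by_cases h1 : cj l⁻¹ z ∈ Z
  · exact ⟨z, hz, fun y hy => cent_inter h hl hmv hz h1 hy, Or.inl rfl⟩
  · have hdZ := h.DZ hd
    have hdd : d * d = 1 := h.Vsq d (h.DV hd)
    refine ⟨d * z, Z.mul_mem hdZ hz, ?_, Or.inr ?_⟩
    · have h3 : cj l⁻¹ (d * z) ∈ Z := by
        rw [cj_prod]
        exact h2 _ (h.cjV (L.inv_mem hl) (h.ZV hdZ)) _ (h.cjV (L.inv_mem hl) (h.ZV hz)) hdl h1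
      exact fun y hy => cent_inter h hl hmv (Z.mul_mem hdZ hz) h3 hy
    · rw [← mul_assoc, hdd, one_mul]

end dat

theorem odd_pow_four (n : ℕ) (hn : 0 < n) : ∃ k m : ℕ, Odd (n / Nat.gcd n (4 ^ k)) ∧ 4 ^ k = 1 + 3 * m := by
  obtain ⟨k, m, hm, he⟩ := Nat.exists_eq_two_pow_mul_odd (n := n) hn.ne'
  have h4 : ∀ k : ℕ, ∃ m, 4 ^ k = 1 + 3 * m := by
    intro k
    induction k with
    | zero => exact ⟨0, by norm_num⟩
    | succ k ih =>
      obtain ⟨m, hm⟩ := ih
      exact ⟨4 * m + 1, by rw [pow_succ, hm]; ring⟩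
  obtain ⟨m', hm'⟩ := h4 k
  refine ⟨k, m', ?_, hm'⟩
  have h5 : Nat.gcd n (4 ^ k) = 2 ^ k := by
    have e : (4 : ℕ) ^ k = 2 ^ k * 2 ^ k := by rw [← mul_pow]; norm_num
    rw [he, e, Nat.gcd_mul_left]
    have : Nat.gcd m (2 ^ k) = 1 := Nat.Coprime.pow_right _ (Nat.coprime_two_right.2 hm)
    rw [this, mul_one]
  rw [h5, he, Nat.mul_div_cancel_left _ (by positivity)]
  exact hm

variable {A T B Z P : Subgroup G} {s : G} {L Q V D : ι → Subgroup G}

/-- an element of `O²(L i)` which centralises `V i` lies in `P` -/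
theorem mem_P (h : MIn A T B Z P s L Q V D) [Finite G] (hB2 : IsPGroup 2 B)
    (hself : centralizer (P : Set G) ≤ P) {i j : ι} (hp : Par s V i j) {u : G}
    (hu : u ∈ O2 (L i)) (huV : ∀ v ∈ V i, u * v = v * u) : u ∈ P ∧ ∀ x ∈ Q i, u * x = x * u := by
  obtain ⟨l, hl, hmv⟩ := (h.dat i).moves
  have hQ : ∀ x ∈ Q i, u * x = x * u := by
    intro x hx
    obtain ⟨v, hv, c, hc, rfl⟩ := dec h hp hl hmv hx
    have h1 : Commute u v := huV v hv
    have h2 : Commute u c := O2_cent h hp hB2 hl hmv hu hc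
    exact (h1.mul_right h2).eq
  refine ⟨hself ?_, hQ⟩
  rw [mem_centralizer_iff]
  intro x hx
  exact (hQ x (((h.Pmem x).1 hx).2 i)).symm

theorem eq_one_of_odd {B : Subgroup G} (hB2 : IsPGroup 2 B) {u : G} (hu : u ∈ B)
    (hodd : Odd (orderOf u)) : u = 1 := by
  obtain ⟨k, hk⟩ := hB2 ⟨u, hu⟩
  have h4 : orderOf u ∣ 2 ^ k := by
    apply orderOf_dvd_of_pow_eq_one
    simpa using congrArg Subtype.val hk
  have h5 : Nat.Coprime (2 ^ k) (orderOf u) := Nat.Coprime.pow_left _ (Nat.coprime_two_left.2 hodd)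
  exact orderOf_eq_one_iff.1 (Nat.eq_one_of_dvd_coprimes h5 h4 dvd_rfl)

/-- The block data of `MIn` for `q = 2`. -/
structure BlkD (B Z V D L : Subgroup G) (d e r : G) : Prop where
  blk : Blk B d e r
  dD : d ∈ D
  Deq : ∀ x ∈ D, x = 1 ∨ x = d
  eV : e ∈ V
  eZ : e ∉ Z
  rO : r ∈ O2 L
  rB : ∀ b ∈ B, b * r = r * b → ∀ y ∈ O2 L, y * b = b * y

/-- **The block `A₄`** for `q = 2`. -/
theorem exists_blk (h : MIn A T B Z P s L Q V D) [Finite ι] [Finite G] (hB2 : IsPGroup 2 B)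
    (hself : centralizer (P : Set G) ≤ P) {i j : ι} (hp : Par s V i j) (h2 : Small Z (V i)) :
    ∃ d e r, BlkD B Z (V i) (D i) (L i) d e r := by
  have hd := h.dat i
  obtain ⟨f, hf, hfQ⟩ := exists_f hd h2
  obtain ⟨d, hdD, hd1, hDeq, hact⟩ := exists_d hd h2
  obtain ⟨l, hl, hmv⟩ := hd.moves
  have hlinv := (L i).inv_mem hl
  -- the element `e`
  have hdl : cj l d ∉ Z := by
    obtain ⟨x, hx, hxZ⟩ := hmv
    rcases hDeq x hx with rfl | rfl
    · exfalso; apply hxZ; simp [cj]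
    · exact hxZ
  have hdl' : cj l⁻¹ d ∉ Z := by
    obtain ⟨x, hx, hxZ⟩ := hd.mvinv l hl hmv
    rcases hDeq x hx with rfl | rfl
    · exfalso; apply hxZ; simp [cj]
    · exact hxZ
  set e := cj l d with he
  have hdZ : d ∈ Z := hd.DZ hdD
  have hdV : d ∈ V i := hd.ZV hdZ
  have hdB : d ∈ B := hd.VB hdV
  have heV : e ∈ V i := hd.cjV hl hdV
  have heB : e ∈ B := hd.VB heV
  have hdd : d * d = 1 := hd.Vsq d hdV
  have hee : e * e = 1 := hd.Vsq e heV
  have hde : d * e = e * d := (hd.BcZ e heB d hdZ).symm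
  have hdB' : ∀ b ∈ B, d * b = b * d := fun b hb => (hd.BcZ b hb d hdZ).symm
  -- `V i = ⟨d, e⟩ C_Z(L i)`
  have hsplit : ∀ v ∈ V i, ∃ w c, InV d e w ∧ c ∈ Z ∧ (∀ y ∈ L i, y * c = c * y) ∧ v = w * c := by
    intro v hv
    by_cases hvZ : v ∈ Z
    · obtain ⟨c, hc, hcL, h1 | h1⟩ := Z_split hd h2 hl hmv hdD hdl' hvZ
      · exact ⟨1, c, Or.inl rfl, hc, hcL, by rw [h1, one_mul]⟩
      · exact ⟨d, c, Or.inr (Or.inl rfl), hc, hcL, h1⟩
    · have hz : e * v ∈ Z := h2 e heV v hv hdl hvZ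
      have hve : v = e * (e * v) := by rw [← mul_assoc, hee, one_mul]
      obtain ⟨c, hc, hcL, h1 | h1⟩ := Z_split hd h2 hl hmv hdD hdl' hz
      · exact ⟨e, c, Or.inr (Or.inr (Or.inl rfl)), hc, hcL, by rw [hve, h1]⟩
      · exact ⟨d * e, c, Or.inr (Or.inr (Or.inr rfl)), hc, hcL, by
          rw [hve, h1, hde, mul_assoc]⟩
  -- the actions
  have fd : cj f d = d := cj_eq_self.2 (hd.BcZ f hf d hdZ)
  have fe : cj f e = d * e := hact e heV hdl f hf hfQ
  set g := cj l f with hg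
  have ge : cj g e = e := by
    have e1 : cj g e = cj l (cj f (cj l⁻¹ e)) := by rw [hg, cj_cj]
    rw [e1, he, cj_inv_cj, fd]
  have gd : cj g d = e * d := by
    have e1 : cj g d = cj l (cj f (cj l⁻¹ d)) := by rw [hg, cj_cj]
    rw [e1, hact _ (hd.cjV hlinv hdV) hdl' f hf hfQ, cj_prod, cj_cj_inv]
  set r₀ := f * g with hr₀
  have hfL : f ∈ L i := hd.BL hf
  have hgL : g ∈ L i := (L i).mul_mem ((L i).mul_mem hl hfL) hlinv
  have hr₀L : r₀ ∈ L i := (L i).mul_mem hfL hgL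
  have rd₀ : cj r₀ d = e := by
    rw [hr₀, cj_mul, gd, cj_prod, fe, fd, mul_assoc, ← hde, ← mul_assoc, hdd, one_mul]
  have re₀ : cj r₀ e = d * e := by rw [hr₀, cj_mul, ge, fe]
  have rde₀ : cj r₀ (d * e) = d := by
    rw [cj_prod, rd₀, re₀, ← mul_assoc, ← hde, mul_assoc, hee, mul_one]
  -- `r₀³` centralises `V i`
  have cL : ∀ {c y : G}, (∀ y ∈ L i, y * c = c * y) → y ∈ L i → cj y c = c := fun hc hy =>
    cj_eq_self.2 (hc _ hy)
  have tri : ∀ {y : G}, y ∈ L i → cj y d = d → cj y e = e → ∀ v ∈ V i, y * v = v * y := by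
    intro y hy h1 h3 v hv
    obtain ⟨w, c, hw, -, hcL, rfl⟩ := hsplit v hv
    apply cj_eq_self.1
    rw [cj_prod, cL hcL hy]
    congr 1
    rcases hw with rfl | rfl | rfl | rfl
    · simp [cj]
    · exact h1
    · exact h3
    · rw [cj_prod, h1, h3]
  have r3₀ : ∀ v ∈ V i, (r₀ * r₀ * r₀) * v = v * (r₀ * r₀ * r₀) := by
    apply tri ((L i).mul_mem ((L i).mul_mem hr₀L hr₀L) hr₀L)
    · rw [cj_mul, cj_mul, rd₀, re₀, rde₀]
    · rw [cj_mul, cj_mul, re₀, rde₀, rd₀]
  -- the element `r`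
  obtain ⟨k, m, hodd, h4⟩ := odd_pow_four (orderOf r₀) (orderOf_pos r₀)
  set r := r₀ ^ 4 ^ k with hr
  have hrL : r ∈ L i := (L i).pow_mem hr₀L _
  have hrodd : Odd (orderOf r) := by
    rw [hr, orderOf_pow]
    exact hodd
  have hr0 : ∀ v ∈ V i, cj r v = cj r₀ v := by
    intro v hv
    have e1 : r = r₀ * (r₀ * r₀ * r₀) ^ m := by
      have e2 : r₀ * r₀ * r₀ = r₀ ^ 3 := by rw [pow_succ, pow_two]
      rw [hr, h4, pow_add, pow_one, pow_mul, e2]
    have h5 : Commute ((r₀ * r₀ * r₀) ^ m) v := (show Commute _ v from r3₀ v hv).pow_left m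
    rw [e1, cj_mul, cj_eq_self.2 h5.eq]
  have rd : cj r d = e := by rw [hr0 d hdV, rd₀]
  have re : cj r e = d * e := by rw [hr0 e heV, re₀]
  have rde : cj r (d * e) = d := by rw [hr0 _ ((V i).mul_mem hdV heV), rde₀]
  have hrO : r ∈ O2 (L i) := mem_O2 hrL hrodd
  have r3 : r * r * r = 1 := by
    have h5 : r * r * r = r ^ 3 := by rw [pow_succ, pow_two]
    have h6 : ∀ v ∈ V i, (r * r * r) * v = v * (r * r * r) := by
      apply tri ((L i).mul_mem ((L i).mul_mem hrL hrL) hrL)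
      · rw [cj_mul, cj_mul, rd, re, rde]
      · rw [cj_mul, cj_mul, re, rde, rd]
    have h7 := mem_P h hB2 hself hp (mul_mem (mul_mem hrO hrO) hrO) h6
    refine eq_one_of_odd hB2 ((h.Pmem _).1 h7.1).1 ?_
    rw [h5, orderOf_pow]
    exact Odd.of_dvd_nat hrodd (Nat.div_dvd_of_dvd (Nat.gcd_dvd_left _ _))
  -- elements of `Q i` act on `r` like elements of `⟨d, e⟩`
  have vr : ∀ w, InV d e w → ∃ w', InV d e w' ∧ cj w r = r * w' := by
    have ri : ∀ {x y : G}, cj r x = y → r⁻¹ * y = x * r⁻¹ := by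
      intro x y hxy
      rw [← hxy]; simp [cj, mul_assoc]
    have key : ∀ {x y : G}, cj r x = y → cj y r = r * (x * y⁻¹) := by
      intro x y hxy
      have : y = r * x * r⁻¹ := hxy.symm
      have e1 : cj y r = y * r * y⁻¹ := rfl
      rw [e1]
      nth_rw 1 [this]
      group
    rintro w (rfl | rfl | rfl | rfl)
    · exact ⟨1, Or.inl rfl, by simp [cj]⟩
    · refine ⟨e, Or.inr (Or.inr (Or.inl rfl)), ?_⟩
      rw [key rde, inv_eq_of_mul_eq_one_left hdd, hde, mul_assoc, hdd, mul_one]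
    · refine ⟨d * e, Or.inr (Or.inr (Or.inr rfl)), ?_⟩
      rw [key rd, inv_eq_of_mul_eq_one_left hee]
    · refine ⟨d, Or.inr (Or.inl rfl), ?_⟩
      have h5 : (d * e)⁻¹ = d * e := inv_eq_of_mul_eq_one_left (hd.Vsq _ ((V i).mul_mem hdV heV))
      have h6 : e * (d * e) = d := by rw [hde, ← mul_assoc, hee, one_mul]
      rw [key re, h5, h6]
  have inQ : ∀ b ∈ B, b * e = e * b → b ∈ Q i := by
    intro b hb hbe
    by_contra hbQ
    exact hd.ncomm e heV hdl b hb hbQ hbe.symm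
  have decQ : ∀ b ∈ Q i, ∃ w c, InV d e w ∧ (∀ y ∈ O2 (L i), y * c = c * y) ∧ b = w * c := by
    intro b hb
    obtain ⟨v, hv, c, hc, rfl⟩ := dec h hp hl hmv hb
    obtain ⟨w, c', hw, -, hc'L, rfl⟩ := hsplit v hv
    refine ⟨w, c' * c, hw, fun y hy => ?_, by rw [mul_assoc]⟩
    have h5 : Commute y c' := hc'L y (O2_le _ hy)
    have h6 : Commute y c := O2_cent h hp hB2 hl hmv hy hc
    exact (h5.mul_right h6).eq
  have inner : ∀ b ∈ B, b * e = e * b → ∃ v, InV d e v ∧ cj b r = r * v := by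
    intro b hb hbe
    obtain ⟨w, c, hw, hc, rfl⟩ := decQ b (inQ b hb hbe)
    have h5 : cj c r = r := cj_eq_self.2 (hc r hrO).symm
    rw [cj_mul, h5]
    exact vr w hw
  have fV : ∀ v, InV d e v → InV d e (cj f v) := by
    rintro v (rfl | rfl | rfl | rfl)
    · left; simp [cj]
    · right; left; exact fd
    · right; right; right; exact fe
    · right; right; left; rw [cj_prod, fd, fe, ← mul_assoc, hdd, one_mul]
  have mulV : ∀ v w, InV d e v → InV d e w → InV d e (v * w) := by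
    intro v w hv hw
    rcases hv with rfl | rfl | rfl | rfl <;> rcases hw with rfl | rfl | rfl | rfl
    · left; rw [one_mul]
    · right; left; rw [one_mul]
    · right; right; left; rw [one_mul]
    · right; right; right; rw [one_mul]
    · right; left; rw [mul_one]
    · left; exact hdd
    · right; right; right; rfl
    · right; right; left; rw [← mul_assoc, hdd, one_mul]
    · right; right; left; rw [mul_one]
    · right; right; right; exact hde.symm
    · left; exact hee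
    · right; left; rw [hde, ← mul_assoc, hee, one_mul]
    · right; right; right; rw [mul_one]
    · right; right; left; rw [hde, mul_assoc, hdd, mul_one]
    · right; left; rw [mul_assoc, hee, mul_one]
    · left; exact hd.Vsq _ ((V i).mul_mem hdV heV)
  have rV : ∀ v, InV d e v → InV d e (cj r v) := by
    rintro v (rfl | rfl | rfl | rfl)
    · left; simp [cj]
    · right; right; left; exact rd
    · right; right; right; exact re
    · right; left; exact rde
  have memVi : ∀ v, InV d e v → v ∈ V i := by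
    rintro v (rfl | rfl | rfl | rfl)
    · exact (V i).one_mem
    · exact hdV
    · exact heV
    · exact (V i).mul_mem hdV heV
  -- `f` inverts `r` modulo `⟨d, e⟩`
  have finv : ∃ w, InV d e w ∧ cj f r = w * r⁻¹ := by
    set u := cj f r * r with hu
    have huO : u ∈ O2 (L i) := mul_mem (O2_norm hfL hrO) hrO
    have huL : u ∈ L i := O2_le _ huO
    have fi : ∀ {x y : G}, cj f x = y → cj f⁻¹ y = x := by
      intro x y hxy; rw [← hxy, cj_inv_cj]
    have fde : cj f (d * e) = e := by rw [cj_prod, fd, fe, ← mul_assoc, hdd, one_mul]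
    have hud : cj u d = d := by
      rw [hu, cj_mul, rd, cj_cj, fi fde, rde, fd]
    have hue : cj u e = e := by
      rw [hu, cj_mul, re, cj_cj, fi fe, re, fde]
    obtain ⟨huP, huQ⟩ := mem_P h hB2 hself hp huO (tri huL hud hue)
    refine ⟨u, ?_, by rw [hu, mul_assoc, mul_inv_cancel, mul_one]⟩
    -- `u = w c`
    obtain ⟨w, c, hw, hc, huw⟩ := decQ u (((h.Pmem u).1 huP).2 i)
    have hwV := memVi w hw
    have hcu : c = w⁻¹ * u := by rw [huw]; group
    have huw' : u * w = w * u := huQ w (hd.VQ hwV)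
    -- `(cj f r)³ = 1`
    have h5 : cj f r * cj f r * cj f r = 1 := by
      rw [← cj_prod, ← cj_prod, r3]; simp [cj]
    have h6 : cj f r = u * r⁻¹ := by rw [hu, mul_assoc, mul_inv_cancel, mul_one]
    rw [h6] at h5
    -- powers
    have hcr : r⁻¹ * c = c * r⁻¹ := hc _ (inv_mem hrO)
    have e1 : u * r⁻¹ * (u * r⁻¹) * (u * r⁻¹) =
        (w * cj r⁻¹ w * cj (r⁻¹ * r⁻¹) w) * (c * c * c) * (r⁻¹ * r⁻¹ * r⁻¹) := by
      have c1 : Commute c r⁻¹ := (show Commute r⁻¹ c from hcr).symm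
      -- `c` commutes with conjugates of `w`
      have c2 : ∀ y : G, y ∈ L i → Commute c (cj y w) := by
        intro y hy
        have h7 : cj y w ∈ V i := hd.cjV hy hwV
        have h8 : Commute u (cj y w) := huQ _ (hd.VQ h7)
        have h9 : Commute w (cj y w) := hd.VcQ w (hd.VQ hwV) _ h7
        rw [hcu]
        exact h9.inv_left.mul_left h8
      have hri : r⁻¹ ∈ L i := (L i).inv_mem hrL
      have hrii : r⁻¹ * r⁻¹ ∈ L i := (L i).mul_mem hri hri
      have s1 : r⁻¹ * w = cj r⁻¹ w * r⁻¹ := by simp [cj, mul_assoc]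
      have s2 : r⁻¹ * cj r⁻¹ w = cj (r⁻¹ * r⁻¹) w * r⁻¹ := by simp [cj, mul_assoc]
      have c3 := (c2 _ hri).eq
      have c4 := (c2 _ hrii).eq
      rw [huw]
      calc w * c * r⁻¹ * (w * c * r⁻¹) * (w * c * r⁻¹)
          = w * c * (r⁻¹ * w) * c * r⁻¹ * w * c * r⁻¹ := by simp only [mul_assoc]
        _ = w * c * (cj r⁻¹ w * r⁻¹) * c * r⁻¹ * w * c * r⁻¹ := by rw [s1]
        _ = w * (c * cj r⁻¹ w) * (r⁻¹ * c) * (r⁻¹ * w) * c * r⁻¹ := by simp only [mul_assoc]
        _ = w * (cj r⁻¹ w * c) * (c * r⁻¹) * (cj r⁻¹ w * r⁻¹) * c * r⁻¹ := by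
          rw [c3, hcr, s1]
        _ = w * cj r⁻¹ w * c * c * (r⁻¹ * cj r⁻¹ w) * (r⁻¹ * c) * r⁻¹ := by
          simp only [mul_assoc]
        _ = w * cj r⁻¹ w * c * c * (cj (r⁻¹ * r⁻¹) w * r⁻¹) * (c * r⁻¹) * r⁻¹ := by
          rw [s2, hcr]
        _ = w * cj r⁻¹ w * c * (c * cj (r⁻¹ * r⁻¹) w) * (r⁻¹ * c) * r⁻¹ * r⁻¹ := by
          simp only [mul_assoc]
        _ = w * cj r⁻¹ w * c * (cj (r⁻¹ * r⁻¹) w * c) * (c * r⁻¹) * r⁻¹ * r⁻¹ := by
          rw [c4, hcr]
        _ = w * cj r⁻¹ w * (c * cj (r⁻¹ * r⁻¹) w) * c * c * r⁻¹ * r⁻¹ * r⁻¹ := by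
          simp only [mul_assoc]
        _ = w * cj r⁻¹ w * (cj (r⁻¹ * r⁻¹) w * c) * c * c * r⁻¹ * r⁻¹ * r⁻¹ := by rw [c4]
        _ = _ := by simp only [mul_assoc]
    have hri3 : r⁻¹ * r⁻¹ * r⁻¹ = 1 := by
      calc r⁻¹ * r⁻¹ * r⁻¹ = (r * r * r)⁻¹ := by group
        _ = 1 := by rw [r3, inv_one]
    have hrr : r⁻¹ * r⁻¹ = r := by
      rw [← mul_inv_rev, inv_eq_iff_mul_eq_one]; exact r3
    -- the norm of `w`
    have ri_d : cj r⁻¹ d = d * e := by
      have h7 := congrArg (cj r⁻¹) rde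
      rw [cj_inv_cj] at h7
      exact h7.symm
    have ri_e : cj r⁻¹ e = d := by
      have h7 := congrArg (cj r⁻¹) rd
      rw [cj_inv_cj] at h7
      exact h7.symm
    have hnorm : w * cj r⁻¹ w * cj (r⁻¹ * r⁻¹) w = 1 := by
      rw [hrr]
      rcases hw with rfl | rfl | rfl | rfl
      · simp [cj]
      · rw [ri_d, rd, ← mul_assoc, hdd, one_mul, hee]
      · rw [ri_e, re, ← hde, hd.Vsq _ ((V i).mul_mem hdV heV)]
      · have ri_de : cj r⁻¹ (d * e) = e := by
          have h7 := congrArg (cj r⁻¹) re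
          rw [cj_inv_cj] at h7
          exact h7.symm
        rw [ri_de, rde, mul_assoc d e e, hee, mul_one, hdd]
    rw [e1, hnorm, hri3, one_mul, mul_one] at h5
    -- `c² = 1`
    have hcc : c * c = 1 := by
      have huu : u * u = 1 := h.Psq i huP
      have hww : w * w = 1 := hd.Vsq w hwV
      rw [hcu, inv_eq_of_mul_eq_one_left hww]
      calc w * u * (w * u) = w * (u * w) * u := by group
        _ = (w * w) * (u * u) := by rw [huw']; group
        _ = 1 := by rw [hww, huu, one_mul]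
    rw [hcc, one_mul] at h5
    rw [huw, h5, mul_one]
    exact hw
  have outer : ∀ b ∈ B, b * e ≠ e * b → ∃ v, InV d e v ∧ cj b r = r⁻¹ * v := by
    intro b hb hbe
    have hbQ : b ∉ Q i := fun hq => hbe (hd.VcQ b hq e heV)
    have hq := coset_Q hd h2 hf hb hfQ hbQ
    obtain ⟨v, hv, h5⟩ := inner _ (hd.QB hq) (hd.VcQ _ hq e heV)
    obtain ⟨w, hw, h6⟩ := finv
    refine ⟨cj r w * cj f v, mulV _ _ (rV w hw) (fV v hv), ?_⟩
    have e1 : cj b r = cj f (cj (f⁻¹ * b) r) := by rw [← cj_mul]; congr 1; group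
    rw [e1, h5, cj_prod, h6]
    simp [cj, mul_assoc]
  refine ⟨d, e, r, ⟨hdB, heB, hdB', hdd, hee, hd1, rd, re, r3, inner, outer⟩, hdD, hDeq, heV, hdl,
    hrO, ?_⟩
  intro b hb hbr y hy
  -- `b` commutes with `e`
  have hbe : b * e = e * b := by
    have h5 : Commute b r := hbr
    have h6 : Commute b d := (hdB' b hb).symm
    rw [← rd]
    exact ((h5.mul_right h6).mul_right h5.inv_right).eq
  obtain ⟨w, c, hw, hc, rfl⟩ := decQ b (inQ b hb hbe)
  -- `w` commutes with `r`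
  have hwr : w * r = r * w := by
    have h5 : Commute (w * c) r := hbr
    have h6 : Commute c r := (hc r hrO).symm
    have h7 : w = (w * c) * c⁻¹ := by group
    have h8 : Commute ((w * c) * c⁻¹) r := h5.mul_left h6.inv_left
    rw [← h7] at h8
    exact h8.eq
  have hw1 : w = 1 := by
    have h5 : cj r w = w := cj_eq_self.2 hwr.symm
    have hne1 : e ≠ d := by
      intro h6
      rw [h6] at re
      rw [h6] at rd
      rw [rd] at re
      exact hd1 (by simpa using re.symm)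
    rcases hw with rfl | rfl | rfl | rfl
    · rfl
    · rw [rd] at h5; exact absurd h5 hne1
    · rw [re] at h5
      exact absurd (by simpa using h5) hd1
    · rw [rde] at h5
      exfalso
      apply hdl
      have : e = 1 := by simpa using h5.symm
      rw [this]; exact Z.one_mem
  rw [hw1, one_mul]
  exact hc y hy

end Cfsg.Agent.Omega.SQ1.TwistBlk

end

section


/-!
# Transvections and intrinsic blocks (project OMEGA, SQ1, L7; step (e) of #11855)

`V` is an elementary abelian 2-group, `X` a subgroup of `MulAut V`, `t l` (`l ∈ ι`, `ι` finite) are pairwise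
commuting, different transvections; every 2-subgroup of `X` has a conjugate in which the `X`-conjugates of the
`t l` are among the `t l`.  Then a subgroup of order 3 of `X` which is inverted by `t l` and centralised by the other
`t k` is unique (`unique_block`).
-/

set_option autoImplicit false

namespace Cfsg.Agent.Omega.SQ1.Transv

open Subgroup

universe u v

/-- A group generated by commuting involutions is a 2-group. -/
theorem isPGroup_closure {M : Type u} [Group M] {S : Set M} (h2 : ∀ s ∈ S, s * s = 1)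
    (hc : ∀ s ∈ S, ∀ t ∈ S, s * t = t * s) : IsPGroup 2 (closure S) := by
  have h1 : closure S ≤ centralizer (closure S : Set M) := by
    have h3 : S ⊆ centralizer S := fun s hs => mem_centralizer_iff.mpr fun t ht => hc t ht s hs
    have h4 : closure S ≤ centralizer S := (closure_le _).mpr h3
    have h5 : S ⊆ centralizer (closure S : Set M) := fun s hs =>
      mem_centralizer_iff.mpr fun t ht => (mem_centralizer_iff.mp (h4 ht) s hs).symm
    exact (closure_le _).mpr h5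
  have h3 : ∀ a ∈ closure S, a * a = 1 := by
    intro a ha
    induction ha using closure_induction with
    | mem x hx => exact h2 x hx
    | one => simp
    | mul x y hx hy ihx ihy =>
      have h6 : x * y = y * x := (mem_centralizer_iff.mp (h1 hy) x hx)
      calc x * y * (x * y) = x * (y * x) * y := by group
        _ = x * (x * y) * y := by rw [h6]
        _ = (x * x) * (y * y) := by group
        _ = 1 := by rw [ihx, ihy, one_mul]
    | inv x hx ih => rw [← mul_inv_rev, ih, inv_one]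
  rintro ⟨a, ha⟩
  refine ⟨1, Subtype.ext ?_⟩
  rw [pow_one, pow_two]
  exact h3 a ha

variable {V : Type u} [Group V]

/-- `σ` is a transvection with centre `c`. -/
structure IsTv (σ : MulAut V) (c : V) : Prop where
  ne : c ≠ 1
  act : ∀ v, σ v = v ∨ σ v = v * c
  mov : ∃ v, σ v ≠ v

theorem comm_of_sq (hV : ∀ v : V, v * v = 1) (v w : V) : v * w = w * v := by
  have h : (v * w)⁻¹ = v * w := inv_eq_of_mul_eq_one_right (hV _)
  rw [← h, mul_inv_rev, inv_eq_of_mul_eq_one_right (hV v), inv_eq_of_mul_eq_one_right (hV w)]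

section

variable {σ τ : MulAut V} {c b : V}

theorem IsTv.fix (hV : ∀ v : V, v * v = 1) (h : IsTv σ c) : σ c = c := by
  rcases h.act c with h1 | h1
  · exact h1
  · rw [hV c] at h1
    exact absurd ((map_eq_one_iff σ σ.injective).mp h1) h.ne

theorem IsTv.apply_apply (hV : ∀ v : V, v * v = 1) (h : IsTv σ c) (v : V) : σ (σ v) = v := by
  rcases h.act v with h1 | h1
  · rw [h1, h1]
  · rw [h1, map_mul, h1, h.fix hV, mul_assoc, hV c, mul_one]

theorem IsTv.sq (hV : ∀ v : V, v * v = 1) (h : IsTv σ c) : σ * σ = 1 := by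
  ext v
  exact h.apply_apply hV v

theorem IsTv.inv (hV : ∀ v : V, v * v = 1) (h : IsTv σ c) : σ⁻¹ = σ :=
  inv_eq_of_mul_eq_one_right (h.sq hV)

theorem IsTv.conj (h : IsTv σ c) (g : MulAut V) : IsTv (g * σ * g⁻¹) (g c) := by
  refine ⟨fun h1 => h.ne ((map_eq_one_iff g g.injective).mp h1), fun v => ?_, ?_⟩
  · have e : (g * σ * g⁻¹) v = g (σ (g⁻¹ v)) := rfl
    have e2 : g (g⁻¹ v) = v := by
      have : (g * g⁻¹) v = v := by rw [mul_inv_cancel]; rfl
      exact this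
    rcases h.act (g⁻¹ v) with h1 | h1
    · left; rw [e, h1, e2]
    · right; rw [e, h1, map_mul, e2]
  · obtain ⟨v, hv⟩ := h.mov
    refine ⟨g v, fun h1 => hv ?_⟩
    have e : (g * σ * g⁻¹) (g v) = g (σ v) := by
      have : (g⁻¹ * g) v = v := by rw [inv_mul_cancel]; rfl
      change g (σ (g⁻¹ (g v))) = _
      change g (σ ((g⁻¹ * g) v)) = _
      rw [this]
    rw [e] at h1
    exact g.injective h1

theorem IsTv.comm_of_fix (hV : ∀ v : V, v * v = 1) (h : IsTv σ c) (h' : IsTv τ b)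
    (h1 : σ b = b) (h2 : τ c = c) : σ * τ = τ * σ := by
  ext v
  change σ (τ v) = τ (σ v)
  rcases h.act v with h3 | h3 <;> rcases h'.act v with h4 | h4
  · rw [h3, h4, h3]
  · rw [h3, h4, map_mul, h3, h1]
  · rw [h3, h4, map_mul, h4, h2, h3]
  · rw [h3, h4, map_mul, h3, h1, map_mul, h4, h2, mul_assoc, mul_assoc, comm_of_sq hV c b]

theorem isPGroup_closure_pair_of_fix (hV : ∀ v : V, v * v = 1) (h : IsTv σ c) (h' : IsTv τ b)
    (h2 : τ c = c) : IsPGroup 2 (closure ({σ, τ} : Set (MulAut V))) := by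
  have : Fact (Nat.Prime 2) := ⟨Nat.prime_two⟩
  have hτ := h'.inv hV
  have hs : IsTv (τ * σ * τ⁻¹) c := by
    have := h.conj τ
    rwa [h2] at this
  have hcomm : σ * (τ * σ * τ⁻¹) = (τ * σ * τ⁻¹) * σ :=
    h.comm_of_fix hV hs (h.fix hV) (hs.fix hV)
  have h3 : IsPGroup 2 (closure ({σ, τ * σ * τ⁻¹} : Set (MulAut V))) := by
    refine isPGroup_closure ?_ ?_
    · rintro s (rfl | rfl)
      · exact h.sq hV
      · exact hs.sq hV
    · rintro s (rfl | rfl) t (rfl | rfl)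
      · rfl
      · exact hcomm
      · exact hcomm.symm
      · rfl
  have h4 : IsPGroup 2 (closure ({τ} : Set (MulAut V))) :=
    isPGroup_closure (by
        intro s hs
        rw [Set.mem_singleton_iff] at hs
        rw [hs]
        exact h'.sq hV)
      (by
        intro s hs t ht
        rw [Set.mem_singleton_iff] at hs ht
        rw [hs, ht])
  have hττ := h'.sq hV
  have h5 : closure ({τ} : Set (MulAut V)) ≤
      normalizer (closure ({σ, τ * σ * τ⁻¹} : Set (MulAut V)) : Set (MulAut V)) := by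
    rw [closure_le]
    intro s hs
    rw [Set.mem_singleton_iff] at hs
    rw [hs]
    have key : ∀ x ∈ closure ({σ, τ * σ * τ⁻¹} : Set (MulAut V)),
        τ * x * τ⁻¹ ∈ closure ({σ, τ * σ * τ⁻¹} : Set (MulAut V)) := by
      intro x hx
      have h6 : closure ({σ, τ * σ * τ⁻¹} : Set (MulAut V)) ≤
          (closure ({σ, τ * σ * τ⁻¹} : Set (MulAut V))).comap (MulAut.conj τ).toMonoidHom := by
        rw [closure_le]
        rintro s (rfl | rfl)
        · exact subset_closure (by simp)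
        · change τ * (τ * σ * τ⁻¹) * τ⁻¹ ∈ Subgroup.closure ({σ, τ * σ * τ⁻¹} : Set (MulAut V))
          have e : τ * (τ * σ * τ⁻¹) * τ⁻¹ = σ := by
            calc τ * (τ * σ * τ⁻¹) * τ⁻¹ = (τ * τ) * σ * (τ * τ)⁻¹ := by group
              _ = σ := by rw [hττ]; group
          rw [e]
          exact subset_closure (by simp)
      exact h6 hx
    rw [SetLike.mem_coe, mem_normalizer_iff]
    intro x
    refine ⟨key x, fun hx => ?_⟩
    have h7 := key _ hx
    have e : τ * (τ * x * τ⁻¹) * τ⁻¹ = x := by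
      calc τ * (τ * x * τ⁻¹) * τ⁻¹ = (τ * τ) * x * (τ * τ)⁻¹ := by group
        _ = x := by rw [hττ]; group
    rwa [e] at h7
  have h6 := IsPGroup.to_sup_of_normal_left' h3 h4 h5
  refine h6.to_le ((closure_le _).mpr ?_)
  intro s hs
  rcases hs with hs | hs
  · rw [hs]
    have h7 : σ ∈ Subgroup.closure ({σ, τ * σ * τ⁻¹} : Set (MulAut V)) := subset_closure (by simp)
    exact (le_sup_left : _ ≤ Subgroup.closure ({σ, τ * σ * τ⁻¹} : Set (MulAut V)) ⊔
      Subgroup.closure ({τ} : Set (MulAut V))) h7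
  · rw [Set.mem_singleton_iff] at hs
    rw [hs]
    have h7 : τ ∈ Subgroup.closure ({τ} : Set (MulAut V)) := subset_closure (by simp)
    exact (le_sup_right : _ ≤ Subgroup.closure ({σ, τ * σ * τ⁻¹} : Set (MulAut V)) ⊔
      Subgroup.closure ({τ} : Set (MulAut V))) h7

end

/-! ### The setting -/

/-- the `X`-conjugates of the `t l` -/
def Tc {ι : Type v} (X : Subgroup (MulAut V)) (t : ι → MulAut V) (σ : MulAut V) : Prop :=
  ∃ h ∈ X, ∃ l, σ = h * t l * h⁻¹

/-- `X` acts on `V`; every 2-subgroup of `X` has an `X`-conjugate in which the conjugates of the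
different commuting transvections `t l` are among the `t l`. -/
structure Sit {ι : Type v} (X : Subgroup (MulAut V)) (t : ι → MulAut V) (c : ι → V) : Prop where
  sq : ∀ v : V, v * v = 1
  tX : ∀ l, t l ∈ X
  tv : ∀ l, IsTv (t l) (c l)
  comm : ∀ k l, t k * t l = t l * t k
  inj : Function.Injective t
  syl : ∀ P : Subgroup (MulAut V), IsPGroup 2 P → P ≤ X →
    ∃ g ∈ X, ∀ σ ∈ P, Tc X t σ → ∃ l, g * σ * g⁻¹ = t l

variable {ι : Type v} {X : Subgroup (MulAut V)} {t : ι → MulAut V} {c : ι → V}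

theorem Sit.exists_tv (S : Sit X t c) {σ : MulAut V} (hσ : Tc X t σ) : ∃ b, IsTv σ b := by
  obtain ⟨h, -, l, rfl⟩ := hσ
  exact ⟨_, (S.tv l).conj h⟩

theorem Sit.mem_X (S : Sit X t c) {σ : MulAut V} (hσ : Tc X t σ) : σ ∈ X := by
  obtain ⟨h, hh, l, rfl⟩ := hσ
  exact X.mul_mem (X.mul_mem hh (S.tX l)) (X.inv_mem hh)

theorem Tc.conj {σ g : MulAut V} (hg : g ∈ X) (hσ : Tc X t σ) : Tc X t (g * σ * g⁻¹) := by
  obtain ⟨h, hh, l, rfl⟩ := hσ
  exact ⟨g * h, X.mul_mem hg hh, l, by group⟩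

theorem Tc.self (l : ι) : Tc X t (t l) := ⟨1, X.one_mem, l, by group⟩

theorem Sit.comm_of_isPGroup (S : Sit X t c) {σ τ : MulAut V} (hσ : Tc X t σ) (hτ : Tc X t τ)
    (hP : IsPGroup 2 (closure ({σ, τ} : Set (MulAut V)))) :
    σ * τ = τ * σ := by
  obtain ⟨g, -, hg⟩ := S.syl _ hP (by
    rw [closure_le]
    rintro s (rfl | rfl)
    · exact S.mem_X hσ
    · exact S.mem_X hτ)
  obtain ⟨l, hl⟩ := hg σ (subset_closure (by simp)) hσ
  obtain ⟨m, hm⟩ := hg τ (subset_closure (by simp)) hτ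
  have h1 : g * (σ * τ) * g⁻¹ = g * (τ * σ) * g⁻¹ := by
    calc g * (σ * τ) * g⁻¹ = (g * σ * g⁻¹) * (g * τ * g⁻¹) := by group
      _ = (g * τ * g⁻¹) * (g * σ * g⁻¹) := by rw [hl, hm, S.comm]
      _ = g * (τ * σ) * g⁻¹ := by group
  exact mul_left_cancel (mul_right_cancel h1)

/-- Noncommuting transvections move each other's centre. -/
theorem Sit.moves (S : Sit X t c) {σ τ : MulAut V} {a b : V} (hσ : Tc X t σ) (hτ : Tc X t τ)
    (h : IsTv σ a) (h' : IsTv τ b) (hne : σ * τ ≠ τ * σ) : σ b = b * a ∧ τ a = a * b := by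
  have hV := S.sq
  have h1 : ¬ σ b = b := by
    intro h1
    refine hne (S.comm_of_isPGroup hτ hσ ?_).symm
    exact isPGroup_closure_pair_of_fix hV h' h h1
  have h2 : ¬ τ a = a := by
    intro h2
    refine hne (S.comm_of_isPGroup hσ hτ ?_)
    exact isPGroup_closure_pair_of_fix hV h h' h2
  exact ⟨(h.act b).resolve_left h1, (h'.act a).resolve_left h2⟩

theorem Sit.mem_family (S : Sit X t c) [Finite ι] {s : ι → MulAut V} (hs : ∀ k, Tc X t (s k))
    (hsc : ∀ k l, s k * s l = s l * s k)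
    (hinj : Function.Injective s) {τ : MulAut V} (hτ : Tc X t τ)
    (hc : ∀ k, τ * s k = s k * τ) : ∃ k, τ = s k := by
  have hP : IsPGroup 2 (closure (Set.insert τ (Set.range s))) := by
    refine isPGroup_closure ?_ ?_
    · rintro x (rfl | ⟨k, rfl⟩)
      · obtain ⟨b, hb⟩ := S.exists_tv hτ
        exact hb.sq S.sq
      · obtain ⟨b, hb⟩ := S.exists_tv (hs k)
        exact hb.sq S.sq
    · rintro x (rfl | ⟨k, rfl⟩) y (rfl | ⟨l, rfl⟩)
      · rfl
      · exact hc l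
      · exact (hc k).symm
      · exact hsc k l
  obtain ⟨g, -, hg⟩ := S.syl _ hP (by
    rw [closure_le]
    rintro x (rfl | ⟨k, rfl⟩)
    · exact S.mem_X hτ
    · exact S.mem_X (hs k))
  have h1 : ∀ k, ∃ l, g * s k * g⁻¹ = t l := by
    intro k
    exact hg _ (subset_closure (Or.inr ⟨k, rfl⟩)) (hs k)
  choose p hp using h1
  have hpinj : Function.Injective p := by
    intro k l hkl
    refine hinj ?_
    have h2 : g * s k * g⁻¹ = g * s l * g⁻¹ := by rw [hp, hp, hkl]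
    exact mul_left_cancel (mul_right_cancel h2)
  have hpsurj := Finite.surjective_of_injective hpinj
  obtain ⟨m, hm⟩ := hg τ (subset_closure (Or.inl rfl)) hτ
  obtain ⟨k, hk⟩ := hpsurj m
  refine ⟨k, ?_⟩
  have h2 : g * τ * g⁻¹ = g * s k * g⁻¹ := by rw [hm, hp, hk]
  exact mul_left_cancel (mul_right_cancel h2)

/-- The block of order 3 inverted by `t l` and centralised by the other `t k` is unique. -/
theorem Sit.unique_block (S : Sit X t c) [Finite ι] {r y : MulAut V} (l : ι) (hr : r ∈ X)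
    (hy : y ∈ X) (hr3 : r * r * r = 1) (hr1 : r ≠ 1) (hy3 : y * y * y = 1) (hy1 : y ≠ 1)
    (hrl : t l * r * (t l)⁻¹ = r⁻¹) (hyl : t l * y * (t l)⁻¹ = y⁻¹)
    (hrk : ∀ k, k ≠ l → t k * r = r * t k) (hyk : ∀ k, k ≠ l → t k * y = y * t k) :
    y = r ∨ y = r⁻¹ := by
  classical
  have hV := S.sq
  have htt : t l * t l = 1 := (S.tv l).sq hV
  have hti : (t l)⁻¹ = t l := (S.tv l).inv hV
  -- general facts on the transvection `z t z⁻¹` for `z = r, y`
  have gen : ∀ z : MulAut V, z ∈ X → z * z * z = 1 → z ≠ 1 → t l * z * (t l)⁻¹ = z⁻¹ →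
      (∀ k, k ≠ l → t k * z = z * t k) →
      t l * (z * t l * z⁻¹) = z ∧ Tc X t (z * t l * z⁻¹) ∧ IsTv (z * t l * z⁻¹) (z (c l)) ∧
      (∀ k, k ≠ l → t k * (z * t l * z⁻¹) = (z * t l * z⁻¹) * t k) ∧
      (∀ k, k ≠ l → z * t l * z⁻¹ ≠ t k) ∧ t l * (z * t l * z⁻¹) ≠ (z * t l * z⁻¹) * t l := by
    intro z hz h3 h1 hl hk
    have hz2 : z⁻¹ * z⁻¹ = z := by
      have : z * z * z * (z⁻¹ * z⁻¹) = z⁻¹ * z⁻¹ := by rw [h3, one_mul]
      rw [← this]; group
    have e1 : t l * (z * t l * z⁻¹) = z := by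
      have : t l * z * t l = z⁻¹ := by rw [← hl, hti]
      calc t l * (z * t l * z⁻¹) = (t l * z * t l) * z⁻¹ := by group
        _ = z := by rw [this, hz2]
    refine ⟨e1, ⟨z, hz, l, rfl⟩, (S.tv l).conj z, ?_, ?_, ?_⟩
    · intro k hkl
      have h4 := hk k hkl
      have h5 : t k * z⁻¹ = z⁻¹ * t k := by
        rw [eq_inv_mul_iff_mul_eq, ← mul_assoc, ← h4, mul_assoc, mul_inv_cancel, mul_one]
      calc t k * (z * t l * z⁻¹) = (t k * z) * t l * z⁻¹ := by group
        _ = z * (t k * t l) * z⁻¹ := by rw [h4]; group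
        _ = z * t l * (t k * z⁻¹) := by rw [S.comm]; group
        _ = z * t l * z⁻¹ * t k := by rw [h5]; group
    · intro k hkl h4
      have h5 : z * t l = t k * z := by rw [← h4]; group
      rw [hk k hkl] at h5
      exact hkl (S.inj (mul_left_cancel h5)).symm
    · intro h4
      have h6 : z⁻¹ = z := by
        conv_lhs => rw [← e1, mul_inv_rev, ((S.tv l).conj z).inv hV, hti, ← h4]
        exact e1
      have h5 : z * z = 1 := by
        nth_rw 1 [← h6]
        rw [inv_mul_cancel]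
      exact h1 (by rw [h5, one_mul] at h3; exact h3)
  obtain ⟨ar, Xr, tvr, kr, ner, ncr⟩ := gen r hr hr3 hr1 hrl hrk
  obtain ⟨ay, Xy, tvy, ky, ney, ncy⟩ := gen y hy hy3 hy1 hyl hyk
  set τ : MulAut V := r * t l * r⁻¹ with hτ
  set τ' : MulAut V := y * t l * y⁻¹ with hτ'
  -- the family with `t l` replaced by `τ`
  have fam : ∀ ρ : MulAut V, Tc X t ρ → (∀ k, k ≠ l → t k * ρ = ρ * t k) →
      (∀ k, k ≠ l → ρ ≠ t k) → ρ * τ = τ * ρ → ρ = τ := by
    intro ρ hρ hρk hρne hρτ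
    obtain ⟨k, hk⟩ := S.mem_family (s := fun k => if k = l then τ else t k)
      (by intro k; split_ifs; exacts [Xr, Tc.self k])
      (by
        intro k m
        try dsimp only
        split_ifs with h1 h2 h2
        · rfl
        · exact (kr m h2).symm
        · exact kr k h1
        · exact S.comm k m)
      (by
        intro k m hkm
        try dsimp only at hkm
        split_ifs at hkm with h1 h2 h2
        · rw [h1, h2]
        · exact absurd hkm (ner m h2)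
        · exact absurd hkm.symm (ner k h1)
        · exact S.inj hkm) hρ
      (by
        intro k
        try dsimp only
        split_ifs with h1
        · exact hρτ
        · exact (hρk k h1).symm)
    try dsimp only at hk
    split_ifs at hk with h1
    · exact hk
    · exact absurd hk (hρne k h1)
  by_cases hc : τ' * τ = τ * τ'
  · left
    have h1 := fam τ' Xy ky ney hc
    rw [← ay, h1, ar]
  · right
    have m1 := S.moves (Tc.self l) Xr (S.tv l) tvr ncr
    have m2 := S.moves (Tc.self l) Xy (S.tv l) tvy ncy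
    have m3 := S.moves Xy Xr tvy tvr hc
    set c0 := c l
    set a := r c0
    set b := y c0
    -- `t l τ' t l`
    have hXρ : Tc X t (t l * τ' * (t l)⁻¹) := Xy.conj (S.tX l)
    have htvρ : IsTv (t l * τ' * (t l)⁻¹) (t l b) := tvy.conj (t l)
    have h1 : t l * τ' * (t l)⁻¹ = τ := by
      refine fam _ hXρ ?_ ?_ ?_
      · intro k hk
        rw [hti]
        calc t k * (t l * τ' * t l) = (t k * t l) * τ' * t l := by group
          _ = t l * (t k * τ') * t l := by rw [S.comm k l]; group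
          _ = t l * τ' * (t k * t l) := by rw [ky k hk]; group
          _ = t l * τ' * t l * t k := by rw [S.comm k l]; group
      · intro k hk h2
        refine ney k hk ?_
        have h3 : t l * τ' = t k * t l := by rw [← h2]; group
        rw [S.comm k l] at h3
        exact mul_left_cancel h3
      · refine htvρ.comm_of_fix hV tvr ?_ ?_
        · -- `t τ' t` fixes `a`
          change t l (τ' ((t l)⁻¹ a)) = a
          rw [hti, m1.1, map_mul, m3.1, m2.2, map_mul, map_mul, m1.1, m2.1, map_mul,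
            (S.tv l).fix hV, m2.1]
          have hcm := comm_of_sq hV
          calc a * c0 * (b * c0) * (c0 * (b * c0)) = a * (c0 * b) * (c0 * c0) * (b * c0) := by group
            _ = a * (b * c0) * (b * c0) := by rw [hV c0, hcm c0 b]; group
            _ = a := by rw [mul_assoc, hV, mul_one]
        · -- `τ` fixes `t b`
          rw [m2.1, map_mul, m3.2, m1.2]
          have hcm := comm_of_sq hV
          calc b * a * (c0 * a) = b * (a * c0) * a := by group
            _ = b * c0 * (a * a) := by rw [hcm a c0]; group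
            _ = b * c0 := by rw [hV a, mul_one]
    rw [← ay]
    have h2 : τ' = (t l)⁻¹ * τ * t l := by rw [← h1]; group
    rw [h2, ← ar, hti, mul_inv_rev, tvr.inv hV, hti]
    calc t l * (t l * τ * t l) = (t l * t l) * τ * t l := by group
      _ = τ * t l := by rw [htt, one_mul]

end Cfsg.Agent.Omega.SQ1.Transv

end

section


/-!
# The twisted Killing Lemma for `q = 2` (project OMEGA, SQ1, L7; #11855 (a)-(f)): algebra in `B`

`Tw B Q₁ Q₂ D e f d r r'` : `B = Q₁ Q₂`, `Q₁ = ⟨e k⟩ D`, `Q₂ = ⟨f k⟩ D` elementary abelian, `D = Z(B)`,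
`[e k, f l] = (d k)^{δ_kl}`; the blocks `⟨d k, e k, r k⟩`, `⟨d k, f k, r' k⟩` are isomorphic to `A₄` and
normalised by `B`.
-/

set_option autoImplicit false

namespace Cfsg.Agent.Omega.SQ1.TwistAlg

open Subgroup Cfsg.Agent.Omega.SQ1.TwistBase

universe u v

variable {G : Type u} [Group G] {ι : Type v}

/-- The group `B = Q₁ Q₂` with its blocks. -/
structure Tw (B Q₁ Q₂ D : Subgroup G) (e f d r r' : ι → G) : Prop where
  Q1B : Q₁ ≤ B
  Q2B : Q₂ ≤ B
  DQ1 : D ≤ Q₁
  DQ2 : D ≤ Q₂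
  eQ : ∀ k, e k ∈ Q₁
  fQ : ∀ k, f k ∈ Q₂
  dD : ∀ k, d k ∈ D
  gen : ∀ P : Subgroup G, Q₁ ≤ P → Q₂ ≤ P → B ≤ P
  gen1 : ∀ P : Subgroup G, (∀ k, e k ∈ P) → D ≤ P → Q₁ ≤ P
  gen2 : ∀ P : Subgroup G, (∀ k, f k ∈ P) → D ≤ P → Q₂ ≤ P
  Dc : ∀ z ∈ D, ∀ b ∈ B, z * b = b * z
  cent : ∀ b ∈ B, (∀ k, b * e k = e k * b) → (∀ k, b * f k = f k * b) → b ∈ D
  sq1 : ∀ a ∈ Q₁, a * a = 1
  sq2 : ∀ a ∈ Q₂, a * a = 1
  dinj : Function.Injective d
  fe : ∀ k, f k * e k = d k * (e k * f k)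
  fec : ∀ k l, k ≠ l → f l * e k = e k * f l
  blk : ∀ k, Blk B (d k) (e k) (r k)
  blk' : ∀ k, Blk B (d k) (f k) (r' k)

variable {B Q₁ Q₂ D : Subgroup G} {e f d r r' : ι → G}

/-- centraliser of `e i`, `f i` in `B` -/
def InC (B : Subgroup G) (a a' b : G) : Prop := b ∈ B ∧ b * a = a * b ∧ b * a' = a' * b

/-- the elements which act on the blocks in the same way -/
def Lm (r r' b : G) : Prop := (b * r = r * b ↔ b * r' = r' * b)

theorem inC_mul {a a' b b' : G} (hb : InC B a a' b) (hb' : InC B a a' b') :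
    InC B a a' (b * b') :=
  ⟨B.mul_mem hb.1 hb'.1, by rw [mul_assoc, hb'.2.1, ← mul_assoc, hb.2.1, mul_assoc],
    by rw [mul_assoc, hb'.2.2, ← mul_assoc, hb.2.2, mul_assoc]⟩

namespace Tw

theorem eB (h : Tw B Q₁ Q₂ D e f d r r') (k : ι) : e k ∈ B := h.Q1B (h.eQ k)
theorem fB (h : Tw B Q₁ Q₂ D e f d r r') (k : ι) : f k ∈ B := h.Q2B (h.fQ k)
theorem DB (h : Tw B Q₁ Q₂ D e f d r r') : D ≤ B := h.DQ1.trans h.Q1B
theorem dB (h : Tw B Q₁ Q₂ D e f d r r') (k : ι) : d k ∈ B := h.DB (h.dD k)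
theorem dd (h : Tw B Q₁ Q₂ D e f d r r') (k : ι) : d k * d k = 1 := h.sq1 _ (h.DQ1 (h.dD k))
theorem ee (h : Tw B Q₁ Q₂ D e f d r r') (k : ι) : e k * e k = 1 := h.sq1 _ (h.eQ k)
theorem ff (h : Tw B Q₁ Q₂ D e f d r r') (k : ι) : f k * f k = 1 := h.sq2 _ (h.fQ k)
theorem dc (h : Tw B Q₁ Q₂ D e f d r r') (k : ι) {b : G} (hb : b ∈ B) : d k * b = b * d k :=
  h.Dc _ (h.dD k) b hb
theorem dne (h : Tw B Q₁ Q₂ D e f d r r') (k : ι) : d k ≠ 1 := (h.blk k).dne
theorem di (h : Tw B Q₁ Q₂ D e f d r r') (k : ι) : (d k)⁻¹ = d k :=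
  inv_eq_of_mul_eq_one_right (h.dd k)

theorem comm1 (h : Tw B Q₁ Q₂ D e f d r r') {a b : G} (ha : a ∈ Q₁) (hb : b ∈ Q₁) :
    a * b = b * a := by
  have h1 : (a * b)⁻¹ = a * b := inv_eq_of_mul_eq_one_right (h.sq1 _ (Q₁.mul_mem ha hb))
  rw [← h1, mul_inv_rev, inv_eq_of_mul_eq_one_right (h.sq1 a ha),
    inv_eq_of_mul_eq_one_right (h.sq1 b hb)]

theorem comm2 (h : Tw B Q₁ Q₂ D e f d r r') {a b : G} (ha : a ∈ Q₂) (hb : b ∈ Q₂) :
    a * b = b * a := by
  have h1 : (a * b)⁻¹ = a * b := inv_eq_of_mul_eq_one_right (h.sq2 _ (Q₂.mul_mem ha hb))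
  rw [← h1, mul_inv_rev, inv_eq_of_mul_eq_one_right (h.sq2 a ha),
    inv_eq_of_mul_eq_one_right (h.sq2 b hb)]

theorem ef (h : Tw B Q₁ Q₂ D e f d r r') (k : ι) : e k * f k = d k * (f k * e k) := by
  rw [h.fe, ← mul_assoc, h.dd, one_mul]

/-- The two sides can be exchanged. -/
theorem symm (h : Tw B Q₁ Q₂ D e f d r r') : Tw B Q₂ Q₁ D f e d r' r where
  Q1B := h.Q2B
  Q2B := h.Q1B
  DQ1 := h.DQ2
  DQ2 := h.DQ1
  eQ := h.fQ
  fQ := h.eQ
  dD := h.dD
  gen := fun P h1 h2 => h.gen P h2 h1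
  gen1 := h.gen2
  gen2 := h.gen1
  Dc := h.Dc
  cent := fun b hb h1 h2 => h.cent b hb h2 h1
  sq1 := h.sq2
  sq2 := h.sq1
  dinj := h.dinj
  fe := h.ef
  fec := fun k l hkl => (h.fec l k hkl.symm).symm
  blk := h.blk'
  blk' := h.blk

/-- induction over `B` -/
theorem gen3 (h : Tw B Q₁ Q₂ D e f d r r') (P : Subgroup G) (h1 : ∀ k, e k ∈ P)
    (h2 : ∀ k, f k ∈ P) (h3 : D ≤ P) : B ≤ P := h.gen P (h.gen1 P h1 h3) (h.gen2 P h2 h3)

/-- `B / D` is abelian -/
theorem ab (h : Tw B Q₁ Q₂ D e f d r r') {a b : G} (ha : a ∈ B) (hb : b ∈ B) :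
    cj b a * a⁻¹ ∈ D := by
  -- first for `b` arbitrary and `a` a generator
  have hee : ∀ k l, cj (e l) (e k) = e k := fun k l => cj_eq_iff.mpr (h.comm1 (h.eQ l) (h.eQ k))
  have hff : ∀ k l, cj (f l) (f k) = f k := fun k l => cj_eq_iff.mpr (h.comm2 (h.fQ l) (h.fQ k))
  have gena : ∀ a ∈ B, (∀ l, cj (e l) a * a⁻¹ ∈ D) → (∀ l, cj (f l) a * a⁻¹ ∈ D) →
      ∀ b ∈ B, cj b a * a⁻¹ ∈ D := by
    intro a ha h1 h2
    let P : Subgroup G :=
      { carrier := {b | b ∈ B ∧ cj b a * a⁻¹ ∈ D}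
        mul_mem' := by
          rintro x y ⟨hx, hx'⟩ ⟨hy, hy'⟩
          refine ⟨B.mul_mem hx hy, ?_⟩
          have e1 : cj (x * y) a * a⁻¹ = (cj y a * a⁻¹) * (cj x a * a⁻¹) := by
            have h3 : cj x (cj y a * a⁻¹) = cj y a * a⁻¹ := cj_eq_iff.mpr (h.Dc _ hy' x hx).symm
            have h4 : cj y a = (cj y a * a⁻¹) * a := by group
            rw [mul_cj]
            nth_rw 1 [h4]
            rw [cj_mul, h3, mul_assoc]
          rw [e1]
          exact D.mul_mem hy' hx'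
        one_mem' := ⟨B.one_mem, by
          have : cj (1 : G) a * a⁻¹ = 1 := by unfold cj; group
          rw [this]; exact D.one_mem⟩
        inv_mem' := by
          rintro x ⟨hx, hx'⟩
          refine ⟨B.inv_mem hx, ?_⟩
          have h3 : cj x⁻¹ (cj x a * a⁻¹) = cj x a * a⁻¹ :=
            cj_eq_iff.mpr (h.Dc _ hx' x⁻¹ (B.inv_mem hx)).symm
          rw [cj_mul, cj_inv_cj, cj_inv] at h3
          have h4 : cj x⁻¹ a * a⁻¹ = (cj x a * a⁻¹)⁻¹ := by
            rw [← h3, mul_inv_rev, inv_inv]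
          rw [h4]
          exact D.inv_mem hx' }
    have hle : B ≤ P := by
      refine h.gen3 P (fun k => ⟨h.eB k, h1 k⟩) (fun k => ⟨h.fB k, h2 k⟩) fun z hz => ⟨h.DB hz, ?_⟩
      have : cj z a * a⁻¹ = 1 := by
        rw [cj_eq_iff.mpr (h.Dc z hz a ha), mul_inv_cancel]
      rw [this]
      exact D.one_mem
    exact fun b hb => (hle hb).2
  have he : ∀ k, ∀ b ∈ B, cj b (e k) * (e k)⁻¹ ∈ D := by
    intro k
    refine gena _ (h.eB k) (fun l => ?_) fun l => ?_
    · rw [hee, mul_inv_cancel]; exact D.one_mem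
    · by_cases hkl : k = l
      · subst hkl
        have : cj (f k) (e k) * (e k)⁻¹ = d k := by
          unfold cj; rw [h.fe]; group
        rw [this]; exact h.dD k
      · rw [cj_eq_iff.mpr (h.fec k l hkl), mul_inv_cancel]; exact D.one_mem
  have hf : ∀ k, ∀ b ∈ B, cj b (f k) * (f k)⁻¹ ∈ D := by
    intro k
    refine gena _ (h.fB k) (fun l => ?_) fun l => ?_
    · by_cases hkl : k = l
      · subst hkl
        have : cj (e k) (f k) * (f k)⁻¹ = d k := by
          unfold cj; rw [h.ef]; group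
        rw [this]; exact h.dD k
      · rw [cj_eq_iff.mpr (h.fec l k (Ne.symm hkl)).symm, mul_inv_cancel]; exact D.one_mem
    · rw [hff, mul_inv_cancel]; exact D.one_mem
  let P : Subgroup G :=
    { carrier := {a | a ∈ B ∧ ∀ b ∈ B, cj b a * a⁻¹ ∈ D}
      mul_mem' := by
        rintro x y ⟨hx, hx'⟩ ⟨hy, hy'⟩
        refine ⟨B.mul_mem hx hy, fun b hb => ?_⟩
        have e1 : cj b (x * y) * (x * y)⁻¹ = cj b x * (cj b y * y⁻¹) * x⁻¹ := by
          rw [cj_mul]; group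
        have e2 : cj b x * (cj b y * y⁻¹) * x⁻¹ = (cj b y * y⁻¹) * (cj b x * x⁻¹) := by
          rw [← h.Dc _ (hy' b hb) (cj b x) (B.mul_mem (B.mul_mem hb hx) (B.inv_mem hb)), mul_assoc]
        rw [e1, e2]
        exact D.mul_mem (hy' b hb) (hx' b hb)
      one_mem' := ⟨B.one_mem, fun b _ => by rw [cj_one]; simp⟩
      inv_mem' := by
        rintro x ⟨hx, hx'⟩
        refine ⟨B.inv_mem hx, fun b hb => ?_⟩
        have e1 : cj b x⁻¹ * x⁻¹⁻¹ = x⁻¹ * (x * (cj b x)⁻¹) * x := by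
          rw [cj_inv]; group
        have e2 : x * (cj b x)⁻¹ = (cj b x * x⁻¹)⁻¹ := by group
        rw [e1, e2]
        have h3 := h.Dc _ (D.inv_mem (hx' b hb)) x hx
        rw [mul_assoc, h3]
        have : x⁻¹ * (x * (cj b x * x⁻¹)⁻¹) = (cj b x * x⁻¹)⁻¹ := by group
        rw [this]
        exact D.inv_mem (hx' b hb) }
  have hle : B ≤ P := by
    refine h.gen3 P (fun k => ⟨h.eB k, he k⟩) (fun k => ⟨h.fB k, hf k⟩) fun z hz => ⟨h.DB hz, ?_⟩
    intro b hb
    rw [cj_eq_iff.mpr (h.Dc z hz b hb).symm, mul_inv_cancel]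
    exact D.one_mem
  exact (hle ha).2 b hb

/-- `B` acts on `e k` by `d k`. -/
theorem diche (h : Tw B Q₁ Q₂ D e f d r r') (k : ι) {b : G} (hb : b ∈ B) :
    cj b (e k) = e k ∨ cj b (e k) = d k * e k := by
  let P : Subgroup G :=
    { carrier := {b | b ∈ B ∧ (cj b (e k) = e k ∨ cj b (e k) = d k * e k)}
      mul_mem' := by
        rintro x y ⟨hx, hx'⟩ ⟨hy, hy'⟩
        refine ⟨B.mul_mem hx hy, ?_⟩
        have h3 : cj x (d k) = d k := cj_eq_iff.mpr (h.dc k hx).symm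
        rcases hx' with h1 | h1 <;> rcases hy' with h2 | h2
        · left; rw [mul_cj, h2, h1]
        · right; rw [mul_cj, h2, cj_mul, h3, h1]
        · right; rw [mul_cj, h2, h1]
        · left; rw [mul_cj, h2, cj_mul, h3, h1, ← mul_assoc, h.dd, one_mul]
      one_mem' := ⟨B.one_mem, Or.inl (by unfold cj; group)⟩
      inv_mem' := by
        rintro x ⟨hx, hx'⟩
        refine ⟨B.inv_mem hx, ?_⟩
        have h3 : cj x⁻¹ (d k) = d k := cj_eq_iff.mpr (h.dc k (B.inv_mem hx)).symm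
        rcases hx' with h1 | h1
        · left; nth_rw 1 [← h1]; rw [cj_inv_cj]
        · right
          have h2 : e k = d k * cj x⁻¹ (e k) := by
            nth_rw 1 [← cj_inv_cj x (e k)]
            rw [h1, cj_mul, h3]
          nth_rw 2 [h2]
          rw [← mul_assoc, h.dd, one_mul] }
  have hle : B ≤ P := by
    refine h.gen3 P (fun l => ⟨h.eB l, Or.inl (cj_eq_iff.mpr (h.comm1 (h.eQ l) (h.eQ k)))⟩)
      (fun l => ⟨h.fB l, ?_⟩) fun z hz => ⟨h.DB hz, Or.inl (cj_eq_iff.mpr (h.Dc z hz _ (h.eB k)))⟩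
    by_cases hkl : k = l
    · subst hkl; right; unfold cj; rw [h.fe]; group
    · left; exact cj_eq_iff.mpr (h.fec k l hkl)
  exact (hle hb).2

theorem dichf (h : Tw B Q₁ Q₂ D e f d r r') (k : ι) {b : G} (hb : b ∈ B) :
    cj b (f k) = f k ∨ cj b (f k) = d k * f k := h.symm.diche k hb

theorem mulR (h : Tw B Q₁ Q₂ D e f d r r') {i : ι} {b b' : G} (hb : InC B (e i) (f i) b)
    (hb' : InC B (e i) (f i) b') :
    (b * b' * r i = r i * (b * b')) ↔ (b * r i = r i * b ↔ b' * r i = r i * b') :=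
  (h.blk i).iff_mul (h.fB i) (h.fe i) hb.1 hb.2.1 hb.2.2 hb'.1 hb'.2.1 hb'.2.2

theorem mulR' (h : Tw B Q₁ Q₂ D e f d r r') {i : ι} {b b' : G} (hb : InC B (e i) (f i) b)
    (hb' : InC B (e i) (f i) b') :
    (b * b' * r' i = r' i * (b * b')) ↔ (b * r' i = r' i * b ↔ b' * r' i = r' i * b') :=
  (h.blk' i).iff_mul (h.eB i) (h.ef i) hb.1 hb.2.2 hb.2.1 hb'.1 hb'.2.2 hb'.2.1

theorem mulLm (h : Tw B Q₁ Q₂ D e f d r r') {i : ι} {b b' : G} (hb : InC B (e i) (f i) b)
    (hb' : InC B (e i) (f i) b') : Lm (r i) (r' i) (b * b') ↔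
      (Lm (r i) (r' i) b ↔ Lm (r i) (r' i) b') := by
  unfold Lm
  rw [h.mulR hb hb', h.mulR' hb hb']
  tauto

theorem inC_of_D (h : Tw B Q₁ Q₂ D e f d r r') {z : G} (hz : z ∈ D) (i : ι) :
    InC B (e i) (f i) z := ⟨h.DB hz, h.Dc z hz _ (h.eB i), h.Dc z hz _ (h.fB i)⟩

theorem inC_e (h : Tw B Q₁ Q₂ D e f d r r') {i k : ι} (hik : k ≠ i) :
    InC B (e i) (f i) (e k) := ⟨h.eB k, h.comm1 (h.eQ k) (h.eQ i), (h.fec k i hik).symm⟩

theorem inC_f (h : Tw B Q₁ Q₂ D e f d r r') {i k : ι} (hik : k ≠ i) :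
    InC B (e i) (f i) (f k) := ⟨h.fB k, h.fec i k hik.symm, h.comm2 (h.fQ k) (h.fQ i)⟩

/-- an element with trivial `λ_i` is in `B^` up to `d i` -/
theorem exists_bh (h : Tw B Q₁ Q₂ D e f d r r') {i : ι} {b : G} (hb : InC B (e i) (f i) b)
    (hL : Lm (r i) (r' i) b) :
    ∃ z ∈ D, b * z * r i = r i * (b * z) ∧ b * z * r' i = r' i * (b * z) := by
  by_cases h1 : b * r i = r i * b
  · refine ⟨1, D.one_mem, ?_⟩
    rw [mul_one]
    exact ⟨h1, hL.mp h1⟩
  · have h2 : ¬ b * r' i = r' i * b := fun h3 => h1 (hL.mpr h3)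
    have hd := h.inC_of_D (h.dD i) i
    refine ⟨d i, h.dD i, ?_, ?_⟩
    · rw [h.mulR hb hd]
      have := (h.blk i).not_comm_d
      tauto
    · rw [h.mulR' hb hd]
      have := (h.blk' i).not_comm_d
      tauto

/-- an element of `B` which commutes with `r i`, `r' i` is in `InC`. -/
theorem inC_of_comm (h : Tw B Q₁ Q₂ D e f d r r') {i : ι} {b : G} (hb : b ∈ B)
    (h1 : b * r i = r i * b) (h2 : b * r' i = r' i * b) : InC B (e i) (f i) b := by
  have key : ∀ s c : G, b * s = s * b → cj s (d i) = c → b * c = c * b := by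
    intro s c h3 h4
    have h5 := h.dc i hb
    rw [← h4]
    unfold cj
    have h6 : b * s⁻¹ = s⁻¹ * b := by
      rw [eq_inv_mul_iff_mul_eq, ← mul_assoc, ← h3, mul_assoc, mul_inv_cancel, mul_one]
    calc b * (s * d i * s⁻¹) = (b * s) * d i * s⁻¹ := by group
      _ = s * (b * d i) * s⁻¹ := by rw [h3]; group
      _ = s * d i * (b * s⁻¹) := by rw [← h5]; group
      _ = s * d i * s⁻¹ * b := by rw [h6]; group
  exact ⟨hb, key _ _ h1 (h.blk i).rd, key _ _ h2 (h.blk' i).rd⟩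

/-- the elements of `B^` are determined modulo `D`; `g ∈ Z(B^)` commutes with the elements with `Lm` -/
theorem comm_of_Lm (h : Tw B Q₁ Q₂ D e f d r r') {i : ι} {g : G} (hg : g ∈ B)
    (hc : ∀ c ∈ B, c * r i = r i * c → c * r' i = r' i * c → g * c = c * g) {b : G}
    (hb : InC B (e i) (f i) b) (hL : Lm (r i) (r' i) b) : g * b = b * g := by
  obtain ⟨z, hz, h1, h2⟩ := h.exists_bh hb hL
  have h3 := hc (b * z) (B.mul_mem hb.1 (h.DB hz)) h1 h2
  have h4 : g * b * z = b * g * z := by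
    rw [mul_assoc, h3, mul_assoc, h.Dc z hz g hg, mul_assoc]
  exact mul_right_cancel h4

end Tw

end Cfsg.Agent.Omega.SQ1.TwistAlg

end

section


/-!
# The twisted Killing Lemma for `q = 2` (project OMEGA, SQ1, L7; #11855 (a)-(f)): the twist `λ_i`

If `λ_i` vanishes on `D` and there is an element `g ∈ Z(B^)` outside `D`, then `λ_i` is supported on one index
`j`, and by symmetry `λ_i(e j) = λ_i(f j) = 1`, `g ∈ e j f j D`.
-/

set_option autoImplicit false

namespace Cfsg.Agent.Omega.SQ1.TwistSym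

open Subgroup Cfsg.Agent.Omega.SQ1.TwistBase Cfsg.Agent.Omega.SQ1.TwistAlg

universe u v

variable {G : Type u} [Group G] {ι : Type v}

/-- `x` maps the blocks `(e, r)` to the blocks `(e', r')`, with the permutation `p` of the indices. -/
structure Half (D : Subgroup G) (d e r e' r' : ι → G) (x : G) (p : ι → ι) : Prop where
  xe : ∀ k, ∃ z ∈ D, cj x (e k) = e' (p k) * z
  xr : ∀ k, ∃ v, InV (d (p k)) (e' (p k)) v ∧
    (cj x (r k) = r' (p k) * v ∨ cj x (r k) = (r' (p k))⁻¹ * v)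

/-- a symmetry of the configuration preserving the sides -/
structure Sym (B D : Subgroup G) (e f d r r' : ι → G) (x : G) (p : ι → ι) : Prop where
  xB : x ∈ normalizer (B : Set G)
  xD : x ∈ normalizer (D : Set G)
  h1 : Half D d e r e r x p
  h2 : Half D d f r' f r' x p

/-- a symmetry of the configuration which exchanges the sides -/
structure Anti (B D : Subgroup G) (e f d r r' : ι → G) (x : G) (p : ι → ι) : Prop where
  xB : x ∈ normalizer (B : Set G)
  xD : x ∈ normalizer (D : Set G)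
  h1 : Half D d e r f r' x p
  h2 : Half D d f r' e r x p

variable {B Q₁ Q₂ D : Subgroup G} {e f d r r' : ι → G}

theorem norm_mem {A : Subgroup G} {x a : G} (hx : x ∈ normalizer (A : Set G)) (ha : a ∈ A) :
    cj x a ∈ A := (mem_normalizer_iff.1 hx a).1 ha

theorem norm_mem_iff {A : Subgroup G} {x a : G} (hx : x ∈ normalizer (A : Set G)) :
    cj x a ∈ A ↔ a ∈ A := ((mem_normalizer_iff.1 hx a)).symm

/-- `cj x b` commutes with `r' (p k)` iff `b` commutes with `r k`. -/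
theorem Half.comm_iff {e₁ r₁ e₂ r₂ : ι → G} {x : G} {p : ι → ι}
    (H : Half D d e₁ r₁ e₂ r₂ x p) (hblk : ∀ k, Blk B (d k) (e₂ k) (r₂ k))
    (hD : ∀ z ∈ D, ∀ b ∈ B, z * b = b * z)
    (hx : x ∈ normalizer (B : Set G)) (k : ι) {b : G} (hb : b ∈ B)
    (hbe : b * e₁ k = e₁ k * b) :
    (cj x b * r₂ (p k) = r₂ (p k) * cj x b) ↔ b * r₁ k = r₁ k * b := by
  obtain ⟨z, hz, hxe⟩ := H.xe k
  obtain ⟨v, hv, hxr⟩ := H.xr k
  have hcB : cj x b ∈ B := norm_mem hx hb
  -- `cj x b` commutes with `e₂ (p k)`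
  have h1 : cj x b * e₂ (p k) = e₂ (p k) * cj x b := by
    have h2 : cj x b * cj x (e₁ k) = cj x (e₁ k) * cj x b := cj_comm_iff.mpr hbe
    rw [hxe] at h2
    have h3 := hD z hz _ hcB
    have h4 : cj x b * e₂ (p k) * z = e₂ (p k) * cj x b * z := by
      rw [mul_assoc, h2, mul_assoc, h3, mul_assoc]
    exact mul_right_cancel h4
  have h2 : cj x b * v = v * cj x b := hv.comm (hblk (p k)) hcB h1
  have h3 : (b * r₁ k = r₁ k * b) ↔ cj x b * cj x (r₁ k) = cj x (r₁ k) * cj x b :=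
    cj_comm_iff.symm
  rw [h3]
  have key : ∀ s : G, (cj x b * (s * v) = (s * v) * cj x b) ↔ cj x b * s = s * cj x b := by
    intro s
    constructor
    · intro h4
      have h5 : cj x b * s * v = s * cj x b * v := by
        rw [mul_assoc, h4, mul_assoc, ← h2, mul_assoc]
      exact mul_right_cancel h5
    · intro h4
      rw [← mul_assoc, h4, mul_assoc, h2, mul_assoc]
  have kinv : ∀ s : G, (cj x b * s⁻¹ = s⁻¹ * cj x b) ↔ cj x b * s = s * cj x b := by
    intro s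
    constructor
    · intro h4
      have h5 : Commute (cj x b) s⁻¹ := h4
      exact (Commute.inv_right_iff.mp h5).eq
    · intro h4
      have h5 : Commute (cj x b) s := h4
      exact h5.inv_right.eq
  rcases hxr with h4 | h4
  · rw [h4, key]
  · rw [h4, key, kinv]

theorem conj_d (hDB : D ≤ B) (hD : ∀ z ∈ D, ∀ b ∈ B, z * b = b * z) {x F E F' E' δ δ' z z' : G}
    (hF : F * E = δ * (E * F)) (hF' : F' * E' = δ' * (E' * F')) (hE'B : E' ∈ B) (hF'B : F' ∈ B)
    (hz : z ∈ D) (hz' : z' ∈ D) (hE : cj x E = E' * z) (hFx : cj x F = F' * z') :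
    cj x δ = δ' := by
  have h1 := congrArg (cj x) hF
  rw [cj_mul, cj_mul, cj_mul, hFx, hE] at h1
  have c1 := hD z' hz' _ hE'B
  have c2 := hD z hz _ hF'B
  have c3 := hD z hz _ (hDB hz')
  have e1 : F' * z' * (E' * z) = F' * E' * (z' * z) := by
    calc F' * z' * (E' * z) = F' * (z' * E') * z := by group
      _ = F' * E' * (z' * z) := by rw [c1]; group
  have e2 : E' * z * (F' * z') = E' * F' * (z' * z) := by
    calc E' * z * (F' * z') = E' * (z * F') * z' := by group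
      _ = E' * F' * (z * z') := by rw [c2]; group
      _ = E' * F' * (z' * z) := by rw [c3]
  rw [e1, e2, ← mul_assoc (cj x δ)] at h1
  have h2 := mul_right_cancel h1
  rw [hF'] at h2
  exact (mul_right_cancel h2).symm

namespace Sym

variable {x : G} {p : ι → ι}

theorem xd (S : Sym B D e f d r r' x p) (h : Tw B Q₁ Q₂ D e f d r r') (k : ι) :
    cj x (d k) = d (p k) := by
  obtain ⟨z, hz, h1⟩ := S.h1.xe k
  obtain ⟨z', hz', h2⟩ := S.h2.xe k
  exact conj_d h.DB h.Dc (h.fe k) (h.fe (p k)) (h.eB _) (h.fB _) hz hz' h1 h2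

theorem inj (S : Sym B D e f d r r' x p) (h : Tw B Q₁ Q₂ D e f d r r') : Function.Injective p := by
  intro k l hkl
  apply h.dinj
  have h1 := S.xd h k
  rw [hkl, ← S.xd h l] at h1
  exact cj_inj h1

/-- transfer of `InC` -/
theorem inC (S : Sym B D e f d r r' x p) (h : Tw B Q₁ Q₂ D e f d r r') {k : ι} {b : G}
    (hb : InC B (e k) (f k) b) : InC B (e (p k)) (f (p k)) (cj x b) := by
  have hcB : cj x b ∈ B := norm_mem S.xB hb.1
  refine ⟨hcB, ?_, ?_⟩
  · obtain ⟨z, hz, h1⟩ := S.h1.xe k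
    have h2 : cj x b * cj x (e k) = cj x (e k) * cj x b := cj_comm_iff.mpr hb.2.1
    rw [h1] at h2
    have h3 := h.Dc z hz _ hcB
    have h4 : cj x b * e (p k) * z = e (p k) * cj x b * z := by
      rw [mul_assoc, h2, mul_assoc, h3, mul_assoc]
    exact mul_right_cancel h4
  · obtain ⟨z, hz, h1⟩ := S.h2.xe k
    have h2 : cj x b * cj x (f k) = cj x (f k) * cj x b := cj_comm_iff.mpr hb.2.2
    rw [h1] at h2
    have h3 := h.Dc z hz _ hcB
    have h4 : cj x b * f (p k) * z = f (p k) * cj x b * z := by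
      rw [mul_assoc, h2, mul_assoc, h3, mul_assoc]
    exact mul_right_cancel h4

/-- transfer of `Lm` -/
theorem lm (S : Sym B D e f d r r' x p) (h : Tw B Q₁ Q₂ D e f d r r') {k : ι} {b : G}
    (hb : InC B (e k) (f k) b) :
    Lm (r (p k)) (r' (p k)) (cj x b) ↔ Lm (r k) (r' k) b := by
  unfold Lm
  rw [S.h1.comm_iff h.blk h.Dc S.xB k hb.1 hb.2.1, S.h2.comm_iff h.blk' h.Dc S.xB k hb.1 hb.2.2]

theorem lmD (S : Sym B D e f d r r' x p) (h : Tw B Q₁ Q₂ D e f d r r') {k : ι}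
    (hk : ∀ z ∈ D, Lm (r k) (r' k) z) : ∀ z ∈ D, Lm (r (p k)) (r' (p k)) z := by
  intro z hz
  have h1 : cj x⁻¹ z ∈ D := norm_mem (inv_mem S.xD) hz
  have h2 := (S.lm h (h.inC_of_D h1 k)).mpr (hk _ h1)
  rwa [cj_cj_inv] at h2

theorem lme (S : Sym B D e f d r r' x p) (h : Tw B Q₁ Q₂ D e f d r r') {k l : ι} (hkl : l ≠ k)
    (hk : ∀ z ∈ D, Lm (r (p k)) (r' (p k)) z) :
    Lm (r (p k)) (r' (p k)) (e (p l)) ↔ Lm (r k) (r' k) (e l) := by
  obtain ⟨z, hz, h1⟩ := S.h1.xe l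
  rw [← S.lm h (h.inC_e hkl), h1,
    h.mulLm (h.inC_e (fun h2 => hkl (S.inj h h2))) (h.inC_of_D hz _)]
  have := hk z hz
  tauto

theorem lmf (S : Sym B D e f d r r' x p) (h : Tw B Q₁ Q₂ D e f d r r') {k l : ι} (hkl : l ≠ k)
    (hk : ∀ z ∈ D, Lm (r (p k)) (r' (p k)) z) :
    Lm (r (p k)) (r' (p k)) (f (p l)) ↔ Lm (r k) (r' k) (f l) := by
  obtain ⟨z, hz, h1⟩ := S.h2.xe l
  rw [← S.lm h (h.inC_f hkl), h1,
    h.mulLm (h.inC_f (fun h2 => hkl (S.inj h h2))) (h.inC_of_D hz _)]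
  have := hk z hz
  tauto

end Sym

namespace Anti

variable {x : G} {p : ι → ι}

theorem xd (S : Anti B D e f d r r' x p) (h : Tw B Q₁ Q₂ D e f d r r') (k : ι) :
    cj x (d k) = d (p k) := by
  obtain ⟨z, hz, h1⟩ := S.h1.xe k
  obtain ⟨z', hz', h2⟩ := S.h2.xe k
  exact conj_d h.DB h.Dc (h.fe k) (h.ef (p k)) (h.fB _) (h.eB _) hz hz' h1 h2

theorem inj (S : Anti B D e f d r r' x p) (h : Tw B Q₁ Q₂ D e f d r r') : Function.Injective p := by
  intro k l hkl
  apply h.dinj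
  have h1 := S.xd h k
  rw [hkl, ← S.xd h l] at h1
  exact cj_inj h1

theorem lm (S : Anti B D e f d r r' x p) (h : Tw B Q₁ Q₂ D e f d r r') {k : ι} {b : G}
    (hb : InC B (e k) (f k) b) :
    Lm (r (p k)) (r' (p k)) (cj x b) ↔ Lm (r k) (r' k) b := by
  unfold Lm
  rw [S.h1.comm_iff h.blk' h.Dc S.xB k hb.1 hb.2.1, S.h2.comm_iff h.blk h.Dc S.xB k hb.1 hb.2.2]
  tauto

theorem lme (S : Anti B D e f d r r' x p) (h : Tw B Q₁ Q₂ D e f d r r') {k l : ι} (hkl : l ≠ k)
    (hk : ∀ z ∈ D, Lm (r (p k)) (r' (p k)) z) :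
    Lm (r (p k)) (r' (p k)) (f (p l)) ↔ Lm (r k) (r' k) (e l) := by
  obtain ⟨z, hz, h1⟩ := S.h1.xe l
  rw [← S.lm h (h.inC_e hkl), h1,
    h.mulLm (h.inC_f (fun h2 => hkl (S.inj h h2))) (h.inC_of_D hz _)]
  have := hk z hz
  tauto

theorem lmf (S : Anti B D e f d r r' x p) (h : Tw B Q₁ Q₂ D e f d r r') {k l : ι} (hkl : l ≠ k)
    (hk : ∀ z ∈ D, Lm (r (p k)) (r' (p k)) z) :
    Lm (r (p k)) (r' (p k)) (e (p l)) ↔ Lm (r k) (r' k) (f l) := by
  obtain ⟨z, hz, h1⟩ := S.h2.xe l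
  rw [← S.lm h (h.inC_f hkl), h1,
    h.mulLm (h.inC_e (fun h2 => hkl (S.inj h h2))) (h.inC_of_D hz _)]
  have := hk z hz
  tauto

end Anti

/-- The symmetric situation: `λ_i` vanishes on `D` for all `i`. -/
structure Hom (B Q₁ Q₂ D : Subgroup G) (e f d r r' : ι → G) : Prop
    extends Tw B Q₁ Q₂ D e f d r r' where
  sym : ∀ i i', ∃ x p, Sym B D e f d r r' x p ∧ p i = i'
  anti : ∃ x p, Anti B D e f d r r' x p

namespace Hom

/-- `λ_i` vanishes on `D` for one `i`, hence for all `i`. -/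
theorem lmD (h : Hom B Q₁ Q₂ D e f d r r') {i : ι} (hi : ∀ z ∈ D, Lm (r i) (r' i) z) (k : ι) :
    ∀ z ∈ D, Lm (r k) (r' k) z := by
  obtain ⟨x, p, S, rfl⟩ := h.sym i k
  exact S.lmD h.toTw hi

variable [Finite ι]

/-- If `λ_i` is supported on `j`, then `λ_i(e j) = λ_i(f j) = 1`. -/
theorem both (h : Hom B Q₁ Q₂ D e f d r r') {i j : ι} (hi : ∀ z ∈ D, Lm (r i) (r' i) z)
    (hij : j ≠ i) (hs : ∀ k, k ≠ i → k ≠ j → Lm (r i) (r' i) (e k) ∧ Lm (r i) (r' i) (f k))
    (hj : ¬ Lm (r i) (r' i) (e j) ∨ ¬ Lm (r i) (r' i) (f j)) :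
    ¬ Lm (r i) (r' i) (e j) ∧ ¬ Lm (r i) (r' i) (f j) := by
  obtain ⟨x, p, A⟩ := h.anti
  obtain ⟨y, q, S, hqp⟩ := h.sym i (p i)
  have hD := h.lmD hi (p i)
  have hD' := h.lmD hi (q i)
  have a1 := A.lme h.toTw hij hD
  have a2 := A.lmf h.toTw hij hD
  have s1 := S.lme h.toTw hij hD'
  have s2 := S.lmf h.toTw hij hD'
  have hpq : q j = p j := by
    obtain ⟨m, hm⟩ := (Finite.surjective_of_injective (A.inj h.toTw)) (q j)
    by_cases hmj : m = j
    · rw [← hm, hmj]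
    · exfalso
      have hmi : m ≠ i := by
        intro hmi
        rw [hmi, ← hqp] at hm
        exact hij (S.inj h.toTw hm).symm
      have b1 := A.lme h.toTw hmi hD
      have b2 := A.lmf h.toTw hmi hD
      have b3 := hs m hmi hmj
      rw [hm, ← hqp] at b1 b2
      rw [hqp] at s1 s2
      rw [hqp] at b1 b2
      tauto
  rw [hqp, hpq] at s1 s2
  tauto

/-- Analysis of an element `g ∈ Z(B^)`, `g ∉ D`. -/
theorem support (h : Hom B Q₁ Q₂ D e f d r r') {i : ι} (hi : ∀ z ∈ D, Lm (r i) (r' i) z)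
    {g : G} (hg : g ∈ B) (hgD : g ∉ D) (hgr : g * r i = r i * g) (hgr' : g * r' i = r' i * g)
    (hc : ∀ c ∈ B, c * r i = r i * c → c * r' i = r' i * c → g * c = c * g) :
    ∃ j, j ≠ i ∧ ¬ Lm (r i) (r' i) (e j) ∧ ¬ Lm (r i) (r' i) (f j) ∧
      (∀ k, k ≠ i → k ≠ j → Lm (r i) (r' i) (e k) ∧ Lm (r i) (r' i) (f k)) ∧
      ∃ z ∈ D, g = e j * f j * z := by
  classical
  have hT := h.toTw
  have hgi := hT.inC_of_comm hg hgr hgr'
  -- a generator moved by `g`
  have hex : ∃ j, j ≠ i ∧ (g * e j ≠ e j * g ∨ g * f j ≠ f j * g) := by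
    by_contra hno
    push Not at hno
    refine hgD (hT.cent g hg (fun k => ?_) fun k => ?_)
    · by_cases hk : k = i
      · rw [hk]; exact hgi.2.1
      · exact (hno k hk).1
    · by_cases hk : k = i
      · rw [hk]; exact hgi.2.2
      · exact (hno k hk).2
  obtain ⟨j, hji, hj⟩ := hex
  -- the two generators with index `j`
  have cL : ∀ b, InC B (e i) (f i) b → Lm (r i) (r' i) b → g * b = b * g := fun b hb hL =>
    hT.comm_of_Lm hg hc hb hL
  have cLL : ∀ b b', InC B (e i) (f i) b → InC B (e i) (f i) b' → ¬ Lm (r i) (r' i) b →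
      ¬ Lm (r i) (r' i) b' → g * (b * b') = b * b' * g := by
    intro b b' hb hb' hL hL'
    refine cL _ (inC_mul hb hb') ?_
    rw [hT.mulLm hb hb']
    tauto
  have hej := hT.inC_e hji
  have hfj := hT.inC_f hji
  have hj' : ¬ Lm (r i) (r' i) (e j) ∨ ¬ Lm (r i) (r' i) (f j) := by
    rcases hj with h1 | h1
    · left; exact fun h2 => h1 (cL _ hej h2)
    · right; exact fun h2 => h1 (cL _ hfj h2)
  -- a generator moved by `g`, as `u`
  obtain ⟨u, hu, huL, hug, huD⟩ : ∃ u, InC B (e i) (f i) u ∧ ¬ Lm (r i) (r' i) u ∧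
      g * u ≠ u * g ∧ cj g u = d j * u := by
    rcases hj with h1 | h1
    · exact ⟨e j, hej, fun h2 => h1 (cL _ hej h2), h1,
        (hT.diche j hg).resolve_left fun h2 => h1 (cj_eq_iff.mp h2)⟩
    · exact ⟨f j, hfj, fun h2 => h1 (cL _ hfj h2), h1,
        (hT.dichf j hg).resolve_left fun h2 => h1 (cj_eq_iff.mp h2)⟩
  -- the other indices
  have hs : ∀ k, k ≠ i → k ≠ j → Lm (r i) (r' i) (e k) ∧ Lm (r i) (r' i) (f k) := by
    intro k hki hkj
    have key : ∀ w, InC B (e i) (f i) w → (cj g w = w ∨ cj g w = d k * w) →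
        Lm (r i) (r' i) w := by
      intro w hw hwd
      by_contra hL
      have h1 := cj_eq_iff.mpr (cLL u w hu hw huL hL)
      rw [cj_mul, huD] at h1
      rcases hwd with h2 | h2
      · rw [h2, mul_assoc] at h1
        exact hT.dne j (by simpa using h1)
      · rw [h2] at h1
        have h3 : d j * u * (d k * w) = (d j * d k) * (u * w) := by
          calc d j * u * (d k * w) = d j * (u * d k) * w := by group
            _ = (d j * d k) * (u * w) := by rw [← hT.dc k hu.1]; group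
        rw [h3] at h1
        have h4 : d j * d k = 1 := by simpa using h1
        have h5 : d j = d k := by
          rw [mul_eq_one_iff_eq_inv.mp h4, hT.di]
        exact hkj (hT.dinj h5).symm
    exact ⟨key _ (hT.inC_e hki) (hT.diche k hg), key _ (hT.inC_f hki) (hT.dichf k hg)⟩
  obtain ⟨be, bf⟩ := h.both hi hji hs hj'
  refine ⟨j, hji, be, bf, hs, ?_⟩
  -- `g` moves `e j` and `f j`
  have hmv : ∀ w, InC B (e i) (f i) w → ¬ Lm (r i) (r' i) w → g * w ≠ w * g := by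
    intro w hw hL h1
    have h2 := cLL u w hu hw huL hL
    refine hug (mul_right_cancel (b := w) ?_)
    rw [mul_assoc, h2, mul_assoc, ← h1, mul_assoc]
  have ge : cj g (e j) = d j * e j :=
    (hT.diche j hg).resolve_left fun h2 => hmv _ hej be (cj_eq_iff.mp h2)
  have gf : cj g (f j) = d j * f j :=
    (hT.dichf j hg).resolve_left fun h2 => hmv _ hfj bf (cj_eq_iff.mp h2)
  -- the action of `e j * f j`
  have hB : e j * f j ∈ B := B.mul_mem (hT.eB j) (hT.fB j)
  have we : cj (e j * f j) (e j) = d j * e j := by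
    have h1 : cj (f j) (e j) = d j * e j := by unfold cj; rw [hT.fe]; group
    rw [mul_cj, h1, cj_mul, cj_eq_iff.mpr (hT.dc j (hT.eB j)).symm, cj_eq_iff.mpr rfl]
  have wf : cj (e j * f j) (f j) = d j * f j := by
    have h1 : cj (e j) (f j) = d j * f j := by unfold cj; rw [hT.ef]; group
    have h2 : cj (f j) (f j) = f j := cj_eq_iff.mpr rfl
    rw [mul_cj, h2, h1]
  refine ⟨(e j * f j)⁻¹ * g, ?_, by group⟩
  have key : ∀ w, cj g w = cj (e j * f j) w → ((e j * f j)⁻¹ * g) * w = w * ((e j * f j)⁻¹ * g) := by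
    intro w hw
    apply cj_eq_iff.mp
    rw [mul_cj, hw, cj_inv_cj]
  refine hT.cent _ (B.mul_mem (B.inv_mem hB) hg) (fun k => key _ ?_) fun k => key _ ?_
  · by_cases hkj : k = j
    · rw [hkj, ge, we]
    · have h1 : cj (e j * f j) (e k) = e k := by
        rw [mul_cj, cj_eq_iff.mpr (hT.fec k j hkj), cj_eq_iff.mpr (hT.comm1 (hT.eQ j) (hT.eQ k))]
      rw [h1]
      apply cj_eq_iff.mpr
      by_cases hki : k = i
      · rw [hki]; exact hgi.2.1
      · exact cL _ (hT.inC_e hki) (hs k hki hkj).1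
  · by_cases hkj : k = j
    · rw [hkj, gf, wf]
    · have h1 : cj (e j * f j) (f k) = f k := by
        rw [mul_cj, cj_eq_iff.mpr (hT.comm2 (hT.fQ j) (hT.fQ k)),
          cj_eq_iff.mpr (hT.fec j k (Ne.symm hkj)).symm]
      rw [h1]
      apply cj_eq_iff.mpr
      by_cases hki : k = i
      · rw [hki]; exact hgi.2.2
      · exact cL _ (hT.inC_f hki) (hs k hki hkj).2

end Hom

end Cfsg.Agent.Omega.SQ1.TwistSym

end

section


/-!
# The twisted Killing Lemma for `q = 2` (project OMEGA, SQ1, L7; #11855 (a)-(f)): intrinsic blocks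

The block `r l` is determined modulo `Q₁` by `N_G(Q₁)`, `Q₁` and the elements `f k` (`unique`).
-/

set_option autoImplicit false

namespace Cfsg.Agent.Omega.SQ1.TwistLoc

open Subgroup Cfsg.Agent.Omega.SQ1.TwistBase Cfsg.Agent.Omega.SQ1.TwistAlg
open Cfsg.Agent.Omega.SQ1.TwistSym Cfsg.Agent.Omega.SQ1.Transv

universe u v

variable {G : Type u} [Group G] {ι : Type v}

/-- The local structure of `N_G(Q₁)`: every 2-subgroup has a conjugate in `T`, and the involutions of `T`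
acting as transvections on `Q₁` act like the `f l`. -/
structure Loc (Q₁ T : Subgroup G) (f : ι → G) : Prop where
  CQ : ∀ g : G, (∀ a ∈ Q₁, g * a = a * g) → g ∈ Q₁
  syl : ∀ P : Subgroup G, IsPGroup 2 P → P ≤ normalizer (Q₁ : Set G) →
    ∃ g ∈ normalizer (Q₁ : Set G), ∀ a ∈ P, g * a * g⁻¹ ∈ T
  trv : ∀ t ∈ T, t * t = 1 → t ∈ normalizer (Q₁ : Set G) → ∀ c ∈ Q₁, c ≠ 1 →
    (∀ a ∈ Q₁, cj t a = a ∨ cj t a = a * c) → (∃ a ∈ Q₁, cj t a ≠ a) →
    ∃ l, ∀ a ∈ Q₁, cj t a = cj (f l) a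

variable {B Q₁ Q₂ D T : Subgroup G} {e f d r r' : ι → G}

theorem mem_norm {A : Subgroup G} {x : G} (h1 : ∀ a ∈ A, cj x a ∈ A)
    (h2 : ∀ a ∈ A, cj x⁻¹ a ∈ A) : x ∈ normalizer (A : Set G) := by
  rw [mem_normalizer_iff]
  intro a
  refine ⟨h1 a, fun h => ?_⟩
  have h3 := h2 _ h
  have e : cj x⁻¹ (x * a * x⁻¹) = a := by unfold cj; group
  rwa [e] at h3

/-- `B` normalises `Q₁`. -/
theorem B_norm (h : Tw B Q₁ Q₂ D e f d r r') : B ≤ normalizer (Q₁ : Set G) := by
  have key : ∀ b ∈ B, ∀ a ∈ Q₁, cj b a ∈ Q₁ := by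
    intro b hb a ha
    have h1 := h.ab (h.Q1B ha) hb
    have h2 : cj b a = (cj b a * a⁻¹) * a := by group
    rw [h2]
    exact Q₁.mul_mem (h.DQ1 h1) ha
  exact fun b hb => mem_norm (key b hb) (key b⁻¹ (B.inv_mem hb))

theorem phi_apply {n : normalizer (Q₁ : Set G)} (a : Q₁) :
    ((Q₁.normalizerMonoidHom n a : Q₁) : G) = cj (n : G) (a : G) := rfl

theorem phi_eq_iff {n m : normalizer (Q₁ : Set G)} :
    Q₁.normalizerMonoidHom n = Q₁.normalizerMonoidHom m ↔
      ∀ a ∈ Q₁, cj (n : G) a = cj (m : G) a := by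
  constructor
  · intro h1 a ha
    have h2 := congrArg (fun σ : MulAut Q₁ => ((σ ⟨a, ha⟩ : Q₁) : G)) h1
    exact h2
  · intro h1
    ext a
    exact h1 a a.2

/-- `f l` acts on `Q₁` as a transvection with centre `d l`. -/
theorem tvf (h : Tw B Q₁ Q₂ D e f d r r') (l : ι) :
    IsTv (V := Q₁) (Q₁.normalizerMonoidHom ⟨f l, B_norm h (h.fB l)⟩) ⟨d l, h.DQ1 (h.dD l)⟩ := by
  have hcomm : ∀ v ∈ Q₁, cj (f l) v = v ∨ cj (f l) v = v * d l := by
    intro v hv
    let P : Subgroup G :=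
      { carrier := {v | v ∈ Q₁ ∧ (cj (f l) v = v ∨ cj (f l) v = v * d l)}
        mul_mem' := by
          rintro a b ⟨ha, ha'⟩ ⟨hb, hb'⟩
          refine ⟨Q₁.mul_mem ha hb, ?_⟩
          have hdb := h.comm1 (h.DQ1 (h.dD l)) hb
          rcases ha' with h1 | h1 <;> rcases hb' with h2 | h2
          · left; rw [cj_mul, h1, h2]
          · right; rw [cj_mul, h1, h2, mul_assoc]
          · right; rw [cj_mul, h1, h2, mul_assoc, hdb, mul_assoc]
          · left
            rw [cj_mul, h1, h2]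
            calc a * d l * (b * d l) = a * (d l * b) * d l := by group
              _ = a * b * (d l * d l) := by rw [hdb]; group
              _ = a * b := by rw [h.dd, mul_one]
        one_mem' := ⟨Q₁.one_mem, Or.inl (cj_one _)⟩
        inv_mem' := by
          rintro a ⟨ha, ha'⟩
          have h3 : a⁻¹ = a := inv_eq_of_mul_eq_one_right (h.sq1 a ha)
          rw [h3]
          exact ⟨ha, ha'⟩ }
    have hle : Q₁ ≤ P := by
      refine h.gen1 P (fun k => ⟨h.eQ k, ?_⟩) fun z hz => ⟨h.DQ1 hz, Or.inl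
        (cj_eq_iff.mpr (h.Dc z hz _ (h.fB l)).symm)⟩
      by_cases hkl : k = l
      · subst hkl
        right
        rw [← h.dc k (h.eB k)]
        unfold cj; rw [h.fe]; group
      · left; exact cj_eq_iff.mpr (h.fec k l hkl)
    exact (hle hv).2
  refine ⟨fun h1 => h.dne l (congrArg Subtype.val h1), fun v => ?_, ?_⟩
  · rcases hcomm v v.2 with h1 | h1
    · left; exact Subtype.ext h1
    · right; exact Subtype.ext h1
  · refine ⟨⟨e l, h.eQ l⟩, fun h1 => ?_⟩
    have h2 : cj (f l) (e l) = e l := congrArg Subtype.val h1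
    have h3 := cj_eq_iff.mp h2
    rw [h.fe] at h3
    exact h.dne l (by simpa using h3)

/-- The transvection setting on `Q₁`. -/
theorem sit (h : Tw B Q₁ Q₂ D e f d r r') (hL : Loc Q₁ T f) :
    Sit (V := Q₁) (Q₁.normalizerMonoidHom).range
      (fun l => Q₁.normalizerMonoidHom ⟨f l, B_norm h (h.fB l)⟩)
      (fun l => ⟨d l, h.DQ1 (h.dD l)⟩) where
  sq := fun v => Subtype.ext (h.sq1 v v.2)
  tX := fun l => ⟨_, rfl⟩
  tv := tvf h
  comm := fun k l => by
    rw [← map_mul, ← map_mul]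
    congr 1
    exact Subtype.ext (h.comm2 (h.fQ k) (h.fQ l))
  inj := fun k l hkl => by
    by_contra hne
    have h1 := (phi_eq_iff.mp hkl) (e k) (h.eQ k)
    have h2 : cj (f l) (e k) = e k := cj_eq_iff.mpr (h.fec k l hne)
    have h3 : cj (f k) (e k) = d k * e k := by unfold cj; rw [h.fe]; group
    change cj (f k) (e k) = cj (f l) (e k) at h1
    rw [h2, h3] at h1
    exact h.dne k (by simpa using h1)
  syl := fun P hP hPX => by
    have : Fact (Nat.Prime 2) := ⟨Nat.prime_two⟩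
    have hQ : IsPGroup 2 Q₁ := by
      intro a
      refine ⟨1, ?_⟩
      rw [pow_one, pow_two]
      exact Subtype.ext (h.sq1 a a.2)
    have hker : IsPGroup 2 (Q₁.normalizerMonoidHom).ker := by
      rintro ⟨n, hn⟩
      have h1 : (n : G) ∈ Q₁ := by
        apply hL.CQ
        intro a ha
        have h2 : Q₁.normalizerMonoidHom n = Q₁.normalizerMonoidHom 1 := by
          rw [map_one]; exact hn
        have h3 := phi_eq_iff.mp h2 a ha
        have h4 : cj ((1 : normalizer (Q₁ : Set G)) : G) a = a := by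
          rw [OneMemClass.coe_one]; unfold cj; group
        rw [h4] at h3
        exact cj_eq_iff.mp h3
      obtain ⟨k, hk⟩ := hQ ⟨n, h1⟩
      have h5 : (n : G) ^ 2 ^ k = 1 := by simpa using congrArg Subtype.val hk
      refine ⟨k, ?_⟩
      apply Subtype.ext
      apply Subtype.ext
      simpa using h5
    have h1 : IsPGroup 2 (P.comap Q₁.normalizerMonoidHom) := hP.comap_of_ker_isPGroup _ hker
    have h2 : IsPGroup 2 ((P.comap Q₁.normalizerMonoidHom).map (normalizer (Q₁ : Set G)).subtype) :=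
      h1.map _
    obtain ⟨g, hg, h3⟩ := hL.syl _ h2 (by
      rintro _ ⟨n, -, rfl⟩
      exact n.2)
    refine ⟨Q₁.normalizerMonoidHom ⟨g, hg⟩, ⟨_, rfl⟩, ?_⟩
    rintro σ hσ ⟨_, ⟨m, rfl⟩, k, rfl⟩
    -- the representative `m (f k) m⁻¹`
    set fk : normalizer (Q₁ : Set G) := ⟨f k, B_norm h (h.fB k)⟩ with hfk
    have e0 : Q₁.normalizerMonoidHom m * Q₁.normalizerMonoidHom fk * (Q₁.normalizerMonoidHom m)⁻¹ =
        Q₁.normalizerMonoidHom (m * fk * m⁻¹) := by
      rw [map_mul, map_mul, map_inv]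
    set n : normalizer (Q₁ : Set G) := m * fk * m⁻¹ with hn
    have hnn : (n : G) * n = 1 := by
      have h6 : (fk : G) * fk = 1 := h.ff k
      have h7 : (n : G) = m * fk * (m : G)⁻¹ := by rw [hn]; rfl
      rw [h7]
      calc (m : G) * fk * (m : G)⁻¹ * (m * fk * (m : G)⁻¹) = m * (fk * fk) * (m : G)⁻¹ := by group
        _ = 1 := by rw [h6]; group
    change Q₁.normalizerMonoidHom m * Q₁.normalizerMonoidHom fk * (Q₁.normalizerMonoidHom m)⁻¹ ∈ P
      at hσ
    rw [e0] at hσ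
    have h4 : g * (n : G) * g⁻¹ ∈ T := h3 _ ⟨n, hσ, rfl⟩
    have h4' : (g * (n : G) * g⁻¹) * (g * (n : G) * g⁻¹) = 1 := by
      calc (g * (n : G) * g⁻¹) * (g * (n : G) * g⁻¹) = g * (n * n) * g⁻¹ := by group
        _ = 1 := by rw [hnn]; group
    have hgn : g * (n : G) * g⁻¹ ∈ normalizer (Q₁ : Set G) :=
      mul_mem (mul_mem hg n.2) (inv_mem hg)
    have e1 : Q₁.normalizerMonoidHom ⟨g, hg⟩ * Q₁.normalizerMonoidHom n *
        (Q₁.normalizerMonoidHom ⟨g, hg⟩)⁻¹ = Q₁.normalizerMonoidHom ⟨_, hgn⟩ := by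
      rw [← map_inv, ← map_mul, ← map_mul]
      rfl
    have hb : IsTv (Q₁.normalizerMonoidHom n)
        (Q₁.normalizerMonoidHom m ⟨d k, h.DQ1 (h.dD k)⟩) := by
      rw [← e0]
      exact (tvf h k).conj _
    have h5 := hb.conj (Q₁.normalizerMonoidHom ⟨g, hg⟩)
    rw [e1] at h5
    set c : Q₁ := Q₁.normalizerMonoidHom ⟨g, hg⟩ (Q₁.normalizerMonoidHom m ⟨d k, h.DQ1 (h.dD k)⟩)
    obtain ⟨l, hl⟩ := hL.trv _ h4 h4' hgn c c.2 (fun h6 => h5.ne (Subtype.ext h6)) (by
        intro a ha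
        rcases h5.act ⟨a, ha⟩ with h6 | h6
        · left; exact congrArg Subtype.val h6
        · right; exact congrArg Subtype.val h6) (by
        obtain ⟨v, hv⟩ := h5.mov
        exact ⟨v, v.2, fun h6 => hv (Subtype.ext h6)⟩)
    refine ⟨l, ?_⟩
    change Q₁.normalizerMonoidHom ⟨g, hg⟩ * (Q₁.normalizerMonoidHom m * Q₁.normalizerMonoidHom fk *
      (Q₁.normalizerMonoidHom m)⁻¹) * (Q₁.normalizerMonoidHom ⟨g, hg⟩)⁻¹ = _
    rw [e0, e1]
    exact phi_eq_iff.mpr hl

/-- a block on `Q₁` -/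
structure Bl (Q₁ : Subgroup G) (e f d : ι → G) (l : ι) (y : G) : Prop where
  yN : y ∈ normalizer (Q₁ : Set G)
  y3 : y * y * y = 1
  yd : cj y (d l) ≠ d l
  yl : ∃ a ∈ Q₁, cj (f l) y = y⁻¹ * a
  yk : ∀ k, k ≠ l → ∃ a ∈ Q₁, cj (f k) y = y * a

theorem Blk.edne {d e r : G} (h : Blk B d e r) : e ≠ d := by
  intro h1
  have h2 := h.re
  rw [h1, h.dd] at h2
  have h3 : cj r d = cj r 1 := by rw [h2, cj_one]
  exact h.dne (cj_inj h3)

theorem Bl.of (h : Tw B Q₁ Q₂ D e f d r r') {x E ρ z δ : G} {l : ι}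
    (hx : x ∈ normalizer (B : Set G))
    (hxD : x ∈ normalizer (D : Set G)) (hB : Blk B δ E ρ) (hz : z ∈ D)
    (he : cj x (e l) = E * z) (hd : cj x (d l) = δ) : Bl Q₁ e f d l (cj x⁻¹ ρ) := by
  have hdi : cj x⁻¹ δ = d l := by rw [← hd, cj_inv_cj]
  have hEi : cj x⁻¹ E ∈ Q₁ := by
    have h1 : E = cj x (e l) * z⁻¹ := by rw [he]; group
    rw [h1, cj_mul, cj_inv_cj]
    exact Q₁.mul_mem (h.eQ l) (h.DQ1 (norm_mem (inv_mem hxD) (D.inv_mem hz)))
  have hV : ∀ v, InV δ E v → cj x⁻¹ v ∈ Q₁ := by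
    rintro v (rfl | rfl | rfl | rfl)
    · rw [cj_one]; exact Q₁.one_mem
    · rw [hdi]; exact h.DQ1 (h.dD l)
    · exact hEi
    · rw [cj_mul, hdi]; exact Q₁.mul_mem (h.DQ1 (h.dD l)) hEi
  -- an element of `B` commutes with `E` if its preimage commutes with `e l`
  have hcE : ∀ b ∈ B, (cj x b * E = E * cj x b ↔ b * e l = e l * b) := by
    intro b hb
    have hcB : cj x b ∈ B := norm_mem hx hb
    have h0 : (cj x b * (E * z) = (E * z) * cj x b) ↔ b * e l = e l * b := by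
      rw [← he]; exact cj_comm_iff
    rw [← h0]
    have h3 := h.Dc z hz _ hcB
    constructor
    · intro h4
      rw [← mul_assoc, h4, mul_assoc, ← h3, mul_assoc]
    · intro h4
      have h5 : cj x b * E * z = E * cj x b * z := by
        rw [mul_assoc, h4, mul_assoc, h3, mul_assoc]
      exact mul_right_cancel h5
  have hyi : (cj x⁻¹ ρ)⁻¹ = cj x⁻¹ ρ⁻¹ := (cj_inv _ _).symm
  have hact : ∀ s a : G, cj (cj x⁻¹ s) a = cj x⁻¹ (cj s (cj x a)) := by
    intro s a; unfold cj; group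
  refine ⟨?_, ?_, ?_, ?_, ?_⟩
  · refine mem_norm (fun a ha => ?_) fun a ha => ?_
    · have haB := h.Q1B ha
      have h1 := (hcE a haB).mpr (h.comm1 ha (h.eQ l))
      obtain ⟨w, hw, h2⟩ := hB.cj_r (norm_mem hx haB) h1
      rw [hact, h2, cj_mul, cj_inv_cj]
      exact Q₁.mul_mem (hV w hw) ha
    · have haB := h.Q1B ha
      have h1 := (hcE a haB).mpr (h.comm1 ha (h.eQ l))
      obtain ⟨w, hw, h2⟩ := hB.cj_ri (norm_mem hx haB) h1
      rw [hyi, hact, h2, cj_mul, cj_inv_cj]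
      exact Q₁.mul_mem (hV w hw) ha
  · rw [← cj_mul, ← cj_mul, hB.r3, cj_one]
  · rw [hact, hd, hB.rd]
    intro h1
    rw [← hdi] at h1
    exact Blk.edne hB (cj_inj h1)
  · have hfB := h.fB l
    have h1 : cj x (f l) * E ≠ E * cj x (f l) := by
      intro h2
      have h3 := (hcE _ hfB).mp h2
      rw [h.fe] at h3
      exact h.dne l (by simpa using h3)
    obtain ⟨v, hv, h2⟩ := hB.outer _ (norm_mem hx hfB) h1
    refine ⟨cj x⁻¹ v, hV v hv, ?_⟩
    have e1 : cj (f l) (cj x⁻¹ ρ) = cj x⁻¹ (cj (cj x (f l)) ρ) := by unfold cj; group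
    rw [e1, h2, cj_mul, hyi]
  · intro k hk
    have hfB := h.fB k
    have h1 := (hcE _ hfB).mpr (h.fec l k hk.symm)
    obtain ⟨v, hv, h2⟩ := hB.inner _ (norm_mem hx hfB) h1
    refine ⟨cj x⁻¹ v, hV v hv, ?_⟩
    have e1 : cj (f k) (cj x⁻¹ ρ) = cj x⁻¹ (cj (cj x (f k)) ρ) := by unfold cj; group
    rw [e1, h2, cj_mul]

/-- Two blocks with the same index agree modulo `Q₁`. -/
theorem unique [Finite ι] (h : Tw B Q₁ Q₂ D e f d r r') (hL : Loc Q₁ T f) {l : ι} {y s : G}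
    (hy : Bl Q₁ e f d l y) (hs : Bl Q₁ e f d l s) :
    (∀ a ∈ Q₁, cj y a = cj s a) ∨ (∀ a ∈ Q₁, cj y a = cj s⁻¹ a) := by
  have S := sit h hL
  -- elements of `Q₁` act trivially
  have hQ : ∀ a (ha : a ∈ Q₁), Q₁.normalizerMonoidHom ⟨a, le_normalizer ha⟩ = 1 := by
    intro a ha
    rw [← map_one Q₁.normalizerMonoidHom]
    rw [phi_eq_iff]
    intro b hb
    have h4 : cj ((1 : normalizer (Q₁ : Set G)) : G) b = b := by
      rw [OneMemClass.coe_one]; unfold cj; group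
    rw [h4]
    exact cj_eq_iff.mpr (h.comm1 ha hb)
  have key : ∀ {y : G} (hy : Bl Q₁ e f d l y),
      Q₁.normalizerMonoidHom ⟨y, hy.yN⟩ * Q₁.normalizerMonoidHom ⟨y, hy.yN⟩ *
        Q₁.normalizerMonoidHom ⟨y, hy.yN⟩ = 1 ∧
      Q₁.normalizerMonoidHom ⟨y, hy.yN⟩ ≠ 1 ∧
      Q₁.normalizerMonoidHom ⟨f l, B_norm h (h.fB l)⟩ * Q₁.normalizerMonoidHom ⟨y, hy.yN⟩ *
        (Q₁.normalizerMonoidHom ⟨f l, B_norm h (h.fB l)⟩)⁻¹ =
          (Q₁.normalizerMonoidHom ⟨y, hy.yN⟩)⁻¹ ∧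
      ∀ k, k ≠ l → Q₁.normalizerMonoidHom ⟨f k, B_norm h (h.fB k)⟩ *
        Q₁.normalizerMonoidHom ⟨y, hy.yN⟩ =
          Q₁.normalizerMonoidHom ⟨y, hy.yN⟩ * Q₁.normalizerMonoidHom ⟨f k, B_norm h (h.fB k)⟩ := by
    intro y hy
    refine ⟨?_, ?_, ?_, ?_⟩
    · rw [← map_mul, ← map_mul, ← map_one Q₁.normalizerMonoidHom]
      congr 1
      exact Subtype.ext hy.y3
    · intro h1
      rw [← map_one Q₁.normalizerMonoidHom, phi_eq_iff] at h1
      have h2 := h1 (d l) (h.DQ1 (h.dD l))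
      have h4 : cj ((1 : normalizer (Q₁ : Set G)) : G) (d l) = d l := by
        rw [OneMemClass.coe_one]; unfold cj; group
      rw [h4] at h2
      exact hy.yd h2
    · obtain ⟨a, ha, h1⟩ := hy.yl
      have h2 : (⟨f l, B_norm h (h.fB l)⟩ : normalizer (Q₁ : Set G)) * ⟨y, hy.yN⟩ *
          (⟨f l, B_norm h (h.fB l)⟩)⁻¹ = (⟨y, hy.yN⟩)⁻¹ * ⟨a, le_normalizer ha⟩ :=
        Subtype.ext h1
      rw [← map_inv, ← map_mul, ← map_mul, h2, map_mul, hQ a ha, mul_one, map_inv]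
    · intro k hk
      obtain ⟨a, ha, h1⟩ := hy.yk k hk
      have h2 : (⟨f k, B_norm h (h.fB k)⟩ : normalizer (Q₁ : Set G)) * ⟨y, hy.yN⟩ =
          ⟨y, hy.yN⟩ * ⟨a, le_normalizer ha⟩ * ⟨f k, B_norm h (h.fB k)⟩ := by
        apply Subtype.ext
        change f k * y = y * a * f k
        rw [← h1]; unfold cj; group
      rw [← map_mul, h2, map_mul, map_mul, hQ a ha, mul_one]
  obtain ⟨y3, y1, yl, yk⟩ := key hy
  obtain ⟨s3, s1, sl, sk⟩ := key hs
  rcases S.unique_block l ⟨_, rfl⟩ ⟨_, rfl⟩ s3 s1 y3 y1 sl yl sk yk with h1 | h1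
  · left
    exact phi_eq_iff.mp h1
  · right
    rw [← map_inv] at h1
    exact phi_eq_iff.mp h1

/-- the block `r l` itself -/
theorem own (h : Tw B Q₁ Q₂ D e f d r r') (k : ι) : Bl Q₁ e f d k (r k) := by
  have h3 := Bl.of (x := 1) (E := e k) (ρ := r k) (z := 1) (l := k) (δ := d k) h (one_mem _)
    (one_mem _) (h.blk k) D.one_mem (by unfold cj; group) (by unfold cj; group)
  have e1 : cj (1 : G)⁻¹ (r k) = r k := by unfold cj; group
  rwa [e1] at h3

theorem InV_mul {δ E ρ v w : G} (h : Blk B δ E ρ) (hv : InV δ E v) (hw : InV δ E w) :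
    InV δ E (v * w) := by
  have h1 := h.dd
  have h2 := h.ee
  have h3 := h.de
  rcases hv with rfl | rfl | rfl | rfl <;> rcases hw with rfl | rfl | rfl | rfl
  · left; rw [one_mul]
  · right; left; rw [one_mul]
  · right; right; left; rw [one_mul]
  · right; right; right; rw [one_mul]
  · right; left; rw [mul_one]
  · left; exact h1
  · right; right; right; rfl
  · right; right; left; rw [← mul_assoc, h1, one_mul]
  · right; right; left; rw [mul_one]
  · right; right; right; exact h3.symm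
  · left; exact h2
  · right; left; rw [h3, ← mul_assoc, h2, one_mul]
  · right; right; right; rw [mul_one]
  · right; right; left; rw [h3, mul_assoc, h1, mul_one]
  · right; left; rw [mul_assoc, h2, mul_one]
  · left
    calc δ * E * (δ * E) = δ * (E * δ) * E := by group
      _ = (δ * δ) * (E * E) := by rw [← h3]; group
      _ = 1 := by rw [h1, h2, one_mul]

/-- `(s a)³ = 1` with `s = r^{±1}` implies `a ∈ ⟨d, e⟩`. -/
theorem mem_V {δ E ρ a : G} (h : Blk B δ E ρ) (ha : a ∈ B) (haE : a * E = E * a)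
    (haa : a * a = 1) {s : G} (hs : s = ρ ∨ s = ρ⁻¹) (h3 : s * a * (s * a) * (s * a) = 1) :
    InV δ E a := by
  obtain ⟨w, hw, h1⟩ := h.cj_r ha haE
  obtain ⟨w', hw', h2⟩ := h.cj_ri ha haE
  have hr3 := h.r3
  have key : ∀ {u u' : G}, InV δ E u → InV δ E u' → cj s a = u * a → cj (s * s) a = u' * a →
      s * s * s = 1 → InV δ E a := by
    intro u u' hu hu' h4 h5 h6
    have e1 : s * a * (s * a) * (s * a) = cj s a * cj (s * s) a * (s * s * s) * a := by
      unfold cj; group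
    rw [e1, h4, h5, h6] at h3
    have e2 : u * a * (u' * a) * 1 * a = u * (a * u') * (a * a) := by group
    rw [e2, haa, mul_one, hu'.comm h ha haE, ← mul_assoc] at h3
    have h7 : a = (u * u')⁻¹ := (inv_eq_of_mul_eq_one_right h3).symm
    have h8 := InV_mul h hu hu'
    rw [h7, inv_eq_of_mul_eq_one_right (h8.sq h)]
    exact h8
  rcases hs with rfl | rfl
  · refine key hw hw' h1 ?_ hr3
    have e1 : s * s = s⁻¹ := by rw [eq_inv_iff_mul_eq_one]; exact hr3
    rw [e1]; exact h2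
  · refine key hw' hw h2 ?_ ?_
    · have e1 : ρ⁻¹ * ρ⁻¹ = ρ := by
        rw [← mul_inv_rev, inv_eq_iff_mul_eq_one]; exact hr3
      rw [e1]; exact h1
    · calc ρ⁻¹ * ρ⁻¹ * ρ⁻¹ = (ρ * ρ * ρ)⁻¹ := by group
        _ = 1 := by rw [hr3, inv_one]

/-- A block with index `l` on `Q₁` is conjugate to `⟨r l⟩` under `⟨d l, e l⟩`. -/
theorem xr_of [Finite ι] (h : Tw B Q₁ Q₂ D e f d r r') (hL : Loc Q₁ T f) {l : ι} {y : G}
    (hy : Bl Q₁ e f d l y) :
    ∃ v, InV (d l) (e l) v ∧ (y = r l * v ∨ y = (r l)⁻¹ * v) := by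
  have key : ∀ s : G, (s = r l ∨ s = (r l)⁻¹) → (∀ a ∈ Q₁, cj y a = cj s a) →
      ∃ v, InV (d l) (e l) v ∧ y = s * v := by
    intro s hs h1
    have h2 : s⁻¹ * y ∈ Q₁ := by
      apply hL.CQ
      intro a ha
      apply cj_eq_iff.mp
      rw [mul_cj, h1 a ha, cj_inv_cj]
    refine ⟨s⁻¹ * y, ?_, by group⟩
    refine mem_V (h.blk l) (h.Q1B h2) (h.comm1 h2 (h.eQ l)) (h.sq1 _ h2) hs ?_
    have e1 : s * (s⁻¹ * y) = y := by group
    rw [e1]
    exact hy.y3
  rcases unique h hL hy (own h l) with h1 | h1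
  · obtain ⟨v, hv, h2⟩ := key _ (Or.inl rfl) h1
    exact ⟨v, hv, Or.inl h2⟩
  · obtain ⟨v, hv, h2⟩ := key _ (Or.inr rfl) h1
    exact ⟨v, hv, Or.inr h2⟩

end Cfsg.Agent.Omega.SQ1.TwistLoc

end

section


/-!
# The twisted Killing Lemma for `q = 2` (project OMEGA, SQ1, L7; #11855 (a)-(f)): the theorem

`Hom.tw` : an element `x ∈ N_G(B)` which centralises `B^ = C_B(r i, r' i)` and satisfies `[x, B] ≤ B^`
normalises `Q₁` and `Q₂`.
-/

set_option autoImplicit false

namespace Cfsg.Agent.Omega.SQ1.Twist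

open Subgroup Cfsg.Agent.Omega.SQ1.TwistBase Cfsg.Agent.Omega.SQ1.TwistAlg
open Cfsg.Agent.Omega.SQ1.TwistSym Cfsg.Agent.Omega.SQ1.TwistLoc

universe u v

variable {G : Type u} [Group G] {ι : Type v}

variable {B Q₁ Q₂ D T : Subgroup G} {e f d r r' : ι → G}

/-- `x` exchanges the sides of the index `j` only. -/
structure Swap (B D : Subgroup G) (e f : ι → G) (x : G) (j : ι) : Prop where
  xB : x ∈ normalizer (B : Set G)
  xD : x ∈ normalizer (D : Set G)
  xe : ∀ k, k ≠ j → ∃ z ∈ D, cj x (e k) = e k * z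
  xf : ∀ k, k ≠ j → ∃ z ∈ D, cj x (f k) = f k * z
  xej : ∃ z ∈ D, cj x (e j) = f j * z
  xfj : ∃ z ∈ D, cj x (f j) = e j * z

/-- `r k` centralises `d l` for `l ≠ k`. -/
theorem comm_r_d (h : Tw B Q₁ Q₂ D e f d r r') {k l : ι} (hkl : l ≠ k) :
    d l * r k = r k * d l := by
  obtain ⟨w, hw, h1⟩ := (h.blk k).cj_r (h.eB l) (h.comm1 (h.eQ l) (h.eQ k))
  obtain ⟨w', hw', h2⟩ := (h.blk k).cj_r (h.fB l) (h.fec k l hkl.symm)
  have h3 := congrArg (cj (r k)) (h.fe l)
  rw [cj_mul, cj_mul, cj_mul, h1, h2] at h3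
  have c1 := hw.comm (h.blk k) (h.fB l) (h.fec k l hkl.symm)
  have c2 := hw'.comm (h.blk k) (h.eB l) (h.comm1 (h.eQ l) (h.eQ k))
  have hwe : w' * e k = e k * w' := by
    rcases hw' with rfl | rfl | rfl | rfl
    · rw [one_mul, mul_one]
    · exact (h.blk k).de
    · rfl
    · rw [mul_assoc, ← mul_assoc (e k), ← (h.blk k).de, mul_assoc]
  have c3 := hw.comm (h.blk k) (hw'.mem (h.blk k)) hwe
  have e1 : w' * f l * (w * e l) = w' * w * (f l * e l) := by
    calc w' * f l * (w * e l) = w' * (f l * w) * e l := by group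
      _ = w' * w * (f l * e l) := by rw [c1]; group
  have e2 : w * e l * (w' * f l) = w' * w * (e l * f l) := by
    calc w * e l * (w' * f l) = w * (e l * w') * f l := by group
      _ = (w * w') * (e l * f l) := by rw [c2]; group
      _ = w' * w * (e l * f l) := by rw [c3]
  rw [e1, e2, h.fe, ← mul_assoc, ← mul_assoc (cj (r k) (d l))] at h3
  have h4 := mul_right_cancel h3
  -- `w' w d = (cj d) w' w`
  have h5 : w' * w * d l = d l * (w' * w) := by
    rw [← h.dc l (B.mul_mem (hw'.mem (h.blk k)) (hw.mem (h.blk k)))]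
  rw [h5] at h4
  exact (cj_eq_iff.mp (mul_right_cancel h4).symm).symm

/-- A swap is impossible if `λ_j(e l) = 1` for some `l ≠ j`. -/
theorem swap_false [Finite ι] (h : Tw B Q₁ Q₂ D e f d r r') (hL : Loc Q₁ T f) {x : G} {j l : ι}
    (S : Swap B D e f x j) (hlj : l ≠ j) (hl : ¬ Lm (r j) (r' j) (e l)) : False := by
  -- `x` centralises the `d k`
  have hd : ∀ k, k ≠ j → cj x (d k) = d k := by
    intro k hk
    obtain ⟨z, hz, h1⟩ := S.xe k hk
    obtain ⟨z', hz', h2⟩ := S.xf k hk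
    exact conj_d h.DB h.Dc (h.fe k) (h.fe k) (h.eB _) (h.fB _) hz hz' h1 h2
  have hdj : cj x (d j) = d j := by
    obtain ⟨z, hz, h1⟩ := S.xej
    obtain ⟨z', hz', h2⟩ := S.xfj
    exact conj_d h.DB h.Dc (h.fe j) (h.ef j) (h.fB _) (h.eB _) hz hz' h1 h2
  -- the block `j`
  obtain ⟨z, hz, h1⟩ := S.xej
  have Bj := Bl.of h S.xB S.xD (h.blk' j) hz h1 hdj
  obtain ⟨z', hz', h2⟩ := S.xe l hlj
  have Bl' := Bl.of h S.xB S.xD (h.blk l) hz' h2 (hd l hlj)
  have uj := unique h hL Bj (own h j)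
  have ul := unique h hL Bl' (own h l)
  have hact : ∀ s a : G, cj (cj x⁻¹ s) a = cj x⁻¹ (cj s (cj x a)) := by
    intro s a; unfold cj; group
  -- `x⁻¹ (e l) x`
  have hel : cj x⁻¹ (e l) = e l ∨ cj x⁻¹ (e l) = d l * e l := by
    have h3 : cj (cj x⁻¹ (r l)) (d l) = cj x⁻¹ (e l) := by rw [hact, hd l hlj, (h.blk l).rd]
    rw [← h3]
    rcases ul with h4 | h4
    · left; rw [h4 _ (h.DQ1 (h.dD l)), (h.blk l).rd]
    · right; rw [h4 _ (h.DQ1 (h.dD l)), (h.blk l).ri_d]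
  have helQ : cj x⁻¹ (e l) ∈ Q₁ := by
    rcases hel with h3 | h3
    · rw [h3]; exact h.eQ l
    · rw [h3]; exact Q₁.mul_mem (h.DQ1 (h.dD l)) (h.eQ l)
  apply hl
  have h3 : (e l * r' j = r' j * e l) ↔
      cj (cj x⁻¹ (r' j)) (cj x⁻¹ (e l)) = cj x⁻¹ (e l) := by
    rw [cj_eq_iff, cj_comm_iff]
    exact eq_comm
  have h4 : cj (cj x⁻¹ (r' j)) (cj x⁻¹ (e l)) = cj x⁻¹ (e l) ↔
      cj x⁻¹ (e l) * r j = r j * cj x⁻¹ (e l) := by
    rcases uj with h5 | h5
    · rw [h5 _ helQ, cj_eq_iff]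
      exact eq_comm
    · rw [h5 _ helQ, cj_eq_iff]
      constructor
      · intro h6
        have h7 : Commute (r j)⁻¹ (cj x⁻¹ (e l)) := h6
        exact (Commute.inv_left_iff.mp h7).eq.symm
      · intro h6
        have h7 : Commute (cj x⁻¹ (e l)) (r j) := h6
        exact h7.symm.inv_left.eq
  have h5 : cj x⁻¹ (e l) * r j = r j * cj x⁻¹ (e l) ↔ e l * r j = r j * e l := by
    have hdr := comm_r_d h hlj
    rcases hel with h6 | h6
    · rw [h6]
    · rw [h6]
      constructor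
      · intro h7
        have h8 : d l * (e l * r j) = d l * (r j * e l) := by
          rw [← mul_assoc, h7, ← mul_assoc, ← hdr, mul_assoc]
        exact mul_left_cancel h8
      · intro h7
        rw [mul_assoc, h7, ← mul_assoc, hdr, mul_assoc]
  unfold Lm
  rw [h3, h4, h5]

/-- `D = Z(B)` is normalised by `N_G(B)`. -/
theorem norm_D (h : Tw B Q₁ Q₂ D e f d r r') {x : G} (hx : x ∈ normalizer (B : Set G)) :
    x ∈ normalizer (D : Set G) := by
  have key : ∀ y ∈ normalizer (B : Set G), ∀ z ∈ D, cj y z ∈ D := by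
    intro y hy z hz
    have h1 : ∀ b ∈ B, cj y z * b = b * cj y z := by
      intro b hb
      have h2 : cj y⁻¹ b ∈ B := norm_mem (inv_mem hy) hb
      have h3 := (cj_comm_iff (x := y)).mpr (h.Dc z hz _ h2)
      rwa [cj_cj_inv] at h3
    exact h.cent _ (norm_mem hy (h.DB hz)) (fun k => h1 _ (h.eB k)) fun k => h1 _ (h.fB k)
  exact mem_norm (key x hx) (key x⁻¹ (inv_mem hx))

/-- `x` normalises `Q₁` if it fixes the `e k` modulo `D`. -/
theorem norm_Q [Finite G] (h : Tw B Q₁ Q₂ D e f d r r') {x : G} (hx : x ∈ normalizer (D : Set G))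
    (he : ∀ k, cj x (e k) * (e k)⁻¹ ∈ D) : x ∈ normalizer (Q₁ : Set G) := by
  have hle : Q₁ ≤ Q₁.comap (MulAut.conj x).toMonoidHom := by
    refine h.gen1 _ (fun k => ?_) fun z hz => ?_
    · rw [mem_comap]
      change cj x (e k) ∈ Q₁
      have h1 : cj x (e k) = (cj x (e k) * (e k)⁻¹) * e k := by group
      rw [h1]
      exact Q₁.mul_mem (h.DQ1 (he k)) (h.eQ k)
    · rw [mem_comap]
      exact h.DQ1 (norm_mem hx hz)
  have hinj : Function.Injective (fun a : Q₁ => (⟨cj x a, hle a.2⟩ : Q₁)) := by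
    intro a b hab
    exact Subtype.ext (cj_inj (congrArg Subtype.val hab))
  have hsurj := Finite.surjective_of_injective hinj
  refine mem_norm (fun a ha => hle ha) fun a ha => ?_
  obtain ⟨b, hb⟩ := hsurj ⟨a, ha⟩
  have h1 : cj x b = a := congrArg Subtype.val hb
  rw [← h1, cj_inv_cj]
  exact b.2

/-- **The twisted Killing Lemma, `q = 2`**: splitting of `B` over `B^`. -/
theorem tw [Finite G] [Finite ι] (h : Hom B Q₁ Q₂ D e f d r r') (hL : Loc Q₁ T f) {i : ι} {x : G}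
    (hx : x ∈ normalizer (B : Set G))
    (hc : ∀ c ∈ B, c * r i = r i * c → c * r' i = r' i * c → x * c = c * x)
    (hb : ∀ b ∈ B, (x * b * x⁻¹ * b⁻¹) * r i = r i * (x * b * x⁻¹ * b⁻¹) ∧
      (x * b * x⁻¹ * b⁻¹) * r' i = r' i * (x * b * x⁻¹ * b⁻¹)) :
    x ∈ normalizer (Q₁ : Set G) ∧ x ∈ normalizer (Q₂ : Set G) := by
  classical
  have hT := h.toTw
  have hxD := norm_D hT hx
  have gB : ∀ b ∈ B, cj x b * b⁻¹ ∈ B := fun b hb => B.mul_mem (norm_mem hx hb) (B.inv_mem hb)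
  -- `B` normalises `B^`
  have hconj : ∀ c ∈ B, c * r i = r i * c → c * r' i = r' i * c → ∀ b ∈ B,
      cj b c * r i = r i * cj b c ∧ cj b c * r' i = r' i * cj b c := by
    intro c hcB h1 h2 b hb'
    have hI := hT.inC_of_comm hcB h1 h2
    have aux : ∀ {E ρ : G}, Blk B (d i) E ρ → c * E = E * c → c * ρ = ρ * c →
        cj b c * ρ = ρ * cj b c := by
      intro E ρ hB hcE hcρ
      have h3 : cj b⁻¹ (cj b c) * cj b⁻¹ ρ = cj b⁻¹ ρ * cj b⁻¹ (cj b c) := by
        rw [cj_inv_cj]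
        have hb'' := B.inv_mem hb'
        by_cases h4 : b⁻¹ * E = E * b⁻¹
        · obtain ⟨v, hv, h5⟩ := hB.inner _ hb'' h4
          have h6 := hv.comm hB hcB hcE
          rw [h5, ← mul_assoc, hcρ, mul_assoc, h6, mul_assoc]
        · obtain ⟨v, hv, h5⟩ := hB.outer _ hb'' h4
          have h6 := hv.comm hB hcB hcE
          have h7 : c * ρ⁻¹ = ρ⁻¹ * c := by
            have : Commute c ρ := hcρ
            exact this.inv_right.eq
          rw [h5, ← mul_assoc, h7, mul_assoc, h6, mul_assoc]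
      exact cj_comm_iff.mp h3
    exact ⟨aux (h.blk i) hI.2.1 h1, aux (h.blk' i) hI.2.2 h2⟩
  -- `[x, b] ∈ Z(B^)`
  have gZ : ∀ b ∈ B, ∀ c ∈ B, c * r i = r i * c → c * r' i = r' i * c →
      (cj x b * b⁻¹) * c = c * (cj x b * b⁻¹) := by
    intro b hb' c hcB h1 h2
    obtain ⟨h3, h4⟩ := hconj c hcB h1 h2 b⁻¹ (B.inv_mem hb')
    have h5 := hc _ (norm_mem (le_normalizer (B.inv_mem hb')) hcB) h3 h4
    have h6 := hc c hcB h1 h2
    have h7 : cj b⁻¹ c = b⁻¹ * c * b := by unfold cj; group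
    rw [h7] at h5
    unfold cj
    have h8 : x⁻¹ * (b⁻¹ * c * b) = b⁻¹ * c * b * x⁻¹ := by
      have : Commute x (b⁻¹ * c * b) := h5
      exact this.inv_left.eq
    calc x * b * x⁻¹ * b⁻¹ * c = x * b * (x⁻¹ * (b⁻¹ * c * b)) * b⁻¹ := by group
      _ = (x * c) * b * x⁻¹ * b⁻¹ := by rw [h8]; group
      _ = c * (x * b * x⁻¹ * b⁻¹) := by rw [h6]; group
  -- the conclusion from `[x, B] ≤ D`
  have fin : (∀ k, cj x (e k) * (e k)⁻¹ ∈ D) → (∀ k, cj x (f k) * (f k)⁻¹ ∈ D) →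
      x ∈ normalizer (Q₁ : Set G) ∧ x ∈ normalizer (Q₂ : Set G) := fun h1 h2 =>
    ⟨norm_Q hT hxD h1, norm_Q hT.symm hxD h2⟩
  by_cases hD : ∀ z ∈ D, Lm (r i) (r' i) z
  swap
  · push Not at hD
    obtain ⟨δ, hδ, hδL⟩ := hD
    have key : ∀ b ∈ B, cj x b * b⁻¹ ∈ D := by
      intro b hb'
      set g := cj x b * b⁻¹ with hg
      have hgB : g ∈ B := gB b hb'
      have hI : InC B (e i) (f i) g := hT.inC_of_comm hgB (hb b hb').1 (hb b hb').2
      have hall : ∀ w, InC B (e i) (f i) w → g * w = w * g := by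
        intro w hw
        by_cases hL' : Lm (r i) (r' i) w
        · exact hT.comm_of_Lm hgB (gZ b hb') hw hL'
        · have hw' := inC_mul hw (hT.inC_of_D hδ i)
          have h1 : g * (w * δ) = w * δ * g := hT.comm_of_Lm hgB (gZ b hb') hw' (by
            rw [hT.mulLm hw (hT.inC_of_D hδ i)]
            tauto)
          have h2 : g * w * δ = w * g * δ := by
            calc g * w * δ = g * (w * δ) := mul_assoc _ _ _
              _ = w * (δ * g) := by rw [h1, mul_assoc]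
              _ = w * (g * δ) := by rw [hT.Dc δ hδ g hgB]
              _ = w * g * δ := (mul_assoc _ _ _).symm
          exact mul_right_cancel h2
      refine hT.cent g hgB (fun k => ?_) fun k => ?_
      · by_cases hk : k = i
        · rw [hk]; exact hI.2.1
        · exact hall _ (hT.inC_e hk)
      · by_cases hk : k = i
        · rw [hk]; exact hI.2.2
        · exact hall _ (hT.inC_f hk)
    exact fin (fun k => key _ (h.eB k)) fun k => key _ (h.fB k)
  · by_contra hno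
    have hex : ∃ b ∈ B, cj x b * b⁻¹ ∉ D := by
      by_contra hne
      push Not at hne
      exact hno (fin (fun k => hne _ (h.eB k)) fun k => hne _ (h.fB k))
    obtain ⟨b₀, hb₀, hb₀D⟩ := hex
    obtain ⟨j, hji, hej, hfj, hs, -⟩ := h.support hD (gB b₀ hb₀) hb₀D (hb b₀ hb₀).1 (hb b₀ hb₀).2
      (gZ b₀ hb₀)
    -- the form of the commutators
    have form : ∀ b ∈ B, cj x b * b⁻¹ ∈ D ∨ ∃ z ∈ D, cj x b * b⁻¹ = e j * f j * z := by
      intro b hb'
      by_cases h1 : cj x b * b⁻¹ ∈ D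
      · left; exact h1
      · right
        obtain ⟨j', hji', hej', -, -, h2⟩ := h.support hD (gB b hb') h1 (hb b hb').1 (hb b hb').2
          (gZ b hb')
        have hjj : j' = j := by
          by_contra hne
          exact hej' (hs j' hji' hne).1
        rw [hjj] at h2
        exact h2
    -- generators with index `≠ j`
    have off : ∀ w ∈ B, w * w = 1 → w * e j = e j * w → w * f j = f j * w →
        cj x w * w⁻¹ ∈ D := by
      intro w hw hww h1 h2
      refine (form w hw).resolve_right ?_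
      rintro ⟨z, hz, h3⟩
      have h4 : cj x w = e j * f j * z * w := by rw [← h3]; group
      have h5 : cj x w * cj x w = 1 := by rw [← cj_mul, hww, cj_one]
      rw [h4] at h5
      have hzz : z * z = 1 := h.sq1 z (h.DQ1 hz)
      have c1 := h.Dc z hz w hw
      have c2 := h.Dc z hz _ (h.eB j)
      have c3 := h.Dc z hz _ (h.fB j)
      have h6 : e j * f j * z * w * (e j * f j * z * w) = d j := by
        calc e j * f j * z * w * (e j * f j * z * w)
            = e j * f j * (z * w) * (e j * f j * (z * w)) := by group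
          _ = e j * f j * (w * z) * (e j * f j * (w * z)) := by rw [c1]
          _ = e j * f j * w * (z * e j) * f j * w * z := by group
          _ = e j * f j * w * e j * (z * f j) * w * z := by rw [c2]; group
          _ = e j * f j * w * e j * f j * (z * w) * z := by rw [c3]; group
          _ = e j * f j * (w * e j) * f j * w * (z * z) := by rw [c1]; group
          _ = e j * f j * e j * (w * f j) * w := by rw [h1, hzz]; group
          _ = e j * (f j * e j) * f j * (w * w) := by rw [h2]; group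
          _ = (e j * d j) * e j * f j * f j := by rw [h.fe, hww]; group
          _ = d j * (e j * e j) * (f j * f j) := by rw [← hT.dc j (h.eB j)]; group
          _ = d j := by rw [hT.ee, hT.ff]; group
      rw [h6] at h5
      exact hT.dne j h5
    have offe : ∀ k, k ≠ j → cj x (e k) * (e k)⁻¹ ∈ D := fun k hk =>
      off _ (h.eB k) (hT.ee k) (hT.comm1 (h.eQ k) (h.eQ j)) (h.fec k j hk).symm
    have offf : ∀ k, k ≠ j → cj x (f k) * (f k)⁻¹ ∈ D := fun k hk =>
      off _ (h.fB k) (hT.ff k) (h.fec j k (Ne.symm hk)) (hT.comm2 (h.fQ k) (h.fQ j))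
    have toR : ∀ {w : G}, w ∈ B → cj x w * w⁻¹ ∈ D → ∃ z ∈ D, cj x w = w * z := by
      intro w hw h1
      refine ⟨_, h1, ?_⟩
      rw [← h.Dc _ h1 w hw]; group
    -- `cj x (e j)` and `cj x (f j)` do not commute
    have hnc : cj x (e j) * cj x (f j) ≠ cj x (f j) * cj x (e j) := by
      rw [Ne, cj_comm_iff, h.ef]
      intro h1
      exact hT.dne j (by simpa using h1)
    have fe_eq : ∀ z ∈ D, e j * f j * z * f j = e j * z := by
      intro z hz
      calc e j * f j * z * f j = e j * f j * (z * f j) := by group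
        _ = e j * (f j * f j) * z := by rw [h.Dc z hz _ (h.fB j)]; group
        _ = e j * z := by rw [hT.ff]; group
    have ee_eq : ∀ z ∈ D, e j * f j * z * e j = f j * (d j * z) := by
      intro z hz
      calc e j * f j * z * e j = e j * f j * (z * e j) := by group
        _ = e j * (f j * e j) * z := by rw [h.Dc z hz _ (h.eB j)]; group
        _ = (e j * d j) * e j * f j * z := by rw [h.fe]; group
        _ = d j * (e j * e j) * f j * z := by rw [← hT.dc j (h.eB j)]; group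
        _ = (d j * f j) * z := by rw [hT.ee]; group
        _ = f j * (d j * z) := by rw [hT.dc j (h.fB j)]; group
    -- commuting criterion for `u z`, `u' z'`
    have hcm : ∀ {u u' z z' : G}, u ∈ B → u' ∈ B → z ∈ D → z' ∈ D → u * u' = u' * u →
        (u * z) * (u' * z') = (u' * z') * (u * z) := by
      intro u u' z z' hu hu' hz hz' huu
      have c1 : Commute u u' := huu
      have c2 : Commute z u' := h.Dc z hz u' hu'
      have c3 : Commute z' u := h.Dc z' hz' u hu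
      have c4 : Commute z z' := h.Dc z hz z' (hT.DB hz')
      exact ((c1.mul_left c2).mul_right (c3.symm.mul_left c4)).eq
    have Sw : Swap B D e f x j := by
      refine ⟨hx, hxD, fun k hk => toR (h.eB k) (offe k hk), fun k hk => toR (h.fB k) (offf k hk),
        ?_, ?_⟩
      · rcases form _ (h.eB j) with h1 | ⟨z, hz, h1⟩
        · exfalso
          obtain ⟨z₁, hz₁, h2⟩ := toR (h.eB j) h1
          rcases form _ (h.fB j) with h3 | ⟨z, hz, h3⟩
          · refine hno (fin (fun k => ?_) fun k => ?_)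
            · by_cases hk : k = j
              · rw [hk]; exact h1
              · exact offe k hk
            · by_cases hk : k = j
              · rw [hk]; exact h3
              · exact offf k hk
          · have h4 : cj x (f j) = e j * z := by
              rw [← fe_eq z hz, ← h3]; group
            apply hnc
            rw [h2, h4]
            exact hcm (h.eB j) (h.eB j) hz₁ hz rfl
        · refine ⟨d j * z, D.mul_mem (h.dD j) hz, ?_⟩
          rw [← ee_eq z hz, ← h1]; group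
      · rcases form _ (h.fB j) with h1 | ⟨z, hz, h1⟩
        · exfalso
          obtain ⟨z₁, hz₁, h2⟩ := toR (h.fB j) h1
          rcases form _ (h.eB j) with h3 | ⟨z, hz, h3⟩
          · refine hno (fin (fun k => ?_) fun k => ?_)
            · by_cases hk : k = j
              · rw [hk]; exact h3
              · exact offe k hk
            · by_cases hk : k = j
              · rw [hk]; exact h1
              · exact offf k hk
          · have h4 : cj x (e j) = f j * (d j * z) := by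
              rw [← ee_eq z hz, ← h3]; group
            apply hnc
            rw [h2, h4]
            exact hcm (h.fB j) (h.fB j) (D.mul_mem (h.dD j) hz) hz₁ rfl
        · refine ⟨z, hz, ?_⟩
          rw [← fe_eq z hz, ← h1]; group
    obtain ⟨y, p, S, hpi⟩ := h.sym i j
    have hpj : p j ≠ j := by
      intro h1
      rw [← hpi] at h1
      have h2 : p j = p i := by rw [hpi]; rw [← hpi]; exact h1
      exact hji (S.inj hT h2)
    refine swap_false hT hL Sw hpj ?_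
    have h1 := S.lme hT hji (h.lmD hD (p i))
    rw [hpi] at h1
    exact fun h2 => hej (h1.mp h2)

end Cfsg.Agent.Omega.SQ1.Twist

end
end

-- part: Mrg/Omega/SQ1/TwistOf
section
section


/-!
# SQ1, `q = 2`: from `MIn` to the twisted Killing Lemma (L7)
-/

set_option autoImplicit false

namespace Cfsg.Agent.Omega.SQ1.TwistOf

open Cfsg.Agent.MinSimple.PushUp Cfsg.Agent.Omega.PushUp Cfsg.Agent.Omega.SQ1.Match
open Cfsg.Agent.Omega.SQ1.BlockO Cfsg.Agent.Omega.SQ1.Block Subgroup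
open Cfsg.Agent.Omega.SQ1.TwistBase (Blk InV)
open Cfsg.Agent.Omega.SQ1.TwistAlg (Tw)
open Cfsg.Agent.Omega.SQ1.TwistSym (Half Sym Anti Hom)
open Cfsg.Agent.Omega.SQ1.TwistLoc (Loc)
open Cfsg.Agent.Omega.SQ1.TwistBlk (Small BlkD)

variable {G : Type*} [Group G] {ι : Type*}

theorem InV_cj {d e v : G} (x : G) (hv : InV d e v) : InV (cj x d) (cj x e) (cj x v) := by
  rcases hv with rfl | rfl | rfl | rfl
  · left; simp [cj]
  · right; left; rfl
  · right; right; left; rfl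
  · right; right; right; exact cj_prod _ _ _

theorem Blk_cj {B : Subgroup G} {d e r x : G} (h : Blk B d e r) (hx : ∀ b ∈ B, cj x b ∈ B)
    (hx' : ∀ b ∈ B, cj x⁻¹ b ∈ B) : Blk B (cj x d) (cj x e) (cj x r) where
  dB := hx _ h.dB
  eB := hx _ h.eB
  dc := by
    intro b hb
    have h1 := (cj_comm (g := x)).2 (h.dc _ (hx' b hb))
    rwa [cj_cj_inv] at h1
  dd := by rw [← cj_prod, h.dd]; simp [cj]
  ee := by rw [← cj_prod, h.ee]; simp [cj]
  dne := by
    intro h1
    apply h.dne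
    have h2 : cj x d = cj x 1 := by rw [h1]; simp [cj]
    exact cj_inj h2
  rd := by
    change cj (cj x r) (cj x d) = cj x e
    rw [cj_cj, cj_inv_cj]
    exact congrArg (cj x) h.rd
  re := by
    change cj (cj x r) (cj x e) = cj x d * cj x e
    rw [cj_cj, cj_inv_cj, ← cj_prod]
    exact congrArg (cj x) h.re
  r3 := by rw [← cj_prod, ← cj_prod, h.r3]; simp [cj]
  inner := by
    intro b hb hbe
    have h1 : cj x⁻¹ b * e = e * cj x⁻¹ b := by
      have h2 := (cj_comm (g := x⁻¹)).2 hbe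
      rwa [cj_inv_cj] at h2
    obtain ⟨v, hv, h2⟩ := h.inner _ (hx' b hb) h1
    refine ⟨cj x v, InV_cj x hv, ?_⟩
    have h3 := congrArg (cj x) h2
    rw [cj_prod] at h3
    rw [← h3]
    change cj b (cj x r) = cj x (cj (cj x⁻¹ b) r)
    simp [cj, mul_assoc]
  outer := by
    intro b hb hbe
    have h1 : cj x⁻¹ b * e ≠ e * cj x⁻¹ b := by
      intro h2
      apply hbe
      have h3 := (cj_comm (g := x)).2 h2
      rwa [cj_cj_inv] at h3
    obtain ⟨v, hv, h2⟩ := h.outer _ (hx' b hb) h1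
    refine ⟨cj x v, InV_cj x hv, ?_⟩
    have h3 := congrArg (cj x) h2
    rw [cj_prod, cj_inv] at h3
    rw [← h3]
    change cj b (cj x r) = cj x (cj (cj x⁻¹ b) r)
    simp [cj, mul_assoc]

variable {A T B Z P : Subgroup G} {s : G} {L Q V D : ι → Subgroup G}

/-- chosen matching and blocks -/
structure Ch (B Z : Subgroup G) (s : G) (L V D : ι → Subgroup G) (m : ι → ι) (d e r : ι → G) :
    Prop where
  par : ∀ i, Par s V i (m i)
  bd : ∀ i, BlkD B Z (V i) (D i) (L i) (d i) (e i) (r i)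

theorem exists_ch (h : MIn A T B Z P s L Q V D) [Finite ι] [Finite G] (hB2 : IsPGroup 2 B)
    (hself : centralizer (P : Set G) ≤ P) (h2 : ∀ i, Small Z (V i)) :
    ∃ m d e r, Ch B Z s L V D m d e r := by
  choose m hm using fun i => h.par_exists i
  choose d e r hb using fun i => TwistBlk.exists_blk h hB2 hself (hm i) (h2 i)
  exact ⟨m, d, e, r, hm, hb⟩

variable {m : ι → ι} {d e r : ι → G}

/-- the elements `f i` of the other side -/
def ff (s : G) (e : ι → G) (m : ι → ι) (i : ι) : G := cj s (e (m i))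

theorem V_split {Z V : Subgroup G} (h2 : Small Z V) (hV : ∀ v ∈ V, v * v = 1) {e v : G} (he : e ∈ V)
    (heZ : e ∉ Z) (hv : v ∈ V) : v ∈ Z ∨ ∃ z ∈ Z, v = e * z := by
  by_cases hvZ : v ∈ Z
  · exact Or.inl hvZ
  · exact Or.inr ⟨e * v, h2 e he v hv heZ hvZ, by rw [← mul_assoc, hV e he, one_mul]⟩

theorem s_d (h : MIn A T B Z P s L Q V D) [Finite G] (c : Ch B Z s L V D m d e r) (i : ι) :
    cj s (d (m i)) = d i := by
  have h1 := h.par_D (c.par i) (c.bd (m i)).dD
  rcases (c.bd i).Deq _ h1 with h2 | h2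
  · exfalso
    apply (c.bd (m i)).blk.dne
    have h3 : cj s (d (m i)) = cj s 1 := by rw [h2]; simp [cj]
    exact cj_inj h3
  · exact h2

theorem d_inj (h : MIn A T B Z P s L Q V D) (c : Ch B Z s L V D m d e r) :
    Function.Injective d := by
  intro i j hij
  apply h.Dinj
  intro x hx
  rcases (c.bd i).Deq x hx with rfl | rfl
  · exact (D j).one_mem
  · rw [hij]; exact (c.bd j).dD

theorem m_surj (h : MIn A T B Z P s L Q V D) [Finite G] (c : Ch B Z s L V D m d e r) (j : ι) :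
    ∃ i, m i = j := by
  obtain ⟨i, hi⟩ := h.par_exists' j
  exact ⟨i, h.par_unique (c.par i) hi⟩

/-- `e i` and `f i` do not commute -/
theorem noncomm (h : MIn A T B Z P s L Q V D) [Finite G] (h2 : ∀ i, Small Z (V i))
    (c : Ch B Z s L V D m d e r) (i : ι) : e i * ff s e m i ≠ ff s e m i * e i := by
  intro hc
  obtain ⟨v, hv, u, hu, hne⟩ := c.par i
  apply hne
  have hZc : ∀ z ∈ Z, ∀ b ∈ B, Commute z b := fun z hz b hb => ((h.dat i).BcZ b hb z hz).symm
  have huB : cj s u ∈ B := h.cjsB i ((h.dat (m i)).VB hu)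
  have hfB : ff s e m i ∈ B := h.cjsB i ((h.dat (m i)).VB (c.bd (m i)).eV)
  have heB : e i ∈ B := (h.dat i).VB (c.bd i).eV
  have h0 : Commute (e i) (ff s e m i) := hc
  have hsz : ∀ z ∈ Z, cj s z ∈ Z := fun z hz => (h.dat i).cjZ h.sA hz
  have h1 : Commute (e i) (cj s u) := by
    rcases V_split (h2 (m i)) (h.dat (m i)).Vsq (c.bd (m i)).eV (c.bd (m i)).eZ hu with h3 |
      ⟨z, hz, rfl⟩
    · exact (hZc _ (hsz _ h3) _ heB).symm
    · rw [cj_prod]
      exact h0.mul_right (hZc _ (hsz _ hz) _ heB).symm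
  rcases V_split (h2 i) (h.dat i).Vsq (c.bd i).eV (c.bd i).eZ hv with h3 | ⟨z, hz, rfl⟩
  · exact (hZc v h3 _ huB).eq
  · exact (h1.mul_left (hZc z hz _ huB)).eq

/-- **The structure `Tw`.** -/
theorem tw_of (h : MIn A T B Z P s L Q V D) [Finite ι] [Finite G] (i₀ : ι)
    (hZ : ∀ x ∈ B, x * x = 1 → (∀ b ∈ B, x * b = b * x) → x ∈ Z)
    (h2 : ∀ i, Small Z (V i)) (c : Ch B Z s L V D m d e r) :
    Tw B P (Dm P s) Z e (ff s e m) d r (ff s r m) where
  Q1B := fun x hx => ((h.Pmem x).1 hx).1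
  Q2B := by
    intro x hx
    have h1 := h.cjsB i₀ ((h.Pmem _).1 (mem_Dm.1 hx)).1
    rwa [cj_cj_inv] at h1
  DQ1 := fun x hx => h.VP ((h.dat i₀).ZV hx)
  DQ2 := by
    intro x hx
    rw [mem_Dm]
    exact h.VP ((h.dat i₀).ZV ((h.dat i₀).cjZ (A.inv_mem h.sA) hx))
  eQ := fun k => h.VP (c.bd k).eV
  fQ := fun k => cj_mem_Dm (h.VP (c.bd (m k)).eV)
  dD := fun k => (h.dat k).DZ (c.bd k).dD
  gen := by
    intro R h1 h3 b hb
    obtain ⟨y, hy, p, hp, rfl⟩ := h.cover hb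
    exact R.mul_mem (h3 (cj_mem_Dm (h.Y_le hy))) (h1 hp)
  gen1 := by
    intro R h1 h3
    rw [h.P_eq i₀ hZ]
    apply iSup_le
    intro k v hv
    rcases V_split (h2 k) (h.dat k).Vsq (c.bd k).eV (c.bd k).eZ hv with h4 | ⟨z, hz, rfl⟩
    · exact h3 h4
    · exact R.mul_mem (h1 k) (h3 hz)
  gen2 := by
    intro R h1 h3
    have h4 : P ≤ R.comap (MulAut.conj s).toMonoidHom := by
      rw [h.P_eq i₀ hZ]
      apply iSup_le
      intro k v hv
      rw [mem_comap]
      change cj s v ∈ R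
      rcases V_split (h2 k) (h.dat k).Vsq (c.bd k).eV (c.bd k).eZ hv with h4 | ⟨z, hz, rfl⟩
      · exact h3 ((h.dat i₀).cjZ h.sA h4)
      · rw [cj_prod]
        obtain ⟨k', rfl⟩ := m_surj h c k
        exact R.mul_mem (h1 k') (h3 ((h.dat i₀).cjZ h.sA hz))
    intro x hx
    have h5 := h4 (mem_Dm.1 hx)
    rw [mem_comap] at h5
    change cj s (cj s⁻¹ x) ∈ R at h5
    rwa [cj_cj_inv] at h5
  Dc := fun z hz b hb => ((h.dat i₀).BcZ b hb z hz).symm
  cent := by
    intro b hb h1 h3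
    have hbV : ∀ k, ∀ v ∈ V k, b * v = v * b := by
      intro k v hv
      rcases V_split (h2 k) (h.dat k).Vsq (c.bd k).eV (c.bd k).eZ hv with h4 | ⟨z, hz, rfl⟩
      · exact (h.dat i₀).BcZ b hb _ h4
      · exact ((show Commute b (e k) from h1 k).mul_right ((h.dat i₀).BcZ b hb _ hz)).eq
    have hbP : b ∈ P := (h.Pmem b).2 ⟨hb, fun k => (h.dat k).QcV b hb (hbV k)⟩
    have hb' : cj s⁻¹ b ∈ B := h.cjsB' i₀ hb
    have hbP' : cj s⁻¹ b ∈ P := by
      refine (h.Pmem _).2 ⟨hb', fun k => (h.dat k).QcV _ hb' ?_⟩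
      intro v hv
      obtain ⟨k', rfl⟩ := m_surj h c k
      rcases V_split (h2 (m k')) (h.dat (m k')).Vsq (c.bd (m k')).eV (c.bd (m k')).eZ hv with h4 |
        ⟨z, hz, rfl⟩
      · exact (h.dat i₀).BcZ _ hb' _ h4
      · have h5 := (cj_comm (g := s⁻¹)).2 (h3 k')
        rw [ff, cj_inv_cj] at h5
        exact ((show Commute _ (e (m k')) from h5).mul_right ((h.dat i₀).BcZ _ hb' _ hz)).eq
    exact h.inter_Z i₀ hZ hbP hbP'
  sq1 := fun a ha => h.Psq i₀ ha
  sq2 := by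
    intro a ha
    have h1 := h.Psq i₀ (mem_Dm.1 ha)
    rw [← cj_prod] at h1
    have h3 : cj s⁻¹ (a * a) = cj s⁻¹ 1 := by rw [h1]; simp [cj]
    exact cj_inj h3
  dinj := d_inj h c
  fe := by
    intro k
    have hfB : ff s e m k ∈ B := h.cjsB k ((h.dat (m k)).VB (c.bd (m k)).eV)
    obtain ⟨x, hx, h1⟩ := (h.dat k).commB (c.bd k).eV hfB
    rcases (c.bd k).Deq x hx with rfl | rfl
    · exfalso
      rw [one_mul, cj_eq_self] at h1
      exact noncomm h h2 c k h1.symm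
    · rw [← mul_assoc, ← h1]; simp [cj]
  fec := by
    intro k l hkl
    have hnp : ¬ Par s V k (m l) := fun hp => hkl (h.par_inj hp (c.par l))
    exact (MIn.not_par hnp (c.bd k).eV (c.bd (m l)).eV).symm
  blk := fun k => (c.bd k).blk
  blk' := by
    intro k
    have h1 := Blk_cj (c.bd (m k)).blk (fun b hb => h.cjsB i₀ hb) fun b hb => h.cjsB' i₀ hb
    rw [s_d h c k] at h1
    exact h1

/-! ### `Loc` -/

/-- `Loc` from the Thompson subgroup. -/
theorem loc_of [Finite G] {B Q₁ Q₂ D T : Subgroup G} {e f d r r' : ι → G}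
    (h : Tw B Q₁ Q₂ D e f d r r') (QT : Q₁ ≤ T)
    (hself : centralizer (Q₁ : Set G) ≤ Q₁)
    (hsyl : ∀ R : Subgroup G, IsPGroup 2 R → R ≤ normalizer (Q₁ : Set G) →
      ∃ g ∈ normalizer (Q₁ : Set G), ∀ a ∈ R, g * a * g⁻¹ ∈ T)
    (hAA : ∀ E : Subgroup G, E ≤ T → (∀ x ∈ E, x * x = 1) → Nat.card Q₁ ≤ Nat.card E → E ≤ B) :
    Loc Q₁ T f where
  CQ := by
    intro g hg
    apply hself
    rw [mem_centralizer_iff]
    exact fun a ha => (hg a ha).symm
  syl := hsyl
  trv := by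
    classical
    intro t ht htt htN c hc hc1 hact ⟨a₀, ha₀, hmov⟩
    have hcc : c * c = 1 := h.sq1 c hc
    have cb : ∀ a ∈ Q₁, ¬ (t * a = a * t) → cj t a = a * c := by
      intro a ha hne
      rcases hact a ha with h1 | h1
      · exact absurd (cj_eq_self.1 h1) hne
      · exact h1
    have ha₀' : ¬ (t * a₀ = a₀ * t) := fun h1 => hmov (cj_eq_self.2 h1)
    have htc : t * c = c * t := by
      by_contra hne
      have h1 := cb c hc hne
      rw [hcc] at h1
      have h3 : cj t c = cj t 1 := by rw [h1]; simp [cj]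
      exact hc1 (cj_inj h3)
    have htQ : t ∉ Q₁ := fun h1 => ha₀' (h.comm1 h1 ha₀)
    -- the elementary abelian group `C_Q(t) ⟨t⟩`
    let C : Subgroup G := Q₁ ⊓ centralizer {t}
    have memC : ∀ a, a ∈ C ↔ a ∈ Q₁ ∧ t * a = a * t := by
      intro a
      change a ∈ Q₁ ⊓ centralizer {t} ↔ _
      rw [mem_inf, mem_centralizer_iff]
      simp
    let E : Subgroup G :=
      { carrier := {x | ∃ a ∈ C, x = a ∨ x = a * t}
        one_mem' := ⟨1, C.one_mem, Or.inl rfl⟩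
        mul_mem' := by
          rintro x y ⟨a, ha, hx⟩ ⟨b, hb, hy⟩
          have hbt := ((memC b).1 hb).2
          rcases hx with rfl | rfl <;> rcases hy with rfl | rfl
          · exact ⟨x * y, C.mul_mem ha hb, Or.inl rfl⟩
          · exact ⟨x * b, C.mul_mem ha hb, Or.inr (by rw [mul_assoc])⟩
          · exact ⟨a * y, C.mul_mem ha hb, Or.inr (by rw [mul_assoc, hbt, mul_assoc])⟩
          · refine ⟨a * b, C.mul_mem ha hb, Or.inl ?_⟩
            calc a * t * (b * t) = a * (t * b) * t := by group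
              _ = a * b * (t * t) := by rw [hbt]; group
              _ = a * b := by rw [htt, mul_one]
        inv_mem' := by
          rintro x ⟨a, ha, hx⟩
          have hat := ((memC a).1 ha).2
          have hai : a⁻¹ = a := inv_eq_of_mul_eq_one_left (h.sq1 a ((memC a).1 ha).1)
          have hti : t⁻¹ = t := inv_eq_of_mul_eq_one_left htt
          rcases hx with rfl | rfl
          · exact ⟨x, ha, Or.inl hai⟩
          · refine ⟨a, ha, Or.inr ?_⟩
            rw [mul_inv_rev, hai, hti, hat] }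
    have memE : ∀ x, x ∈ E ↔ ∃ a ∈ C, x = a ∨ x = a * t := fun x => Iff.rfl
    have hET : E ≤ T := by
      rintro x ⟨a, ha, rfl | rfl⟩
      · exact QT ((memC _).1 ha).1
      · exact T.mul_mem (QT ((memC a).1 ha).1) ht
    have hEsq : ∀ x ∈ E, x * x = 1 := by
      rintro x ⟨a, ha, rfl | rfl⟩
      · exact h.sq1 _ ((memC _).1 ha).1
      · obtain ⟨haQ, hat⟩ := (memC a).1 ha
        calc a * t * (a * t) = a * (t * a) * t := by group
          _ = (a * a) * (t * t) := by rw [hat]; group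
          _ = 1 := by rw [h.sq1 a haQ, htt, one_mul]
    -- `a * a₀ ∈ C` for `a ∉ C`
    have hprod : ∀ a ∈ Q₁, a ∉ C → a * a₀ ∈ C := by
      intro a ha haC
      refine (memC _).2 ⟨Q₁.mul_mem ha ha₀, ?_⟩
      have hna : ¬ (t * a = a * t) := fun h1 => haC ((memC a).2 ⟨ha, h1⟩)
      apply cj_eq_self.1
      rw [cj_prod, cb a ha hna, cb a₀ ha₀ ha₀']
      calc a * c * (a₀ * c) = a * (c * a₀) * c := by group
        _ = a * a₀ * (c * c) := by rw [h.comm1 hc ha₀]; group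
        _ = a * a₀ := by rw [hcc, mul_one]
    have hcard : Nat.card Q₁ ≤ Nat.card E := by
      let φ : Q₁ → E := fun a =>
        if hC : (a : G) ∈ C then ⟨a, (memE _).2 ⟨a, hC, Or.inl rfl⟩⟩
        else ⟨a * a₀ * t, (memE _).2 ⟨a * a₀, hprod a a.2 hC, Or.inr rfl⟩⟩
      apply Nat.card_le_card_of_injective φ
      intro a b hab
      by_cases h1 : (a : G) ∈ C <;> by_cases h3 : (b : G) ∈ C
      · simp only [φ, dif_pos h1, dif_pos h3] at hab
        exact Subtype.ext (congrArg (fun x : E => (x : G)) hab)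
      · exfalso
        simp only [φ, dif_pos h1, dif_neg h3] at hab
        have h4 : (a : G) = b * a₀ * t := congrArg Subtype.val hab
        apply htQ
        have h5 : t = (b * a₀)⁻¹ * a := by rw [h4]; group
        rw [h5]
        exact Q₁.mul_mem (Q₁.inv_mem (Q₁.mul_mem b.2 ha₀)) a.2
      · exfalso
        simp only [φ, dif_neg h1, dif_pos h3] at hab
        have h4 : (a : G) * a₀ * t = b := congrArg Subtype.val hab
        apply htQ
        have h5 : t = (a * a₀)⁻¹ * b := by rw [← h4]; group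
        rw [h5]
        exact Q₁.mul_mem (Q₁.inv_mem (Q₁.mul_mem a.2 ha₀)) b.2
      · simp only [φ, dif_neg h1, dif_neg h3] at hab
        have h4 : (a : G) * a₀ * t = b * a₀ * t := congrArg Subtype.val hab
        exact Subtype.ext (mul_right_cancel (mul_right_cancel h4))
    have htB : t ∈ B := hAA E hET hEsq hcard ((memE t).2 ⟨1, C.one_mem, Or.inr (one_mul t).symm⟩)
    -- the moved generator
    have hex : ∃ l, cj t (e l) ≠ e l := by
      by_contra hno
      push Not at hno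
      let W : Subgroup G :=
        { carrier := {a | cj t a = a}
          one_mem' := by change cj t 1 = 1; simp [cj]
          mul_mem' := by
            intro a b (ha : cj t a = a) (hb : cj t b = b)
            change cj t (a * b) = a * b
            rw [cj_prod, ha, hb]
          inv_mem' := by
            intro a (ha : cj t a = a)
            change cj t a⁻¹ = a⁻¹
            rw [cj_inv, ha] }
      have hW : Q₁ ≤ W := h.gen1 W hno fun z hz => cj_eq_self.2 (h.Dc z hz t htB).symm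
      exact hmov (hW ha₀)
    obtain ⟨l, hl⟩ := hex
    have hl1 : cj t (e l) = d l * e l := (h.diche l htB).resolve_left hl
    have hcl : c = d l := by
      have h1 : cj t (e l) = e l * c := (hact _ (h.eQ l)).resolve_left hl
      rw [hl1, h.dc l (h.eB l)] at h1
      exact (mul_left_cancel h1).symm
    refine ⟨l, ?_⟩
    let W : Subgroup G :=
      { carrier := {a | cj t a = cj (f l) a}
        one_mem' := by change cj t 1 = cj (f l) 1; simp [cj]
        mul_mem' := by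
          intro a b (ha : cj t a = cj (f l) a) (hb : cj t b = cj (f l) b)
          change cj t (a * b) = cj (f l) (a * b)
          rw [cj_prod, cj_prod, ha, hb]
        inv_mem' := by
          intro a (ha : cj t a = cj (f l) a)
          change cj t a⁻¹ = cj (f l) a⁻¹
          rw [cj_inv, cj_inv, ha] }
    have hW : Q₁ ≤ W := by
      refine h.gen1 W (fun k => ?_) fun z hz => ?_
      · change cj t (e k) = cj (f l) (e k)
        by_cases hkl : k = l
        · subst hkl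
          rw [hl1]
          have h1 := h.fe k
          have h3 : cj (f k) (e k) = f k * e k * (f k)⁻¹ := rfl
          rw [h3, h1]; group
        · have h1 : cj (f l) (e k) = e k := cj_eq_self.2 (h.fec k l hkl)
          rw [h1]
          rcases h.diche k htB with h3 | h3
          · exact h3
          · exfalso
            rcases hact _ (h.eQ k) with h4 | h4
            · have h5 : d k * e k = e k := h3.symm.trans h4
              exact h.dne k (by simpa using h5)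
            · have h5 : d k * e k = e k * c := h3.symm.trans h4
              rw [h.dc k (h.eB k)] at h5
              have h6 := mul_left_cancel h5
              rw [hcl] at h6
              exact hkl (h.dinj h6)
      · change cj t z = cj (f l) z
        rw [cj_eq_self.2 (h.Dc z hz t htB).symm, cj_eq_self.2 (h.Dc z hz _ (h.fB l)).symm]
    exact fun a ha => hW ha

/-! ### `Sym` and `Anti` -/

section sym

variable (h : MIn A T B Z P s L Q V D)

include h

theorem normB {x : G} (i₀ : ι) [Finite G] (hx : x ∈ A) : x ∈ normalizer (B : Set G) :=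
  mem_norm_of fun _ hy => (h.dat i₀).cjB hx hy

theorem normZ {x : G} (i₀ : ι) [Finite G] (hx : x ∈ A) : x ∈ normalizer (Z : Set G) :=
  mem_norm_of fun _ hy => (h.dat i₀).cjZ hx hy

/-- the action of `x ∈ T` on the blocks of the first side -/
theorem half1 [Finite ι] [Finite G] (i₀ : ι)
    (h2 : ∀ i, Small Z (V i)) (c : Ch B Z s L V D m d e r)
    (hw : Tw B P (Dm P s) Z e (ff s e m) d r (ff s r m)) (hL : Loc P T (ff s e m)) {x : G}
    (hx : x ∈ T) : ∃ p : ι → ι, Half Z d e r e r x p ∧ ∀ k, cj x (d k) = d (p k) := by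
  choose p hpV hpD using h.perm x hx
  have hxA : x ∈ A := h.TA i₀ hx
  have hd : ∀ k, cj x (d k) = d (p k) := by
    intro k
    rcases (c.bd (p k)).Deq _ (hpD k _ (c.bd k).dD) with h1 | h1
    · exfalso
      apply (c.bd k).blk.dne
      have h3 : cj x (d k) = cj x 1 := by
        have : cj x 1 = (1 : G) := by simp [cj]
        rw [this]; exact h1
      exact cj_inj h3
    · exact h1
  have he : ∀ k, ∃ z ∈ Z, cj x (e k) = e (p k) * z := by
    intro k
    have h1 : cj x (e k) ∈ V (p k) := hpV k _ (c.bd k).eV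
    have h3 : cj x (e k) ∉ Z := by
      intro h4
      apply (c.bd k).eZ
      have h5 := (h.dat i₀).cjZ (A.inv_mem hxA) h4
      rwa [cj_inv_cj] at h5
    rcases V_split (h2 (p k)) (h.dat (p k)).Vsq (c.bd (p k)).eV (c.bd (p k)).eZ h1 with h4 | h4
    · exact absurd h4 h3
    · exact h4
  refine ⟨p, ⟨he, fun k => ?_⟩, hd⟩
  obtain ⟨z, hz, h1⟩ := he k
  -- the inverse relations
  have hi : cj x⁻¹ (e (p k)) = e k * cj x⁻¹ z⁻¹ := by
    have h3 : e (p k) = cj x (e k) * z⁻¹ := by rw [h1]; group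
    rw [h3, cj_prod, cj_inv_cj]
  have hdi : cj x⁻¹ (d (p k)) = d k := by rw [← hd k, cj_inv_cj]
  have hzi : cj x⁻¹ z⁻¹ ∈ Z := (h.dat i₀).cjZ (A.inv_mem hxA) (Z.inv_mem hz)
  have hBl := TwistLoc.Bl.of (l := p k) hw (normB h i₀ (A.inv_mem hxA))
    (normZ h i₀ (A.inv_mem hxA)) (c.bd k).blk hzi hi hdi
  rw [inv_inv] at hBl
  exact TwistLoc.xr_of hw hL hBl

/-- `x ∈ T` as a symmetry of both sides -/
theorem sym_of [Finite ι] [Finite G] (i₀ : ι)
    (h2 : ∀ i, Small Z (V i)) (c : Ch B Z s L V D m d e r)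
    (hw : Tw B P (Dm P s) Z e (ff s e m) d r (ff s r m)) (hL : Loc P T (ff s e m)) {x : G}
    (hx : x ∈ T) : ∃ p : ι → ι, Sym B Z e (ff s e m) d r (ff s r m) x p ∧
      ∀ k, cj x (d k) = d (p k) := by
  obtain ⟨p, hp, hpd⟩ := half1 h i₀ h2 c hw hL hx
  have hxA : x ∈ A := h.TA i₀ hx
  have hsA := h.sA
  have hx' : cj s⁻¹ x ∈ T := by
    by_contra hno
    have h1 := (h.dat i₀).idx s hsA (x * s) (A.mul_mem hxA hsA) h.sT (by
      intro h3
      apply h.sT
      have h4 : s = x⁻¹ * (x * s) := by group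
      rw [h4]
      exact T.mul_mem (T.inv_mem hx) h3)
    apply hno
    have e1 : cj s⁻¹ x = s⁻¹ * (x * s) := by simp [cj, mul_assoc]
    rw [e1]; exact h1
  obtain ⟨p', hp', hpd'⟩ := half1 h i₀ h2 c hw hL hx'
  have hact : ∀ a : G, cj x (cj s a) = cj s (cj (cj s⁻¹ x) a) := by
    intro a; simp [cj, mul_assoc]
  -- matching of the permutations
  have hm : ∀ k, p' (m k) = m (p k) := by
    intro k
    obtain ⟨k', hk'⟩ := m_surj h c (p' (m k))
    have h1 : d (p k) = d k' := by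
      rw [← hpd k]
      nth_rw 1 [← s_d h c k]
      rw [hact, hpd', ← hk', s_d h c k']
    rw [← hk', d_inj h c h1]
  refine ⟨p, ⟨normB h i₀ hxA, normZ h i₀ hxA, hp, ⟨fun k => ?_, fun k => ?_⟩⟩, hpd⟩
  · obtain ⟨z, hz, h1⟩ := hp'.xe (m k)
    refine ⟨cj s z, (h.dat i₀).cjZ hsA hz, ?_⟩
    change cj x (cj s (e (m k))) = cj s (e (m (p k))) * cj s z
    rw [hact, ← cj_prod, ← hm k]
    exact congrArg (cj s) h1
  · obtain ⟨v, hv, h1⟩ := hp'.xr (m k)
    rw [hm k] at hv h1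
    refine ⟨cj s v, ?_, ?_⟩
    · have h3 := InV_cj s hv
      rw [s_d h c (p k)] at h3
      exact h3
    · rcases h1 with h1 | h1
      · left
        change cj x (cj s (r (m k))) = cj s (r (m (p k))) * cj s v
        rw [hact, ← cj_prod]
        exact congrArg (cj s) h1
      · right
        change cj x (cj s (r (m k))) = (cj s (r (m (p k))))⁻¹ * cj s v
        rw [hact, ← cj_inv, ← cj_prod]
        exact congrArg (cj s) h1

/-- `s` exchanges the sides -/
theorem anti_of [Finite ι] [Finite G] (i₀ : ι)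
    (h2 : ∀ i, Small Z (V i)) (c : Ch B Z s L V D m d e r)
    (hw : Tw B P (Dm P s) Z e (ff s e m) d r (ff s r m)) (hL : Loc P T (ff s e m)) :
    ∃ p : ι → ι, Anti B Z e (ff s e m) d r (ff s r m) s p := by
  choose p hpm using fun k => m_surj h c k
  have hsA := h.sA
  have hss : s * s ∈ T := by
    have h1 := (h.dat i₀).idx s⁻¹ (A.inv_mem hsA) s hsA (fun h3 => h.sT (by
      simpa using T.inv_mem h3)) h.sT
    rwa [inv_inv] at h1
  obtain ⟨q, hq, hqd⟩ := half1 h i₀ h2 c hw hL hss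
  have hmul : ∀ a : G, cj s (cj s a) = cj (s * s) a := by
    intro a; rw [cj_mul]
  have hqm : ∀ k, q (m k) = p k := by
    intro k
    apply d_inj h c
    rw [← hqd, ← hmul, s_d h c k]
    nth_rw 1 [← hpm k]
    rw [s_d h c (p k)]
  refine ⟨p, ⟨normB h i₀ hsA, normZ h i₀ hsA, ⟨fun k => ?_, fun k => ?_⟩,
    ⟨fun k => ?_, fun k => ?_⟩⟩⟩
  · refine ⟨1, Z.one_mem, ?_⟩
    change cj s (e k) = cj s (e (m (p k))) * 1
    rw [hpm, mul_one]
  · refine ⟨1, Or.inl rfl, Or.inl ?_⟩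
    change cj s (r k) = cj s (r (m (p k))) * 1
    rw [hpm, mul_one]
  · obtain ⟨z, hz, h1⟩ := hq.xe (m k)
    refine ⟨z, hz, ?_⟩
    change cj s (cj s (e (m k))) = e (p k) * z
    rw [hmul, ← hqm]
    exact h1
  · obtain ⟨v, hv, h1⟩ := hq.xr (m k)
    rw [hqm] at hv h1
    refine ⟨v, hv, ?_⟩
    rcases h1 with h1 | h1
    · left
      change cj s (cj s (r (m k))) = r (p k) * v
      rw [hmul]
      exact h1
    · right
      change cj s (cj s (r (m k))) = (r (p k))⁻¹ * v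
      rw [hmul]
      exact h1

/-- **The structure `Hom`.** -/
theorem hom_of [Finite ι] [Finite G] (i₀ : ι)
    (hZ : ∀ x ∈ B, x * x = 1 → (∀ b ∈ B, x * b = b * x) → x ∈ Z)
    (h2 : ∀ i, Small Z (V i)) (c : Ch B Z s L V D m d e r) (hL : Loc P T (ff s e m)) :
    Hom B P (Dm P s) Z e (ff s e m) d r (ff s r m) where
  toTw := tw_of h i₀ hZ h2 c
  sym := by
    intro i i'
    obtain ⟨x, hx, h1⟩ := h.trans i i'
    obtain ⟨p, hp, hpd⟩ := sym_of h i₀ h2 c (tw_of h i₀ hZ h2 c) hL hx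
    refine ⟨x, p, hp, ?_⟩
    apply d_inj h c
    rw [← hpd]
    rcases (c.bd i').Deq _ (h1 _ (c.bd i).dD) with h3 | h3
    · exfalso
      apply (c.bd i).blk.dne
      have h4 : cj x (d i) = cj x 1 := by
        have : cj x 1 = (1 : G) := by simp [cj]
        rw [this]; exact h3
      exact cj_inj h4
    · exact h3
  anti := by
    obtain ⟨p, hp⟩ := anti_of h i₀ h2 c (tw_of h i₀ hZ h2 c) hL
    exact ⟨s, p, hp⟩

end sym

end Cfsg.Agent.Omega.SQ1.TwistOf

end

section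


/-!
# SQ1: there is only one block, all `q` (L6 + L7)

`one_block_two` : `q = 2` (twisted Killing Lemma, #11855); `one_block_all` : all `q`.
-/

set_option autoImplicit false

namespace Cfsg.Agent.Omega.SQ1.KillTwo

open Cfsg.Agent.MinSimple.PushUp Cfsg.Agent.Omega.PushUp Cfsg.Agent.Omega.SQ1.Match
open Cfsg.Agent.Omega.SQ1.BlockO Cfsg.Agent.Omega.SQ1.Block Subgroup
open Cfsg.Agent.Omega.SQ1.Kill (bh mem_bh)
open Cfsg.Agent.Omega.SQ1.TwistBlk (Small)
open Cfsg.Agent.Omega.SQ1.TwistOf (Ch ff exists_ch tw_of loc_of hom_of)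
open scoped Pointwise

variable {G : Type*} [Group G] {ι : Type*}
variable {A T B Z P : Subgroup G} {s : G} {L Q V D : ι → Subgroup G}

/-- the two blocks -/
def XX (s : G) (L : ι → Subgroup G) (i j : ι) (b : Bool) : Subgroup G :=
  if b then O2 (L i) else Dm (O2 (L j)) s

/-- the two elementary abelian groups -/
def QQ (s : G) (P : Subgroup G) (b : Bool) : Subgroup G := if b then P else Dm P s

/-- **There are no two blocks**, provided that the splitting `tw` holds. -/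
theorem one_block_of_tw [Finite G] [Finite ι] (hG : Kill.CharTwo G)
    (h : MIn A T B Z P s L Q V D)
    (hZ : ∀ x ∈ B, x * x = 1 → (∀ b ∈ B, x * b = b * x) → x ∈ Z)
    (hB2 : IsPGroup 2 B) (hJC : JCond B Z P) {i i' : ι} (hii : i ≠ i') {j : ι} (hp : Par s V i j)
    (htw : ∀ x ∈ normalizer (B : Set G), (∀ c ∈ bh B (XX s L i j), x * c = c * x) →
      (∀ b ∈ B, x * b * x⁻¹ * b⁻¹ ∈ bh B (XX s L i j)) → ∀ t, x ∈ normalizer (QQ s P t : Set G)) :
    False := by
  obtain ⟨j', hp'⟩ := h.par_exists i'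
  have hjj : j ≠ j' := fun hj => hii (h.par_inj hp (hj ▸ hp'))
  have hPB := P_le_B h
  set X : Bool → Subgroup G := XX s L i j with hXdef
  set Qf : Bool → Subgroup G := QQ s P with hQdef
  have hXt : X true = O2 (L i) := rfl
  have hXf : X false = Dm (O2 (L j)) s := rfl
  have hQt : Qf true = P := rfl
  have hQf : Qf false = Dm P s := rfl
  have hBP : B ≤ normalizer (P : Set G) := fun b hb =>
    mem_norm_of fun y hy => h.LP i b ((h.dat i).BL hb) y hy
  have hLP : ∀ k, L k ≤ normalizer (P : Set G) := fun k l hl =>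
    mem_norm_of fun y hy => h.LP k l hl y hy
  have hBPs : B ≤ normalizer ((Dm P s : Subgroup G) : Set G) := fun b hb =>
    norm_Dm' (hBP (h.cjsB' i hb))
  -- `D i' ≤ Bh`
  have hDB : D i' ≤ bh B X := by
    intro d hd
    rw [mem_bh]
    refine ⟨(h.dat i').VB ((h.dat i').DV hd), fun b x hx => ?_⟩
    cases b with
    | true => exact h.cross i' i hii.symm x (O2_le _ hx) d hd
    | false =>
      have h1 : cj s⁻¹ x ∈ L j := O2_le _ (mem_Dm.1 hx)
      have h2 : cj s⁻¹ d ∈ D j' := h.par_D' hp' hd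
      have h3 := h.cross j' j hjj.symm _ h1 _ h2
      have h4 := (cj_comm (g := s)).2 h3
      rwa [cj_cj_inv, cj_cj_inv] at h4
  have hbne : bh B X ≠ ⊥ := by
    intro hbot
    obtain ⟨d, hd, hd1⟩ := (h.dat i').exists_ne
    apply hd1
    have := hDB hd
    rw [hbot] at this
    simpa using this
  have hbh2 : IsPGroup 2 (bh B X) := hB2.to_le inf_le_left
  obtain ⟨R, hR2, hRN, hNR, hbR, hcR⟩ := hG _ hbne hbh2
  -- the blocks normalise `Bh`
  have hXbh : ∀ b, X b ≤ normalizer (bh B X : Set G) := by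
    intro b x hx
    apply mem_norm_of
    intro c hc
    have h1 := (mem_bh.1 hc).2 b x hx
    rw [h1, mul_assoc, mul_inv_cancel, mul_one]; exact hc
  have hBX : ∀ b, ∀ c ∈ B, ∀ x ∈ X b, cj c x ∈ X b := by
    intro b c hc x hx
    cases b with
    | true => exact O2_norm ((h.dat i).BL hc) hx
    | false => exact Dm_O2_norm h hc hx
  have hBbh : B ≤ normalizer (bh B X : Set G) := by
    intro b hb
    apply mem_norm_of
    intro c hc
    obtain ⟨h1, h2⟩ := mem_bh.1 hc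
    refine mem_bh.2 ⟨mul_mem (mul_mem hb h1) (inv_mem hb), fun t x hx => ?_⟩
    have h3 := h2 t _ (hBX t b⁻¹ (inv_mem hb) x hx)
    have h4 := (cj_comm (g := b)).2 h3
    rwa [cj_cj_inv] at h4
  -- the local structure
  have hJC' : ∀ R : Subgroup G, IsPGroup 2 R → B ≤ R → R ≤ normalizer (P : Set G) →
      R ≤ normalizer (B : Set G) := fun R h1 h2 h3 => (hJC R h1 h2 h3).1
  have hDs : ∀ d ∈ D i, cj s⁻¹ d ∈ D j := fun d hd => h.par_D' hp hd
  have data : Kill.Data B R Qf (fun _ => D i) X := by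
    refine ⟨hB2, ?_, ?_, hBbh, hR2, hRN, hNR, hbR, hcR, ?_, ?_, ?_, htw⟩
    · intro t
      cases t with
      | true => exact hBP
      | false => exact hBPs
    · intro t
      cases t with
      | true => exact (O2_le _).trans (hLP i)
      | false =>
        intro x hx
        exact norm_Dm' (hLP j (O2_le _ (mem_Dm.1 hx)))
    · -- loc
      intro t F hF2 hFN hXF hBF
      cases t with
      | true =>
        have hT : Two B P (L i) F := ⟨hF2, hFN, fun y hy r hr => norm_cj (hXF hy) hr,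
          fun b hb r hr => norm_cj (hBF hb) hr⟩
        exact loc h hZ hB2 hJC' hT hp
      | false =>
        have hT : Two B P (L j) (Dm F s⁻¹) := by
          refine ⟨hF2.map _, ?_, ?_, ?_⟩
          · intro x hx
            rw [mem_Dm, inv_inv] at hx
            have h1 := norm_Dm (g := s⁻¹) (hFN hx)
            rw [cj_inv_cj] at h1
            have e : Dm (Qf false) s⁻¹ = P := Dm_inv_Dm s P
            rwa [e] at h1
          · intro y hy r hr
            rw [mem_Dm, inv_inv] at hr ⊢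
            have e : cj s (cj y r) = cj (cj s y) (cj s r) := by simp [cj, mul_assoc]
            rw [e]
            exact norm_cj (hXF (show cj s y ∈ Dm (O2 (L j)) s from cj_mem_Dm hy)) hr
          · intro b hb r hr
            rw [mem_Dm, inv_inv] at hr ⊢
            have e : cj s (cj b r) = cj (cj s b) (cj s r) := by simp [cj, mul_assoc]
            rw [e]
            exact norm_cj (hBF (h.cjsB i hb)) hr
        rcases loc h.inv hZ hB2 hJC' hT (MIn.par_symm hp) with h1 | h1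
        · left
          intro x hx f hf
          have h2 := h1 _ (mem_Dm.1 hx) (cj s⁻¹ f) (by rw [mem_Dm, inv_inv, cj_cj_inv]; exact hf)
          have h3 := (cj_comm (g := s)).2 h2
          rwa [cj_cj_inv, cj_cj_inv] at h3
        · right
          intro d hd
          have h2 := h1 (hDs d hd)
          rwa [mem_Dm, inv_inv, cj_cj_inv] at h2
    · -- kick
      intro _ hDR
      have hT : Two B P (L i) (R ⊓ normalizer (P : Set G)) := by
        refine ⟨hR2.to_le inf_le_left, inf_le_right, ?_, ?_⟩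
        · intro y hy r hr
          have hyP : y ∈ normalizer (P : Set G) := hLP i (O2_le _ hy)
          have h1 : cj y r ∈ normalizer (P : Set G) :=
            mul_mem (mul_mem hyP (mem_inf.1 hr).2) (inv_mem hyP)
          exact mem_inf.2 ⟨norm_cj (hNR (hXbh true hy)) (mem_inf.1 hr).1, h1⟩
        · intro b hb r hr
          have h1 : cj b r ∈ normalizer (P : Set G) :=
            mul_mem (mul_mem (hBP hb) (mem_inf.1 hr).2) (inv_mem (hBP hb))
          exact mem_inf.2 ⟨norm_cj (hNR (hBbh hb)) (mem_inf.1 hr).1, h1⟩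
      obtain ⟨y, hy, d, hd, hdZ⟩ := O2_moves h (i := j)
      apply hdZ
      have h1 : cj s (cj y d) ∈ R := by
        have e : cj s (cj y d) = cj (cj s y) (cj s d) := by simp [cj, mul_assoc]
        rw [e]
        exact norm_cj (hNR (hXbh false (show cj s y ∈ Dm (O2 (L j)) s from cj_mem_Dm hy)))
          (hDR (h.par_D hp hd))
      have hyd : cj y d ∈ V j := (h.dat j).cjV (O2_le _ hy) ((h.dat j).DV hd)
      have h2 : cj s (cj y d) ∈ Dm (V j) s := cj_mem_Dm hyd
      have h3 : cj s (cj y d) ∈ B := V'_le_B h j h2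
      have h4 : cj s (cj y d) ∈ Q i := R_cap h hZ hB2 hJC' hT ⟨h1, hBP h3⟩ h3
      have h5 := V'_cap h hp h2 fun v hv => (h.dat i).VcQ _ h4 v hv
      have h6 := (h.dat i).cjZ (A.inv_mem h.sA) h5
      rwa [cj_inv_cj] at h6
    · -- grow
      intro P' hP' hBP' _ hPQ
      exact (hJC P' hP' hBP' (hPQ true)).2.1
  obtain ⟨x, hx, hodd, hx1⟩ := exists_odd h i
  exact data.false true (mem_O2 hx hodd) (pow_orderOf_eq_one x) hodd hx1

/-- **There are no two blocks** (`q = 2`). -/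
theorem one_block_two [Finite G] [Finite ι] (hG : Kill.CharTwo G) (h : MIn A T B Z P s L Q V D)
    (hZ : ∀ x ∈ B, x * x = 1 → (∀ b ∈ B, x * b = b * x) → x ∈ Z)
    (hB2 : IsPGroup 2 B) (hself : centralizer (P : Set G) ≤ P) (hJC : JCond B Z P)
    (h2 : ∀ i, Small Z (V i))
    (hsyl : ∀ R : Subgroup G, IsPGroup 2 R → R ≤ normalizer (P : Set G) →
      ∃ g ∈ normalizer (P : Set G), ∀ a ∈ R, g * a * g⁻¹ ∈ T)
    (hAA : ∀ E : Subgroup G, E ≤ T → (∀ x ∈ E, x * x = 1) → Nat.card P ≤ Nat.card E → E ≤ B)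
    {i i' : ι} (hii : i ≠ i') : False := by
  obtain ⟨m, d, e, r, c⟩ := exists_ch h hB2 hself h2
  have hw := tw_of h i hZ h2 c
  have hPT : P ≤ T := (P_le_B h).trans (h.dat i).BT
  have hL := loc_of hw hPT hself hsyl hAA
  have hH := hom_of h i hZ h2 c hL
  refine one_block_of_tw hG h hZ hB2 hJC hii (c.par i) ?_
  intro x hx hxc hxb
  have hmain : x ∈ normalizer (P : Set G) ∧ x ∈ normalizer ((Dm P s : Subgroup G) : Set G) := by
    refine Twist.tw hH hL (i := i) hx ?_ ?_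
    · intro b hb h1 h3
      apply hxc
      rw [mem_bh]
      refine ⟨hb, fun t y hy => ?_⟩
      cases t with
      | true => exact (c.bd i).rB b hb h1 y hy
      | false =>
        have hy' : cj s⁻¹ y ∈ O2 (L (m i)) := mem_Dm.1 hy
        have hb' : cj s⁻¹ b ∈ B := h.cjsB' i hb
        have h4 : cj s⁻¹ b * r (m i) = r (m i) * cj s⁻¹ b := by
          have h5 := (cj_comm (g := s⁻¹)).2 h3
          rw [ff, cj_inv_cj] at h5
          exact h5
        have h6 := (c.bd (m i)).rB _ hb' h4 _ hy'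
        have h7 := (cj_comm (g := s)).2 h6
        rwa [cj_cj_inv, cj_cj_inv] at h7
    · intro b hb
      obtain ⟨-, h1⟩ := mem_bh.1 (hxb b hb)
      refine ⟨(h1 true (r i) (c.bd i).rO).symm, (h1 false (ff s r m i) ?_).symm⟩
      exact cj_mem_Dm (c.bd (m i)).rO
  intro t
  cases t with
  | true => exact hmain.1
  | false => exact hmain.2

/-- `|V i : Z| = 2` in terms of the index -/
theorem small_iff [Finite G] (h : MIn A T B Z P s L Q V D) (i : ι) :
    Small Z (V i) ↔ Z.relIndex (V i) = 2 := by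
  constructor
  · intro h2
    rw [idx_eq (h.dat i)]
    exact TwistBlk.index_two (h.dat i) h2
  · intro h2 v hv w hw hvZ hwZ
    have h3 := Subgroup.mul_mem_iff_of_index_two (H := Z.subgroupOf (V i)) h2 (a := ⟨v, hv⟩)
      (b := ⟨w, hw⟩)
    rw [mem_subgroupOf, mem_subgroupOf, mem_subgroupOf] at h3
    exact h3.2 (iff_of_false hvZ hwZ)

/-- **There are no two blocks** (all `q`). -/
theorem one_block_all [Finite G] [Finite ι] (hG : Kill.CharTwo G) (h : MIn A T B Z P s L Q V D)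
    (hZ : ∀ x ∈ B, x * x = 1 → (∀ b ∈ B, x * b = b * x) → x ∈ Z)
    (hB2 : IsPGroup 2 B) (hself : centralizer (P : Set G) ≤ P) (hJC : JCond B Z P)
    (hsyl : ∀ R : Subgroup G, IsPGroup 2 R → R ≤ normalizer (P : Set G) →
      ∃ g ∈ normalizer (P : Set G), ∀ a ∈ R, g * a * g⁻¹ ∈ T)
    (hAA : ∀ E : Subgroup G, E ≤ T → (∀ x ∈ E, x * x = 1) → Nat.card P ≤ Nat.card E → E ≤ B)
    {i i' : ι} (hii : i ≠ i') : False := by
  by_cases h2 : Small Z (V i)
  · refine one_block_two hG h hZ hB2 hself hJC (fun k => ?_) hsyl hAA hii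
    rw [small_iff h, ← idx_ij h i k]
    exact (small_iff h i).1 h2
  · refine one_block hG h hZ hB2 hself hJC (fun k => ?_) hii
    have h3 : ¬ Small Z (V k) := by
      intro h4
      apply h2
      rw [small_iff h, idx_ij h i k]
      exact (small_iff h k).1 h4
    unfold TwistBlk.Small at h3
    push Not at h3
    obtain ⟨v, hv, w, hw, hvZ, hwZ, hvw⟩ := h3
    exact ⟨v, hv, w, hw, hvZ, hwZ, hvw⟩

end Cfsg.Agent.Omega.SQ1.KillTwo

end

section


/-!
# The unique maximal 2-local case, one block, `q = 2` (SQ1, #6862 (6))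

`Hyp T Q s`: `T` is a 2-group, `Q ≤ T` is elementary abelian and normal in `T`, `C_T(Q) = Q`, `T` is a Sylow
2-subgroup of `N_G(Q)`, `s` normalises `T`, `s ^ 2 ∈ T`, `|Q : Q ∩ Q ^ s| = 2`, and the elementary abelian
subgroups of `T` of order `≥ |Q|` lie in `B = Q Q ^ s`.

This file: elementary consequences, the weak closure of `B`, the transvections induced on `Q` by the
conjugates of `B` in `N_G(Q)`.
-/

set_option autoImplicit false

namespace Cfsg.Agent.Omega.SQ1.Two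

open Subgroup Cfsg Cfsg.Agent.ZN Cfsg.Agent.ZN.ChoiceBase Cfsg.Agent.ZN.ChoiceSit
open Cfsg.Agent.MinSimple.CaseOneAP (mul_mem_of_relIndex comm_of_sq)

universe u

variable {G : Type u} [Group G]

/-- The hypotheses without the one on the elementary abelian subgroups. -/
structure Hyp0 (T Q : Subgroup G) (s : G) : Prop where
  syl : Syl T (normalizer (Q : Set G))
  QT : Q ≤ T
  sq : ∀ q ∈ Q, q * q = 1
  cent : ∀ t ∈ T, (∀ q ∈ Q, t * q = q * t) → t ∈ Q
  sT : s ∈ normalizer (T : Set G)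
  ss : s * s ∈ T
  idx : (Q ⊓ cj s Q).relIndex Q = 2

/-- See the module documentation. -/
structure Hyp (T Q : Subgroup G) (s : G) : Prop extends Hyp0 T Q s where
  jt : ∀ A : Subgroup G, A ≤ T → (∀ a ∈ A, a * a = 1) → Nat.card Q ≤ Nat.card A → A ≤ Q ⊔ cj s Q

namespace Hyp0

variable {T Q : Subgroup G} {s : G}

theorem two (h : Hyp0 T Q s) : IsPGroup 2 T := h.syl.2.1

theorem TN (h : Hyp0 T Q s) : T ≤ normalizer (Q : Set G) := h.syl.1

theorem conj (_h : Hyp0 T Q s) {g q : G} (hg : g ∈ normalizer (Q : Set G)) (hq : q ∈ Q) :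
    g * q * g⁻¹ ∈ Q := (mem_normalizer_iff.1 hg q).1 hq

theorem conj' (_h : Hyp0 T Q s) {g q : G} (hg : g ∈ normalizer (Q : Set G)) (hq : q ∈ Q) :
    g⁻¹ * q * g ∈ Q := by
  have := (mem_normalizer_iff.1 (inv_mem hg) q).1 hq
  rwa [inv_inv] at this

theorem comm (h : Hyp0 T Q s) {a b : G} (ha : a ∈ Q) (hb : b ∈ Q) : a * b = b * a :=
  comm_of_sq h.sq ha hb

theorem inv_eq (h : Hyp0 T Q s) {a : G} (ha : a ∈ Q) : a⁻¹ = a := inv_eq_of_mul_eq_one_left (h.sq a ha)

theorem sTc (h : Hyp0 T Q s) {x : G} (hx : x ∈ T) : s * x * s⁻¹ ∈ T := (mem_normalizer_iff.1 h.sT x).1 hx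

theorem sTc' (h : Hyp0 T Q s) {x : G} (hx : x ∈ T) : s⁻¹ * x * s ∈ T := by
  have := (mem_normalizer_iff.1 (inv_mem h.sT) x).1 hx
  rwa [inv_inv] at this

/-- `Q ^ s ≤ T`. -/
theorem Q'T (h : Hyp0 T Q s) : cj s Q ≤ T := by
  intro x hx
  rw [mem_cj] at hx
  have := h.sTc (h.QT hx)
  have e : s * (s⁻¹ * x * s) * s⁻¹ = x := by group
  rwa [e] at this

theorem mem' (_h : Hyp0 T Q s) {q : G} (hq : q ∈ Q) : s * q * s⁻¹ ∈ cj s Q := by
  rw [mem_cj]
  have e : s⁻¹ * (s * q * s⁻¹) * s = q := by group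
  rwa [e]

theorem ssc (h : Hyp0 T Q s) {q : G} (hq : q ∈ Q) : (s * s) * q * (s * s)⁻¹ ∈ Q := h.conj (h.TN h.ss) hq

theorem ssc' (h : Hyp0 T Q s) {q : G} (hq : q ∈ Q) : (s * s)⁻¹ * q * (s * s) ∈ Q := h.conj' (h.TN h.ss) hq

/-- `s` maps `Q ^ s` to `Q`. -/
theorem swap' (h : Hyp0 T Q s) {q : G} (hq : q ∈ cj s Q) : s * q * s⁻¹ ∈ Q := by
  rw [mem_cj] at hq
  have := h.ssc hq
  have e : s * s * (s⁻¹ * q * s) * (s * s)⁻¹ = s * q * s⁻¹ := by group
  rwa [e] at this

/-- `s⁻¹` maps `Q` to `Q ^ s`. -/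
theorem swap'' (h : Hyp0 T Q s) {q : G} (hq : q ∈ Q) : s⁻¹ * q * s ∈ cj s Q := by
  rw [mem_cj]
  have := h.ssc' hq
  have e : (s * s)⁻¹ * q * (s * s) = s⁻¹ * (s⁻¹ * q * s) * s := by group
  rwa [e] at this

/-- `T` normalises `Q ^ s`. -/
theorem TN' (h : Hyp0 T Q s) : T ≤ normalizer ((cj s Q : Subgroup G) : Set G) := by
  intro t ht
  rw [mem_normalizer_iff]
  intro x
  have h1 := h.TN (h.sTc' ht)
  rw [mem_cj, mem_cj, (mem_normalizer_iff.1 h1 (s⁻¹ * x * s))]
  have e : s⁻¹ * t * s * (s⁻¹ * x * s) * (s⁻¹ * t * s)⁻¹ = s⁻¹ * (t * x * t⁻¹) * s := by group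
  rw [e]

theorem sq' (h : Hyp0 T Q s) {q : G} (hq : q ∈ cj s Q) : q * q = 1 := by
  rw [mem_cj] at hq
  have := h.sq _ hq
  calc q * q = s * ((s⁻¹ * q * s) * (s⁻¹ * q * s)) * s⁻¹ := by group
    _ = 1 := by rw [this]; group

theorem comm' (h : Hyp0 T Q s) {a b : G} (ha : a ∈ cj s Q) (hb : b ∈ cj s Q) : a * b = b * a :=
  comm_of_sq (fun _ hq => h.sq' hq) ha hb

/-- `D = Q ∩ Q ^ s`. -/
abbrev D (_h : Hyp0 T Q s) : Subgroup G := Q ⊓ cj s Q

/-- `B = Q Q ^ s`. -/
abbrev B (_h : Hyp0 T Q s) : Subgroup G := Q ⊔ cj s Q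

theorem sD (h : Hyp0 T Q s) {x : G} (hx : x ∈ Q ⊓ cj s Q) : s * x * s⁻¹ ∈ Q ⊓ cj s Q :=
  ⟨h.swap' hx.2, h.mem' hx.1⟩

theorem sD' (h : Hyp0 T Q s) {x : G} (hx : x ∈ Q ⊓ cj s Q) : s⁻¹ * x * s ∈ Q ⊓ cj s Q :=
  ⟨mem_cj.1 hx.2, h.swap'' hx.1⟩

theorem s_notMem (h : Hyp0 T Q s) {x : G} (hx : x ∉ Q ⊓ cj s Q) : s * x * s⁻¹ ∉ Q ⊓ cj s Q := by
  intro hh
  apply hx
  have := h.sD' hh
  have e : s⁻¹ * (s * x * s⁻¹) * s = x := by group
  rwa [e] at this

theorem s_notMem' (h : Hyp0 T Q s) {x : G} (hx : x ∉ Q ⊓ cj s Q) : s⁻¹ * x * s ∉ Q ⊓ cj s Q := by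
  intro hh
  apply hx
  have := h.sD hh
  have e : s * (s⁻¹ * x * s) * s⁻¹ = x := by group
  rwa [e] at this

theorem mulD (h : Hyp0 T Q s) {a b : G} (ha : a ∈ Q) (hb : b ∈ Q) (ha' : a ∉ Q ⊓ cj s Q)
    (hb' : b ∉ Q ⊓ cj s Q) : a * b ∈ Q ⊓ cj s Q := mul_mem_of_relIndex h.idx ha hb ha' hb'

theorem mulD' (h : Hyp0 T Q s) {a b : G} (ha : a ∈ cj s Q) (hb : b ∈ cj s Q) (ha' : a ∉ Q ⊓ cj s Q)
    (hb' : b ∉ Q ⊓ cj s Q) : a * b ∈ Q ⊓ cj s Q := by
  have h1 := h.mulD (mem_cj.1 ha) (mem_cj.1 hb) (h.s_notMem' ha') (h.s_notMem' hb')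
  have h2 := h.sD h1
  have e : s * (s⁻¹ * a * s * (s⁻¹ * b * s)) * s⁻¹ = a * b := by group
  rwa [e] at h2

theorem exists_a (h : Hyp0 T Q s) : ∃ a ∈ Q, a ∉ Q ⊓ cj s Q := by
  obtain ⟨c, hc, h1, -⟩ := relIndex_eq_two_iff_exists_notMem_and.1 h.idx
  exact ⟨c, hc, h1⟩

/-- Elements of `T` commuting with `D` and an element of `Q \ D` lie in `Q`. -/
theorem cent_of (h : Hyp0 T Q s) {t a : G} (ht : t ∈ T) (ha : a ∈ Q) (ha' : a ∉ Q ⊓ cj s Q)
    (hD : ∀ d ∈ Q ⊓ cj s Q, t * d = d * t) (hta : t * a = a * t) : t ∈ Q := by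
  refine h.cent t ht fun q hq => ?_
  by_cases hqD : q ∈ Q ⊓ cj s Q
  · exact hD q hqD
  · have h1 := hD _ (h.mulD ha hq ha' hqD)
    have h2 : t * (a * q) = a * (t * q) := by rw [← mul_assoc, hta, mul_assoc]
    have h3 : a * (t * q) = a * (q * t) := by rw [← h2, h1, mul_assoc]
    exact mul_left_cancel h3

/-- An element of `Q ^ s \ D` and an element of `Q \ D` do not commute. -/
theorem ncomm (h : Hyp0 T Q s) {a b : G} (ha : a ∈ Q) (ha' : a ∉ Q ⊓ cj s Q) (hb : b ∈ cj s Q)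
    (hb' : b ∉ Q ⊓ cj s Q) : b * a ≠ a * b := by
  intro hh
  exact hb' ⟨h.cent_of (h.Q'T hb) ha ha' (fun d hd => h.comm' hb hd.2) hh, hb⟩

/-- The commutator of `a` and `b` lies in `D`. -/
theorem z_mem (h : Hyp0 T Q s) {a b : G} (ha : a ∈ Q) (hb : b ∈ cj s Q) :
    a * b * a * b ∈ Q ⊓ cj s Q := by
  have h1 : a * b * a⁻¹ ∈ cj s Q := (mem_normalizer_iff.1 (h.TN' (h.QT ha)) b).1 hb
  have h2 : b * a * b⁻¹ ∈ Q := h.conj (h.TN (h.Q'T hb)) ha
  have ea : a⁻¹ = a := h.inv_eq ha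
  have eb : b⁻¹ = b := inv_eq_of_mul_eq_one_left (h.sq' hb)
  rw [ea] at h1
  rw [eb] at h2
  refine ⟨?_, mul_mem h1 hb⟩
  have e : a * b * a * b = a * (b * a * b) := by group
  rw [e]
  exact mul_mem ha h2

/-- The commutator of an element of `Q \ D` and one of `Q ^ s \ D` does not depend on the elements. -/
theorem z_eq (h : Hyp0 T Q s) {a b a' b' : G} (ha : a ∈ Q) (ha1 : a ∉ Q ⊓ cj s Q) (hb : b ∈ cj s Q)
    (hb1 : b ∉ Q ⊓ cj s Q) (ha' : a' ∈ Q) (ha1' : a' ∉ Q ⊓ cj s Q) (hb' : b' ∈ cj s Q)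
    (hb1' : b' ∉ Q ⊓ cj s Q) : a' * b' * a' * b' = a * b * a * b := by
  obtain ⟨d, hd, rfl⟩ : ∃ d ∈ Q ⊓ cj s Q, a' = a * d := by
    refine ⟨a * a', h.mulD ha ha' ha1 ha1', ?_⟩
    rw [← mul_assoc, h.sq a ha, one_mul]
  obtain ⟨e, he, rfl⟩ : ∃ e ∈ Q ⊓ cj s Q, b' = b * e := by
    refine ⟨b * b', h.mulD' hb hb' hb1 hb1', ?_⟩
    rw [← mul_assoc, h.sq' hb, one_mul]
  have c1 : d * b = b * d := h.comm' hd.2 hb
  have c2 : e * a = a * e := h.comm he.1 ha
  have c3 : d * e = e * d := h.comm hd.1 he.1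
  have c4 : d * a = a * d := h.comm hd.1 ha
  have c5 : e * b = b * e := h.comm' he.2 hb
  have hdd := h.sq d hd.1
  have hee := h.sq e he.1
  calc a * d * (b * e) * (a * d) * (b * e) = a * (d * b) * (e * a) * (d * b) * e := by group
    _ = a * b * (d * a) * (e * b) * (d * e) := by rw [c1, c2]; group
    _ = a * b * a * d * b * e * (d * e) := by rw [c4, c5]; group
    _ = a * b * a * (d * b) * e * (d * e) := by group
    _ = a * b * a * b * (d * (e * e) * d) := by rw [c1, c3]; group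
    _ = a * b * a * b := by rw [hee, mul_one, hdd, mul_one]

end Hyp0

end Cfsg.Agent.Omega.SQ1.Two

end

section


/-!
# The unique maximal 2-local case, one block, `q = 2`: weak closure and transvections
-/

set_option autoImplicit false

namespace Cfsg.Agent.Omega.SQ1.Two

open Subgroup Cfsg Cfsg.Agent.ZN Cfsg.Agent.ZN.ChoiceBase Cfsg.Agent.ZN.ChoiceSit
open Cfsg.Agent.MinSimple.CaseOneAP (mul_mem_of_relIndex comm_of_sq)

universe u

variable {G : Type u} [Group G]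

namespace Hyp0

variable {T Q : Subgroup G} {s : G}

theorem BT (h : Hyp0 T Q s) : Q ⊔ cj s Q ≤ T := sup_le h.QT h.Q'T

/-- Decomposition of the elements of `B`. -/
theorem exists_mul (h : Hyp0 T Q s) {x : G} (hx : x ∈ Q ⊔ cj s Q) :
    ∃ q ∈ Q, ∃ r ∈ cj s Q, q * r = x :=
  Cfsg.Agent.OddOrderLocal.RankBasics.exists_mul_of_mem_sup (h.QT.trans h.TN') hx

/-- An element of `B \ Q` is a product of an element of `Q` and an element of `Q ^ s \ D`. -/
theorem exists_mul' (h : Hyp0 T Q s) {x : G} (hx : x ∈ Q ⊔ cj s Q) (hxQ : x ∉ Q) :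
    ∃ q ∈ Q, ∃ r ∈ cj s Q, r ∉ Q ⊓ cj s Q ∧ q * r = x := by
  obtain ⟨q, hq, r, hr, rfl⟩ := h.exists_mul hx
  exact ⟨q, hq, r, hr, fun hh => hxQ (mul_mem hq hh.1), rfl⟩

/-- Elements of `D` are centralised by `B`. -/
theorem D_comm (h : Hyp0 T Q s) {x d : G} (hx : x ∈ Q ⊔ cj s Q) (hd : d ∈ Q ⊓ cj s Q) :
    x * d = d * x := by
  obtain ⟨q, hq, r, hr, rfl⟩ := h.exists_mul hx
  have h1 : q * d = d * q := h.comm hq hd.1
  have h2 : r * d = d * r := h.comm' hr hd.2
  rw [mul_assoc, h2, ← mul_assoc, h1, mul_assoc]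

/-- The action of an element of `B \ Q` on `Q \ D`. -/
theorem act (h : Hyp0 T Q s) {a b x q : G} (ha : a ∈ Q) (ha1 : a ∉ Q ⊓ cj s Q) (hb : b ∈ cj s Q)
    (hb1 : b ∉ Q ⊓ cj s Q) (hx : x ∈ Q ⊔ cj s Q) (hxQ : x ∉ Q) (hq : q ∈ Q) (hqD : q ∉ Q ⊓ cj s Q) :
    x * q * x⁻¹ = q * (a * b * a * b) := by
  obtain ⟨y, hy, r, hr, hr1, rfl⟩ := h.exists_mul' hx hxQ
  have h1 := h.z_eq ha ha1 hb hb1 hq hqD hr hr1
  have hrr := h.sq' hr
  have er : r⁻¹ = r := inv_eq_of_mul_eq_one_left hrr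
  have ey : y⁻¹ = y := h.inv_eq hy
  have hz := h.z_mem ha hb
  have hqq := h.sq q hq
  have h2 : r * q * r = q * (a * b * a * b) := by
    rw [← h1]
    calc r * q * r = (q * q) * r * q * r := by rw [hqq, one_mul]
      _ = q * (q * r * q * r) := by group
  have h3 : y * (q * (a * b * a * b)) = q * (a * b * a * b) * y :=
    h.comm hy (mul_mem hq hz.1)
  rw [mul_inv_rev, er, ey]
  calc y * r * q * (r * y) = y * (r * q * r) * y := by group
    _ = q * (a * b * a * b) * (y * y) := by rw [h2, h3]; group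
    _ = q * (a * b * a * b) := by rw [h.sq y hy, mul_one]

theorem act_D (h : Hyp0 T Q s) {x q : G} (hx : x ∈ Q ⊔ cj s Q) (hq : q ∈ Q ⊓ cj s Q) :
    x * q * x⁻¹ = q := by rw [h.D_comm hx hq, mul_inv_cancel_right]

/-- Elements of `B` commuting with an element of `Q \ D` lie in `Q`. -/
theorem mem_Q_of_comm (h : Hyp0 T Q s) {x q : G} (hx : x ∈ Q ⊔ cj s Q) (hq : q ∈ Q)
    (hqD : q ∉ Q ⊓ cj s Q) (hc : x * q = q * x) : x ∈ Q :=
  h.cent_of (h.BT hx) hq hqD (fun _ hd => h.D_comm hx hd) hc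

theorem isPGroup_Q (h : Hyp0 T Q s) : IsPGroup 2 Q := h.two.to_le h.QT

/-- The elementary abelian subgroups of `B` lie in `Q` or in `Q ^ s`. -/
theorem le_or_le (h : Hyp0 T Q s) {A : Subgroup G} (hAB : A ≤ Q ⊔ cj s Q)
    (hA2 : ∀ a ∈ A, a * a = 1) : A ≤ Q ∨ A ≤ cj s Q := by
  by_cases hAQ : A ≤ Q
  · exact Or.inl hAQ
  · right
    obtain ⟨x, hxA, hxQ⟩ := SetLike.not_le_iff_exists.1 hAQ
    have hD : ∀ y ∈ A, y ∈ Q → y ∈ cj s Q := by
      intro y hyA hyQ
      by_contra hyn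
      exact hxQ (h.mem_Q_of_comm (hAB hxA) hyQ (fun hh => hyn hh.2) (comm_of_sq hA2 hxA hyA))
    intro y hyA
    by_cases hyQ : y ∈ Q
    · exact hD y hyA hyQ
    · obtain ⟨q, hq, r, hr, hr1, rfl⟩ := h.exists_mul' (hAB hyA) hyQ
      have h1 := hA2 _ hyA
      have h2 : q ∈ Q ⊓ cj s Q := by
        by_contra hqn
        apply h.ncomm hq hqn hr hr1
        have e1 : r⁻¹ = r := inv_eq_of_mul_eq_one_left (h.sq' hr)
        have e2 : q⁻¹ = q := h.inv_eq hq
        have h3 : q * r = (q * r)⁻¹ := eq_inv_of_mul_eq_one_left h1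
        rw [mul_inv_rev, e1, e2] at h3
        exact h3.symm
      exact mul_mem h2.2 hr

end Hyp0

namespace Hyp

variable {T Q : Subgroup G} {s : G}

/-- The elementary abelian subgroups of `T` of order `≥ |Q|`. -/
theorem eq_or_eq [Finite G] (h : Hyp T Q s) {A : Subgroup G} (hA : A ≤ T) (hA2 : ∀ a ∈ A, a * a = 1)
    (hc : Nat.card Q ≤ Nat.card A) : A = Q ∨ A = cj s Q := by
  rcases h.le_or_le (h.jt A hA hA2 hc) hA2 with h1 | h1
  · exact Or.inl (eq_of_le_of_card_ge h1 hc)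
  · exact Or.inr (eq_of_le_of_card_ge h1 (by rw [card_cj]; exact hc))

/-- Conjugates of `Q` in `T`. -/
theorem cj_Q [Finite G] (h : Hyp T Q s) {g : G} (hg : cj g Q ≤ T) : cj g Q = Q ∨ cj g Q = cj s Q := by
  refine h.eq_or_eq hg ?_ (card_cj g Q).ge
  intro a ha
  rw [mem_cj] at ha
  have := h.sq _ ha
  calc a * a = g * ((g⁻¹ * a * g) * (g⁻¹ * a * g)) * g⁻¹ := by group
    _ = 1 := by rw [this]; group

theorem cj_Q' [Finite G] (h : Hyp T Q s) {g : G} (hg : cj g (cj s Q) ≤ T) :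
    cj g (cj s Q) = Q ∨ cj g (cj s Q) = cj s Q := by
  rw [cj_cj] at hg ⊢
  exact h.cj_Q hg

theorem ne (h : Hyp T Q s) : Q ≠ cj s Q := by
  intro he
  obtain ⟨a, ha, ha'⟩ := h.exists_a
  exact ha' ⟨ha, he ▸ ha⟩

theorem cj_sup (g : G) (H K : Subgroup G) : cj g (H ⊔ K) = cj g H ⊔ cj g K := Subgroup.map_sup _ _ _

/-- `B` is weakly closed in `T`. -/
theorem cj_B [Finite G] (h : Hyp T Q s) {g : G} (hg : cj g (Q ⊔ cj s Q) ≤ T) :
    cj g (Q ⊔ cj s Q) = Q ⊔ cj s Q := by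
  rw [cj_sup] at hg
  have h1 := h.cj_Q (le_sup_left.trans hg)
  have h2 := h.cj_Q' (le_sup_right.trans hg)
  have h3 : cj g (Q ⊔ cj s Q) ≤ Q ⊔ cj s Q := by
    rw [cj_sup]
    refine sup_le ?_ ?_
    · rcases h1 with h1 | h1
      · rw [h1]; exact le_sup_left
      · rw [h1]; exact le_sup_right
    · rcases h2 with h2 | h2
      · rw [h2]; exact le_sup_left
      · rw [h2]; exact le_sup_right
  exact eq_of_le_of_card_ge h3 (card_cj g _).ge

/-- A conjugate of `B` lying with `B` in a 2-subgroup of `N_G(Q)` is equal to `B`. -/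
theorem weak [Finite G] (h : Hyp T Q s) {P : Subgroup G} (hP : IsPGroup 2 P)
    (hPN : P ≤ normalizer (Q : Set G)) (hB : Q ⊔ cj s Q ≤ P) {g : G} (hg : cj g (Q ⊔ cj s Q) ≤ P) :
    cj g (Q ⊔ cj s Q) = Q ⊔ cj s Q := by
  obtain ⟨S, hS, hPS⟩ := exists_syl hP hPN
  obtain ⟨x, -, hx⟩ := syl_conj hS h.syl
  have h1 : cj x (Q ⊔ cj s Q) ≤ T := (cj_mono x (hB.trans hPS)).trans hx.le
  have h2 : cj x (cj g (Q ⊔ cj s Q)) ≤ T := (cj_mono x (hg.trans hPS)).trans hx.le
  have h3 := h.cj_B h1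
  rw [cj_cj] at h2
  have h4 := h.cj_B h2
  rw [← cj_cj] at h4
  have h5 := congrArg (cj x⁻¹) (h4.trans h3.symm)
  rwa [cj_inv_cj, cj_inv_cj] at h5

/-- If `g ∈ N_G(Q)` normalises `B`, it normalises `Q ^ s` and `D`. -/
theorem cj_Q'_eq [Finite G] (h : Hyp T Q s) {g : G} (hg : g ∈ normalizer (Q : Set G))
    (hB : cj g (Q ⊔ cj s Q) = Q ⊔ cj s Q) : cj g (cj s Q) = cj s Q := by
  have h1 : cj g (cj s Q) ≤ T := (cj_mono g le_sup_right).trans (hB.le.trans h.BT)
  rcases h.cj_Q' h1 with h2 | h2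
  · exfalso
    apply h.ne
    have h3 := cj_eq_of_mem_normalizer (inv_mem hg)
    have h4 := congrArg (cj g⁻¹) h2
    rw [cj_inv_cj, h3] at h4
    exact h4.symm
  · exact h2

/-- `C_{N_G(Q)}(Q) ≤ Q`. -/
theorem centQ [Finite G] (hc : IsCharacteristicTwoType G) (h : Hyp T Q s) {x : G}
    (hx : ∀ q ∈ Q, x * q = q * x) : x ∈ Q := by
  have hp : Fact (Nat.Prime 2) := ⟨Nat.prime_two⟩
  obtain ⟨a, ha, ha'⟩ := h.exists_a
  have hQ1 : Q ≠ ⊥ := by
    intro h0
    rw [h0, mem_bot] at ha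
    rw [ha] at ha'
    exact ha' (one_mem _)
  have hloc : IsTwoLocal (normalizer (Q : Set G)) := ⟨Q, h.isPGroup_Q, hQ1, rfl⟩
  set N := normalizer (Q : Set G) with hN
  set W := o2 N with hW
  have hWT : W ≤ T := o2_le_syl h.syl
  have hQW : Q ≤ W := le_o2 h.isPGroup_Q le_normalizer le_rfl
  have hself := self_cent hc hloc
  -- `C` is a 2-group
  have hC2 : IsPGroup 2 (centralizer (Q : Set G)) := by
    intro ⟨y, hy⟩
    obtain ⟨k, m, hm, hkm⟩ := Nat.exists_eq_two_pow_mul_odd (orderOf_pos y).ne'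
    set w := y ^ 2 ^ k with hw
    have hwo : orderOf w = m := by
      rw [hw, orderOf_pow' y (pow_ne_zero k two_ne_zero), hkm,
        Nat.gcd_eq_right (Dvd.intro m rfl), Nat.mul_div_cancel_left m (pow_pos two_pos k)]
    have hwC : w ∈ centralizer (Q : Set G) := pow_mem hy _
    have hwN : zpowers w ≤ N := (zpowers_le.2 (centralizer_le_normalizer _ hwC))
    have hWnil : Group.IsNilpotent W := (h.two.to_le hWT).isNilpotent
    have h1 : zpowers w ≤ centralizer (W : Set G) := by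
      refine S1442.result W (zpowers w) hWnil (hwN.trans (le_normalizer_o2 N)) ?_ ?_
      · rw [Nat.card_zpowers, hwo]
        obtain ⟨j, hj⟩ := IsPGroup.iff_card.1 (h.two.to_le hWT)
        rw [hj]
        exact Nat.Coprime.pow_right j (Nat.coprime_two_right.2 hm)
      · have hsub : Q ≤ W ⊓ centralizer (zpowers w : Set G) := by
          refine le_inf hQW ?_
          intro q hq
          rw [mem_centralizer_iff]
          intro v hv
          obtain ⟨n, rfl⟩ := mem_zpowers_iff.1 hv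
          have : Commute w q := (mem_centralizer_iff.1 hwC q hq).symm
          exact (this.zpow_left n).eq
        rintro v ⟨hvW, hvC⟩
        have hvQ : v ∈ Q := by
          refine h.cent v (hWT hvW) fun q hq => ?_
          exact (mem_centralizer_iff.1 hvC q (hsub hq)).symm
        exact hsub hvQ
    have h2 : w ∈ W := hself ⟨hwN (mem_zpowers w), h1 (mem_zpowers w)⟩
    obtain ⟨j, hj⟩ := (h.two.to_le hWT) ⟨w, h2⟩
    have hj' : w ^ 2 ^ j = 1 := congrArg Subtype.val hj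
    refine ⟨k + j, Subtype.ext ?_⟩
    rw [Subgroup.coe_pow, Subgroup.coe_one]
    change y ^ 2 ^ (k + j) = 1
    rw [pow_add, pow_mul, ← hw, hj']
  have hxC : x ∈ centralizer (Q : Set G) := mem_centralizer_iff.2 fun q hq => (hx q hq).symm
  have hCW : centralizer (Q : Set G) ≤ W := by
    refine le_o2 hC2 (centralizer_le_normalizer _) ?_
    intro g hg
    rw [mem_normalizer_iff_cj, cj_centralizer, cj_eq_of_mem_normalizer hg]
  exact h.cent x (hWT (hCW hxC)) hx

end Hyp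

end Cfsg.Agent.Omega.SQ1.Two

end

section


/-!
# The unique maximal 2-local case, one block, `q = 2`: the transvection group

`Frame T Q s a b z`: `a ∈ Q \ D`, `b ∈ Q ^ s \ D`, `z = [a, b]`.
-/

set_option autoImplicit false

namespace Cfsg.Agent.Omega.SQ1.Two

open Subgroup Cfsg Cfsg.Agent.ZN Cfsg.Agent.ZN.ChoiceBase Cfsg.Agent.ZN.ChoiceSit
open Cfsg.Agent.MinSimple.CaseOneAP (mul_mem_of_relIndex comm_of_sq)

universe u

variable {G : Type u} [Group G]

structure Frame (T Q : Subgroup G) (s a b z : G) : Prop extends Hyp T Q s where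
  aQ : a ∈ Q
  aD : a ∉ Q ⊓ cj s Q
  bQ : b ∈ cj s Q
  bD : b ∉ Q ⊓ cj s Q
  hz : a * b * a * b = z

theorem Hyp.exists_frame {T Q : Subgroup G} {s : G} (h : Hyp T Q s) :
    ∃ a b z : G, Frame T Q s a b z := by
  obtain ⟨a, ha, ha'⟩ := h.exists_a
  exact ⟨a, s * a * s⁻¹, _, ⟨h, ha, ha', h.mem' ha, h.s_notMem ha', rfl⟩⟩

namespace Frame

variable {T Q : Subgroup G} {s a b z : G}

theorem zD (h : Frame T Q s a b z) : z ∈ Q ⊓ cj s Q := h.hz ▸ h.z_mem h.aQ h.bQ

theorem zQ (h : Frame T Q s a b z) : z ∈ Q := h.zD.1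

theorem zz (h : Frame T Q s a b z) : z * z = 1 := h.sq z h.zQ

theorem z1 (h : Frame T Q s a b z) : z ≠ 1 := by
  intro hz
  apply h.ncomm h.aQ h.aD h.bQ h.bD
  have h1 := h.hz
  rw [hz] at h1
  have e1 : a⁻¹ = a := h.inv_eq h.aQ
  have e2 : b⁻¹ = b := inv_eq_of_mul_eq_one_left (h.sq' h.bQ)
  have h2 : a * b = (a * b)⁻¹ := by
    refine eq_inv_of_mul_eq_one_left ?_
    rw [← h1]; group
  rw [mul_inv_rev, e1, e2] at h2
  exact h2.symm

theorem zeq (h : Frame T Q s a b z) {a' b' : G} (ha : a' ∈ Q) (ha1 : a' ∉ Q ⊓ cj s Q)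
    (hb : b' ∈ cj s Q) (hb1 : b' ∉ Q ⊓ cj s Q) : a' * b' * a' * b' = z := by
  rw [← h.hz]
  exact h.z_eq h.aQ h.aD h.bQ h.bD ha ha1 hb hb1

theorem actB (h : Frame T Q s a b z) {x q : G} (hx : x ∈ Q ⊔ cj s Q) (hxQ : x ∉ Q) (hq : q ∈ Q)
    (hqD : q ∉ Q ⊓ cj s Q) : x * q * x⁻¹ = q * z := by
  rw [h.act h.aQ h.aD h.bQ h.bD hx hxQ hq hqD, h.hz]

theorem Bz (h : Frame T Q s a b z) {x : G} (hx : x ∈ Q ⊔ cj s Q) : x * z = z * x := h.D_comm hx h.zD

theorem bB (h : Frame T Q s a b z) : b ∈ Q ⊔ cj s Q := (le_sup_right : cj s Q ≤ _) h.bQ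

theorem bnQ (h : Frame T Q s a b z) : b ∉ Q := fun hb => h.bD ⟨hb, h.bQ⟩

theorem actb (h : Frame T Q s a b z) {q : G} (hq : q ∈ Q) (hqD : q ∉ Q ⊓ cj s Q) :
    b * q * b⁻¹ = q * z := h.actB h.bB h.bnQ hq hqD

theorem bb (h : Frame T Q s a b z) : b * b = 1 := h.sq' h.bQ

/-- An element normalising `Q` and `Q ^ s`, or interchanging them, centralises `z`. -/
theorem z_fix (h : Frame T Q s a b z) {x : G} (hD : ∀ y, x * y * x⁻¹ ∈ Q ⊓ cj s Q → y ∈ Q ⊓ cj s Q)
    (h12 : (∀ y ∈ Q, x * y * x⁻¹ ∈ Q) ∧ (∀ y ∈ cj s Q, x * y * x⁻¹ ∈ cj s Q) ∨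
      (∀ y ∈ Q, x * y * x⁻¹ ∈ cj s Q) ∧ (∀ y ∈ cj s Q, x * y * x⁻¹ ∈ Q)) : x * z * x⁻¹ = z := by
  have e : x * z * x⁻¹ = (x * a * x⁻¹) * (x * b * x⁻¹) * (x * a * x⁻¹) * (x * b * x⁻¹) := by
    rw [← h.hz]; group
  have ha := fun hh => h.aD (hD a hh)
  have hb := fun hh => h.bD (hD b hh)
  rcases h12 with ⟨h1, h2⟩ | ⟨h1, h2⟩
  · rw [e]
    exact h.zeq (h1 a h.aQ) ha (h2 b h.bQ) hb
  · have h3 := h.zeq (h2 b h.bQ) hb (h1 a h.aQ) ha
    have e1 : (x * a * x⁻¹)⁻¹ = x * a * x⁻¹ := by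
      rw [mul_inv_rev, mul_inv_rev, inv_inv, h.inv_eq h.aQ]; group
    have e2 : (x * b * x⁻¹)⁻¹ = x * b * x⁻¹ := by
      rw [mul_inv_rev, mul_inv_rev, inv_inv, inv_eq_of_mul_eq_one_left h.bb]; group
    have h4 := congrArg (fun y => y⁻¹) h3
    simp only [mul_inv_rev, e1, e2] at h4
    rw [e, h.toHyp.inv_eq h.zQ] at *
    rw [← h4]
    group

theorem sz (h : Frame T Q s a b z) : s * z * s⁻¹ = z := by
  refine h.z_fix (fun y hy => ?_) (Or.inr ⟨fun y hy => h.mem' hy, fun y hy => h.swap' hy⟩)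
  by_contra hn
  exact h.s_notMem hn hy

theorem Tz (h : Frame T Q s a b z) {t : G} (ht : t ∈ T) : t * z * t⁻¹ = z := by
  have h1 := h.TN ht
  have h2 := h.TN' ht
  refine h.z_fix (fun y hy => ⟨?_, ?_⟩) (Or.inl ⟨fun y hy => (mem_normalizer_iff.1 h1 y).1 hy,
    fun y hy => (mem_normalizer_iff.1 h2 y).1 hy⟩)
  · exact (mem_normalizer_iff.1 h1 y).2 hy.1
  · exact (mem_normalizer_iff.1 h2 y).2 hy.2

/-- An element of `N_G(Q)` normalising `B` normalises `Q ^ s`. -/
theorem norm_Q' [Finite G] (h : Frame T Q s a b z) {g : G} (hg : g ∈ normalizer (Q : Set G))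
    (hB : cj g (Q ⊔ cj s Q) = Q ⊔ cj s Q) : g ∈ normalizer ((cj s Q : Subgroup G) : Set G) :=
  mem_normalizer_iff_cj.2 (h.cj_Q'_eq hg hB)

theorem norm_D [Finite G] (h : Frame T Q s a b z) {g : G} (hg : g ∈ normalizer (Q : Set G))
    (hB : cj g (Q ⊔ cj s Q) = Q ⊔ cj s Q) (x : G) : g * x * g⁻¹ ∈ Q ⊓ cj s Q ↔ x ∈ Q ⊓ cj s Q := by
  rw [mem_inf, mem_inf, ← mem_normalizer_iff.1 hg x, ← mem_normalizer_iff.1 (h.norm_Q' hg hB) x]

theorem fix_z [Finite G] (h : Frame T Q s a b z) {g : G} (hg : g ∈ normalizer (Q : Set G))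
    (hB : cj g (Q ⊔ cj s Q) = Q ⊔ cj s Q) : g * z * g⁻¹ = z := by
  refine h.z_fix (fun y hy => (h.norm_D hg hB y).1 hy) (Or.inl ⟨fun y hy => ?_, fun y hy => ?_⟩)
  · exact (mem_normalizer_iff.1 hg y).1 hy
  · exact (mem_normalizer_iff.1 (h.norm_Q' hg hB) y).1 hy

/-- Elements of `N_G(Q)` centralising `w` and acting on `Q` modulo `⟨w⟩` trivially. -/
def stab (h : Hyp T Q s) (w : G) (hw : w * w = 1) : Subgroup G where
  carrier := {x | x ∈ normalizer (Q : Set G) ∧ x * w = w * x ∧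
    ∀ q ∈ Q, x * q * x⁻¹ = q ∨ x * q * x⁻¹ = q * w}
  one_mem' := ⟨one_mem _, by rw [one_mul, mul_one], fun q _ => Or.inl (by group)⟩
  mul_mem' := by
    rintro x y ⟨hx1, hx2, hx3⟩ ⟨hy1, hy2, hy3⟩
    refine ⟨mul_mem hx1 hy1, ?_, fun q hq => ?_⟩
    · rw [mul_assoc, hy2, ← mul_assoc, hx2, mul_assoc]
    · have hwx : x * w * x⁻¹ = w := by rw [hx2, mul_inv_cancel_right]
      have e : x * y * q * (x * y)⁻¹ = x * (y * q * y⁻¹) * x⁻¹ := by group
      rw [e]
      rcases hy3 q hq with h1 | h1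
      · rw [h1]; exact hx3 q hq
      · rw [h1]
        have e2 : x * (q * w) * x⁻¹ = (x * q * x⁻¹) * (x * w * x⁻¹) := by group
        rw [e2, hwx]
        rcases hx3 q hq with h2 | h2
        · right; rw [h2]
        · left; rw [h2, mul_assoc, hw, mul_one]
  inv_mem' := by
    rintro x ⟨hx1, hx2, hx3⟩
    refine ⟨inv_mem hx1, ?_, fun q hq => ?_⟩
    · calc x⁻¹ * w = x⁻¹ * (w * x) * x⁻¹ := by group
        _ = x⁻¹ * (x * w) * x⁻¹ := by rw [hx2]
        _ = w * x⁻¹ := by group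
    · rw [inv_inv]
      have hq' := h.conj' hx1 hq
      rcases hx3 _ hq' with h1 | h1
      · left
        have e : x * (x⁻¹ * q * x) * x⁻¹ = q := by group
        rw [e] at h1
        exact h1.symm
      · right
        have e : x * (x⁻¹ * q * x) * x⁻¹ = q := by group
        rw [e] at h1
        calc x⁻¹ * q * x = x⁻¹ * q * x * (w * w) := by rw [hw, mul_one]
          _ = (x⁻¹ * q * x * w) * w := by group
          _ = q * w := by rw [← h1]

theorem isPGroup_stab [Finite G] (hc : IsCharacteristicTwoType G) (h : Hyp T Q s) {w : G}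
    (hw : w * w = 1) : IsPGroup 2 (stab h w hw) := by
  rintro ⟨x, hx1, hx2, hx3⟩
  have hwx : x * w * x⁻¹ = w := by rw [hx2, mul_inv_cancel_right]
  have h1 : x * x ∈ Q := by
    refine h.centQ hc fun q hq => ?_
    have h2 : (x * x) * q * (x * x)⁻¹ = q := by
      have e : x * x * q * (x * x)⁻¹ = x * (x * q * x⁻¹) * x⁻¹ := by group
      rw [e]
      rcases hx3 q hq with h3 | h3
      · rw [h3, h3]
      · rw [h3]
        have e2 : x * (q * w) * x⁻¹ = (x * q * x⁻¹) * (x * w * x⁻¹) := by group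
        rw [e2, hwx, h3, mul_assoc, hw, mul_one]
    exact mul_inv_eq_iff_eq_mul.1 h2
  refine ⟨2, Subtype.ext ?_⟩
  rw [Subgroup.coe_pow, Subgroup.coe_one]
  have := h.sq _ h1
  change x ^ 2 ^ 2 = 1
  rw [← this]
  norm_num [pow_succ, mul_assoc]

/-- If `z ^ g ∈ D` then `g` normalises `B`. -/
theorem cj_eq_of_mem [Finite G] (hc : IsCharacteristicTwoType G) (h : Frame T Q s a b z) {g : G}
    (hg : g ∈ normalizer (Q : Set G)) (hzg : g * z * g⁻¹ ∈ Q ⊓ cj s Q) :
    cj g (Q ⊔ cj s Q) = Q ⊔ cj s Q := by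
  have hp : Fact (Nat.Prime 2) := ⟨Nat.prime_two⟩
  set w := g * z * g⁻¹ with hw
  have hww : w * w = 1 := h.sq w hzg.1
  set A := stab h.toHyp w hww with hA
  have hBN : Q ⊔ cj s Q ≤ normalizer (Q : Set G) := h.BT.trans h.TN
  -- `B` normalises `A`
  have hBA : Q ⊔ cj s Q ≤ normalizer (A : Set G) := by
    have key : ∀ y ∈ Q ⊔ cj s Q, ∀ x ∈ A, y * x * y⁻¹ ∈ A := by
      rintro y hy x ⟨hx1, hx2, hx3⟩
      have hyw : y * w = w * y := h.D_comm hy hzg
      have hyw' : y⁻¹ * w = w * y⁻¹ := by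
        calc y⁻¹ * w = y⁻¹ * (w * y) * y⁻¹ := by group
          _ = y⁻¹ * (y * w) * y⁻¹ := by rw [hyw]
          _ = w * y⁻¹ := by group
      refine ⟨mul_mem (mul_mem (hBN hy) hx1) (inv_mem (hBN hy)), ?_, fun q hq => ?_⟩
      · calc y * x * y⁻¹ * w = y * x * (y⁻¹ * w) := by group
          _ = y * (x * w) * y⁻¹ := by rw [hyw']; group
          _ = (y * w) * x * y⁻¹ := by rw [hx2]; group
          _ = w * (y * x * y⁻¹) := by rw [hyw]; group
      · have hq' := h.conj' (hBN hy) hq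
        have e : y * x * y⁻¹ * q * (y * x * y⁻¹)⁻¹ = y * (x * (y⁻¹ * q * y) * x⁻¹) * y⁻¹ := by group
        rw [e]
        rcases hx3 _ hq' with h1 | h1
        · left; rw [h1]; group
        · right
          rw [h1]
          calc y * (y⁻¹ * q * y * w) * y⁻¹ = q * (y * w) * y⁻¹ := by group
            _ = q * w := by rw [hyw]; group
    intro y hy
    rw [mem_normalizer_iff]
    intro x
    refine ⟨fun hx => key y hy x hx, fun hx => ?_⟩
    have := key y⁻¹ (inv_mem hy) _ hx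
    have e : y⁻¹ * (y * x * y⁻¹) * y⁻¹⁻¹ = x := by group
    rwa [e] at this
  have hP : IsPGroup 2 (A ⊔ (Q ⊔ cj s Q) : Subgroup G) := by
    rw [sup_comm]
    exact IsPGroup.to_sup_of_normal_right' (h.two.to_le h.BT) (isPGroup_stab hc h.toHyp hww) hBA
  refine h.weak hP (sup_le (fun x hx => hx.1) hBN) le_sup_right ?_
  refine le_trans ?_ le_sup_left
  -- `B ^ g ≤ A`
  intro x hx
  rw [mem_cj] at hx
  have hxN : x ∈ normalizer (Q : Set G) := by
    have h1 := mul_mem (mul_mem hg (hBN hx)) (inv_mem hg)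
    have e : g * (g⁻¹ * x * g) * g⁻¹ = x := by group
    rwa [e] at h1
  refine ⟨hxN, ?_, fun q hq => ?_⟩
  · have h1 := h.Bz hx
    calc x * w = g * ((g⁻¹ * x * g) * z) * g⁻¹ := by rw [hw]; group
      _ = g * (z * (g⁻¹ * x * g)) * g⁻¹ := by rw [h1]
      _ = w * x := by rw [hw]; group
  · have hq' := h.conj' hg hq
    have e : x * q * x⁻¹ = g * ((g⁻¹ * x * g) * (g⁻¹ * q * g) * (g⁻¹ * x * g)⁻¹) * g⁻¹ := by group
    by_cases hqD : g⁻¹ * q * g ∈ Q ⊓ cj s Q
    · left; rw [e, h.act_D hx hqD]; group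
    · by_cases hxQ : g⁻¹ * x * g ∈ Q
      · left; rw [e, h.comm hxQ hq']; group
      · right; rw [e, h.actB hx hxQ hq' hqD, hw]; group

/-- If `z ∈ D ^ g` then `g` normalises `B`. -/
theorem cj_eq_of_mem' [Finite G] (hc : IsCharacteristicTwoType G) (h : Frame T Q s a b z) {g : G}
    (hg : g ∈ normalizer (Q : Set G)) (hzg : g⁻¹ * z * g ∈ Q ⊓ cj s Q) :
    cj g (Q ⊔ cj s Q) = Q ⊔ cj s Q := by
  have h1 := h.cj_eq_of_mem hc (inv_mem hg) (by rwa [inv_inv])
  have h2 := congrArg (cj g) h1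
  rw [cj_cj_inv] at h2
  exact h2.symm

end Frame

end Cfsg.Agent.Omega.SQ1.Two

end

section


/-!
# The unique maximal 2-local case, one block, `q = 2`: the block

`Blk T Q s a b z g x`: `g ∈ N_G(Q)` does not normalise `B`.  Then `V = ⟨z, z ^ g⟩` and `R = C_Q(L)` are normal in
`N_G(Q)` and there is an element `x` of order `3` in `N_G(Q)` with `z → z ^ g → z z ^ g → z`, centralising `R`.
-/

set_option autoImplicit false

namespace Cfsg.Agent.Omega.SQ1.Two

open Subgroup Cfsg Cfsg.Agent.ZN Cfsg.Agent.ZN.ChoiceBase Cfsg.Agent.ZN.ChoiceSit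
open Cfsg.Agent.MinSimple.CaseOneAP (mul_mem_of_relIndex comm_of_sq)

universe u

variable {G : Type u} [Group G] {T Q : Subgroup G} {s a b z : G}

namespace Frame

theorem cj_trans {g k : G} (h1 : cj (g⁻¹ * k) (Q ⊔ cj s Q) = Q ⊔ cj s Q) :
    cj k (Q ⊔ cj s Q) = cj g (Q ⊔ cj s Q) := by
  have h2 := congrArg (cj g) h1
  rw [cj_cj] at h2
  have e : g * (g⁻¹ * k) = k := by group
  rwa [e] at h2

theorem cj_trans' {g k : G} (h1 : cj k (Q ⊔ cj s Q) = cj g (Q ⊔ cj s Q)) :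
    cj (g⁻¹ * k) (Q ⊔ cj s Q) = Q ⊔ cj s Q := by
  have h2 := congrArg (cj g⁻¹) h1
  rwa [cj_cj, cj_inv_cj] at h2

/-- Equal conjugates of `B` have the same `z` and the same `D`. -/
theorem data_eq [Finite G] (h : Frame T Q s a b z) {g k : G} (hg : g ∈ normalizer (Q : Set G))
    (hk : k ∈ normalizer (Q : Set G)) (he : cj k (Q ⊔ cj s Q) = cj g (Q ⊔ cj s Q)) :
    k * z * k⁻¹ = g * z * g⁻¹ ∧ ∀ y, k⁻¹ * y * k ∈ Q ⊓ cj s Q ↔ g⁻¹ * y * g ∈ Q ⊓ cj s Q := by
  have h1 := cj_trans' he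
  have hgk := mul_mem (inv_mem hg) hk
  constructor
  · have h2 := h.fix_z hgk h1
    calc k * z * k⁻¹ = g * (g⁻¹ * k * z * (g⁻¹ * k)⁻¹) * g⁻¹ := by group
      _ = g * z * g⁻¹ := by rw [h2]
  · intro y
    rw [← h.norm_D hgk h1 (k⁻¹ * y * k)]
    have e : g⁻¹ * k * (k⁻¹ * y * k) * (g⁻¹ * k)⁻¹ = g⁻¹ * y * g := by group
    rw [e]

/-- The conjugates of `z` and `D` under `N_G(Q)`. -/
theorem trich [Finite G] (hc : IsCharacteristicTwoType G) (h : Frame T Q s a b z) {g k : G}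
    (hg : g ∈ normalizer (Q : Set G)) (hgB : cj g (Q ⊔ cj s Q) ≠ Q ⊔ cj s Q)
    (hk : k ∈ normalizer (Q : Set G)) :
    (k * z * k⁻¹ = z ∨ k * z * k⁻¹ = g * z * g⁻¹ ∨ k * z * k⁻¹ = g * z * g⁻¹ * z) ∧
      ∀ y ∈ Q ⊓ cj s Q, g⁻¹ * y * g ∈ Q ⊓ cj s Q → k⁻¹ * y * k ∈ Q ⊓ cj s Q := by
  have hbN : b ∈ normalizer (Q : Set G) := h.TN (h.BT h.bB)
  have hz1D : g * z * g⁻¹ ∉ Q ⊓ cj s Q := fun hh => hgB (h.cj_eq_of_mem hc hg hh)
  have hzD1 : g⁻¹ * z * g ∉ Q ⊓ cj s Q := fun hh => hgB (h.cj_eq_of_mem' hc hg hh)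
  have hz1Q : g * z * g⁻¹ ∈ Q := h.conj hg h.zQ
  by_cases hkB : cj k (Q ⊔ cj s Q) = Q ⊔ cj s Q
  · refine ⟨Or.inl (h.fix_z hk hkB), fun y hy _ => ?_⟩
    have h1 := (h.data_eq (one_mem _) hk (by rw [hkB, cj_one])).2 y
    rw [h1]
    simpa using hy
  · have hzkD : k * z * k⁻¹ ∉ Q ⊓ cj s Q := fun hh => hkB (h.cj_eq_of_mem hc hk hh)
    have hzkQ : k * z * k⁻¹ ∈ Q := h.conj hk h.zQ
    by_cases hkg : cj k (Q ⊔ cj s Q) = cj g (Q ⊔ cj s Q)
    · obtain ⟨h1, h2⟩ := h.data_eq hg hk hkg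
      exact ⟨Or.inr (Or.inl h1), fun y _ hy => (h2 y).2 hy⟩
    · -- `k` must be equivalent to `b * g`
      have hbg : b * g ∈ normalizer (Q : Set G) := mul_mem hbN hg
      have hz1b : b * g * z * (b * g)⁻¹ = g * z * g⁻¹ * z := by
        have := h.actb hz1Q hz1D
        rw [← this]; group
      have hkbg : cj k (Q ⊔ cj s Q) = cj (b * g) (Q ⊔ cj s Q) := by
        by_contra hne
        -- `z_k ∉ D_g`
        have n1 : g⁻¹ * (k * z * k⁻¹) * g ∉ Q ⊓ cj s Q := by
          intro hh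
          apply hkg
          refine cj_trans (h.cj_eq_of_mem hc (mul_mem (inv_mem hg) hk) ?_)
          have e : g⁻¹ * k * z * (g⁻¹ * k)⁻¹ = g⁻¹ * (k * z * k⁻¹) * g := by group
          rwa [e]
        have n2 : (b * g)⁻¹ * (k * z * k⁻¹) * (b * g) ∉ Q ⊓ cj s Q := by
          intro hh
          apply hne
          refine cj_trans (h.cj_eq_of_mem hc (mul_mem (inv_mem hbg) hk) ?_)
          have e : (b * g)⁻¹ * k * z * ((b * g)⁻¹ * k)⁻¹ = (b * g)⁻¹ * (k * z * k⁻¹) * (b * g) := by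
            group
          rwa [e]
        apply n2
        have e1 : b⁻¹ * (k * z * k⁻¹) * b = k * z * k⁻¹ * z := by
          have hb' : b⁻¹ = b := inv_eq_of_mul_eq_one_left h.bb
          have := h.actb hzkQ hzkD
          calc b⁻¹ * (k * z * k⁻¹) * b = b * (k * z * k⁻¹) * b⁻¹ := by rw [hb']
            _ = k * z * k⁻¹ * z := this
        have e : (b * g)⁻¹ * (k * z * k⁻¹) * (b * g) =
            (g⁻¹ * (k * z * k⁻¹) * g) * (g⁻¹ * z * g) := by
          calc (b * g)⁻¹ * (k * z * k⁻¹) * (b * g) = g⁻¹ * (b⁻¹ * (k * z * k⁻¹) * b) * g := by group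
            _ = g⁻¹ * (k * z * k⁻¹ * z) * g := by rw [e1]
            _ = _ := by group
        rw [e]
        exact h.mulD (h.conj' hg hzkQ) (h.conj' hg h.zQ) n1 hzD1
      obtain ⟨h1, h2⟩ := h.data_eq hbg hk hkbg
      refine ⟨Or.inr (Or.inr (by rw [h1, hz1b])), fun y hyD hy => ?_⟩
      rw [h2 y]
      have e1 : b⁻¹ * y * b = y := by
        have := h.D_comm h.bB hyD
        calc b⁻¹ * y * b = b⁻¹ * (y * b) := by group
          _ = b⁻¹ * (b * y) := by rw [this]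
          _ = y := by group
      have e : (b * g)⁻¹ * y * (b * g) = g⁻¹ * (b⁻¹ * y * b) * g := by group
      rw [e, e1]
      exact hy

end Frame

/-- The block. -/
structure Blk (T Q : Subgroup G) (s a b z z₁ x : G) (R : Subgroup G) : Prop
    extends Frame T Q s a b z where
  z1Q : z₁ ∈ Q
  z1D : z₁ ∉ Q ⊓ cj s Q
  RD : R ≤ Q ⊓ cj s Q
  zR : z ∉ R
  dec : ∀ q ∈ Q, q ∈ R ∨ q * z ∈ R ∨ q * z₁ ∈ R ∨ q * (z₁ * z) ∈ R
  conjz : ∀ k ∈ normalizer (Q : Set G), k * z * k⁻¹ = z ∨ k * z * k⁻¹ = z₁ ∨ k * z * k⁻¹ = z₁ * z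
  conjz1 : ∀ k ∈ normalizer (Q : Set G), k * z₁ * k⁻¹ = z ∨ k * z₁ * k⁻¹ = z₁ ∨ k * z₁ * k⁻¹ = z₁ * z
  conjR : ∀ k ∈ normalizer (Q : Set G), ∀ r ∈ R, k * r * k⁻¹ ∈ R
  xN : x ∈ normalizer (Q : Set G)
  x3 : x ^ 3 = 1
  xz : x * z * x⁻¹ = z₁
  xz1 : x * z₁ * x⁻¹ = z₁ * z
  xR : ∀ r ∈ R, x * r = r * x

theorem Frame.exists_blk [Finite G] (hc : IsCharacteristicTwoType G) (h : Frame T Q s a b z) {g : G}
    (hg : g ∈ normalizer (Q : Set G)) (hgB : cj g (Q ⊔ cj s Q) ≠ Q ⊔ cj s Q) :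
    ∃ (z₁ x : G) (R : Subgroup G), Blk T Q s a b z z₁ x R := by
  have hbN : b ∈ normalizer (Q : Set G) := h.TN (h.BT h.bB)
  have hb' : b⁻¹ = b := inv_eq_of_mul_eq_one_left h.bb
  have hz1D : g * z * g⁻¹ ∉ Q ⊓ cj s Q := fun hh => hgB (h.cj_eq_of_mem hc hg hh)
  have hzD1 : g⁻¹ * z * g ∉ Q ⊓ cj s Q := fun hh => hgB (h.cj_eq_of_mem' hc hg hh)
  have hz1Q : g * z * g⁻¹ ∈ Q := h.conj hg h.zQ
  have htri := fun {k : G} (hk : k ∈ normalizer (Q : Set G)) => h.trich hc hg hgB hk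
  set z₁ := g * z * g⁻¹ with hz1
  have hz1z1 : z₁ * z₁ = 1 := h.sq _ hz1Q
  have hzz1 : z * z₁ = z₁ * z := h.comm h.zQ hz1Q
  set b₁ := g * b * g⁻¹ with hb1
  have hb1N : b₁ ∈ normalizer (Q : Set G) := mul_mem (mul_mem hg hbN) (inv_mem hg)
  -- action of `b₁`
  have hb1z1 : b₁ * z₁ * b₁⁻¹ = z₁ := by
    have := h.act_D h.bB h.zD
    calc b₁ * z₁ * b₁⁻¹ = g * (b * z * b⁻¹) * g⁻¹ := by rw [hb1, hz1]; group
      _ = z₁ := by rw [this]
  have hb1z : b₁ * z * b₁⁻¹ = z₁ * z := by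
    have := h.actb (h.conj' hg h.zQ) hzD1
    calc b₁ * z * b₁⁻¹ = g * (b * (g⁻¹ * z * g) * b⁻¹) * g⁻¹ := by rw [hb1]; group
      _ = g * (g⁻¹ * z * g * z) * g⁻¹ := by rw [this]
      _ = z * z₁ := by rw [hz1]; group
      _ = z₁ * z := hzz1
  have hbz : b * z * b⁻¹ = z := h.act_D h.bB h.zD
  have hbz1 : b * z₁ * b⁻¹ = z₁ * z := h.actb hz1Q hz1D
  set R : Subgroup G := (Q ⊓ cj s Q) ⊓ cj g (Q ⊓ cj s Q) with hR
  have memR : ∀ {y : G}, y ∈ R ↔ y ∈ Q ⊓ cj s Q ∧ g⁻¹ * y * g ∈ Q ⊓ cj s Q := by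
    intro y
    rw [hR, mem_inf (p := Q ⊓ cj s Q), mem_cj]
  set u := b * b₁ with hu
  have huN : u ∈ normalizer (Q : Set G) := mul_mem hbN hb1N
  have huz : u * z * u⁻¹ = z₁ := by
    calc u * z * u⁻¹ = b * (b₁ * z * b₁⁻¹) * b⁻¹ := by rw [hu]; group
      _ = (b * z₁ * b⁻¹) * (b * z * b⁻¹) := by rw [hb1z]; group
      _ = z₁ := by rw [hbz1, hbz, mul_assoc, h.zz, mul_one]
  have huz1 : u * z₁ * u⁻¹ = z₁ * z := by
    calc u * z₁ * u⁻¹ = b * (b₁ * z₁ * b₁⁻¹) * b⁻¹ := by rw [hu]; group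
      _ = z₁ * z := by rw [hb1z1, hbz1]
  have huR : ∀ r ∈ R, u * r = r * u := by
    intro r hr
    obtain ⟨h1, h2⟩ := memR.1 hr
    have e1 := h.D_comm h.bB h1
    have e2 := h.D_comm h.bB h2
    have e3 : b₁ * r = r * b₁ := by
      calc b₁ * r = g * (b * (g⁻¹ * r * g)) * g⁻¹ := by rw [hb1]; group
        _ = g * (g⁻¹ * r * g * b) * g⁻¹ := by rw [e2]
        _ = r * b₁ := by rw [hb1]; group
    rw [hu, mul_assoc, e3, ← mul_assoc, e1, mul_assoc]
  have hdec : ∀ q ∈ Q, q ∈ R ∨ q * z ∈ R ∨ q * z₁ ∈ R ∨ q * (z₁ * z) ∈ R := by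
    intro q hq
    have hgq := h.conj' hg hq
    have hzg : g⁻¹ * z₁ * g = z := by rw [hz1]; group
    by_cases h1 : q ∈ Q ⊓ cj s Q
    · by_cases h2 : g⁻¹ * q * g ∈ Q ⊓ cj s Q
      · exact Or.inl (memR.2 ⟨h1, h2⟩)
      · refine Or.inr (Or.inl (memR.2 ⟨mul_mem h1 h.zD, ?_⟩))
        have := h.mulD hgq (h.conj' hg h.zQ) h2 hzD1
        have e : g⁻¹ * (q * z) * g = g⁻¹ * q * g * (g⁻¹ * z * g) := by group
        rw [e]; exact this
    · by_cases h2 : g⁻¹ * q * g ∈ Q ⊓ cj s Q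
      · refine Or.inr (Or.inr (Or.inl (memR.2 ⟨h.mulD hq hz1Q h1 hz1D, ?_⟩)))
        have e : g⁻¹ * (q * z₁) * g = g⁻¹ * q * g * (g⁻¹ * z₁ * g) := by group
        rw [e, hzg]
        exact mul_mem h2 h.zD
      · refine Or.inr (Or.inr (Or.inr (memR.2 ⟨?_, ?_⟩)))
        · have := mul_mem (h.mulD hq hz1Q h1 hz1D) h.zD
          rwa [mul_assoc] at this
        · have e : g⁻¹ * (q * (z₁ * z)) * g =
              (g⁻¹ * q * g * (g⁻¹ * z * g)) * (g⁻¹ * z₁ * g) := by
            rw [← hzz1]; group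
          rw [e, hzg]
          exact mul_mem (h.mulD hgq (h.conj' hg h.zQ) h2 hzD1) h.zD
  -- `c = u ^ 3` centralises `Q`
  obtain ⟨c, hcdef⟩ : ∃ c : G, c = u * u * u := ⟨_, rfl⟩
  have hu3z : c * z * c⁻¹ = z := by
    calc c * z * c⁻¹ = u * (u * (u * z * u⁻¹) * u⁻¹) * u⁻¹ := by rw [hcdef]; group
      _ = u * (z₁ * z) * u⁻¹ := by rw [huz, huz1]
      _ = (u * z₁ * u⁻¹) * (u * z * u⁻¹) := by group
      _ = z₁ * z * z₁ := by rw [huz1, huz]
      _ = z := by rw [mul_assoc, hzz1, ← mul_assoc, hz1z1, one_mul]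
  have hcu : c * u = u * c := by rw [hcdef]; group
  have hcu' : c * u * c⁻¹ = u := by rw [hcu, mul_inv_cancel_right]
  have hu3z1 : c * z₁ * c⁻¹ = z₁ := by
    calc c * z₁ * c⁻¹ = (c * u * c⁻¹) * (c * z * c⁻¹) * (c * u * c⁻¹)⁻¹ := by rw [← huz]; group
      _ = z₁ := by rw [hcu', hu3z, huz]
  have hu3R : ∀ r ∈ R, c * r = r * c := fun r hr => by
    have h1 : Commute u r := huR r hr
    rw [hcdef]
    exact ((h1.mul_left h1).mul_left h1).eq
  have hu3 : ∀ q ∈ Q, c * q = q * c := by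
    have c1 : c * z = z * c := mul_inv_eq_iff_eq_mul.1 hu3z
    have c2 : c * z₁ = z₁ * c := mul_inv_eq_iff_eq_mul.1 hu3z1
    have key : ∀ v ∈ Q, c * v = v * c → ∀ q ∈ Q, q * v ∈ R → c * q = q * c := by
      intro v hv hcv q hq hqv
      have h1 := hu3R _ hqv
      have e : q = (q * v) * v := by rw [mul_assoc, h.sq v hv, mul_one]
      calc c * q = (c * (q * v)) * v := by rw [mul_assoc, ← e]
        _ = (q * v) * (c * v) := by rw [h1]; group
        _ = ((q * v) * v) * c := by rw [hcv]; group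
        _ = q * c := by rw [← e]
    intro q hq
    rcases hdec q hq with h1 | h1 | h1 | h1
    · exact hu3R q h1
    · exact key z h.zQ c1 q hq h1
    · exact key z₁ hz1Q c2 q hq h1
    · exact key (z₁ * z) (mul_mem hz1Q h.zQ)
        ((show Commute c z₁ from c2).mul_right (show Commute c z from c1)).eq q hq h1
  have hu3Q : c ∈ Q := h.centQ hc hu3
  have hu6 : c * c = 1 := h.sq _ hu3Q
  have hcN : c ∈ normalizer (Q : Set G) := le_normalizer hu3Q
  have hxa : ∀ q ∈ Q, (u * c) * q * (u * c)⁻¹ = u * q * u⁻¹ := by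
    intro q hq
    have e : (u * c) * q * (u * c)⁻¹ = u * (c * q * c⁻¹) * u⁻¹ := by group
    rw [e, hu3 q hq, mul_inv_cancel_right]
  refine ⟨z₁, u * c, R, ⟨h, hz1Q, hz1D, inf_le_left, fun hh => hzD1 (memR.1 hh).2, hdec,
    fun k hk => (htri hk).1, ?_, ?_, mul_mem huN hcN, ?_, ?_, ?_, ?_⟩⟩
  · intro k hk
    have h1 := (htri (mul_mem hk hg)).1
    have e : k * g * z * (k * g)⁻¹ = k * z₁ * k⁻¹ := by rw [hz1]; group
    rwa [e] at h1
  · intro k hk r hr
    -- `r` lies in all `D_m`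
    have hall : ∀ m ∈ normalizer (Q : Set G), m⁻¹ * r * m ∈ Q ⊓ cj s Q := fun m hm =>
      (htri hm).2 r (memR.1 hr).1 (memR.1 hr).2
    refine memR.2 ⟨?_, ?_⟩
    · have := hall k⁻¹ (inv_mem hk)
      rwa [inv_inv] at this
    · have := hall (k⁻¹ * g) (mul_mem (inv_mem hk) hg)
      have e : (k⁻¹ * g)⁻¹ * r * (k⁻¹ * g) = g⁻¹ * (k * r * k⁻¹) * g := by group
      rwa [e] at this
  · have h1 : Commute u c := hcu.symm
    have e3 : u ^ 3 = c := by rw [hcdef, pow_succ, pow_two]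
    rw [h1.mul_pow, e3]
    calc c * c ^ 3 = (c * c) * (c * c) := by rw [pow_succ, pow_two]; group
      _ = 1 := by rw [hu6, mul_one]
  · rw [hxa z h.zQ, huz]
  · rw [hxa z₁ hz1Q, huz1]
  · intro r hr
    have h1 : Commute u r := huR r hr
    have h2 : Commute c r := hu3R r hr
    exact (h1.mul_left h2).eq

end Cfsg.Agent.Omega.SQ1.Two

end

section


/-!
# The unique maximal 2-local case, one block, `q = 2`: the killing lemma

`R ∩ R ^ s = 1` in a group of characteristic 2 type.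
-/

set_option autoImplicit false

namespace Cfsg.Agent.Omega.SQ1.Two

open Subgroup Cfsg Cfsg.Agent.ZN Cfsg.Agent.ZN.ChoiceBase Cfsg.Agent.ZN.ChoiceSit
open Cfsg.Agent.MinSimple.CaseOneAP (mul_mem_of_relIndex comm_of_sq)

universe u

variable {G : Type u} [Group G] {T Q : Subgroup G} {s a b z z₁ x : G} {R : Subgroup G}

theorem mem_norm_of_forall [Finite G] {H : Subgroup G} {g : G} (h : ∀ y ∈ H, g * y * g⁻¹ ∈ H) :
    g ∈ normalizer (H : Set G) := by
  refine mem_normalizer_of_cj_le ?_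
  rintro _ ⟨y, hy, rfl⟩
  exact h y hy

namespace Blk

theorem z1z1 (h : Blk T Q s a b z z₁ x R) : z₁ * z₁ = 1 := h.sq _ h.z1Q

theorem zz1 (h : Blk T Q s a b z z₁ x R) : z * z₁ = z₁ * z := h.comm h.zQ h.z1Q

theorem z1_ne (h : Blk T Q s a b z z₁ x R) : z₁ ≠ z := fun he => h.z1D (he ▸ h.zD)

theorem xzz1 (h : Blk T Q s a b z z₁ x R) : x * (z₁ * z) * x⁻¹ = z := by
  calc x * (z₁ * z) * x⁻¹ = (x * z₁ * x⁻¹) * (x * z * x⁻¹) := by group
    _ = z₁ * z * z₁ := by rw [h.xz1, h.xz]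
    _ = z := by rw [mul_assoc, h.zz1, ← mul_assoc, h.z1z1, one_mul]

theorem xiz (h : Blk T Q s a b z z₁ x R) : x⁻¹ * z * x = z₁ * z := by
  calc x⁻¹ * z * x = x⁻¹ * (x * (z₁ * z) * x⁻¹) * x := by rw [h.xzz1]
    _ = z₁ * z := by group

theorem xiz1 (h : Blk T Q s a b z z₁ x R) : x⁻¹ * z₁ * x = z := by
  calc x⁻¹ * z₁ * x = x⁻¹ * (x * z * x⁻¹) * x := by rw [h.xz]
    _ = z := by group

theorem RQ (h : Blk T Q s a b z z₁ x R) : R ≤ Q := h.RD.trans inf_le_left

/-- `C_Q(x) ≤ R`. -/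
theorem mem_R (h : Blk T Q s a b z z₁ x R) {q : G} (hq : q ∈ Q) (hc : x * q = q * x) : q ∈ R := by
  have key : ∀ v ∈ Q, q * v ∈ R → x * v * x⁻¹ = v := by
    intro v hv hqv
    have h1 := h.xR _ hqv
    have h2 : x * (q * v) * x⁻¹ = q * v := by rw [h1, mul_inv_cancel_right]
    have h3 : x * q * x⁻¹ = q := by rw [hc, mul_inv_cancel_right]
    have h4 : x * (q * v) * x⁻¹ = (x * q * x⁻¹) * (x * v * x⁻¹) := by group
    rw [h4, h3] at h2
    exact mul_left_cancel h2
  rcases h.dec q hq with h1 | h1 | h1 | h1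
  · exact h1
  · exfalso
    have := key z h.zQ h1
    rw [h.xz] at this
    exact h.z1_ne this
  · exfalso
    have := key z₁ h.z1Q h1
    rw [h.xz1] at this
    exact h.z1 (mul_left_cancel (this.trans (mul_one z₁).symm))
  · exfalso
    have := key _ (mul_mem h.z1Q h.zQ) h1
    rw [h.xzz1] at this
    have h2 : z₁ * z * z = 1 * z * z := by
      rw [← this, h.zz, one_mul]
      rw [this] 
      have := mul_right_cancel (show (1 : G) * z = z₁ * z by rw [one_mul]; exact this)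
      rw [← this, one_mul, h.zz]
    have h3 := mul_right_cancel (mul_right_cancel h2)
    exact h.z1D (h3 ▸ one_mem _)

variable [Finite G]

/-- The killing lemma. -/
theorem killing (hc : IsCharacteristicTwoType G) (h : Blk T Q s a b z z₁ x R) : R ⊓ cj s R = ⊥ := by
  have hp : Fact (Nat.Prime 2) := ⟨Nat.prime_two⟩
  by_contra hne
  set E : Subgroup G := R ⊓ cj s R with hE
  have hEQ : E ≤ Q := inf_le_left.trans h.RQ
  have hE2 : IsPGroup 2 E := h.isPGroup_Q.to_le hEQ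
  set N : Subgroup G := normalizer (E : Set G) with hN
  have hloc : IsTwoLocal N := ⟨E, hE2, hne, rfl⟩
  set W : Subgroup G := o2 N with hW
  have hW2 : IsPGroup 2 W := isPGroup_o2 N
  have hNW : N ≤ normalizer (W : Set G) := le_normalizer_o2 N
  have hEW : E ≤ W := le_o2 hE2 le_normalizer le_rfl
  have hself := self_cent hc hloc
  have hWN : W ≤ N := o2_le N
  have conjW : ∀ {n w : G}, n ∈ N → w ∈ W → n * w * n⁻¹ ∈ W := fun hn hw =>
    (mem_normalizer_iff.1 (hNW hn) _).1 hw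
  -- `B ≤ N`
  have hcentN : ∀ y : G, (∀ e ∈ E, y * e = e * y) → y ∈ N := by
    intro y hy
    refine centralizer_le_normalizer _ (mem_centralizer_iff.2 fun e he => (hy e he).symm)
  have hBN : Q ⊔ cj s Q ≤ N := fun y hy => hcentN y fun e he => h.D_comm hy (h.RD he.1)
  have hxN : x ∈ N := hcentN x fun e he => h.xR e he.1
  -- `s` normalises `E`, `N`, `W`
  have hRs2 : cj (s * s) R = R := by
    refine le_antisymm ?_ ?_
    · rintro _ ⟨r, hr, rfl⟩
      exact h.conjR _ (h.TN h.ss) r hr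
    · intro r hr
      rw [mem_cj]
      have := h.conjR _ (inv_mem (h.TN h.ss)) r hr
      rwa [inv_inv] at this
  have hEs : cj s E = E := by
    rw [hE, cj_inf, cj_cj, hRs2, inf_comm]
  have hNs : cj s N = N := by rw [hN, cj_normalizer, hEs]
  have hWs : cj s W = W := by rw [hW, ← o2_cj, hNs]
  have sN : ∀ {y : G}, y ∈ N → s * y * s⁻¹ ∈ N := by
    intro y hy
    rw [← hNs, mem_cj]
    have e : s⁻¹ * (s * y * s⁻¹) * s = y := by group
    rwa [e]
  have sW : ∀ {y : G}, y ∈ W → s⁻¹ * y * s ∈ W := by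
    intro y hy
    rw [← hWs] at hy
    exact mem_cj.1 hy
  -- (i) `z ∉ W`
  have hzW : z ∉ W := by
    intro hz
    have hx' : s * x * s⁻¹ ∈ N := sN hxN
    set v := s * z₁ * s⁻¹ with hv
    have hvW : v ∈ W := by
      have h1 := conjW hx' hz
      have e : s * x * s⁻¹ * z * (s * x * s⁻¹)⁻¹ = v := by
        have hsz : s⁻¹ * z * s = z := by
          have := h.sz
          calc s⁻¹ * z * s = s⁻¹ * (s * z * s⁻¹) * s := by rw [this]
            _ = z := by group
        calc s * x * s⁻¹ * z * (s * x * s⁻¹)⁻¹ = s * (x * (s⁻¹ * z * s) * x⁻¹) * s⁻¹ := by group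
          _ = v := by rw [hsz, h.xz]
      rwa [e] at h1
    have hvQ' : v ∈ cj s Q := h.mem' h.z1Q
    have hvD : v ∉ Q ⊓ cj s Q := h.s_notMem h.z1D
    have hvB : v ∈ Q ⊔ cj s Q := (le_sup_right : cj s Q ≤ _) hvQ'
    have hvnQ : v ∉ Q := fun hh => hvD ⟨hh, hvQ'⟩
    have hvv : v⁻¹ = v := inv_eq_of_mul_eq_one_left (h.sq' hvQ')
    have hvz : v * z * v⁻¹ = z := h.act_D hvB h.zD
    have hvz1 : v * z₁ * v⁻¹ = z₁ * z := h.actB hvB hvnQ h.z1Q h.z1D
    have hvzz1 : v * (z₁ * z) * v⁻¹ = z₁ := by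
      calc v * (z₁ * z) * v⁻¹ = (v * z₁ * v⁻¹) * (v * z * v⁻¹) := by group
        _ = z₁ := by rw [hvz1, hvz, mul_assoc, h.zz, mul_one]
    obtain ⟨w, hw⟩ : ∃ w : G, w = v * x * v⁻¹ * x⁻¹ := ⟨_, rfl⟩
    have hwW : w ∈ W := by
      rw [hw]
      have h1 := conjW hxN (inv_mem hvW)
      have e : v * x * v⁻¹ * x⁻¹ = v * (x * v⁻¹ * x⁻¹) := by group
      rw [e]
      exact mul_mem hvW h1
    have hxiz := h.xiz
    have hxiz1 := h.xiz1
    have hviz : v⁻¹ * z * v = z := by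
      calc v⁻¹ * z * v = v⁻¹ * (v * z * v⁻¹) * v := by rw [hvz]
        _ = z := by group
    have hvizz1 : v⁻¹ * (z₁ * z) * v = z₁ := by
      rw [← hvz1]; group
    have hwz : w * z * w⁻¹ = z₁ := by
      calc w * z * w⁻¹ = v * (x * (v⁻¹ * (x⁻¹ * z * x) * v) * x⁻¹) * v⁻¹ := by rw [hw]; group
        _ = z₁ := by rw [hxiz, hvizz1, h.xz1, hvzz1]
    have hwz1 : w * z₁ * w⁻¹ = z₁ * z := by
      calc w * z₁ * w⁻¹ = v * (x * (v⁻¹ * (x⁻¹ * z₁ * x) * v) * x⁻¹) * v⁻¹ := by rw [hw]; group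
        _ = z₁ * z := by rw [hxiz1, hviz, h.xz, hvz1]
    have hw3 : w ^ 3 * z = z * w ^ 3 := by
      have e3 : w ^ 3 = w * w * w := by rw [pow_succ, pow_two]
      have : w ^ 3 * z * (w ^ 3)⁻¹ = z := by
        calc w ^ 3 * z * (w ^ 3)⁻¹ = w * (w * (w * z * w⁻¹) * w⁻¹) * w⁻¹ := by rw [e3]; group
          _ = w * (z₁ * z) * w⁻¹ := by rw [hwz, hwz1]
          _ = (w * z₁ * w⁻¹) * (w * z * w⁻¹) := by group
          _ = z₁ * z * z₁ := by rw [hwz1, hwz]
          _ = z := by rw [mul_assoc, h.zz1, ← mul_assoc, h.z1z1, one_mul]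
      exact mul_inv_eq_iff_eq_mul.1 this
    obtain ⟨k, hk⟩ := hW2 ⟨w, hwW⟩
    have hk' : w ^ 2 ^ k = 1 := congrArg Subtype.val hk
    have hcop : Nat.Coprime 3 (orderOf w) := by
      refine Nat.Coprime.coprime_dvd_right (orderOf_dvd_of_pow_eq_one hk') ?_
      exact Nat.Coprime.pow_right k (by norm_num)
    obtain ⟨m, hm⟩ := exists_pow_eq_self_of_coprime hcop
    have h5 : w * z = z * w := by
      have := ((show Commute (w ^ 3) z from hw3).pow_left m).eq
      rwa [hm] at this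
    rw [h5, mul_inv_cancel_right] at hwz
    exact h.z1_ne hwz.symm
  -- `V ∩ W = 1`
  have hz1W : z₁ ∉ W := by
    intro hh
    apply hzW
    have := conjW (inv_mem hxN) hh
    rw [inv_inv] at this
    rwa [h.xiz1] at this
  have hzz1W : z₁ * z ∉ W := by
    intro hh
    apply hzW
    have := conjW hxN hh
    rwa [h.xzz1] at this
  -- (ii)
  have hP : ∀ p ∈ W, p ∈ normalizer (Q : Set G) → p * z = z * p ∧ p * z₁ = z₁ * p ∧
      p * x = x * p := by
    intro p hpW hpQ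
    have hzN : z ∈ N := hBN ((le_sup_left : Q ≤ _) h.zQ)
    have hz1N : z₁ ∈ N := hBN ((le_sup_left : Q ≤ _) h.z1Q)
    have comW : ∀ n ∈ N, p * n * p⁻¹ * n⁻¹ ∈ W := by
      intro n hn
      have h1 := conjW hn (inv_mem hpW)
      have e : p * n * p⁻¹ * n⁻¹ = p * (n * p⁻¹ * n⁻¹) := by group
      rw [e]
      exact mul_mem hpW h1
    have hziz : z⁻¹ = z := h.inv_eq h.zQ
    have hz1iz1 : z₁⁻¹ = z₁ := h.inv_eq h.z1Q
    have c1 : p * z * p⁻¹ = z := by
      have h1 := comW z hzN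
      rw [hziz] at h1
      rcases h.conjz p hpQ with h2 | h2 | h2
      · exact h2
      · exfalso
        rw [h2] at h1
        exact hzz1W h1
      · exfalso
        rw [h2, mul_assoc, h.zz, mul_one] at h1
        exact hz1W h1
    have c2 : p * z₁ * p⁻¹ = z₁ := by
      have h1 := comW z₁ hz1N
      rw [hz1iz1] at h1
      rcases h.conjz1 p hpQ with h2 | h2 | h2
      · exfalso
        rw [h2, h.zz1] at h1
        exact hzz1W h1
      · exact h2
      · exfalso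
        rw [h2, mul_assoc, h.zz1, ← mul_assoc, h.z1z1, one_mul] at h1
        exact hzW h1
    have c1' : p * z = z * p := mul_inv_eq_iff_eq_mul.1 c1
    have c2' : p * z₁ = z₁ * p := mul_inv_eq_iff_eq_mul.1 c2
    refine ⟨c1', c2', ?_⟩
    -- `y = [p, x]` centralises `Q`
    obtain ⟨y, hy⟩ : ∃ y : G, y = p * x * p⁻¹ * x⁻¹ := ⟨_, rfl⟩
    have hxiz := h.xiz
    have hxiz1 := h.xiz1
    have pz : p⁻¹ * z * p = z := by
      calc p⁻¹ * z * p = p⁻¹ * (z * p) := by group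
        _ = p⁻¹ * (p * z) := by rw [c1']
        _ = z := by group
    have pz1 : p⁻¹ * z₁ * p = z₁ := by
      calc p⁻¹ * z₁ * p = p⁻¹ * (z₁ * p) := by group
        _ = p⁻¹ * (p * z₁) := by rw [c2']
        _ = z₁ := by group
    have yz : y * z = z * y := by
      refine mul_inv_eq_iff_eq_mul.1 ?_
      calc y * z * y⁻¹ = p * (x * (p⁻¹ * (x⁻¹ * z * x) * p) * x⁻¹) * p⁻¹ := by rw [hy]; group
        _ = p * (x * ((p⁻¹ * z₁ * p) * (p⁻¹ * z * p)) * x⁻¹) * p⁻¹ := by rw [hxiz]; group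
        _ = z := by rw [pz1, pz, h.xzz1, c1]
    have yz1 : y * z₁ = z₁ * y := by
      refine mul_inv_eq_iff_eq_mul.1 ?_
      calc y * z₁ * y⁻¹ = p * (x * (p⁻¹ * (x⁻¹ * z₁ * x) * p) * x⁻¹) * p⁻¹ := by rw [hy]; group
        _ = z₁ := by rw [hxiz1, pz, h.xz, c2]
    have yR : ∀ r ∈ R, y * r = r * y := by
      intro r hr
      refine mul_inv_eq_iff_eq_mul.1 ?_
      have h1 : x⁻¹ * r * x = r := by
        calc x⁻¹ * r * x = x⁻¹ * (r * x) := by group
          _ = x⁻¹ * (x * r) := by rw [h.xR r hr]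
          _ = r := by group
      have h2 : p⁻¹ * r * p ∈ R := by
        have := h.conjR p⁻¹ (inv_mem hpQ) r hr
        rwa [inv_inv] at this
      have h3 : x * (p⁻¹ * r * p) * x⁻¹ = p⁻¹ * r * p := by
        rw [h.xR _ h2, mul_inv_cancel_right]
      calc y * r * y⁻¹ = p * (x * (p⁻¹ * (x⁻¹ * r * x) * p) * x⁻¹) * p⁻¹ := by rw [hy]; group
        _ = r := by rw [h1, h3]; group
    have hyQ : y ∈ Q := by
      refine h.centQ hc fun q hq => ?_
      have key : ∀ v ∈ Q, y * v = v * y → q * v ∈ R → y * q = q * y := by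
        intro v hv hcv hqv
        have h1 := yR _ hqv
        have e : q = (q * v) * v := by rw [mul_assoc, h.sq v hv, mul_one]
        calc y * q = (y * (q * v)) * v := by rw [mul_assoc, ← e]
          _ = (q * v) * (y * v) := by rw [h1]; group
          _ = ((q * v) * v) * y := by rw [hcv]; group
          _ = q * y := by rw [← e]
      rcases h.dec q hq with h1 | h1 | h1 | h1
      · exact yR q h1
      · exact key z h.zQ yz h1
      · exact key z₁ h.z1Q yz1 h1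
      · exact key (z₁ * z) (mul_mem h.z1Q h.zQ)
          ((show Commute y z₁ from yz1).mul_right (show Commute y z from yz)).eq h1
    have hyW : y ∈ W := hy ▸ comW x hxN
    -- `y ∈ R`
    have hyR : y ∈ R := by
      have key : ∀ v : G, v ∈ N → v ∈ Q → y * v ∈ R → x * v * x⁻¹ * v⁻¹ ∈ W := by
        intro v hvN hv hyv
        -- `[x, v] = [x, y]` up to the centralised part
        have h1 := h.xR _ hyv
        have h2 : x * (y * v) * x⁻¹ = y * v := by rw [h1, mul_inv_cancel_right]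
        have h3 := conjW hxN hyW
        have h4 : x * v * x⁻¹ * v⁻¹ = (x * y * x⁻¹)⁻¹ * y := by
          have e : (x * y * x⁻¹) * (x * v * x⁻¹) = y * v := by rw [← h2]; group
          have e2 : x * v * x⁻¹ = (x * y * x⁻¹)⁻¹ * (y * v) := by rw [← e]; group
          rw [e2]; group
        rw [h4]
        exact mul_mem (inv_mem h3) hyW
      rcases h.dec y hyQ with h1 | h1 | h1 | h1
      · exact h1
      · exfalso
        have := key z hzN h.zQ h1
        rw [h.xz, hziz] at this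
        exact hzz1W this
      · exfalso
        have := key z₁ hz1N h.z1Q h1
        rw [h.xz1, hz1iz1, mul_assoc, h.zz1, ← mul_assoc, h.z1z1, one_mul] at this
        exact hzW this
      · exfalso
        have := key (z₁ * z) (mul_mem hz1N hzN) (mul_mem h.z1Q h.zQ) h1
        rw [h.xzz1, mul_inv_rev, hziz, hz1iz1, ← mul_assoc, h.zz, one_mul] at this
        exact hz1W this
    have hyx := h.xR y hyR
    have h6 : p * x * p⁻¹ = y * x := by rw [hy]; group
    have h7 : (y * x) ^ 3 = 1 := by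
      rw [← h6]
      have e3 : (p * x * p⁻¹) ^ 3 = p * (x * x * x) * p⁻¹ := by rw [pow_succ, pow_two]; group
      have e4 : x * x * x = 1 := by rw [← h.x3, pow_succ, pow_two]
      rw [e3, e4]; group
    have h8 : y ^ 3 = 1 := by
      have := (show Commute y x from hyx.symm).mul_pow 3
      rw [h7, h.x3, mul_one] at this
      exact this.symm
    have h9 : y = 1 := by
      have h10 := h.sq y hyQ
      have e3 : y ^ 3 = y * y * y := by rw [pow_succ, pow_two]
      rw [e3, h10, one_mul] at h8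
      exact h8
    rw [h9, one_mul] at h6
    exact mul_inv_eq_iff_eq_mul.1 h6
  -- `B ∩ W ≤ R`
  have hBW : ∀ y ∈ Q ⊔ cj s Q, y ∈ W → y ∈ R := by
    intro y hyB hyW
    obtain ⟨-, h2, h3⟩ := hP y hyW (h.TN (h.BT hyB))
    exact h.mem_R (h.mem_Q_of_comm hyB h.z1Q h.z1D h2) h3.symm
  have hQW : ∀ y ∈ Q ⊔ cj s Q, y ∈ W → y ∈ E := by
    intro y hyB hyW
    refine ⟨hBW y hyB hyW, mem_cj.2 ?_⟩
    refine hBW _ ?_ (sW hyW)
    -- `s` normalises `B`
    obtain ⟨q, hq, r, hr, rfl⟩ := h.exists_mul hyB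
    have e : s⁻¹ * (q * r) * s = (s⁻¹ * q * s) * (s⁻¹ * r * s) := by group
    rw [e]
    exact mul_mem ((le_sup_right : cj s Q ≤ _) (h.swap'' hq)) ((le_sup_left : Q ≤ _) (mem_cj.1 hr))
  -- (iii)
  have hCB : ∀ c ∈ W, c ∈ normalizer ((Q ⊔ cj s Q : Subgroup G) : Set G) →
      c ∈ normalizer (Q : Set G) := by
    intro c hcW hcB
    refine mem_norm_of_forall fun q hq => ?_
    have hqB : q ∈ Q ⊔ cj s Q := (le_sup_left : Q ≤ _) hq
    have h1 : c * q * c⁻¹ * q⁻¹ ∈ Q ⊔ cj s Q :=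
      mul_mem ((mem_normalizer_iff.1 hcB q).1 hqB) (inv_mem hqB)
    have h2 : c * q * c⁻¹ * q⁻¹ ∈ W := by
      have := conjW (hBN hqB) (inv_mem hcW)
      have e : c * q * c⁻¹ * q⁻¹ = c * (q * c⁻¹ * q⁻¹) := by group
      rw [e]
      exact mul_mem hcW this
    have h3 := h.RQ (hBW _ h1 h2)
    have h4 := mul_mem h3 hq
    rwa [inv_mul_cancel_right] at h4
  -- (iv), (v)
  have hWB : W ≤ normalizer ((Q ⊔ cj s Q : Subgroup G) : Set G) := by
    set C : Subgroup G := W ⊓ normalizer ((Q ⊔ cj s Q : Subgroup G) : Set G) with hC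
    set X : Subgroup G := (Q ⊔ cj s Q) ⊔ C with hX
    set U : Subgroup G := (Q ⊔ cj s Q) ⊔ W with hU
    have hU2 : IsPGroup 2 U :=
      IsPGroup.to_sup_of_normal_right' (h.two.to_le h.BT) hW2 (hBN.trans hNW)
    have hXU : X ≤ U := sup_le_sup_left inf_le_left _
    have hX2 : IsPGroup 2 X := hU2.to_le hXU
    have hXN : X ≤ normalizer (Q : Set G) :=
      sup_le (h.BT.trans h.TN) fun c hc => hCB c hc.1 hc.2
    by_cases hlt : X = U
    · intro w hw
      have h1 : w ∈ X := hlt ▸ (le_sup_right : W ≤ U) hw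
      obtain ⟨c, hcC, β, hβ, he⟩ := Cfsg.Agent.OddOrderLocal.RankBasics.exists_mul_of_mem_sup
        (show C ≤ normalizer ((Q ⊔ cj s Q : Subgroup G) : Set G) from inf_le_right)
        (show w ∈ C ⊔ (Q ⊔ cj s Q) by rw [sup_comm]; exact h1)
      have h2 : β ∈ W := by
        have : β = c⁻¹ * w := by rw [← he]; group
        rw [this]
        exact mul_mem (inv_mem hcC.1) hw
      rw [← he]
      exact mul_mem hcC.2 (le_normalizer hβ)
    · exfalso
      obtain ⟨y, hyU, hyN, hyX, -⟩ := Cfsg.Agent.MinSimple.Choice97.exists_normalizing hU2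
        (lt_of_le_of_ne hXU hlt)
      obtain ⟨β, hβ, w, hw, rfl⟩ := Cfsg.Agent.OddOrderLocal.RankBasics.exists_mul_of_mem_sup
        (hBN.trans hNW) hyU
      have hβX : β ∈ X := (le_sup_left : Q ⊔ cj s Q ≤ X) hβ
      have hwN : w ∈ normalizer (X : Set G) := by
        have h1 := mul_mem (inv_mem (le_normalizer hβX)) hyN
        rwa [inv_mul_cancel_left] at h1
      have hwX : w ∉ X := fun hh => hyX (mul_mem hβX hh)
      apply hwX
      refine (le_sup_right : C ≤ X) ⟨hw, mem_normalizer_iff_cj.2 ?_⟩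
      refine h.weak hX2 hXN le_sup_left ?_
      have h1 := cj_mono w (le_sup_left : Q ⊔ cj s Q ≤ X)
      rwa [cj_eq_of_mem_normalizer hwN] at h1
  -- the contradiction
  have hxC : x ∈ W := by
    refine hself ⟨hxN, mem_centralizer_iff.2 fun w hw => ?_⟩
    exact (hP w hw (hCB w hw (hWB hw))).2.2
  obtain ⟨k, hk⟩ := hW2 ⟨x, hxC⟩
  have hk' : x ^ 2 ^ k = 1 := congrArg Subtype.val hk
  have h1 : orderOf x ∣ Nat.gcd 3 (2 ^ k) :=
    Nat.dvd_gcd (orderOf_dvd_of_pow_eq_one h.x3) (orderOf_dvd_of_pow_eq_one hk')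
  have h2 : Nat.gcd 3 (2 ^ k) = 1 := Nat.Coprime.pow_right k (by norm_num)
  rw [h2, Nat.dvd_one, orderOf_eq_one_iff] at h1
  have h3 := h.xz
  rw [h1] at h3
  exact h.z1_ne (by rw [← h3]; group)

end Blk

end Cfsg.Agent.Omega.SQ1.Two

end

section


/-!
# The unique maximal 2-local case, one block, `q = 2`: the end (SQ1, #6862 (6))

`main`: in a group `G` of characteristic 2 type with a configuration `Hyp T Q s` such that `N_G(Q)` does not
normalise `B = Q Q ^ s`, either `G` has 2-rank at most 2 (Sylow 2-subgroups of maximal class) or `G` has a normal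
subgroup of index 2.
-/

set_option autoImplicit false

namespace Cfsg.Agent.Omega.SQ1.Two

open Subgroup Cfsg Cfsg.Agent.ZN Cfsg.Agent.ZN.ChoiceBase Cfsg.Agent.ZN.ChoiceSit
open Cfsg.Agent.MinSimple.CaseOneAP (mul_mem_of_relIndex comm_of_sq)

universe u

variable {G : Type u} [Group G] {T Q : Subgroup G} {s a b z z₁ x : G} {R : Subgroup G}

namespace Blk

variable [Finite G]

/-- elements of `D` outside `R`, `R ^ s` -/
theorem mul_mem_R (h : Blk T Q s a b z z₁ x R) {c d : G} (hc : c ∈ Q ⊓ cj s Q)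
    (hd : d ∈ Q ⊓ cj s Q) (hcR : c ∉ R) (hdR : d ∉ R) : c * d ∈ R := by
  -- every element of `D` is in `R` or `R z`
  have key : ∀ y ∈ Q ⊓ cj s Q, y ∉ R → y * z ∈ R := by
    intro y hy hyR
    rcases h.dec y hy.1 with h1 | h1 | h1 | h1
    · exact absurd h1 hyR
    · exact h1
    · exfalso
      apply h.z1D
      have := mul_mem (inv_mem hy) (h.RD h1)
      rwa [inv_mul_cancel_left] at this
    · exfalso
      apply h.z1D
      have h2 := mul_mem (inv_mem hy) (h.RD h1)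
      rw [inv_mul_cancel_left] at h2
      have h3 := mul_mem h2 h.zD
      rwa [mul_assoc, h.zz, mul_one] at h3
  have h1 := mul_mem (key c hc hcR) (key d hd hdR)
  have h2 : z * d = d * z := h.comm h.zQ hd.1
  have e : c * z * (d * z) = c * d := by
    calc c * z * (d * z) = c * (z * d) * z := by group
      _ = c * d * (z * z) := by rw [h2]; group
      _ = c * d := by rw [h.zz, mul_one]
  rwa [e] at h1

theorem sR (h : Blk T Q s a b z z₁ x R) (hc : IsCharacteristicTwoType G) {r : G} (hr : r ∈ R)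
    (hsr : s⁻¹ * r * s ∈ R) : r = 1 := by
  have h1 : r ∈ R ⊓ cj s R := ⟨hr, mem_cj.2 hsr⟩
  rw [h.killing hc, mem_bot] at h1
  exact h1

/-- `|R| ≤ 2`. -/
theorem R_unique (h : Blk T Q s a b z z₁ x R) (hc : IsCharacteristicTwoType G) {c d : G}
    (hcR : c ∈ R) (hdR : d ∈ R) (hc1 : c ≠ 1) (hd1 : d ≠ 1) : c = d := by
  have h1 : s⁻¹ * c * s ∉ R := fun hh => hc1 (h.sR hc hcR hh)
  have h2 : s⁻¹ * d * s ∉ R := fun hh => hd1 (h.sR hc hdR hh)
  have h3 := h.mul_mem_R (h.sD' (h.RD hcR)) (h.sD' (h.RD hdR)) h1 h2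
  have e : s⁻¹ * c * s * (s⁻¹ * d * s) = s⁻¹ * (c * d) * s := by group
  rw [e] at h3
  have h4 := h.sR hc (mul_mem hcR hdR) h3
  have h5 := h.sq d (h.RQ hdR)
  calc c = c * (d * d) := by rw [h5, mul_one]
    _ = (c * d) * d := by group
    _ = d := by rw [h4, one_mul]

/-- `T` centralises `R`. -/
theorem TR (h : Blk T Q s a b z z₁ x R) (hc : IsCharacteristicTwoType G) {t r : G} (ht : t ∈ T)
    (hr : r ∈ R) : t * r = r * t := by
  by_cases hr1 : r = 1
  · rw [hr1, mul_one, one_mul]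
  · have h1 := h.conjR t (h.TN ht) r hr
    have h2 : t * r * t⁻¹ ≠ 1 := by
      intro hh
      apply hr1
      have : r = t⁻¹ * (t * r * t⁻¹) * t := by group
      rw [this, hh]; group
    exact mul_inv_eq_iff_eq_mul.1 (h.R_unique hc h1 hr h2 hr1)

/-- `T = B`. -/
theorem T_eq (h : Blk T Q s a b z z₁ x R) (hc : IsCharacteristicTwoType G) : T = Q ⊔ cj s Q := by
  refine le_antisymm (fun t ht => ?_) h.BT
  -- elements of `T` centralising `z₁` lie in `Q`
  have key : ∀ t ∈ T, t * z₁ * t⁻¹ = z₁ → t ∈ Q := by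
    intro t ht h1
    have hz1 : t * z₁ = z₁ * t := mul_inv_eq_iff_eq_mul.1 h1
    have hz : t * z = z * t := mul_inv_eq_iff_eq_mul.1 (h.Tz ht)
    refine h.cent t ht fun q hq => ?_
    have key : ∀ v ∈ Q, t * v = v * t → q * v ∈ R → t * q = q * t := by
      intro v hv hcv hqv
      have h1 := h.TR hc ht hqv
      have e : q = (q * v) * v := by rw [mul_assoc, h.sq v hv, mul_one]
      calc t * q = (t * (q * v)) * v := by rw [mul_assoc, ← e]
        _ = (q * v) * (t * v) := by rw [h1]; group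
        _ = ((q * v) * v) * t := by rw [hcv]; group
        _ = q * t := by rw [← e]
    rcases h.dec q hq with h1 | h1 | h1 | h1
    · exact h.TR hc ht h1
    · exact key z h.zQ hz h1
    · exact key z₁ h.z1Q hz1 h1
    · exact key (z₁ * z) (mul_mem h.z1Q h.zQ)
        ((show Commute t z₁ from hz1).mul_right (show Commute t z from hz)).eq h1
  rcases h.conjz1 t (h.TN ht) with h1 | h1 | h1
  · exfalso
    apply h.z1_ne
    have h2 := h.Tz ht
    rw [← h2] at h1
    exact mul_left_cancel (mul_right_cancel h1)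
  · exact (le_sup_left : Q ≤ _) (key t ht h1)
  · have hbT : b ∈ T := h.BT h.bB
    have h2 : b * t ∈ Q := by
      refine key _ (mul_mem hbT ht) ?_
      have h3 : b * z₁ * b⁻¹ = z₁ * z := h.actb h.z1Q h.z1D
      calc b * t * z₁ * (b * t)⁻¹ = b * (t * z₁ * t⁻¹) * b⁻¹ := by group
        _ = (b * z₁ * b⁻¹) * (b * z * b⁻¹) := by rw [h1]; group
        _ = z₁ := by rw [h3, h.Tz hbT, mul_assoc, h.zz, mul_one]
    have e : t = b⁻¹ * (b * t) := by group
    rw [e]
    exact mul_mem (inv_mem h.bB) ((le_sup_left : Q ≤ _) h2)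

/-- `Q = V × R`. -/
theorem Q_le (h : Blk T Q s a b z z₁ x R) {K : Subgroup G} (hz : z ∈ K) (hz1 : z₁ ∈ K)
    (hR : R ≤ K) : Q ≤ K := by
  intro q hq
  have key : ∀ v ∈ K, q * v ∈ R → q ∈ K := by
    intro v hv h1
    have := mul_mem (hR h1) (inv_mem hv)
    rwa [mul_inv_cancel_right] at this
  rcases h.dec q hq with h1 | h1 | h1 | h1
  · exact hR h1
  · exact key z hz h1
  · exact key z₁ hz1 h1
  · exact key _ (mul_mem hz1 hz) h1

/-- The case `R = 1`. -/
theorem pRankLE (h : Blk T Q s a b z z₁ x R) (S : Sylow 2 G)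
    (hTS : T ≤ S) (hR : R = ⊥) : PRankLE 2 2 G := by
  have hQ : ∀ q ∈ Q, q = 1 ∨ q = z ∨ q = z₁ ∨ q = z₁ * z := by
    intro q hq
    have hi : ∀ v ∈ Q, q * v = 1 → q = v := by
      intro v hv h1
      calc q = (q * v) * v := by rw [mul_assoc, h.sq v hv, mul_one]
        _ = v := by rw [h1, one_mul]
    rcases h.dec q hq with h1 | h1 | h1 | h1
    · left; rwa [hR, mem_bot] at h1
    · right; left
      rw [hR, mem_bot] at h1
      exact hi z h.zQ h1
    · right; right; left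
      rw [hR, mem_bot] at h1
      exact hi z₁ h.z1Q h1
    · right; right; right
      rw [hR, mem_bot] at h1
      exact hi _ (mul_mem h.z1Q h.zQ) h1
  have hz1ne : z₁ ≠ 1 := fun h1 => h.z1D (h1 ▸ one_mem _)
  have hzz1ne : z₁ * z ≠ 1 := by
    intro h1
    apply h.z1_ne
    calc z₁ = z₁ * z * z := by rw [mul_assoc, h.zz, mul_one]
      _ = z := by rw [h1, one_mul]
  have hcard : Nat.card Q = 4 := by
    classical
    have hset : (Q : Set G) = (({1, z, z₁, z₁ * z} : Finset G) : Set G) := by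
      ext q
      simp only [SetLike.mem_coe, Finset.coe_insert, Finset.coe_singleton, Set.mem_insert_iff,
        Set.mem_singleton_iff]
      constructor
      · exact hQ q
      · rintro (rfl | rfl | rfl | rfl)
        · exact one_mem _
        · exact h.zQ
        · exact h.z1Q
        · exact mul_mem h.z1Q h.zQ
    have h1 : Nat.card Q = Nat.card ((Q : Set G)) := rfl
    rw [h1, hset, Nat.card_eq_card_finite_toFinset (Finset.finite_toSet _),
      Finset.finite_toSet_toFinset]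
    have hz1' := h.z1
    have n1 : z ≠ z₁ * z := by
      intro h1
      apply hz1ne
      exact (mul_right_cancel (show 1 * z = z₁ * z by rw [one_mul]; exact h1)).symm
    have n2 : z₁ ≠ z₁ * z := by
      intro h1
      apply h.z1
      exact (mul_left_cancel (show z₁ * 1 = z₁ * z by rw [mul_one]; exact h1)).symm
    rw [Finset.card_insert_of_notMem, Finset.card_insert_of_notMem, Finset.card_insert_of_notMem,
      Finset.card_singleton]
    · simp only [Finset.mem_singleton]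
      exact n2
    · simp only [Finset.mem_insert, Finset.mem_singleton, not_or]
      exact ⟨h.z1_ne.symm, n1⟩
    · simp only [Finset.mem_insert, Finset.mem_singleton, not_or]
      exact ⟨hz1'.symm, hz1ne.symm, hzz1ne.symm⟩
  refine MinSimple.SelfCentFour.pRankLE S (h.QT.trans hTS) hcard (fun v hv => h.sq v hv) ?_
  rintro y ⟨hyS, hyc⟩
  have hyN : y ∈ normalizer (Q : Set G) := centralizer_le_normalizer _ hyc
  have h1 := h.syl.2.2 (T ⊔ zpowers y) (sup_le h.TN (zpowers_le.2 hyN))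
    (S.isPGroup'.to_le (sup_le hTS (zpowers_le.2 hyS))) le_sup_left
  have hyT : y ∈ T := by
    rw [← h1]
    exact (le_sup_right : zpowers y ≤ T ⊔ zpowers y) (mem_zpowers y)
  exact h.cent y hyT fun q hq => (mem_centralizer_iff.1 hyc q hq).symm

/-- `T` is a Sylow 2-subgroup of `C_G(c)`, `1 ≠ c ∈ R`. -/
theorem syl_c (h : Blk T Q s a b z z₁ x R) (hc : IsCharacteristicTwoType G) {c : G} (hcR : c ∈ R)
    (hc1 : c ≠ 1) : Syl T (centralizer ({c} : Set G)) := by
  refine ⟨fun t ht => mem_centralizer_singleton_iff.2 (h.TR hc ht hcR), h.two, fun P hP hP2 hTP => ?_⟩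
  by_contra hne
  obtain ⟨p, hpP, hpN, hpT, -⟩ := Cfsg.Agent.MinSimple.Choice97.exists_normalizing hP2
    (lt_of_le_of_ne hTP (Ne.symm hne))
  have hpc : p * c = c * p := mem_centralizer_singleton_iff.1 (hP hpP)
  -- `p` does not normalise `Q`
  have hpQ : p ∉ normalizer (Q : Set G) := by
    intro hh
    apply hpT
    have h1 := h.syl.2.2 (T ⊔ zpowers p) (sup_le h.TN (zpowers_le.2 hh))
      (hP2.to_le (sup_le hTP (zpowers_le.2 hpP))) le_sup_left
    rw [← h1]
    exact (le_sup_right : zpowers p ≤ T ⊔ zpowers p) (mem_zpowers p)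
  have h1 : cj p Q ≤ T := by
    have := cj_mono p h.QT
    rwa [cj_eq_of_mem_normalizer hpN] at this
  have h2 : cj p Q = cj s Q := by
    rcases h.cj_Q h1 with h2 | h2
    · exact absurd (mem_normalizer_iff_cj.2 h2) hpQ
    · exact h2
  have h3 : s⁻¹ * p ∈ normalizer (Q : Set G) := by
    rw [mem_normalizer_iff_cj, ← cj_cj, h2, cj_inv_cj]
  have h4 := h.conjR _ h3 c hcR
  apply hc1
  refine h.sR hc hcR ?_
  have e : s⁻¹ * p * c * (s⁻¹ * p)⁻¹ = s⁻¹ * c * s := by
    calc s⁻¹ * p * c * (s⁻¹ * p)⁻¹ = s⁻¹ * (p * c) * p⁻¹ * s := by group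
      _ = s⁻¹ * c * s := by rw [hpc]; group
  rwa [e] at h4

theorem card_T (h : Blk T Q s a b z z₁ x R) (hc : IsCharacteristicTwoType G) {c : G} (hcR : c ∈ R)
    (hc1 : c ≠ 1) : Nat.card T ≤ 16 := by
  have hR : R ≤ zpowers c := by
    intro r hr
    by_cases hr1 : r = 1
    · rw [hr1]; exact one_mem _
    · rw [h.R_unique hc hr hcR hr1 hc1]; exact mem_zpowers c
  have hcc : c * c = 1 := h.sq c (h.RQ hcR)
  have card2 : ∀ y : G, y * y = 1 → Nat.card (zpowers y) ≤ 2 := by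
    intro y hy
    rw [Nat.card_zpowers]
    exact Nat.le_of_dvd two_pos (orderOf_dvd_of_pow_eq_one (by rw [pow_two]; exact hy))
  have cardsup : ∀ (H : Subgroup G) (y : G), y ∈ normalizer (H : Set G) → y * y = 1 →
      Nat.card (zpowers y ⊔ H : Subgroup G) ≤ 2 * Nat.card H := by
    intro H y hyn hyy
    have hs : Function.Surjective (fun p : zpowers y × H =>
        (⟨p.1 * p.2, mul_mem ((le_sup_left : zpowers y ≤ _) p.1.2)
          ((le_sup_right : H ≤ _) p.2.2)⟩ : (zpowers y ⊔ H : Subgroup G))) := by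
      rintro ⟨w, hw⟩
      obtain ⟨u, hu, v, hv, rfl⟩ := Cfsg.Agent.OddOrderLocal.RankBasics.exists_mul_of_mem_sup
        (zpowers_le.2 hyn) hw
      exact ⟨(⟨u, hu⟩, ⟨v, hv⟩), rfl⟩
    have h1 := Nat.card_le_card_of_surjective _ hs
    rw [Nat.card_prod] at h1
    exact h1.trans (Nat.mul_le_mul_right _ (card2 y hyy))
  have hcomm : ∀ {H : Subgroup G} {y : G}, (∀ w ∈ H, y * w = w * y) → y ∈ normalizer (H : Set G) := by
    intro H y hy
    exact centralizer_le_normalizer _ (mem_centralizer_iff.2 fun w hw => (hy w hw).symm)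
  have hQle : Q ≤ zpowers z₁ ⊔ (zpowers z ⊔ zpowers c) :=
    h.Q_le ((le_sup_left.trans le_sup_right : zpowers z ≤ _) (mem_zpowers z))
      ((le_sup_left : zpowers z₁ ≤ _) (mem_zpowers z₁))
      ((hR.trans le_sup_right).trans le_sup_right)
  have hzc : (zpowers z ⊔ zpowers c : Subgroup G) ≤ Q :=
    sup_le (zpowers_le.2 h.zQ) (zpowers_le.2 (h.RQ hcR))
  have c1 := card2 c hcc
  have c2 := cardsup (zpowers c) z (hcomm fun w hw => h.comm h.zQ (zpowers_le.2 (h.RQ hcR) hw)) h.zz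
  have c3 := cardsup (zpowers z ⊔ zpowers c) z₁ (hcomm fun w hw => h.comm h.z1Q (hzc hw)) h.z1z1
  have c4 : Nat.card Q ≤ 8 := (card_le_of_le hQle).trans (by omega)
  have hbQ : b ∈ normalizer (Q : Set G) := h.TN (h.BT h.bB)
  have c5 := cardsup Q b hbQ h.bb
  have hTle : T ≤ zpowers b ⊔ Q := by
    rw [h.T_eq hc]
    refine sup_le le_sup_right fun r hr => ?_
    by_cases hrD : r ∈ Q ⊓ cj s Q
    · exact (le_sup_right : Q ≤ _) hrD.1
    · have h1 := (h.mulD' h.bQ hr h.bD hrD).1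
      have e : r = b⁻¹ * (b * r) := by group
      rw [e]
      exact mul_mem (inv_mem ((le_sup_left : zpowers b ≤ _) (mem_zpowers b)))
        ((le_sup_right : Q ≤ _) h1)
  exact (card_le_of_le hTle).trans (by omega)

/-- The case `R ≠ 1`. -/
theorem exists_index_two (h : Blk T Q s a b z z₁ x R) (hc : IsCharacteristicTwoType G) (S : Sylow 2 G)
    (hTS : T ≤ S) (hsS : s ∈ S) {c : G} (hcR : c ∈ R) (hc1 : c ≠ 1) :
    ∃ N : Subgroup G, N.Normal ∧ N.index = 2 := by
  have hR : ∀ r ∈ R, r = 1 ∨ r = c := by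
    intro r hr
    by_cases hr1 : r = 1
    · exact Or.inl hr1
    · exact Or.inr (h.R_unique hc hr hcR hr1 hc1)
  have hb' : s⁻¹ * z₁ * s ∈ cj s Q := h.swap'' h.z1Q
  have hb'D : s⁻¹ * z₁ * s ∉ Q ⊓ cj s Q := h.s_notMem' h.z1D
  have hbB : s⁻¹ * z₁ * s ∈ Q ⊔ cj s Q := (le_sup_right : cj s Q ≤ _) hb'
  have hsz : s⁻¹ * z * s = z := by
    calc s⁻¹ * z * s = s⁻¹ * (s * z * s⁻¹) * s := by rw [h.sz]
      _ = z := by group
  have hcs : s⁻¹ * c * s = c * z := by
    have h1 := h.sD' (h.RD hcR)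
    have h2 : s⁻¹ * c * s ∉ R := fun hh => hc1 (h.sR hc hcR hh)
    have h3 := h.mul_mem_R h1 h.zD h2 h.zR
    rcases hR _ h3 with h4 | h4
    · exfalso
      have h5 : s⁻¹ * c * s = z := by
        calc s⁻¹ * c * s = s⁻¹ * c * s * z * z := by rw [mul_assoc _ z z, h.zz, mul_one]
          _ = z := by rw [h4, one_mul]
      rw [← hsz] at h5
      have h6 : c = z := mul_left_cancel (mul_right_cancel h5)
      exact h.zR (h6 ▸ hcR)
    · calc s⁻¹ * c * s = s⁻¹ * c * s * z * z := by rw [mul_assoc _ z z, h.zz, mul_one]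
        _ = c * z := by rw [h4]
  refine MinSimple.PushOne.exists_index_two S (a := z₁) (c := c) (s := s) (v := z)
    (hTS (h.QT h.z1Q)) (hTS (h.QT (h.RQ hcR))) hsS h.z1z1 (h.sq c (h.RQ hcR))
    (h.comm h.z1Q (h.RQ hcR)) (h.D_comm hbB (h.RD hcR)) (h.zeq h.z1Q h.z1D hb' hb'D ▸ by group)
    h.zz1 h.z1 hcs ?_ ⟨x⁻¹, by rw [inv_inv]; exact h.xiz1⟩ ?_
  · -- `s * s ∈ T = ⟨z₁, z₁ ^ s, c⟩`
    have m1 : z₁ ∈ closure {z₁, s⁻¹ * z₁ * s, c} := subset_closure (by simp)
    have m2 : s⁻¹ * z₁ * s ∈ closure {z₁, s⁻¹ * z₁ * s, c} := subset_closure (by simp)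
    have m3 : c ∈ closure {z₁, s⁻¹ * z₁ * s, c} := subset_closure (by simp)
    have m4 : z ∈ closure {z₁, s⁻¹ * z₁ * s, c} := by
      rw [← h.zeq h.z1Q h.z1D hb' hb'D]
      exact mul_mem (mul_mem (mul_mem m1 m2) m1) m2
    have hQ : Q ≤ closure {z₁, s⁻¹ * z₁ * s, c} := by
      refine h.Q_le m4 m1 fun r hr => ?_
      rcases hR r hr with h1 | h1
      · rw [h1]; exact one_mem _
      · rw [h1]; exact m3
    have hQ' : cj s Q ≤ closure {z₁, s⁻¹ * z₁ * s, c} := by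
      intro r hr
      by_cases hrD : r ∈ Q ⊓ cj s Q
      · exact hQ hrD.1
      · have h1 := (h.mulD' hb' hr hb'D hrD).1
        have e : r = (s⁻¹ * z₁ * s)⁻¹ * (s⁻¹ * z₁ * s * r) := by group
        rw [e]
        exact mul_mem (inv_mem m2) (hQ h1)
    have hTB := h.T_eq hc
    have := h.ss
    rw [hTB] at this
    exact (sup_le hQ hQ') this
  · intro P hP hPc
    have hPX : P ≤ centralizer ({c} : Set G) := fun y hy =>
      mem_centralizer_singleton_iff.2 (hPc y hy)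
    obtain ⟨S', hS', hPS'⟩ := exists_syl hP hPX
    obtain ⟨g, -, hg⟩ := syl_conj (h.syl_c hc hcR hc1) hS'
    calc Nat.card P ≤ Nat.card S' := card_le_of_le hPS'
      _ = Nat.card T := by rw [← hg, card_cj]
      _ ≤ 16 := h.card_T hc hcR hc1

end Blk

/-- **SQ1, one block, `q = 2`.** -/
theorem main [Finite G] (hc : IsCharacteristicTwoType G) (S : Sylow 2 G) (h : Hyp T Q s) (hTS : T ≤ S)
    (hsS : s ∈ S) (hmove : ¬ normalizer (Q : Set G) ≤ normalizer ((Q ⊔ cj s Q : Subgroup G) : Set G)) :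
    PRankLE 2 2 G ∨ ∃ N : Subgroup G, N.Normal ∧ N.index = 2 := by
  obtain ⟨a, b, z, hf⟩ := h.exists_frame
  obtain ⟨g, hg, hgB⟩ := SetLike.not_le_iff_exists.1 hmove
  rw [mem_normalizer_iff_cj] at hgB
  obtain ⟨z₁, x, R, hB⟩ := hf.exists_blk hc hg hgB
  by_cases hR : R = ⊥
  · exact Or.inl (hB.pRankLE S hTS hR)
  · obtain ⟨⟨c, hcR⟩, hc1⟩ := (Subgroup.ne_bot_iff_exists_ne_one).1 hR
    exact Or.inr (hB.exists_index_two hc S hTS hsS hcR fun h1 => hc1 (Subtype.ext h1))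

end Cfsg.Agent.Omega.SQ1.Two

end

section


/-!
# The unique maximal 2-local case, one block, `q = 2`: from the pushing up theorem to `Hyp`

`Push T B Q Y s`: the output of the pushing up theorem for one block and `q = 2`.
-/

set_option autoImplicit false

namespace Cfsg.Agent.Omega.SQ1.Two

open Subgroup Cfsg Cfsg.Agent.ZN Cfsg.Agent.ZN.ChoiceBase Cfsg.Agent.ZN.ChoiceSit
open Cfsg.Agent.MinSimple.CaseOneAP (mul_mem_of_relIndex comm_of_sq)

universe u

variable {G : Type u} [Group G]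

/-- The output of the pushing up theorem (one block, `q = 2`): `Q = Q*`, `Y ≤ Z(Q)` elementary abelian,
`C_T(Y) ≤ Q`, `|B : Q| = 2`, `J(T) ≤ B`, `s` normalises `T` and `B`, `Y` and `Y ^ s` do not commute. -/
structure Push (T B Q Y : Subgroup G) (s : G) : Prop where
  syl : Syl T (normalizer (Q : Set G))
  QB : Q ≤ B
  BT : B ≤ T
  YQ : Y ≤ Q
  Ysq : ∀ y ∈ Y, y * y = 1
  YcQ : ∀ y ∈ Y, ∀ q ∈ Q, y * q = q * y
  cent : ∀ t ∈ T, (∀ y ∈ Y, t * y = y * t) → t ∈ Q
  sT : s ∈ normalizer (T : Set G)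
  sB : s ∈ normalizer (B : Set G)
  ss : s * s ∈ T
  J : jj T ≤ B
  idx : Q.relIndex B = 2
  nc : ∃ u ∈ Y, ∃ v ∈ Y, u * (s * v * s⁻¹) ≠ (s * v * s⁻¹) * u
  core : ∀ R : Subgroup G, R ≤ Q → normalizer (Q : Set G) ≤ normalizer (R : Set G) →
    s ∈ normalizer (R : Set G) → R = ⊥

namespace Push

variable {T B Q Y : Subgroup G} {s : G}

theorem conjB (h : Push T B Q Y s) {b : G} (hb : b ∈ B) : s * b * s⁻¹ ∈ B := (mem_normalizer_iff.1 h.sB b).1 hb

theorem conjB' (h : Push T B Q Y s) {b : G} (hb : b ∈ B) : s⁻¹ * b * s ∈ B := by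
  have := (mem_normalizer_iff.1 (inv_mem h.sB) b).1 hb
  rwa [inv_inv] at this

theorem two (h : Push T B Q Y s) : IsPGroup 2 T := h.syl.2.1

/-- Elements of `Q` have square one. -/
theorem sq [Finite G] (h : Push T B Q Y s) {q : G} (hq : q ∈ Q) : q * q = 1 := by
  obtain ⟨v, hv, u, hu, hne⟩ := h.nc
  have hvQ : v ∈ Q := h.YQ hv
  have huQ : u ∈ Q := h.YQ hu
  have hvv : v * v = 1 := h.Ysq v hv
  have huu : u * u = 1 := h.Ysq u hu
  -- `v ∉ Q ^ s`, `u ^ s ∉ Q`
  have hv' : s⁻¹ * v * s ∉ Q := by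
    intro hh
    apply hne
    have h1 := h.YcQ u hu _ hh
    calc v * (s * u * s⁻¹) = s * ((s⁻¹ * v * s) * u) * s⁻¹ := by group
      _ = s * (u * (s⁻¹ * v * s)) * s⁻¹ := by rw [h1]
      _ = s * u * s⁻¹ * v := by group
  have hu' : s * u * s⁻¹ ∉ Q := fun hh => hne (h.YcQ v hv _ hh)
  set R : Subgroup G := closure {x | ∃ q ∈ Q, x = q * q} with hR
  have hRQ : R ≤ Q := by
    rw [hR, closure_le]
    rintro _ ⟨q, hq, rfl⟩
    exact mul_mem hq hq
  -- squares of `Q` are squares of `Q ^ s`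
  have h1 : ∀ q ∈ Q, ∃ p ∈ Q, q * q = s * (p * p) * s⁻¹ := by
    intro q hq
    by_cases hqt : s⁻¹ * q * s ∈ Q
    · exact ⟨_, hqt, by group⟩
    · have h2 : (s⁻¹ * q * s) * (s⁻¹ * v * s) ∈ Q :=
        mul_mem_of_relIndex h.idx (h.conjB' (h.QB hq)) (h.conjB' (h.QB hvQ)) hqt hv'
      refine ⟨_, h2, ?_⟩
      have h3 := h.YcQ v hv q hq
      calc q * q = q * (v * v) * q := by rw [hvv, mul_one]
        _ = (q * v) * (v * q) := by group
        _ = (q * v) * (q * v) := by rw [h3]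
        _ = _ := by group
  have h2 : ∀ q ∈ Q, ∃ p ∈ Q, s * (q * q) * s⁻¹ = p * p := by
    intro q hq
    by_cases hqt : s * q * s⁻¹ ∈ Q
    · exact ⟨_, hqt, by group⟩
    · have h2 : (s * q * s⁻¹) * (s * u * s⁻¹) ∈ Q :=
        mul_mem_of_relIndex h.idx (h.conjB (h.QB hq)) (h.conjB (h.QB huQ)) hqt hu'
      refine ⟨_, h2, ?_⟩
      have h3 := h.YcQ u hu q hq
      calc s * (q * q) * s⁻¹ = s * (q * (u * u) * q) * s⁻¹ := by rw [huu, mul_one]
        _ = s * ((q * u) * (u * q)) * s⁻¹ := by group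
        _ = s * ((q * u) * (q * u)) * s⁻¹ := by rw [h3]
        _ = _ := by group
  have hLR : normalizer (Q : Set G) ≤ normalizer (R : Set G) := by
    intro l hl
    refine mem_norm_of_forall ?_
    have : R ≤ R.comap (MulAut.conj l).toMonoidHom := by
      conv_lhs => rw [hR]
      rw [closure_le]
      rintro _ ⟨q, hq, rfl⟩
      change l * (q * q) * l⁻¹ ∈ R
      rw [hR]
      exact subset_closure ⟨l * q * l⁻¹, (mem_normalizer_iff.1 hl q).1 hq, by group⟩
    exact fun r hr => this hr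
  have htR : s ∈ normalizer (R : Set G) := by
    refine mem_norm_of_forall ?_
    have : R ≤ R.comap (MulAut.conj s).toMonoidHom := by
      conv_lhs => rw [hR]
      rw [closure_le]
      rintro _ ⟨q, hq, rfl⟩
      change s * (q * q) * s⁻¹ ∈ R
      obtain ⟨p, hp, hqp⟩ := h2 q hq
      rw [hqp, hR]
      exact subset_closure ⟨p, hp, rfl⟩
    exact fun r hr => this hr
  have hbot : R = ⊥ := h.core R hRQ hLR htR
  have : q * q ∈ R := by rw [hR]; exact subset_closure ⟨q, hq, rfl⟩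
  rwa [hbot, mem_bot] at this

theorem cjs_le (h : Push T B Q Y s) : cj s Q ≤ B := by
  rintro _ ⟨q, hq, rfl⟩
  exact h.conjB (h.QB hq)

/-- `|Q : Q ∩ Q ^ s| = 2`. -/
theorem idx' [Finite G] (h : Push T B Q Y s) : (Q ⊓ cj s Q).relIndex Q = 2 := by
  obtain ⟨v, hv, u, hu, hne⟩ := h.nc
  have hv' : v ∉ cj s Q := by
    intro hh
    rw [mem_cj] at hh
    apply hne
    have h1 := h.YcQ u hu _ hh
    calc v * (s * u * s⁻¹) = s * ((s⁻¹ * v * s) * u) * s⁻¹ := by group
      _ = s * (u * (s⁻¹ * v * s)) * s⁻¹ := by rw [h1]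
      _ = s * u * s⁻¹ * v := by group
  have hmul : ∀ a ∈ Q, ∀ b ∈ Q, a ∉ cj s Q → b ∉ cj s Q → a * b ∈ cj s Q := by
    intro a ha b hb ha' hb'
    rw [mem_cj] at ha' hb' ⊢
    have := mul_mem_of_relIndex h.idx (h.conjB' (h.QB ha)) (h.conjB' (h.QB hb)) ha' hb'
    have e : s⁻¹ * a * s * (s⁻¹ * b * s) = s⁻¹ * (a * b) * s := by group
    rwa [e] at this
  have hvQ := h.YQ hv
  rw [relIndex_eq_two_iff_exists_notMem_and]
  refine ⟨v, hvQ, fun hh => hv' hh.2, fun x hx => ?_⟩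
  by_cases hxs : x ∈ cj s Q
  · exact Or.inr ⟨hx, hxs⟩
  · exact Or.inl ⟨mul_mem hx hvQ, hmul x hx v hvQ hxs hv'⟩

theorem hyp0 [Finite G] (h : Push T B Q Y s) : Hyp0 T Q s where
  syl := h.syl
  QT := h.QB.trans h.BT
  sq := fun q hq => h.sq hq
  cent := fun t ht hc => h.cent t ht fun y hy => hc y (h.YQ hy)
  sT := h.sT
  ss := h.ss
  idx := h.idx'

theorem B_eq [Finite G] (h : Push T B Q Y s) : B = Q ⊔ cj s Q := by
  refine le_antisymm (fun b hb => ?_) (sup_le h.QB h.cjs_le)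
  obtain ⟨v, hv, u, hu, hne⟩ := h.nc
  have hu' : s * u * s⁻¹ ∉ Q := fun hh => hne (h.YcQ v hv _ hh)
  have huQ' : s * u * s⁻¹ ∈ cj s Q := h.hyp0.mem' (h.YQ hu)
  by_cases hbQ : b ∈ Q
  · exact (le_sup_left : Q ≤ _) hbQ
  · have h1 := mul_mem_of_relIndex h.idx hb (h.cjs_le huQ') hbQ hu'
    have e : b = (b * (s * u * s⁻¹)) * (s * u * s⁻¹)⁻¹ := by group
    rw [e]
    exact mul_mem ((le_sup_left : Q ≤ _) h1) (inv_mem ((le_sup_right : cj s Q ≤ _) huQ'))

theorem isEA {A : Subgroup G} (hA : ∀ a ∈ A, a * a = 1) : IsElementaryAbelian 2 A := by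
  refine ⟨⟨⟨fun x y => Subtype.ext ?_⟩⟩, fun a ha => by rw [pow_two]; exact hA a ha⟩
  exact comm_of_sq hA x.2 y.2

theorem hyp [Finite G] (h : Push T B Q Y s) : Hyp T Q s where
  toHyp0 := h.hyp0
  jt := by
    intro A hAT hA2 hc
    have key : ∀ C : Subgroup G, C ∈ AA T → C ≤ Q ⊔ cj s Q ∧ Nat.card C ≤ Nat.card Q := by
      intro C hC
      have h1 : C ≤ Q ⊔ cj s Q := by
        rw [← h.B_eq]
        exact (le_jj hC).trans h.J
      refine ⟨h1, ?_⟩
      have hC2 : ∀ a ∈ C, a * a = 1 := fun a ha => by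
        have := hC.1.2 a ha
        rwa [pow_two] at this
      rcases h.hyp0.le_or_le h1 hC2 with h2 | h2
      · exact card_le_of_le h2
      · exact (card_le_of_le h2).trans (card_cj s Q).le
    obtain ⟨C, hC⟩ := AA_nonempty T
    have hAA : A ∈ AA T := by
      rw [mem_AA_iff]
      refine ⟨isEA hA2, hAT, ?_⟩
      rw [mm_eq hC]
      exact (key C hC).2.trans hc
    exact (key A hAA).1

/-- **SQ1, one block, `q = 2`**: from the pushing up theorem to the end. -/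
theorem main [Finite G] (hc : IsCharacteristicTwoType G) (S : Sylow 2 G) (h : Push T B Q Y s)
    (hTS : T ≤ S) (hsS : s ∈ S) (hmove : ¬ normalizer (Q : Set G) ≤ normalizer (B : Set G)) :
    PRankLE 2 2 G ∨ ∃ N : Subgroup G, N.Normal ∧ N.index = 2 := by
  refine Two.main hc S h.hyp hTS hsS ?_
  rwa [← h.B_eq]

end Push

end Cfsg.Agent.Omega.SQ1.Two

end

section


/-!
# The unique maximal 2-local case, one block, `q = 2`: sectional 2-rank at most 4 (SQ1, L9)

`Push.rank`: a simple group of characteristic 2 type with a configuration `Push T B Q Y s` such that `N_G(Q)` does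
not normalise `B` has sectional 2-rank at most 4.
-/

set_option autoImplicit false

namespace Cfsg.Agent.Omega.SQ1.Two

open Subgroup Cfsg Cfsg.Agent.ZN Cfsg.Agent.ZN.ChoiceBase Cfsg.Agent.ZN.ChoiceSit

universe u

variable {G : Type u} [Group G] {T Q : Subgroup G} {s a b z z₁ x : G} {R : Subgroup G}

/-- A finite group whose Sylow 2-subgroup `S` contains a subgroup `Q` of order 4 with `C_S(Q) = Q` has sectional
2-rank at most 4. -/
theorem rank_of_four [Finite G] (S : Sylow 2 G) (hQS : Q ≤ S) (hcard : Nat.card Q = 4)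
    (hcomm : ∀ x ∈ Q, ∀ y ∈ Q, x * y = y * x)
    (hc : ∀ y ∈ S, (∀ q ∈ Q, y * q = q * y) → y ∈ Q) : SectionalPRankLE 2 4 G := by
  have : Fact (Nat.Prime 2) := ⟨Nat.prime_two⟩
  apply TwoFusion.SectionalRank.sectionalPRankLE_of_sylow S
  obtain ⟨n, hn⟩ := IsPGroup.iff_card.mp S.isPGroup'
  by_cases hn4 : n ≤ 4
  · refine TwoFusion.SectionalRank.sectionalPRankLE_of_card_le ?_
    rw [hn]
    exact Nat.pow_le_pow_right (by norm_num) hn4
  obtain ⟨A, hA⟩ : ∃ A : Subgroup S, A = Q.subgroupOf S := ⟨_, rfl⟩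
  have hA4 : Nat.card A = 2 ^ 2 := by
    rw [hA, Nat.card_congr (subgroupOfEquivOfLe hQS).toEquiv, hcard]; norm_num
  have hCA : centralizer (A : Set S) = A := by
    apply le_antisymm
    · rintro ⟨y, hy⟩ hyc
      rw [hA, mem_subgroupOf]
      refine hc y hy fun q hq => ?_
      have h1 := mem_centralizer_iff.1 hyc ⟨q, hQS hq⟩ (by
        rw [hA]; exact mem_subgroupOf.2 hq)
      exact (congrArg Subtype.val h1).symm
    · rintro ⟨y, hy⟩ hyA
      rw [hA, mem_subgroupOf] at hyA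
      rw [mem_centralizer_iff]
      rintro ⟨q, hq⟩ hqA
      rw [hA, SetLike.mem_coe, mem_subgroupOf] at hqA
      exact Subtype.ext (hcomm q hqA y hyA)
  have hclass := Cfsg.Agent.S0112.result (p := 2) n hn A hA4 hCA
  obtain ⟨C, hC, hCidx⟩ := Cfsg.Agent.S0113.result n (by omega) hn hclass
  have h1 := TwoFusion.SectionalRank.sectionalPRankLE_of_cyclic (p := 2) (k := 3) (by norm_num) C
    (by rw [hCidx]; norm_num)
  exact h1

namespace Blk

variable [Finite G]

theorem card_Q (h : Blk T Q s a b z z₁ x R) (hR : R = ⊥) : Nat.card Q = 4 := by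
  have hQ : ∀ q ∈ Q, q = 1 ∨ q = z ∨ q = z₁ ∨ q = z₁ * z := by
    intro q hq
    have hi : ∀ v ∈ Q, q * v = 1 → q = v := by
      intro v hv h1
      calc q = (q * v) * v := by rw [mul_assoc, h.sq v hv, mul_one]
        _ = v := by rw [h1, one_mul]
    rcases h.dec q hq with h1 | h1 | h1 | h1
    · left; rwa [hR, mem_bot] at h1
    · right; left
      rw [hR, mem_bot] at h1
      exact hi z h.zQ h1
    · right; right; left
      rw [hR, mem_bot] at h1
      exact hi z₁ h.z1Q h1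
    · right; right; right
      rw [hR, mem_bot] at h1
      exact hi _ (mul_mem h.z1Q h.zQ) h1
  have hz1ne : z₁ ≠ 1 := fun h1 => h.z1D (h1 ▸ one_mem _)
  have hzz1ne : z₁ * z ≠ 1 := by
    intro h1
    apply h.z1_ne
    calc z₁ = z₁ * z * z := by rw [mul_assoc, h.zz, mul_one]
      _ = z := by rw [h1, one_mul]
  have hcard : Nat.card Q = 4 := by
    classical
    have hset : (Q : Set G) = (({1, z, z₁, z₁ * z} : Finset G) : Set G) := by
      ext q
      simp only [SetLike.mem_coe, Finset.coe_insert, Finset.coe_singleton, Set.mem_insert_iff,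
        Set.mem_singleton_iff]
      constructor
      · exact hQ q
      · rintro (rfl | rfl | rfl | rfl)
        · exact one_mem _
        · exact h.zQ
        · exact h.z1Q
        · exact mul_mem h.z1Q h.zQ
    have h1 : Nat.card Q = Nat.card ((Q : Set G)) := rfl
    rw [h1, hset, Nat.card_eq_card_finite_toFinset (Finset.finite_toSet _),
      Finset.finite_toSet_toFinset]
    have hz1' := h.z1
    have n1 : z ≠ z₁ * z := by
      intro h1
      apply hz1ne
      exact (mul_right_cancel (show 1 * z = z₁ * z by rw [one_mul]; exact h1)).symm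
    have n2 : z₁ ≠ z₁ * z := by
      intro h1
      apply h.z1
      exact (mul_left_cancel (show z₁ * 1 = z₁ * z by rw [mul_one]; exact h1)).symm
    rw [Finset.card_insert_of_notMem, Finset.card_insert_of_notMem, Finset.card_insert_of_notMem,
      Finset.card_singleton]
    · simp only [Finset.mem_singleton]
      exact n2
    · simp only [Finset.mem_insert, Finset.mem_singleton, not_or]
      exact ⟨h.z1_ne.symm, n1⟩
    · simp only [Finset.mem_insert, Finset.mem_singleton, not_or]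
      exact ⟨hz1'.symm, hz1ne.symm, hzz1ne.symm⟩
  exact hcard

/-- The case `R = 1`. -/
theorem rank_of_bot (h : Blk T Q s a b z z₁ x R) (S : Sylow 2 G) (hTS : T ≤ S) (hR : R = ⊥) :
    SectionalPRankLE 2 4 G := by
  refine rank_of_four S (h.QT.trans hTS) (h.card_Q hR) (fun x hx y hy => h.comm hx hy) ?_
  intro y hyS hyc
  have hyN : y ∈ normalizer (Q : Set G) :=
    centralizer_le_normalizer _ (mem_centralizer_iff.2 fun q hq => (hyc q hq).symm)
  have h1 := h.syl.2.2 (T ⊔ zpowers y) (sup_le h.TN (zpowers_le.2 hyN))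
    (S.isPGroup'.to_le (sup_le hTS (zpowers_le.2 hyS))) le_sup_left
  have hyT : y ∈ T := by
    rw [← h1]
    exact (le_sup_right : zpowers y ≤ T ⊔ zpowers y) (mem_zpowers y)
  exact h.cent y hyT fun q hq => hyc q hq

end Blk

/-- **SQ1, one block, `q = 2`.** -/
theorem main_rank [Finite G] (hc : IsCharacteristicTwoType G) (S : Sylow 2 G) (h : Hyp T Q s) (hTS : T ≤ S)
    (hsS : s ∈ S) (hmove : ¬ normalizer (Q : Set G) ≤ normalizer ((Q ⊔ cj s Q : Subgroup G) : Set G)) :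
    SectionalPRankLE 2 4 G ∨ ∃ N : Subgroup G, N.Normal ∧ N.index = 2 := by
  obtain ⟨a, b, z, hf⟩ := h.exists_frame
  obtain ⟨g, hg, hgB⟩ := SetLike.not_le_iff_exists.1 hmove
  rw [mem_normalizer_iff_cj] at hgB
  obtain ⟨z₁, x, R, hB⟩ := hf.exists_blk hc hg hgB
  by_cases hR : R = ⊥
  · exact Or.inl (hB.rank_of_bot S hTS hR)
  · obtain ⟨⟨c, hcR⟩, hc1⟩ := (Subgroup.ne_bot_iff_exists_ne_one).1 hR
    exact Or.inr (hB.exists_index_two hc S hTS hsS hcR fun h1 => hc1 (Subtype.ext h1))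

/-- A simple group with a normal subgroup of index 2 has order 2. -/
theorem rank_of_index_two [Finite G] [IsSimpleGroup G] (h : ∃ N : Subgroup G, N.Normal ∧ N.index = 2) :
    SectionalPRankLE 2 4 G := by
  obtain ⟨N, hN, h2⟩ := h
  rcases hN.eq_bot_or_eq_top with h1 | h1
  · rw [h1, index_bot] at h2
    exact TwoFusion.SectionalRank.sectionalPRankLE_of_card_le (by rw [h2]; norm_num)
  · rw [h1, index_top] at h2
    omega

/-- **SQ1, L9** (one block, `q = 2`): a simple group of characteristic 2 type with a pushing up configuration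
(one block, `q = 2`) has sectional 2-rank at most 4. -/
theorem Push.rank {B Y : Subgroup G} [Finite G] [IsSimpleGroup G] (hc : IsCharacteristicTwoType G) (S : Sylow 2 G)
    (h : Push T B Q Y s) (hTS : T ≤ S) (hsS : s ∈ S)
    (hmove : ¬ normalizer (Q : Set G) ≤ normalizer (B : Set G)) : SectionalPRankLE 2 4 G := by
  rcases main_rank hc S h.hyp hTS hsS (by rwa [← h.B_eq]) with h1 | h1
  · exact h1
  · exact rank_of_index_two h1

end Cfsg.Agent.Omega.SQ1.Two

end

section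


/-!
# SQ1, one block, `q = 2`: from the matching to the end

* `push_of`: in the configuration `Config M T Y s` the matching data `MIn` with one block and
  `|V : Z| = 2` give `Two.Push`; hence (`rank_of`) sectional 2-rank at most 4 (helper666).
* `one_block_config_all`: in the configuration `Config M T Y s` there is at most one block, all `q`
  (helper437, helper799).
-/

set_option autoImplicit false

namespace Cfsg.Agent.Omega.SQ1.GlueTwo

open Subgroup Cfsg Cfsg.Agent.ZN Cfsg.Agent.ZN.ChoiceBase Cfsg.Agent.ZN.ChoiceSit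
open Cfsg.Agent.Omega.SQ1.Choice (Config)
open Cfsg.Agent.Omega.SQ1.Match
open Cfsg.Agent.Omega.SQ1

universe u v

variable {G : Type u} [Group G] {ι : Type v}
variable {M A T Y P : Subgroup G} {s : G} {L Q V D : ι → Subgroup G}

theorem P_ne_bot [Finite G] (h : MIn A T (bau T) (zj T) P s L Q V D) (i : ι) : P ≠ ⊥ := by
  intro h0
  obtain ⟨d, hd, hd1⟩ := (h.dat i).exists_ne
  apply hd1
  have h1 := h.VP ((h.dat i).DV hd)
  rw [h0] at h1
  simpa using h1

/-- `N_G(P)` does not normalise `B`. -/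
theorem not_norm [Finite G] (c : Config M T Y s) (h : MIn A T (bau T) (zj T) P s L Q V D) (i : ι)
    (hYP : Y ≤ normalizer (P : Set G)) :
    ¬ normalizer (P : Set G) ≤ normalizer (bau T : Set G) := by
  intro h1
  have hP0 := P_ne_bot h i
  have hB0 : bau T ≠ ⊥ := by
    intro h0
    apply hP0
    rw [eq_bot_iff]
    intro x hx
    have := ((h.Pmem x).1 hx).1
    rwa [h0] at this
  exact c.not_le_normalizer (c.two.to_le (bau_le T)) hB0 (normalizer_le_bau T) (hYP.trans h1)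

/-- **One block, `q = 2`**: the pushing up situation. -/
theorem push_of [Finite G] (c : Config M T Y s) (h : MIn A T (bau T) (zj T) P s L Q V D)
    (i : ι) (hi : ∀ j, j = i) (hYP : Y ≤ normalizer (P : Set G))
    (h2 : (zj T).relIndex (V i) = 2) : Two.Push T (bau T) P (V i) s := by
  have hP2 : IsPGroup 2 P := c.two.to_le h.P_le_T
  have hP0 := P_ne_bot h i
  have hPQ : P = Q i := by
    apply le_antisymm
    · exact fun x hx => ((h.Pmem x).1 hx).2 i
    · exact fun x hx => (h.Pmem x).2 ⟨(h.dat i).QB hx, fun j => by rw [hi j]; exact hx⟩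
  refine ⟨JC.syl_P c hP2 hP0 hYP, fun x hx => ((h.Pmem x).1 hx).1, bau_le T, fun v hv => h.VP hv,
    (h.dat i).Vsq, fun y hy q hq => (h.PV hq hy).symm, ?_, c.sN, normalizer_le_bau T c.sN, c.sq,
    jj_le_bau T, ?_, ?_, ?_⟩
  · intro t ht hc
    have htB : t ∈ bau T := mem_bau.2 ⟨ht, fun z hz => (hc z ((h.dat i).ZV hz)).symm⟩
    rw [hPQ]
    exact (h.dat i).QcV t htB hc
  · rw [hPQ, ← Block.idx_eq (h.dat i)]
    exact h2
  · obtain ⟨j, v, hv, u, hu, hne⟩ := h.par_exists i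
    rw [hi j] at hu
    exact ⟨v, hv, u, hu, hne⟩
  · intro R hR hn hs
    exact c.eq_bot (hP2.to_le hR) (hYP.trans hn) hs

/-- **One block, `q = 2`**: sectional 2-rank at most 4. -/
theorem rank_of [Finite G] [IsSimpleGroup G] (hG : IsCharacteristicTwoType G) (c : Config M T Y s)
    (h : MIn A T (bau T) (zj T) P s L Q V D) (i : ι) (hi : ∀ j, j = i)
    (hYP : Y ≤ normalizer (P : Set G)) (h2 : (zj T).relIndex (V i) = 2) :
    SectionalPRankLE 2 4 G := by
  obtain ⟨S, -, hTS, hsS⟩ := c.exists_sylow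
  exact (push_of c h i hi hYP h2).rank hG S hTS hsS (not_norm c h i hYP)

/-- Every 2-subgroup of `N` has a conjugate in the Sylow subgroup `T`. -/
theorem syl_conj_of [Finite G] {N : Subgroup G} (hT : Syl T N) {R : Subgroup G} (hR : IsPGroup 2 R)
    (hRN : R ≤ N) : ∃ g ∈ N, ∀ a ∈ R, g * a * g⁻¹ ∈ T := by
  obtain ⟨U, hU, hRU⟩ := exists_syl hR hRN
  obtain ⟨g, hgN, hg⟩ := syl_conj hU hT
  refine ⟨g, hgN, fun a ha => ?_⟩
  rw [← hg]
  exact ⟨a, hRU ha, rfl⟩

/-- Elementary abelian subgroups of `T` of order at least `|P|` lie in `bau T`. -/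
theorem AA_of [Finite G] [Finite ι] (h : MIn A T (bau T) (zj T) P s L Q V D) (i : ι)
    (hP : P ∈ AA T) {F : Subgroup G} (hF : F ≤ T) (hsq : ∀ x ∈ F, x * x = 1)
    (hc : Nat.card P ≤ Nat.card F) : F ≤ bau T := by
  apply h.AA_le i hP
  rw [mem_AA_iff]
  refine ⟨Two.Push.isEA hsq, hF, ?_⟩
  rw [mm_eq hP]
  exact hc

/-- **At most one block** in the configuration of the unique maximal 2-local case, all `q`. -/
theorem one_block_config_all [Finite G] [Finite ι] (hG : IsCharacteristicTwoType G)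
    (c : Config M T Y s) (h : MIn A T (bau T) (zj T) P s L Q V D)
    (hYP : Y ≤ normalizer (P : Set G)) {E : Subgroup G} (hE : E ∈ AA T) (hEP : E ≤ P) :
    Subsingleton ι := by
  constructor
  intro i i'
  by_contra hii
  have hP2 : IsPGroup 2 P := c.two.to_le h.P_le_T
  have hP0 := P_ne_bot h i
  have hPA : P ∈ AA T := h.P_AA i hE hEP
  have hS := JC.syl_P c hP2 hP0 hYP
  exact KillTwo.one_block_all (JC.charTwo hG) h hZ_bau (c.two.to_le (bau_le T))
    (JC.hself hG c h i hP0 hYP) (Block.jcond_of hS (h.J_eq i hPA))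
    (fun R hR hRN => syl_conj_of hS hR hRN)
    (fun F hF hsq hc => AA_of h i hPA hF hsq hc) hii

end Cfsg.Agent.Omega.SQ1.GlueTwo

end
end

-- part: Mrg/Omega/SQ1/EndTwo
section
section


/-!
# SQ1, `q = 2`: from the Baumann data to the end
-/

set_option autoImplicit false

namespace Cfsg.Agent.Omega.SQ1.EndTwo

open Subgroup Cfsg Cfsg.Agent.ZN Cfsg.Agent.ZN.ChoiceBase Cfsg.Agent.ZN.ChoiceSit
open Cfsg.Agent.Omega.SQ1.Choice (Config)
open Cfsg.Agent.Omega.SQ1.Match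
open Cfsg.Agent.Omega.SQ1

universe u w

variable {G : Type u} [Group G]
variable {M T H Q V : Subgroup G} {s : G} {ι : Type w} {N : ι → Subgroup G} {d t r : ι → G}

/-- the matching data in the configuration of `SQ1.Choice`, `A = ⟨T, s⟩` -/
theorem min_of [Finite G] (c : Config M T H s) (h : BauS.In H T Q V N d t r)
    (hp : BauS.PermR T V d r) :
    ∃ L : ι → Subgroup G, MIn (T ⊔ zpowers s) T (bau T) (zj T) (bau T ⊓ Q) s L
      (fun i => BauS.QQ T N i) (fun i => BauS.VV T N i) (fun i => zpowers (d i)) := by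
  have hTA : T ≤ T ⊔ zpowers s := le_sup_left
  have hAT : T ⊔ zpowers s ≤ normalizer (T : Set G) := sup_le le_normalizer (zpowers_le.2 c.sN)
  have idx : ∀ a ∈ T ⊔ zpowers s, ∀ b ∈ T ⊔ zpowers s, a ∉ T → b ∉ T → a⁻¹ * b ∈ T := by
    intro a ha b hb haT hbT
    have h1 := (SitOf.mem_A c.sN c.sq ha).resolve_left haT
    have h2 := (SitOf.mem_A c.sN c.sq hb).resolve_left hbT
    have h3 := mul_mem (inv_mem h1) h2
    have e : (s⁻¹ * a)⁻¹ * (s⁻¹ * b) = a⁻¹ * b := by group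
    rwa [e] at h3
  obtain ⟨L, -, -, hL⟩ := h.min_in hp hTA hAT idx
    (fun R hR hH hA => SitOf.core_of_config c R hR hH (hA s (mem_sup_right (mem_zpowers s))))
    (mem_sup_right (mem_zpowers s)) c.sT
  exact ⟨L, hL⟩

theorem norm_star [Finite G] (h : BauS.In H T Q V N d t r) (i : ι) :
    H ≤ normalizer ((bau T ⊓ Q : Subgroup G) : Set G) := fun g hg =>
  mem_normalizer_of_cj_le (by
    rintro _ ⟨x, hx, rfl⟩
    exact h.star_norm i g hg x hx)

/-- `B ∩ Q` contains a member of `A(T)`. -/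
theorem exists_AA [Finite G] (h : BauS.In H T Q V N d t r) : ∃ E ∈ AA T, E ≤ bau T ⊓ Q := by
  obtain ⟨E, hE, hEQ, -⟩ := h.exists_AQ
  exact ⟨E, hE, le_inf ((le_jj hE).trans (jj_le_bau T)) hEQ⟩

/-- **One block, `q = 2`.** -/
theorem one_case [Finite G] [IsSimpleGroup G] (hG : IsCharacteristicTwoType G) (c : Config M T H s)
    (h : BauS.In H T Q V N d t r) (hp : BauS.PermR T V d r) (i : ι) (hi : ∀ j, j = i) :
    SectionalPRankLE 2 4 G := by
  obtain ⟨L, hL⟩ := min_of c h hp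
  exact GlueTwo.rank_of hG c hL i hi (norm_star h i) (BauS.Blk.relIndex_Z h)

/-- **The case `q = 2`**: any number of blocks. -/
theorem two_case [Finite G] [IsSimpleGroup G] [Nonempty ι] (hG : IsCharacteristicTwoType G)
    (c : Config M T H s) (h : BauS.In H T Q V N d t r) (hp : BauS.PermR T V d r) :
    SectionalPRankLE 2 4 G := by
  have : Finite ι := h.finite_index
  obtain ⟨i⟩ := ‹Nonempty ι›
  obtain ⟨L, hL⟩ := min_of c h hp
  obtain ⟨E, hE, hEP⟩ := exists_AA h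
  have h1 := GlueTwo.one_block_config_all hG c hL (norm_star h i) hE hEP
  exact GlueTwo.rank_of hG c hL i (fun j => Subsingleton.elim j i) (norm_star h i)
    (BauS.Blk.relIndex_Z h)

end Cfsg.Agent.Omega.SQ1.EndTwo

end

section


/-!
# SQ1, `q = 2`: from the FF theorem to the input of the Baumann argument, part 1

`S : SymK T H V D k m` : `V / D` is the sum of `k` even-subset modules of `S_{2^m+1}` (`m ≥ 1`; for `m = 1`
these are natural `SL₂(2)`-modules).  `Ac S g τ` : `g` acts on the coordinates as `τ` (fixing every block) and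
centralises `D`.

* `Ctx.k2` : an element of `H` acting trivially on `V / D` and on `D` centralises `V`;
* `Ctx.tr_fix`, `Ctx.tr_move` : an element `t` with `Ac S t (x y)` acts on `V` as a transvection.
-/

set_option autoImplicit false
set_option linter.unusedSectionVars false
set_option linter.unusedVariables false

namespace Cfsg.Agent.Omega.SQ1.FFTwo

open Subgroup Cfsg Cfsg.Agent.PLocal.ThompsonJ Cfsg.Agent.ZN Cfsg.Agent.ZN.ChoiceBase
open Cfsg.Agent.ZN.ChoiceSit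
open Cfsg.Agent.Omega.FFThm
open Cfsg.Agent.Omega.SQ1.BauS (Sim PermR)
open Equiv (swap)

universe u

variable {G : Type u} [Group G] {H T Q V D : Subgroup G} {k m : ℕ}

/-- the point set -/
abbrev Pt (m : ℕ) : Type := Fin (2 ^ m + 1)

/-- `g` acts as `τ` on the coordinates and centralises `D`. -/
def Ac (S : SymK T H V D k m) (g : G) (τ : Fin k → Equiv.Perm (Pt m)) : Prop :=
  ActsSym S.e V g 1 τ ∧ ∀ d ∈ D, g * d = d * g

/-- the pair vector -/
def pr (i : Fin k) (a b : Pt m) : Fin k → Pt m → ZMod 2 :=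
  fun j z => if j = i ∧ (z = a ∨ z = b) then 1 else 0

/-- The standing hypotheses. -/
structure Ctx (Q : Subgroup G) (S : SymK T H V D k m) : Prop where
  m1 : 1 ≤ m
  k0 : 0 < k
  syl : Syl T H
  QT : Q ≤ T
  VQ : V ≤ Q
  Qn : ∀ h ∈ H, ∀ x ∈ Q, h * x * h⁻¹ ∈ Q
  Vn : ∀ h ∈ H, ∀ x ∈ V, h * x * h⁻¹ ∈ V
  Vsq : ∀ v ∈ V, v ^ 2 = 1
  VcQ : ∀ x ∈ Q, ∀ v ∈ V, x * v = v * x
  DV : D ≤ V
  Dn : ∀ h ∈ H, ∀ x ∈ D, h * x * h⁻¹ ∈ D
  k1 : ∀ x ∈ T, (∀ v ∈ V, S.e (x * v * x⁻¹) = S.e v) → x ∈ Q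

theorem exists_out (s : Finset (Pt m)) (h : s.card < 2 ^ m + 1) : ∃ b, b ∉ s := by
  by_contra hc
  push Not at hc
  have h1 : s = Finset.univ := Finset.eq_univ_iff_forall.2 hc
  rw [h1, Finset.card_univ, Fintype.card_fin] at h
  exact lt_irrefl _ h

theorem exists_third (hm : 1 ≤ m) (a b : Pt m) : ∃ c, c ≠ a ∧ c ≠ b := by
  have h2 : 2 ≤ 2 ^ m := by
    calc 2 = 2 ^ 1 := rfl
      _ ≤ 2 ^ m := Nat.pow_le_pow_right (by norm_num) hm
  obtain ⟨c, hc⟩ := exists_out (m := m) {a, b} (lt_of_le_of_lt Finset.card_le_two (by omega))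
  simp only [Finset.mem_insert, Finset.mem_singleton, not_or] at hc
  exact ⟨c, hc.1, hc.2⟩

theorem pr_even (i : Fin k) {a b : Pt m} (hab : a ≠ b) (j : Fin k) : ∑ z, pr i a b j z = 0 := by
  by_cases hj : j = i
  · subst hj
    have h1 : ∀ z : Pt m, pr j a b j z = if z = a ∨ z = b then 1 else 0 := fun z => by
      simp [pr]
    rw [Finset.sum_congr rfl fun z _ => h1 z, Finset.sum_boole]
    have h2 : (Finset.univ.filter fun z : Pt m => z = a ∨ z = b) = {a, b} := by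
      ext z
      simp
    rw [h2, Finset.card_pair hab]
    rfl
  · exact Finset.sum_eq_zero fun z _ => by simp [pr, hj]

theorem pr_a (i : Fin k) (a b : Pt m) : pr i a b i a = 1 := by simp [pr]

theorem pr_b (i : Fin k) (a b : Pt m) : pr i a b i b = 1 := by simp [pr]

theorem pr_out (i : Fin k) {a b z : Pt m} (j : Fin k) (h1 : z ≠ a) (h2 : z ≠ b) :
    pr i a b j z = 0 := by simp [pr, h1, h2]

theorem pr_ne {i j : Fin k} (a b z : Pt m) (h : j ≠ i) : pr i a b j z = 0 := by simp [pr, h]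

theorem pr_comm (i : Fin k) (a b : Pt m) : pr i a b = pr i b a := by
  funext j z
  simp only [pr, or_comm]

/-- `(a,b) + (b,c) = (a,c)` -/
theorem pr_add (i : Fin k) {a b c : Pt m} (hab : a ≠ b) (hbc : b ≠ c) (hac : a ≠ c) :
    pr i a b + pr i b c = pr i a c := by
  funext j z
  simp only [Pi.add_apply, pr]
  by_cases hj : j = i
  · by_cases h1 : z = a
    · subst h1
      simp [hj, hab, hac]
    · by_cases h2 : z = b
      · subst h2
        simp [hj, h1, hbc]
        rfl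
      · by_cases h3 : z = c
        · subst h3
          simp [hj, h1, h2]
        · simp [h1, h2, h3]
  · simp [hj]

section basic

variable {S : SymK T H V D k m}

theorem e_one (S : SymK T H V D k m) : S.e 1 = 0 := by
  have h1 := S.mul 1 V.one_mem 1 V.one_mem
  rw [one_mul] at h1
  have h2 : S.e 1 + 0 = S.e 1 + S.e 1 := by rw [add_zero]; exact h1
  exact (add_left_cancel h2).symm

theorem two_fun (f : Fin k → Pt m → ZMod 2) : f + f = 0 := by
  funext i z
  have : ∀ x : ZMod 2, x + x = 0 := by decide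
  exact this _

theorem e_inv (S : SymK T H V D k m) {v : G} (hv : v ∈ V) : S.e v⁻¹ = S.e v := by
  have h1 := S.mul v hv v⁻¹ (V.inv_mem hv)
  rw [mul_inv_cancel, e_one] at h1
  exact (add_left_cancel ((two_fun (S.e v)).trans h1)).symm

theorem eD (S : SymK T H V D k m) {d : G} (hd : d ∈ D) (hDV : D ≤ V) : S.e d = 0 :=
  (S.ker d (hDV hd)).2 hd

theorem mem_D_of_eq (S : SymK T H V D k m) {v w : G} (hv : v ∈ V) (hw : w ∈ V)
    (h : S.e v = S.e w) : v * w⁻¹ ∈ D := by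
  rw [← S.ker _ (V.mul_mem hv (V.inv_mem hw)), S.mul v hv _ (V.inv_mem hw), e_inv S hw, h]
  exact two_fun _

theorem exists_pr (S : SymK T H V D k m) (i : Fin k) {a b : Pt m} (hab : a ≠ b) :
    ∃ u ∈ V, S.e u = pr i a b := S.surj _ fun j => pr_even i hab j

/-- the action in terms of the inverse -/
theorem ActsSym.apply {g : G} {τ : Fin k → Equiv.Perm (Pt m)} (h : ActsSym S.e V g 1 τ) {v : G}
    (hv : v ∈ V) (i : Fin k) (x : Pt m) : S.e (g * v * g⁻¹) i x = S.e v i ((τ i).symm x) := by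
  have h1 := h v hv i ((τ i).symm x)
  rw [Equiv.apply_symm_apply] at h1
  exact h1

theorem ActsSym.inj (hm : 1 ≤ m) {g : G} {τ τ' : Fin k → Equiv.Perm (Pt m)}
    (h : ActsSym S.e V g 1 τ) (h' : ActsSym S.e V g 1 τ') : τ = τ' := by
  funext i
  have key : ∀ x, (τ i).symm x = (τ' i).symm x := by
    intro x
    by_contra hne
    obtain ⟨c, hc1, hc2⟩ := exists_third hm ((τ i).symm x) ((τ' i).symm x)
    obtain ⟨u, hu, hue⟩ := exists_pr S i hc1.symm
    have h1 := ActsSym.apply h hu i x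
    have h2 := ActsSym.apply h' hu i x
    rw [h1, hue, pr_a, pr_out i i (Ne.symm hne) hc2.symm] at h2
    exact one_ne_zero h2
  have h1 : (τ i).symm = (τ' i).symm := Equiv.ext key
  have h2 := congrArg Equiv.symm h1
  rwa [Equiv.symm_symm, Equiv.symm_symm] at h2

end basic

namespace Ctx

variable {S : SymK T H V D k m} (C : Ctx Q S)

include C

theorem TH : T ≤ H := C.syl.1

theorem QH : Q ≤ H := C.QT.trans C.TH

theorem Vc {v w : G} (hv : v ∈ V) (hw : w ∈ V) : v * w = w * v := C.VcQ v (C.VQ hv) w hw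

theorem Vmul {v : G} (hv : v ∈ V) : v * v = 1 := by rw [← pow_two]; exact C.Vsq v hv

theorem Vinv {v : G} (hv : v ∈ V) : v⁻¹ = v := inv_eq_of_mul_eq_one_left (C.Vmul hv)

theorem ac_one : Ac S 1 1 := ⟨fun v hv i x => by simp, fun d _ => by simp⟩

theorem ac_mul {g h : G} {τ τ' : Fin k → Equiv.Perm (Pt m)} (hg : Ac S g τ) (hhH : h ∈ H)
    (hh : Ac S h τ') : Ac S (g * h) (τ * τ') := by
  refine ⟨fun v hv i x => ?_, fun d hd => ?_⟩
  · have e : g * h * v * (g * h)⁻¹ = g * (h * v * h⁻¹) * g⁻¹ := by group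
    have h1 := hg.1 _ (C.Vn h hhH v hv) i (τ' i x)
    have h2 := hh.1 v hv i x
    rw [e, ← h2]
    exact h1
  · rw [mul_assoc, hh.2 d hd, ← mul_assoc, hg.2 d hd, mul_assoc]

theorem ac_inv {g : G} {τ : Fin k → Equiv.Perm (Pt m)} (hgH : g ∈ H) (hg : Ac S g τ) :
    Ac S g⁻¹ τ⁻¹ := by
  refine ⟨fun v hv i x => ?_, fun d hd => ?_⟩
  · have hw := C.Vn g⁻¹ (H.inv_mem hgH) v hv
    have h1 := hg.1 _ hw i ((τ i).symm x)
    rw [Equiv.apply_symm_apply] at h1
    have e : g * (g⁻¹ * v * g⁻¹⁻¹) * g⁻¹ = v := by group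
    rw [e] at h1
    exact h1.symm
  · have h1 := hg.2 d hd
    calc g⁻¹ * d = g⁻¹ * (d * g) * g⁻¹ := by group
      _ = g⁻¹ * (g * d) * g⁻¹ := by rw [h1]
      _ = d * g⁻¹ := by group

/-- conjugation of an action by an element with block permutation `σ` -/
theorem acts_conj {x g : G} (hx : x ∈ H) (hg : g ∈ H) {σ : Equiv.Perm (Fin k)}
    {ρ τ τ' : Fin k → Equiv.Perm (Pt m)} (hxa : ActsSym S.e V x σ ρ) (hga : Ac S g τ)
    (hτ : ∀ i z, τ' (σ i) (ρ i z) = ρ i (τ i z)) : Ac S (x * g * x⁻¹) τ' := by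
  refine ⟨fun v hv j y => ?_, fun d hd => ?_⟩
  · obtain ⟨i, rfl⟩ := σ.surjective j
    obtain ⟨z, rfl⟩ := (ρ i).surjective y
    have hw := C.Vn x⁻¹ (H.inv_mem hx) v hv
    rw [inv_inv] at hw
    have e1 : x * g * x⁻¹ * v * (x * g * x⁻¹)⁻¹ = x * (g * (x⁻¹ * v * x) * g⁻¹) * x⁻¹ := by group
    have e2 : x * (x⁻¹ * v * x) * x⁻¹ = v := by group
    rw [e1]
    change S.e _ (σ i) (τ' (σ i) (ρ i z)) = _
    rw [hτ, hxa _ (C.Vn g hg _ hw) i (τ i z)]
    have h1 := hga.1 _ hw i z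
    change S.e _ i (τ i z) = _ at h1
    rw [h1]
    have h2 := hxa _ hw i z
    rw [e2] at h2
    exact h2.symm
  · have hd' := C.Dn x⁻¹ (H.inv_mem hx) d hd
    rw [inv_inv] at hd'
    have h1 := hga.2 _ hd'
    calc x * g * x⁻¹ * d = x * (g * (x⁻¹ * d * x)) * x⁻¹ := by group
      _ = x * ((x⁻¹ * d * x) * g) * x⁻¹ := by rw [h1]
      _ = _ := by group

theorem cT {t : G} (ht : t ∈ T) (hc : ∀ v ∈ V, t * v = v * t) : t ∈ Q :=
  C.k1 t ht fun v hv => by rw [hc v hv, mul_inv_cancel_right]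

/-- a 2-element of `H` acting trivially on `V / D` lies in `Q` -/
theorem k1' [Finite G] {x : G} (hx : x ∈ H) {N : ℕ} (hN : x ^ 2 ^ N = 1)
    (h : ∀ v ∈ V, S.e (x * v * x⁻¹) = S.e v) : x ∈ Q := by
  have : Fact (Nat.Prime 2) := ⟨Nat.prime_two⟩
  have h2 : IsPGroup 2 (zpowers x) := by
    rw [IsPGroup.iff_card]
    have h3 := orderOf_dvd_of_pow_eq_one hN
    obtain ⟨l, -, hl⟩ := (Nat.dvd_prime_pow Nat.prime_two).1 h3
    exact ⟨l, by rw [Nat.card_zpowers, hl]⟩
  obtain ⟨P, hP, hxP⟩ := exists_syl h2 (zpowers_le.2 hx)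
  obtain ⟨y, hy, hyP⟩ := syl_conj hP C.syl
  have hyx : y * x * y⁻¹ ∈ T := by
    rw [← hyP, mem_cj]
    have e : y⁻¹ * (y * x * y⁻¹) * y = x := by group
    rw [e]
    exact hxP (mem_zpowers x)
  have h4 : y * x * y⁻¹ ∈ Q := by
    refine C.k1 _ hyx fun v hv => ?_
    obtain ⟨σ, ρ, hσ⟩ := S.perm y hy
    have hw := C.Vn y⁻¹ (H.inv_mem hy) v hv
    rw [inv_inv] at hw
    have e1 : y * x * y⁻¹ * v * (y * x * y⁻¹)⁻¹ = y * (x * (y⁻¹ * v * y) * x⁻¹) * y⁻¹ := by group
    have e2 : y * (y⁻¹ * v * y) * y⁻¹ = v := by group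
    funext j z
    obtain ⟨i, rfl⟩ := σ.surjective j
    obtain ⟨z, rfl⟩ := (ρ i).surjective z
    rw [e1, hσ _ (C.Vn x hx _ hw) i z, h _ hw]
    have h5 := hσ _ hw i z
    rw [e2] at h5
    exact h5.symm
  have h5 := C.Qn y⁻¹ (H.inv_mem hy) _ h4
  have e : y⁻¹ * (y * x * y⁻¹) * y⁻¹⁻¹ = x := by group
  rwa [e] at h5

omit C in
theorem e_pow_of_triv {x : G} (hx : ∀ v ∈ V, x * v * x⁻¹ ∈ V)
    (h : ∀ v ∈ V, S.e (x * v * x⁻¹) = S.e v) (N : ℕ) :
    ∀ v ∈ V, x ^ N * v * (x ^ N)⁻¹ ∈ V ∧ S.e (x ^ N * v * (x ^ N)⁻¹) = S.e v := by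
  induction N with
  | zero => intro v hv; simp [hv]
  | succ N ih =>
    intro v hv
    have e : x ^ (N + 1) * v * (x ^ (N + 1))⁻¹ = x ^ N * (x * v * x⁻¹) * (x ^ N)⁻¹ := by
      rw [pow_succ]; group
    rw [e]
    obtain ⟨h1, h2⟩ := ih _ (hx v hv)
    exact ⟨h1, h2.trans (h v hv)⟩

/-- an element of `H` which acts trivially on `V / D` and on `D` centralises `V` -/
theorem k2 [Finite G] {g : G} (hg : g ∈ H) (h1 : ∀ v ∈ V, S.e (g * v * g⁻¹) = S.e v)
    (h2 : ∀ d ∈ D, g * d = d * g) : ∀ v ∈ V, g * v * g⁻¹ = v := by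
  -- `g²` centralises `V`
  have hsq : ∀ v ∈ V, g ^ 2 * v * (g ^ 2)⁻¹ = v := by
    intro v hv
    have hgv := C.Vn g hg v hv
    have hd := mem_D_of_eq S hgv hv (h1 v hv)
    set d := g * v * g⁻¹ * v⁻¹ with hdd
    have e1 : g * v * g⁻¹ = d * v := by rw [hdd]; group
    have hd1 := h2 d hd
    have hd2 := C.Vmul (C.DV hd)
    calc g ^ 2 * v * (g ^ 2)⁻¹ = g * (g * v * g⁻¹) * g⁻¹ := by rw [pow_two]; group
      _ = g * d * v * g⁻¹ := by rw [e1]; group
      _ = d * (g * v * g⁻¹) := by rw [hd1]; group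
      _ = (d * d) * v := by rw [e1]; group
      _ = v := by rw [hd2, one_mul]
  let K : Subgroup G := centralizer (V : Set G)
  have hK : ∀ x : G, (∀ v ∈ V, x * v * x⁻¹ = v) ↔ x ∈ K := by
    intro x
    constructor
    · intro h
      refine mem_centralizer_iff.2 fun v hv => ?_
      have := h v hv
      calc v * x = (x * v * x⁻¹) * x := by rw [this]
        _ = x * v := by group
    · intro h v hv
      rw [← mem_centralizer_iff.1 h v hv, mul_inv_cancel_right]
  rw [hK]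
  have hsqK : g ^ 2 ∈ K := (hK _).1 hsq
  -- the order
  obtain ⟨a, b, hb, hab⟩ := Nat.exists_eq_two_pow_mul_odd (n := orderOf g) (orderOf_pos g).ne'
  have hgb : (g ^ b) ^ 2 ^ a = 1 := by
    rw [← pow_mul, mul_comm, ← hab]
    exact pow_orderOf_eq_one g
  have h3 : g ^ b ∈ K := by
    have h4 : g ^ b ∈ Q := C.k1' (H.pow_mem hg b) hgb fun v hv =>
      (e_pow_of_triv (C.Vn g hg) h1 b v hv).2
    exact mem_centralizer_iff.2 fun v hv => (C.VcQ _ h4 v hv).symm
  obtain ⟨c, hc⟩ := hb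
  have h4 : g = g ^ b * ((g ^ 2) ^ c)⁻¹ := by
    rw [hc, pow_add, pow_one, pow_mul, mul_assoc, ]
    group
  rw [h4]
  exact K.mul_mem h3 (K.inv_mem (K.pow_mem hsqK c))

theorem sim [Finite G] {g h : G} (hg : g ∈ H) (hh : h ∈ H) {τ : Fin k → Equiv.Perm (Pt m)}
    (h1 : Ac S g τ) (h2 : Ac S h τ) : Sim V g h := by
  have h3 : Ac S (h⁻¹ * g) 1 := by
    have := C.ac_mul (C.ac_inv hh h2) hg h1
    rwa [inv_mul_cancel] at this
  have h4 := C.k2 (H.mul_mem (H.inv_mem hh) hg) (fun v hv => by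
    funext i z
    exact h3.1 v hv i z) h3.2
  intro v hv
  have h5 := h4 v hv
  calc g * v * g⁻¹ = h * (h⁻¹ * g * v * (h⁻¹ * g)⁻¹) * h⁻¹ := by group
    _ = h * v * h⁻¹ := by rw [h5]

theorem sim_one [Finite G] {g : G} (hg : g ∈ H) (h1 : Ac S g 1) : Sim V g 1 :=
  C.sim hg H.one_mem h1 C.ac_one

/-- the action on pair vectors -/
theorem acts_pr {g w : G} (hw : w ∈ V) {σ : Equiv.Perm (Fin k)} {τ : Fin k → Equiv.Perm (Pt m)}
    (h : ActsSym S.e V g σ τ) {j : Fin k} {p c : Pt m} (he : S.e w = pr j p c) :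
    S.e (g * w * g⁻¹) = pr (σ j) (τ j p) (τ j c) := by
  funext l y
  obtain ⟨l, rfl⟩ := σ.surjective l
  obtain ⟨z, rfl⟩ := (τ l).surjective y
  rw [h w hw l z, he]
  by_cases hl : l = j
  · subst hl
    simp [pr]
  · rw [pr_ne _ _ _ hl, pr_ne _ _ _ fun e => hl (σ.injective e)]

theorem fix_congr {t u z : G} (ht : ∀ d ∈ D, t * d = d * t) (hu : u ∈ V) (hz : z ∈ V)
    (he : S.e u = S.e z) (h : t * z * t⁻¹ = z) : t * u * t⁻¹ = u := by
  have hd := mem_D_of_eq S hu hz he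
  have h1 := ht _ hd
  calc t * u * t⁻¹ = (t * (u * z⁻¹)) * z * t⁻¹ := by group
    _ = (u * z⁻¹) * (t * z * t⁻¹) := by rw [h1]; group
    _ = u := by rw [h]; group

omit C in
theorem exists_fourth (hm : 1 ≤ m) {a b p q : Pt m} (hab : a ≠ b) (hpq : p ≠ q) (hpa : p ≠ a)
    (hpb : p ≠ b) (hqa : q ≠ a) (hqb : q ≠ b) : ∃ c, c ≠ p ∧ c ≠ q ∧ c ≠ a ∧ c ≠ b := by
  have h4 : ({p, q, a, b} : Finset (Pt m)).card = 4 := by
    rw [Finset.card_insert_of_notMem, Finset.card_insert_of_notMem, Finset.card_pair hab]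
    · simp [hqa, hqb]
    · simp [hpq, hpa, hpb]
  have h5 : ({p, q, a, b} : Finset (Pt m)).card ≤ 2 ^ m + 1 := by
    have := Finset.card_le_univ ({p, q, a, b} : Finset (Pt m))
    rwa [Fintype.card_fin] at this
  obtain ⟨l, rfl⟩ : ∃ l, m = l + 1 := ⟨m - 1, by omega⟩
  obtain ⟨c, hc⟩ := exists_out (m := l + 1) {p, q, a, b} (by rw [h4] at h5 ⊢; rw [pow_succ] at h5 ⊢; omega)
  simp only [Finset.mem_insert, Finset.mem_singleton, not_or] at hc
  exact ⟨c, hc.1, hc.2.1, hc.2.2.1, hc.2.2.2⟩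

theorem fix_pair [Finite G] {t : G} (ht : t ∈ H) {i : Fin k} {a b : Pt m} (hab : a ≠ b)
    (h : Ac S t (Pi.mulSingle i (swap a b))) {j : Fin k} {p q : Pt m} (hpq : p ≠ q)
    (hj : j = i → p ≠ a ∧ p ≠ b ∧ q ≠ a ∧ q ≠ b) {u : G} (hu : u ∈ V) (he : S.e u = pr j p q) :
    t * u * t⁻¹ = u := by
  obtain ⟨c, hcp, hcq, hc⟩ : ∃ c, c ≠ p ∧ c ≠ q ∧ (j = i → c ≠ a ∧ c ≠ b) := by
    by_cases hji : j = i
    · obtain ⟨h1, h2, h3, h4⟩ := hj hji
      obtain ⟨c, h5, h6, h7, h8⟩ := exists_fourth C.m1 hab hpq h1 h2 h3 h4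
      exact ⟨c, h5, h6, fun _ => ⟨h7, h8⟩⟩
    · obtain ⟨c, h1, h2⟩ := exists_third C.m1 p q
      exact ⟨c, h1, h2, fun h => absurd h hji⟩
  obtain ⟨w, hw, hwe⟩ := exists_pr S j hcp.symm
  obtain ⟨g, hg, hgA⟩ := S.lift (Pi.mulSingle j (swap p q))
  have hgA' : Ac S g (Pi.mulSingle j (swap p q)) := hgA
  have hgw := C.Vn g hg w hw
  have h1 : S.e (g * w * g⁻¹) = pr j q c := by
    have := C.acts_pr hw hgA'.1 hwe
    rw [Pi.mulSingle_eq_same, Equiv.swap_apply_left, Equiv.swap_apply_of_ne_of_ne hcp hcq] at this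
    exact this
  -- `t` moves `w` by an element of `D`
  have h2 : S.e (t * w * t⁻¹) = S.e w := by
    have := C.acts_pr hw h.1 hwe
    rw [this, hwe]
    by_cases hji : j = i
    · subst hji
      obtain ⟨h3, h4, -, -⟩ := hj rfl
      obtain ⟨h5, h6⟩ := hc rfl
      rw [Pi.mulSingle_eq_same, Equiv.swap_apply_of_ne_of_ne h3 h4,
        Equiv.swap_apply_of_ne_of_ne h5 h6]
      rfl
    · rw [Pi.mulSingle_eq_of_ne hji]
      rfl
  have htw := C.Vn t ht w hw
  have hf := mem_D_of_eq S htw hw h2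
  set f := t * w * t⁻¹ * w⁻¹ with hfd
  have e1 : t * w * t⁻¹ = f * w := by rw [hfd]; group
  -- `g⁻¹ t g` acts as `t`
  have hcomm : Commute (Pi.mulSingle j (swap p q) : Fin k → Equiv.Perm (Pt m))
      (Pi.mulSingle i (swap a b)) := by
    by_cases hji : j = i
    · subst hji
      obtain ⟨h3, h4, h5, h6⟩ := hj rfl
      have h7 : Commute (swap p q) (swap a b) := by
        apply Equiv.Perm.Disjoint.commute
        apply Equiv.Perm.disjoint_swap_swap
        simp [hpq, h3, h4, h5, h6, hab]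
      exact h7.map (MonoidHom.mulSingle (fun _ : Fin k => Equiv.Perm (Pt m)) j)
    · exact Pi.mulSingle_commute hji _ _
  have h3 : Sim V (g⁻¹ * t * g) t := by
    have h4 := C.ac_mul (C.ac_mul (C.ac_inv hg hgA') ht h) hg hgA'
    have h5 : (Pi.mulSingle j (swap p q) : Fin k → Equiv.Perm (Pt m))⁻¹ *
        Pi.mulSingle i (swap a b) * Pi.mulSingle j (swap p q) = Pi.mulSingle i (swap a b) := by
      rw [mul_assoc, ← hcomm.eq, inv_mul_cancel_left]
    rw [h5] at h4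
    exact C.sim (H.mul_mem (H.mul_mem (H.inv_mem hg) ht) hg) ht h4 h
  have hfV := C.DV hf
  have h4 : t * (w * (g * w * g⁻¹)) * t⁻¹ = w * (g * w * g⁻¹) := by
    have h5 : t * (g * w * g⁻¹) * t⁻¹ = f * (g * w * g⁻¹) := by
      calc t * (g * w * g⁻¹) * t⁻¹ = g * (g⁻¹ * t * g * w * (g⁻¹ * t * g)⁻¹) * g⁻¹ := by group
        _ = g * (f * w) * g⁻¹ := by rw [h3 w hw, e1]
        _ = (g * f) * w * g⁻¹ := by group
        _ = f * (g * w * g⁻¹) := by rw [hgA'.2 f hf]; group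
    calc t * (w * (g * w * g⁻¹)) * t⁻¹ = (t * w * t⁻¹) * (t * (g * w * g⁻¹) * t⁻¹) := by group
      _ = f * (w * f) * (g * w * g⁻¹) := by rw [h5, e1]; group
      _ = (f * f) * (w * (g * w * g⁻¹)) := by rw [← C.Vc hfV hw]; group
      _ = _ := by rw [C.Vmul hfV, one_mul]
  refine C.fix_congr h.2 hu (V.mul_mem hw hgw) ?_ h4
  rw [he, S.mul w hw _ hgw, hwe, h1, pr_comm j q c, pr_add j hcp.symm hcq hpq]

/-- the centre of the transvection -/
theorem fix_d [Finite G] {t : G} (ht : t ∈ H) {i : Fin k} {a b : Pt m} (hab : a ≠ b)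
    (h : Ac S t (Pi.mulSingle i (swap a b))) {u : G} (hu : u ∈ V) (he : S.e u = pr i a b) :
    t * u * t⁻¹ = u := by
  obtain ⟨c, hca, hcb⟩ := exists_third C.m1 a b
  obtain ⟨w, hw, hwe⟩ := exists_pr S i hca.symm
  have htw := C.Vn t ht w hw
  have h1 : S.e (t * w * t⁻¹) = pr i b c := by
    have := C.acts_pr hw h.1 hwe
    rw [Pi.mulSingle_eq_same, Equiv.swap_apply_left, Equiv.swap_apply_of_ne_of_ne hca hcb] at this
    exact this
  have h2 : Sim V (t * t) 1 := by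
    have h3 := C.ac_mul h ht h
    have h4 : (Pi.mulSingle i (swap a b) : Fin k → Equiv.Perm (Pt m)) * Pi.mulSingle i (swap a b) = 1 := by
      rw [← Pi.mulSingle_mul, Equiv.swap_mul_self, Pi.mulSingle_one]
    rw [h4] at h3
    exact C.sim_one (H.mul_mem ht ht) h3
  refine C.fix_congr h.2 hu (V.mul_mem htw hw) ?_ ?_
  · rw [he, S.mul _ htw w hw, h1, hwe, add_comm (pr i b c) (pr i a c), pr_comm i b c,
      pr_add i hca.symm hcb hab]
  · have h3 := h2 w hw
    rw [one_mul, inv_one, mul_one] at h3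
    calc t * (t * w * t⁻¹ * w) * t⁻¹ = (t * t * w * (t * t)⁻¹) * (t * w * t⁻¹) := by group
      _ = w * (t * w * t⁻¹) := by rw [h3]
      _ = _ := C.Vc hw htw

theorem tr_fix [Finite G] {t : G} (ht : t ∈ H) {i : Fin k} {a b : Pt m} (hab : a ≠ b)
    (h : Ac S t (Pi.mulSingle i (swap a b))) {v : G} (hv : v ∈ V) (he : S.e v i a = S.e v i b) :
    t * v * t⁻¹ = v := by
  classical
  obtain ⟨N, hN⟩ : ∃ N, (Finset.univ.filter fun p : Fin k × Pt m => S.e v p.1 p.2 ≠ 0).card = N :=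
    ⟨_, rfl⟩
  have key : ∀ x : ZMod 2, x ≠ 0 → x = 1 := by decide
  induction N using Nat.strong_induction_on generalizing v with
  | _ N ih =>
  -- the reduction step
  have step : ∀ (j : Fin k) (p q : Pt m), p ≠ q → S.e v j p ≠ 0 → S.e v j q ≠ 0 →
      ∀ u ∈ V, S.e u = pr j p q → t * u * t⁻¹ = u →
      ((pr j p q : Fin k → Pt m → ZMod 2) i a = pr j p q i b) → t * v * t⁻¹ = v := by
    intro j p q hpq hp hq u hu hue hut hab'
    have hvu := V.mul_mem hv hu
    have h1 : S.e (v * u) = S.e v + pr j p q := by rw [S.mul v hv u hu, hue]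
    have h2 : (Finset.univ.filter fun x : Fin k × Pt m => S.e (v * u) x.1 x.2 ≠ 0) ⊂
        (Finset.univ.filter fun x : Fin k × Pt m => S.e v x.1 x.2 ≠ 0) := by
      rw [Finset.ssubset_iff_of_subset]
      · refine ⟨(j, p), by simpa using hp, ?_⟩
        simp only [Finset.mem_filter, Finset.mem_univ, true_and, not_not, h1, Pi.add_apply, pr_a,
          key _ hp]
        decide
      · intro x hx
        simp only [Finset.mem_filter, Finset.mem_univ, true_and, h1, Pi.add_apply] at hx ⊢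
        intro h0
        rw [h0, zero_add] at hx
        apply hx
        by_cases hxj : x.1 = j
        · by_cases hxp : x.2 = p
          · exact absurd h0 (by rw [hxj, hxp]; exact hp)
          · by_cases hxq : x.2 = q
            · exact absurd h0 (by rw [hxj, hxq]; exact hq)
            · exact pr_out _ _ hxp hxq
        · exact pr_ne _ _ _ hxj
    have h3 := ih _ (by rw [← hN]; exact Finset.card_lt_card h2) hvu
      (by rw [h1]; simp only [Pi.add_apply]; rw [he, hab']) rfl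
    have h4 : v = v * u * u := by rw [mul_assoc, C.Vmul hu, mul_one]
    calc t * v * t⁻¹ = t * (v * u * u) * t⁻¹ := by rw [← h4]
      _ = (t * (v * u) * t⁻¹) * (t * u * t⁻¹) := by group
      _ = v * u * u := by rw [h3, hut]
      _ = v := h4.symm
  by_cases h0 : S.e v = 0
  · have hd := (S.ker v hv).1 h0
    rw [h.2 v hd, mul_inv_cancel_right]
  by_cases ha : S.e v i a = 0
  · obtain ⟨j, hj⟩ := Function.ne_iff.1 h0
    obtain ⟨p, hp⟩ := Function.ne_iff.1 hj
    rw [Pi.zero_apply, Pi.zero_apply] at hp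
    obtain ⟨q, hqp, hq⟩ : ∃ q, q ≠ p ∧ S.e v j q ≠ 0 := by
      by_contra hc
      push Not at hc
      have h1 := S.even v hv j
      rw [Finset.sum_eq_single p (fun q _ hqp => hc q hqp) (fun h => absurd (Finset.mem_univ _) h)]
        at h1
      exact hp h1
    have hcond : j = i → p ≠ a ∧ p ≠ b ∧ q ≠ a ∧ q ≠ b := by
      rintro rfl
      refine ⟨?_, ?_, ?_, ?_⟩
      · rintro rfl; exact hp ha
      · rintro rfl; exact hp (he ▸ ha)
      · rintro rfl; exact hq ha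
      · rintro rfl; exact hq (he ▸ ha)
    obtain ⟨u, hu, hue⟩ := exists_pr S j hqp.symm
    refine step j p q hqp.symm hp hq u hu hue (C.fix_pair ht hab h hqp.symm hcond hu hue) ?_
    by_cases hji : j = i
    · obtain ⟨h1, h2, h3, h4⟩ := hcond hji
      rw [pr_out _ _ h1.symm h3.symm, pr_out _ _ h2.symm h4.symm]
    · rw [pr_ne _ _ _ (Ne.symm hji), pr_ne _ _ _ (Ne.symm hji)]
  · obtain ⟨u, hu, hue⟩ := exists_pr S i hab
    exact step i a b hab ha (he ▸ ha) u hu hue (C.fix_d ht hab h hu hue) (by rw [pr_a, pr_b])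

/-- `t` acts as a transvection. -/
theorem tr_move [Finite G] {t : G} (ht : t ∈ H) {i : Fin k} {a b : Pt m} (hab : a ≠ b)
    (h : Ac S t (Pi.mulSingle i (swap a b))) : ∃ d ∈ V, S.e d = pr i a b ∧
      ∀ v ∈ V, S.e v i a ≠ S.e v i b → t * v * t⁻¹ = d * v := by
  obtain ⟨c, hca, hcb⟩ := exists_third C.m1 a b
  obtain ⟨w, hw, hwe⟩ := exists_pr S i hca.symm
  have htw := C.Vn t ht w hw
  have h1 : S.e (t * w * t⁻¹) = pr i b c := by
    have := C.acts_pr hw h.1 hwe
    rw [Pi.mulSingle_eq_same, Equiv.swap_apply_left, Equiv.swap_apply_of_ne_of_ne hca hcb] at this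
    exact this
  refine ⟨t * w * t⁻¹ * w, V.mul_mem htw hw, ?_, ?_⟩
  · rw [S.mul _ htw w hw, h1, hwe, add_comm (pr i b c) (pr i a c), pr_comm i b c,
      pr_add i hca.symm hcb hab]
  · intro v hv hne
    have hvw := V.mul_mem hv hw
    have h2 : S.e (v * w) i a = S.e (v * w) i b := by
      rw [S.mul v hv w hw]
      simp only [Pi.add_apply]
      rw [hwe, pr_a, pr_out i i (Ne.symm hab) hcb.symm]
      have key : ∀ x y : ZMod 2, x ≠ y → x + 1 = y + 0 := by decide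
      exact key _ _ hne
    have h3 := C.tr_fix ht hab h hvw h2
    have h4 := C.Vmul hw
    calc t * v * t⁻¹ = (t * (v * w) * t⁻¹) * (t * w * t⁻¹)⁻¹ := by group
      _ = v * w * (t * w * t⁻¹) := by rw [h3, C.Vinv htw]
      _ = (t * w * t⁻¹) * (v * w) := C.Vc hvw htw
      _ = (t * w * t⁻¹) * (w * v) := by rw [C.Vc hv hw]
      _ = _ := by group

end Ctx

end Cfsg.Agent.Omega.SQ1.FFTwo

end

section


/-!
# SQ1: natural `SL₂(2)`-modules are even-subset modules of `S₃`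

`symOf : NatK F T H V D k → |F| = 2 → SymK T H V D k 1` : the vector `(x₀, x₁)` corresponds to the even subset
`(x₁, x₀ + x₁, x₀)` of the three points; the line `x₁ = 0` corresponds to the point `0`.
-/

set_option autoImplicit false
set_option linter.unusedSectionVars false
set_option linter.unusedVariables false

namespace Cfsg.Agent.Omega.SQ1.SymOfNat

open Subgroup Cfsg
open Cfsg.Agent.Omega.FFThm
open Cfsg.Agent.Omega.NatPair (ap ap_zero' ap_one')
open Cfsg.Agent.Lib.SL2Mat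
open Equiv (swap)

universe u

/-! ### The finite model -/

/-- `(x₀, x₁) ↦ (x₁, x₀ + x₁, x₀)` -/
def cv2 (x : Fin 2 → ZMod 2) : Fin (2 ^ 1 + 1) → ZMod 2 := fun z =>
  if z = 0 then x 1 else if z = 1 then x 0 + x 1 else x 0

theorem cv2_add (x y : Fin 2 → ZMod 2) : cv2 (x + y) = cv2 x + cv2 y := by
  funext z
  simp only [cv2, Pi.add_apply]
  split_ifs <;> ring

theorem cv2_even (x : Fin 2 → ZMod 2) : ∑ z, cv2 x z = 0 := by
  revert x; decide

theorem cv2_surj (y : Fin (2 ^ 1 + 1) → ZMod 2) (h : ∑ z, y z = 0) : ∃ x, cv2 x = y := by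
  revert y; decide

theorem cv2_zero (x : Fin 2 → ZMod 2) : cv2 x = 0 ↔ x = 0 := by
  revert x; decide

theorem cv2_inj {x y : Fin 2 → ZMod 2} (h : cv2 x = cv2 y) : x = y := by
  have h1 : cv2 (x - y) = 0 := by
    have h2 := cv2_add (x - y) y
    rw [sub_add_cancel, h] at h2
    have h3 : 0 + cv2 y = cv2 (x - y) + cv2 y := by rw [zero_add]; exact h2
    exact (add_right_cancel h3).symm
  exact sub_eq_zero.1 ((cv2_zero _).1 h1)

/-- a linear map given by the images of the basis vectors -/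
def lin (p q : Fin 2 → ZMod 2) (x : Fin 2 → ZMod 2) : Fin 2 → ZMod 2 :=
  fun j => x 0 * p j + x 1 * q j

theorem lin_perm (p q : Fin 2 → ZMod 2) (hp : p ≠ 0) (hq : q ≠ 0) (hpq : p ≠ q) :
    ∃ τ : Equiv.Perm (Fin (2 ^ 1 + 1)), ∀ x z, cv2 (lin p q x) (τ z) = cv2 x z := by
  revert p q; decide

/-- every permutation of the three points comes from a matrix of determinant one -/
theorem perm_mat (τ : Equiv.Perm (Fin (2 ^ 1 + 1))) : ∃ a b c d : ZMod 2, a * d - b * c = 1 ∧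
    ∀ x z, cv2 (fun j => if j = 0 then a * x 0 + b * x 1 else c * x 0 + d * x 1) (τ z) = cv2 x z := by
  revert τ; decide

theorem lin_zero (p q : Fin 2 → ZMod 2) : lin p q 0 = 0 := by
  funext j; simp [lin]

variable {G : Type u} [Group G] {F : Type} [Field F] {H T V D : Subgroup G} {k : ℕ}

/-- the coordinates over `ZMod 2` -/
def en (φ : F ≃+* ZMod 2) (N : NatK F T H V D k) (v : G) (i : Fin k) : Fin 2 → ZMod 2 :=
  fun j => φ (N.e v i j)

variable (φ : F ≃+* ZMod 2) (N : NatK F T H V D k)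

theorem en_mul {v w : G} (hv : v ∈ V) (hw : w ∈ V) (i : Fin k) :
    en φ N (v * w) i = en φ N v i + en φ N w i := by
  funext j
  simp only [en, Pi.add_apply]
  rw [N.mul v hv w hw, Pi.add_apply, Pi.add_apply, map_add]

theorem en_surj (x : Fin k → Fin 2 → ZMod 2) : ∃ v ∈ V, ∀ i, en φ N v i = x i := by
  obtain ⟨v, hv, he⟩ := N.surj fun i j => φ.symm (x i j)
  refine ⟨v, hv, fun i => ?_⟩
  funext j
  simp only [en, he, RingEquiv.apply_symm_apply]

theorem en_zero (v : G) (i : Fin k) : en φ N v i = 0 ↔ N.e v i = 0 := by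
  constructor
  · intro h
    funext j
    have h1 := congrFun h j
    simp only [en, Pi.zero_apply] at h1
    exact (map_eq_zero_iff φ φ.injective).1 h1
  · intro h
    funext j
    simp only [en, h, Pi.zero_apply, map_zero]

theorem en_mat {g v : G} {i : Fin k} {A : Matrix.SpecialLinearGroup (Fin 2) F}
    (h : N.e (g * v * g⁻¹) i = ap A (N.e v i)) : en φ N (g * v * g⁻¹) i =
      fun j => if j = 0 then φ (ent A 0 0) * en φ N v i 0 + φ (ent A 0 1) * en φ N v i 1
        else φ (ent A 1 0) * en φ N v i 0 + φ (ent A 1 1) * en φ N v i 1 := by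
  funext j
  simp only [en, h]
  fin_cases j
  · simp only [Fin.zero_eta, Fin.isValue, ap_zero', map_add, map_mul, if_true]
  · simp only [Fin.mk_one, Fin.isValue, ap_one', map_add, map_mul, one_ne_zero, if_false]

theorem block (hVn : ∀ h ∈ H, ∀ v ∈ V, h * v * h⁻¹ ∈ V) {g : G} (hg : g ∈ H) {i i' : Fin k}
    (hσ : ∀ v ∈ V, N.e (g * v * g⁻¹) i' = 0 ↔ N.e v i = 0) :
    ∃ τ : Equiv.Perm (Fin (2 ^ 1 + 1)), ∀ v ∈ V, ∀ z,
      cv2 (en φ N (g * v * g⁻¹) i') (τ z) = cv2 (en φ N v i) z := by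
  have hσ' : ∀ v ∈ V, en φ N (g * v * g⁻¹) i' = 0 ↔ en φ N v i = 0 := fun v hv => by
    rw [en_zero, en_zero]; exact hσ v hv
  obtain ⟨u, hu, hue⟩ := en_surj φ N fun _ => ![1, 0]
  obtain ⟨w, hw, hwe⟩ := en_surj φ N fun _ => ![0, 1]
  have hgm : ∀ a b : G, g * (a * b) * g⁻¹ = (g * a * g⁻¹) * (g * b * g⁻¹) := fun a b => by group
  have hadd : ∀ a ∈ V, ∀ b ∈ V, en φ N (g * (a * b) * g⁻¹) i' =
      en φ N (g * a * g⁻¹) i' + en φ N (g * b * g⁻¹) i' := fun a ha b hb => by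
    rw [hgm, en_mul φ N (hVn g hg a ha) (hVn g hg b hb)]
  set p := en φ N (g * u * g⁻¹) i' with hp
  set q := en φ N (g * w * g⁻¹) i' with hq
  have hp0 : p ≠ 0 := fun h0 => by
    have h1 := (hσ' u hu).1 h0
    rw [hue i] at h1
    exact absurd (congrFun h1 0) (by decide)
  have hq0 : q ≠ 0 := fun h0 => by
    have h1 := (hσ' w hw).1 h0
    rw [hwe i] at h1
    exact absurd (congrFun h1 1) (by decide)
  have h2 : ∀ x : Fin 2 → ZMod 2, x + x = 0 := by decide
  have hpq : p ≠ q := fun h0 => by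
    have h1 := (hσ' (u * w) (V.mul_mem hu hw)).1 (by rw [hadd u hu w hw, ← hp, ← hq, h0]; exact h2 q)
    rw [en_mul φ N hu hw, hue i, hwe i] at h1
    exact absurd (congrFun h1 0) (by decide)
  -- the action is `lin p q`
  have key : ∀ v ∈ V, en φ N (g * v * g⁻¹) i' = lin p q (en φ N v i) := by
    intro v hv
    have hz : ∀ a ∈ V, en φ N a i = en φ N v i → en φ N (g * v * g⁻¹) i' = en φ N (g * a * g⁻¹) i' := by
      intro a ha hae
      have h1 := (hσ' (v * a) (V.mul_mem hv ha)).2 (by rw [en_mul φ N hv ha, hae]; exact h2 _)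
      rw [hadd v hv a ha] at h1
      have h3 := h2 (en φ N (g * a * g⁻¹) i')
      exact add_right_cancel (h1.trans h3.symm)
    have hcases : ∀ x : Fin 2 → ZMod 2, x = 0 ∨ x = ![1, 0] ∨ x = ![0, 1] ∨ x = ![1, 0] + ![0, 1] := by
      decide
    rcases hcases (en φ N v i) with h | h | h | h
    · rw [h, lin_zero]
      exact (hσ' v hv).2 h
    · rw [hz u hu (by rw [hue i, h]), h, ← hp]
      funext j
      simp [lin]
    · rw [hz w hw (by rw [hwe i, h]), h, ← hq]
      funext j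
      simp [lin]
    · rw [hz (u * w) (V.mul_mem hu hw) (by rw [en_mul φ N hu hw, hue i, hwe i, h]), h,
        hadd u hu w hw, ← hp, ← hq]
      funext j
      simp [lin]
  obtain ⟨τ, hτ⟩ := lin_perm p q hp0 hq0 hpq
  exact ⟨τ, fun v hv z => by rw [key v hv]; exact hτ _ z⟩

/-- the coordinates of the even-subset module -/
def E (v : G) : Fin k → Fin (2 ^ 1 + 1) → ZMod 2 := fun i => cv2 (en φ N v i)

theorem perm (hVn : ∀ h ∈ H, ∀ v ∈ V, h * v * h⁻¹ ∈ V) {g : G} (hg : g ∈ H) :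
    ∃ σ τ, ActsSym (E φ N) V g σ τ := by
  obtain ⟨σ, hσ⟩ := N.perm g hg
  choose τ hτ using fun i => block φ N hVn hg (i := i) (i' := σ i) fun v hv => hσ v hv i
  exact ⟨σ, τ, fun v hv i z => hτ i v hv z⟩

theorem of_SL (hVn : ∀ h ∈ H, ∀ v ∈ V, h * v * h⁻¹ ∈ V) {g : G} (hg : g ∈ H)
    {A : Fin k → Matrix.SpecialLinearGroup (Fin 2) F} (h : ActsSL N.e V D g A) :
    ∃ τ, ActsSym (E φ N) V g 1 τ := by
  have h0 : ∀ i, ∀ v ∈ V, N.e (g * v * g⁻¹) i = 0 ↔ N.e v i = 0 := by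
    intro i v hv
    rw [h.1 v hv i]
    constructor
    · intro h1
      have h2 := NatPair.ap_inv_ap (A i) (N.e v i)
      rw [h1] at h2
      rw [← h2]
      apply NatPair.ext2
      · rw [ap_zero']; simp
      · rw [ap_one']; simp
    · intro h1
      rw [h1]
      apply NatPair.ext2
      · rw [ap_zero']; simp
      · rw [ap_one']; simp
  choose τ hτ using fun i => block φ N hVn hg (i := i) (i' := i) (h0 i)
  exact ⟨τ, fun v hv i z => hτ i v hv z⟩

theorem exists_E (y : Fin k → Fin (2 ^ 1 + 1) → ZMod 2) (hy : ∀ i, ∑ x, y i x = 0) :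
    ∃ v ∈ V, E φ N v = y := by
  choose x hx using fun i => cv2_surj (y i) (hy i)
  obtain ⟨v, hv, he⟩ := en_surj φ N x
  exact ⟨v, hv, funext fun i => by rw [E, he i, hx i]⟩

theorem up_act {g v : G} {i : Fin k} {b : F} (h : N.e (g * v * g⁻¹) i = ap (up b) (N.e v i)) :
    en φ N (g * v * g⁻¹) i = ![en φ N v i 0 + φ b * en φ N v i 1, en φ N v i 1] := by
  rw [en_mat φ N h]
  funext j
  fin_cases j
  · simp
  · simp

theorem cv2_up_one (x : Fin 2 → ZMod 2) (z : Fin (2 ^ 1 + 1)) :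
    cv2 ![x 0 + 1 * x 1, x 1] (swap 1 2 z) = cv2 x z := by
  revert x z; decide

theorem cv2_up_zero (x : Fin 2 → ZMod 2) (z : Fin (2 ^ 1 + 1)) :
    cv2 ![x 0 + 0 * x 1, x 1] z = cv2 x z := by
  revert x z; decide

theorem z2 : ∀ a : ZMod 2, a = 0 ∨ a = 1 := by decide

theorem up_sym {g : G} {b : Fin k → F} (h : ActsSL N.e V D g fun i => up (b i)) :
    ActsSym (E φ N) V g 1 fun i => if φ (b i) = 0 then 1 else swap 1 2 := by
  intro v hv i z
  have h1 := up_act φ N (h.1 v hv i)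
  change cv2 (en φ N (g * v * g⁻¹) i) _ = cv2 (en φ N v i) z
  rw [h1]
  rcases z2 (φ (b i)) with h2 | h2
  · simp only [h2, if_true, Equiv.Perm.one_apply]
    exact cv2_up_zero _ z
  · simp only [h2, one_ne_zero, if_false]
    exact cv2_up_one _ z

/-- **Natural `SL₂(2)`-modules as even-subset modules of `S₃`.** -/
noncomputable def symOf' (hVn : ∀ h ∈ H, ∀ v ∈ V, h * v * h⁻¹ ∈ V) (hTH : T ≤ H) :
    SymK T H V D k 1 where
  e := E φ N
  mul := fun v hv w hw => funext fun i => by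
    simp only [E, Pi.add_apply]
    rw [en_mul φ N hv hw, cv2_add]
  even := fun v _ i => cv2_even _
  surj := exists_E φ N
  ker := fun v hv => by
    rw [← N.ker v hv]
    constructor
    · intro h
      funext i
      exact (en_zero φ N v i).1 ((cv2_zero _).1 (congrFun h i))
    · intro h
      funext i
      exact (cv2_zero _).2 ((en_zero φ N v i).2 (congrFun h i))
  lift := by
    intro τ
    choose a b c d hdet hact using fun i => perm_mat (τ i)
    have hdet' : ∀ i, φ.symm (a i) * φ.symm (d i) - φ.symm (b i) * φ.symm (c i) = 1 := fun i => by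
      rw [← map_mul, ← map_mul, ← map_sub, hdet i, map_one]
    obtain ⟨g, hg, h1, h2⟩ := N.lift fun i => mk _ _ _ _ (hdet' i)
    refine ⟨g, hg, fun v hv i z => ?_, h2⟩
    have h3 := en_mat φ N (h1 v hv i)
    simp only [mk_00, mk_01, mk_10, mk_11, RingEquiv.apply_symm_apply] at h3
    change cv2 (en φ N (g * v * g⁻¹) i) (τ i z) = cv2 (en φ N v i) z
    rw [h3]
    exact hact i _ z
  perm := fun g hg => perm φ N hVn hg
  trans := by
    intro i j
    obtain ⟨t, ht, hij⟩ := N.trans i j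
    obtain ⟨σ, τ, hστ⟩ := perm φ N hVn (hTH ht)
    refine ⟨t, ht, σ, τ, hστ, ?_⟩
    by_contra hne
    obtain ⟨w, hw, hwe⟩ := exists_E φ N (FFTwo.pr j 0 1) fun l => FFTwo.pr_even j (by decide) l
    have hv := hVn t⁻¹ (H.inv_mem (hTH ht)) w hw
    rw [inv_inv] at hv
    have e1 : t * (t⁻¹ * w * t) * t⁻¹ = w := by group
    have h1 : N.e (t⁻¹ * w * t) i = 0 := by
      rw [← en_zero φ N, ← cv2_zero]
      funext z
      have h2 := hστ _ hv i z
      rw [e1, hwe, FFTwo.pr_ne _ _ _ hne] at h2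
      exact h2.symm
    have h3 := (hij _ hv).2 h1
    rw [e1, ← en_zero φ N, ← cv2_zero] at h3
    have h4 := congrFun h3 0
    have h5 : cv2 (en φ N w j) 0 = FFTwo.pr j 0 1 j 0 := congrFun (congrFun hwe j) 0
    rw [h5, FFTwo.pr_a] at h4
    exact one_ne_zero h4
  fix0 := by
    intro t ht σ τ hστ i
    by_contra hne
    obtain ⟨σ', hσ'⟩ := N.line t ht
    obtain ⟨c, hc1, hc2⟩ := FFTwo.exists_third (m := 1) le_rfl 0 (τ i 0)
    obtain ⟨w, hw, hwe⟩ := exists_E φ N (FFTwo.pr (σ' i) 0 c) fun l => FFTwo.pr_even _ hc1.symm l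
    have hv := hVn t⁻¹ (H.inv_mem (hTH ht)) w hw
    rw [inv_inv] at hv
    have e1 : t * (t⁻¹ * w * t) * t⁻¹ = w := by group
    have h1 := hστ _ hv i 0
    rw [e1, hwe, FFTwo.pr_out _ _ hne hc2.symm] at h1
    have h2 : φ (N.e (t⁻¹ * w * t) i 1) = 0 := h1.symm
    have h3 := (hσ' _ hv i).2 ((map_eq_zero_iff φ φ.injective).1 h2)
    rw [e1] at h3
    have h4 : E φ N w (σ' i) 0 = φ (N.e w (σ' i) 1) := rfl
    rw [hwe, FFTwo.pr_a, h3, map_zero] at h4
    exact one_ne_zero h4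
  gen := by
    intro K hTK hK
    refine N.gen K hTK fun h hh A hA => ?_
    obtain ⟨τ, hτ⟩ := of_SL φ N hVn hh hA
    exact hK h hh τ hτ hA.2
  off := by
    intro A hAT hoff
    obtain ⟨I, hI1, hI2⟩ := N.off A hAT hoff
    refine ⟨fun a ha => ?_, fun a ha => ?_⟩
    · obtain ⟨b, -, hb⟩ := hI1 a ha
      exact hb.2
    · obtain ⟨b, hbI, hb⟩ := hI1 a ha
      refine ⟨_, up_sym φ N hb, ?_⟩
      intro i x hx
      rcases z2 (φ (b i)) with h2 | h2
      · simp only [h2, if_true, Equiv.Perm.one_apply, ne_eq, not_true_eq_false] at hx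
      · have hiI : i ∈ I := by
          by_contra hiI
          rw [hbI i hiI, map_zero] at h2
          exact zero_ne_one h2
        simp only [h2, one_ne_zero, if_false] at hx ⊢
        refine ⟨by rw [← Equiv.Perm.mul_apply, Equiv.swap_mul_self, Equiv.Perm.one_apply], ?_⟩
        obtain ⟨c, hc, hcb⟩ := hI2 (Pi.single i 1) fun l hl => by
          rw [Pi.single_eq_of_ne]
          rintro rfl
          exact hl hiI
        refine ⟨c, hc, ?_⟩
        have h3 := up_sym φ N hcb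
        convert h3 using 1
        funext l
        by_cases hl : l = i
        · subst hl
          rw [Function.update_self, Pi.single_eq_same, map_one, if_neg one_ne_zero]
          revert hx
          revert x
          decide
        · rw [Function.update_of_ne hl, Pi.single_eq_of_ne hl, map_zero, if_pos rfl]
          rfl

/-- **Natural `SL₂(2)`-modules as even-subset modules of `S₃`.** -/
noncomputable def symOf [Finite F] (N : NatK F T H V D k) (hF : Nat.card F = 2)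
    (hVn : ∀ h ∈ H, ∀ v ∈ V, h * v * h⁻¹ ∈ V) (hTH : T ≤ H) : SymK T H V D k 1 := by
  classical
  letI : Fintype F := Fintype.ofFinite F
  exact symOf' (ZMod.ringEquivOfPrime F Nat.prime_two (by rw [← Nat.card_eq_fintype_card, hF])).symm
    N hVn hTH

end Cfsg.Agent.Omega.SQ1.SymOfNat

end
end
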