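import Cfsg.Agent.Mrg.Omega.SQ1.Choice
import Cfsg.Agent.Mrg.Omega.SQ1.End1
import Cfsg.Agent.Mrg.Omega.SQ1.NSOf
import Cfsg.Agent.LieRecognition.FieldSemilinear
import Mathlib
import Cfsg.Agent.Lib.NormalAbelian
import Cfsg.Agent.Lib.CoprimeCommutator
import Cfsg.Agent.ThreePrime.Transfer
import Cfsg.Agent.Mrg.Omega.SQ1.End0_mg
import Cfsg.Agent.MinSimple.Basic
import Cfsg.Agent.Mrg.Omega.SQ1.BauL
import Cfsg.Agent.Mrg.Omega.FFOne.Alg
import Cfsg.Agent.Lib.FieldAutCard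
import Cfsg.Agent.Mrg.Omega.SQ1.FFSymMain
import Cfsg.Agent.Mrg.Omega.FFBr.Final
set_option linter.all false

-- merged: Cfsg.Agent.Mrg.Omega.SQ1.MidBase
section

section


/-!
# SQ1, one block, `b = 1`, `q ≥ 4`: the fields of `End.Base`
-/

set_option autoImplicit false
set_option linter.unusedSectionVars false
set_option linter.unusedVariables false

namespace Cfsg.Agent.Omega.SQ1.MidOne

open Subgroup Cfsg Cfsg.Agent.ZN Cfsg.Agent.ZN.ChoiceBase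
open Cfsg.Agent.Omega.NatPair Cfsg.Agent.Lib.SL2Mat
open Cfsg.Agent.Omega.SQ1.FFOne Cfsg.Agent.Omega.SQ1.End
open scoped Pointwise

universe u

variable {G : Type u} [Group G]

/-- `F` has at most one automorphism of order two. -/
theorem unique_invol (F : Type*) [Field F] [Finite F] {σ τ : F ≃+* F} (hσ : σ ≠ 1) (hτ : τ ≠ 1)
    (hσ2 : σ * σ = 1) (hτ2 : τ * τ = 1) : σ = τ := by
  classical
  have hc : IsCyclic (F ≃+* F) := LieRecognition.FieldSemilinear.isCyclic_ringAut F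
  have hfin : Finite (F ≃+* F) := Finite.of_injective (fun σ : F ≃+* F => (σ : F → F)) DFunLike.coe_injective
  have := Fintype.ofFinite (F ≃+* F)
  by_contra hne
  have h1 := hc.card_pow_eq_one_le (n := 2) (by norm_num)
  have h2 : ({1, σ, τ} : Finset (F ≃+* F)) ⊆ Finset.univ.filter (fun a => a ^ 2 = 1) := by
    intro x hx
    simp only [Finset.mem_insert, Finset.mem_singleton] at hx
    simp only [Finset.mem_filter, Finset.mem_univ, true_and]
    rcases hx with rfl | rfl | rfl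
    · exact one_pow 2
    · rw [pow_two]; exact hσ2
    · rw [pow_two]; exact hτ2
  have h3 := Finset.card_le_card h2
  rw [Finset.card_eq_three.2 ⟨1, σ, τ, fun h => hσ h.symm, fun h => hτ h.symm, hne, rfl⟩] at h3
  omega

/-- An involution `σ` of `F` has an element of trace one. -/
theorem exists_trace_one {F : Type*} [Field F] [CharP F 2] {σ : F ≃+* F} (hσ : σ ≠ 1)
    (hσ2 : ∀ x, σ (σ x) = x) : ∃ c : F, c + σ c = 1 := by
  have h1 : ∃ x, σ x ≠ x := by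
    by_contra h
    push Not at h
    exact hσ (by ext x; exact h x)
  obtain ⟨x, hx⟩ := h1
  have hf : x + σ x ≠ 0 := by
    intro h
    apply hx
    have := eq_neg_of_add_eq_zero_right h
    rwa [CharTwo.neg_eq] at this
  refine ⟨x / (x + σ x), ?_⟩
  rw [map_div₀, map_add, hσ2, add_comm (σ x) x, ← add_div, div_self hf]

theorem free_cj {s t : G} {X X0 : Subgroup G} (h : Free (s⁻¹ * t * s) X X0) :
    Free t (cj s X) (cj s X0) := by
  intro x hx hx2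
  rw [mem_cj] at hx hx2
  obtain ⟨u, hu, hu2⟩ := h _ hx (by
    have e : (s⁻¹ * x * s)⁻¹ * (s⁻¹ * t * s * (s⁻¹ * x * s) * (s⁻¹ * t * s)⁻¹) =
      s⁻¹ * (x⁻¹ * (t * x * t⁻¹)) * s := by group
    rw [e]; exact hx2)
  refine ⟨s * u * s⁻¹, ?_, ?_⟩
  · rw [mem_cj]
    have e : s⁻¹ * (s * u * s⁻¹) * s = u := by group
    rwa [e]
  · rw [mem_cj]
    have e : s⁻¹ * (x⁻¹ * (s * u * s⁻¹ * (t * (s * u * s⁻¹) * t⁻¹))) * s =
      (s⁻¹ * x * s)⁻¹ * (u * (s⁻¹ * t * s * u * (s⁻¹ * t * s)⁻¹)) := by group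
    rwa [e]

namespace Mid

variable {F : Type*} [Field F] {H T B Y Z C L : Subgroup G} {s : G}
variable (M : Mid F H T B Y Z C L s)

include M

/-- `t ∈ T - B` with `t² ∈ B`: `σ_t` is an involution. -/
theorem tw_sq [Finite G] [Finite F] [CharP F 2] {t : G} (ht : t ∈ T) (htB : t ∉ B)
    (ht2 : t * t ∈ B) : ∃ σ a d, M.Tw t σ a d ∧ σ ≠ 1 ∧ σ * σ = 1 ∧ a * σ a = 1 ∧ d * σ d = 1 := by
  obtain ⟨σ, a, d, h⟩ := M.exists_tw ht
  obtain ⟨h1, h2, h3⟩ := (h.mul h ht ht).unique (M.tw_B ht2)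
  refine ⟨σ, a, d, h, ?_, ?_, h2, h3⟩
  · rintro rfl
    exact htB (M.mem_B ht h)
  · exact h1

theorem uniq [Finite G] [Finite F] [CharP F 2] (t : G) (ht : t ∈ T) (htB : t ∉ B)
    (ht2 : t * t ∈ B) (t' : G) (ht' : t' ∈ T) (htB' : t' ∉ B) (ht2' : t' * t' ∈ B) :
    t⁻¹ * t' ∈ B := by
  obtain ⟨σ, a, d, h, hσ, hσ2, -, -⟩ := M.tw_sq ht htB ht2
  obtain ⟨σ', a', d', h', hσ', hσ2', -, -⟩ := M.tw_sq ht' htB' ht2'
  have e := unique_invol F hσ hσ' hσ2 hσ2'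
  subst e
  have hti : t⁻¹ ∉ B := fun hx => htB (by simpa using inv_mem hx)
  have hti2 : t⁻¹ * t⁻¹ ∈ B := by
    have h1 := inv_mem ht2
    have e : (t * t)⁻¹ = t⁻¹ * t⁻¹ := by group
    rwa [e] at h1
  obtain ⟨τ, a₁, d₁, k, hτ, hτ2, -, -⟩ := M.tw_sq (inv_mem ht) hti hti2
  have e := unique_invol F hσ hτ hσ2 hτ2
  subst e
  have h1 := k.mul h' (inv_mem ht) ht'
  have e : σ.trans σ = RingEquiv.refl F := hσ2
  rw [e] at h1
  exact M.mem_B (mul_mem (inv_mem ht) ht') h1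

theorem π_mem_Z {v : G} (hv : v ∈ Y) (h : M.π v 1 = 0) : v ∈ Z := (M.Zpi v hv).2 h

theorem free_YZ [Finite G] [Finite F] [CharP F 2] {t : G} (ht : t ∈ T) (htB : t ∉ B)
    (ht2 : t * t ∈ B) : Free t Y Z := by
  obtain ⟨σ, a, d, h, hσ, hσ2, ha, hd⟩ := M.tw_sq ht htB ht2
  obtain ⟨c, hc⟩ := exists_trace_one hσ (fun x => by
    have := congrArg (fun τ : F ≃+* F => τ x) hσ2; exact this)
  intro x hx hx2
  have htx := M.TY ht hx
  have h1 : d * σ (M.π x 1) = M.π x 1 := by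
    have h2 := (M.Zpi _ (mul_mem (inv_mem hx) htx)).1 hx2
    rw [M.map_mul _ (inv_mem hx) _ htx, M.map_inv hx, Pi.add_apply, Pi.neg_apply, h.one x hx] at h2
    linear_combination h2
  obtain ⟨u, hu, e⟩ := M.surj ![0, c * M.π x 1]
  refine ⟨u, hu, ?_⟩
  have htu := M.TY ht hu
  apply M.π_mem_Z (mul_mem (inv_mem hx) (mul_mem hu htu))
  rw [M.map_mul _ (inv_mem hx) _ (mul_mem hu htu), M.map_inv hx, M.map_mul u hu _ htu, Pi.add_apply,
    Pi.add_apply, Pi.neg_apply, h.one u hu, e]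
  simp only [Matrix.cons_val_one, Matrix.cons_val_fin_one, map_mul]
  linear_combination (σ c) * h1 + (M.π x 1) * hc

theorem free_ZC [Finite G] [Finite F] [CharP F 2] {t : G} (ht : t ∈ T) (htB : t ∉ B)
    (ht2 : t * t ∈ B) : Free t Z C := by
  obtain ⟨σ, a, d, h, hσ, hσ2, ha, hd⟩ := M.tw_sq ht htB ht2
  obtain ⟨c, hc⟩ := exists_trace_one hσ (fun x => by
    have := congrArg (fun τ : F ≃+* F => τ x) hσ2; exact this)
  intro x hxZ hx2
  have hx := M.ZY hxZ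
  have htx := M.TY ht hx
  have h1 : a * σ (M.π x 0) = M.π x 0 := by
    have h2 := congrFun ((M.ker _ (mul_mem (inv_mem hx) htx)).2 hx2) 0
    rw [M.map_mul _ (inv_mem hx) _ htx, M.map_inv hx, Pi.add_apply, Pi.neg_apply,
      h.zero x hxZ] at h2
    have h3 : -(M.π x 0) + a * σ (M.π x 0) = 0 := h2
    linear_combination h3
  obtain ⟨u, hu, e⟩ := M.surj ![c * M.π x 0, 0]
  have huZ : u ∈ Z := M.π_mem_Z hu (by rw [e]; rfl)
  refine ⟨u, huZ, ?_⟩
  have htu := M.TY ht hu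
  rw [← M.ker _ (mul_mem (inv_mem hx) (mul_mem hu htu)), M.map_mul _ (inv_mem hx) _ (mul_mem hu htu),
    M.map_inv hx, M.map_mul u hu _ htu]
  apply NatPair.ext2
  · rw [Pi.add_apply, Pi.add_apply, Pi.neg_apply, h.zero u huZ, e]
    simp only [Matrix.cons_val_zero, map_mul]
    show -(M.π x 0) + (c * M.π x 0 + a * (σ c * σ (M.π x 0))) = 0
    linear_combination (σ c) * h1 + (M.π x 0) * hc
  · rw [Pi.add_apply, Pi.add_apply, Pi.neg_apply, h.one u hu, (M.Zpi x hx).1 hxZ,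
      (M.Zpi u hu).1 huZ, map_zero, mul_zero, add_zero, neg_zero, add_zero]
    rfl

theorem free_BY [Finite G] [Finite F] [CharP F 2] {t : G} (ht : t ∈ T) (htB : t ∉ B)
    (ht2 : t * t ∈ B) : Free t B Y := by
  obtain ⟨σ, a, d, h, hσ, hσ2, ha, hd⟩ := M.tw_sq ht htB ht2
  obtain ⟨c, hc⟩ := exists_trace_one hσ (fun x => by
    have := congrArg (fun τ : F ≃+* F => τ x) hσ2; exact this)
  intro x hx hx2
  have htx := M.TB t ht x hx
  have h1 : M.β (t * x * t⁻¹) = M.β x := by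
    have h2 := (M.β_zero_iff (mul_mem (inv_mem hx) htx)).2 hx2
    rw [M.β_mul (inv_mem hx) htx, M.β_inv hx] at h2
    linear_combination h2
  have h2 := h.bet x hx
  rw [h1] at h2
  obtain ⟨u, hu, e⟩ := M.β_surj (c * M.β x)
  refine ⟨u, hu, ?_⟩
  have htu := M.TB t ht u hu
  rw [← M.β_zero_iff (mul_mem (inv_mem hx) (mul_mem hu htu)), M.β_mul (inv_mem hx) (mul_mem hu htu),
    M.β_inv hx, M.β_mul hu htu, e]
  have h3 := h.bet u hu
  rw [e, map_mul] at h3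
  apply mul_left_cancel₀ h.d0
  rw [mul_zero]
  linear_combination h3 + (σ c) * (-h2) + (d * M.β x) * hc

/-! ### The switched side -/

theorem sT' [Finite G] {t : G} (ht : t ∈ T) : s⁻¹ * t * s ∈ T := M.sC_inv M.sT t ht

theorem sB' [Finite G] {t : G} (ht : t ∈ B) : s⁻¹ * t * s ∈ B := M.sC_inv M.sB t ht

theorem sZ' [Finite G] {t : G} (ht : t ∈ Z) : s⁻¹ * t * s ∈ Z := M.sC_inv M.sZ t ht

theorem cjB [Finite G] : cj s B = B := by
  ext x
  rw [mem_cj]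
  constructor
  · intro h
    have h1 := M.sB _ h
    have e : s * (s⁻¹ * x * s) * s⁻¹ = x := by group
    rwa [e] at h1
  · exact M.sB'

theorem cjT [Finite G] : cj s T = T := by
  ext x
  rw [mem_cj]
  constructor
  · intro h
    have h1 := M.sT _ h
    have e : s * (s⁻¹ * x * s) * s⁻¹ = x := by group
    rwa [e] at h1
  · exact M.sT'

theorem cjZ [Finite G] : cj s Z = Z := by
  ext x
  rw [mem_cj]
  constructor
  · intro h
    have h1 := M.sZ _ h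
    have e : s * (s⁻¹ * x * s) * s⁻¹ = x := by group
    rwa [e] at h1
  · exact M.sZ'

theorem sw [Finite G] {t : G} (ht : t ∈ T) (htB : t ∉ B) (ht2 : t * t ∈ B) :
    s⁻¹ * t * s ∈ T ∧ s⁻¹ * t * s ∉ B ∧ s⁻¹ * t * s * (s⁻¹ * t * s) ∈ B := by
  refine ⟨M.sT' ht, fun h => htB ?_, ?_⟩
  · have h1 := M.sB _ h
    have e : s * (s⁻¹ * t * s) * s⁻¹ = t := by group
    rwa [e] at h1
  · have h1 := M.sB' ht2
    have e : s⁻¹ * (t * t) * s = s⁻¹ * t * s * (s⁻¹ * t * s) := by group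
    rwa [e] at h1

theorem free_YZ' [Finite G] [Finite F] [CharP F 2] {t : G} (ht : t ∈ T) (htB : t ∉ B)
    (ht2 : t * t ∈ B) : Free t (cj s Y) Z := by
  obtain ⟨h1, h2, h3⟩ := M.sw ht htB ht2
  have h4 := free_cj (M.free_YZ h1 h2 h3)
  rwa [M.cjZ] at h4

theorem free_ZC' [Finite G] [Finite F] [CharP F 2] {t : G} (ht : t ∈ T) (htB : t ∉ B)
    (ht2 : t * t ∈ B) : Free t Z (cj s C) := by
  obtain ⟨h1, h2, h3⟩ := M.sw ht htB ht2
  have h4 := free_cj (M.free_ZC h1 h2 h3)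
  rwa [M.cjZ] at h4

theorem free_BY' [Finite G] [Finite F] [CharP F 2] {t : G} (ht : t ∈ T) (htB : t ∉ B)
    (ht2 : t * t ∈ B) : Free t B (cj s Y) := by
  obtain ⟨h1, h2, h3⟩ := M.sw ht htB ht2
  have h4 := free_cj (M.free_BY h1 h2 h3)
  rwa [M.cjB] at h4

end Mid

end Cfsg.Agent.Omega.SQ1.MidOne

end

section


/-!
# SQT, SQ1.7 (#11260), step (3): a group with a large centraliser acts trivially

`central_of`: `R` a 2-group normalised by `Λ`, `Bq ≤ Λ` a 2-group, `z = [a, b]` with `a, b ∈ Bq`, and every element of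
`R` commuting with `z` centralises `Λ`. Then `Λ` centralises `R`.
-/

set_option autoImplicit false

namespace Cfsg.Agent.Omega.SQ1.EndThree

open Subgroup

variable {G : Type*} [Group G]

/-- a normal section of a `p`-group has a central element -/
theorem exists_fix [Finite G] {p : ℕ} [hp : Fact p.Prime] {X D P : Subgroup G} (hP : IsPGroup p P) (hXP : X ≤ P)
    (hXn : P ≤ normalizer (X : Set G)) (hDX : D ≤ X) (hDn : P ≤ normalizer (D : Set G)) (hne : ¬ X ≤ D) :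
    ∃ x ∈ X, x ∉ D ∧ ∀ b ∈ P, x * b * x⁻¹ * b⁻¹ ∈ D := by
  have hnD : (D.subgroupOf P).Normal := by
    have := (normal_subgroupOf_iff_le_normalizer (hDX.trans hXP)).2 hDn
    exact this
  have hnX : (X.subgroupOf P).Normal := (normal_subgroupOf_iff_le_normalizer hXP).2 hXn
  have hq : IsPGroup p (P ⧸ D.subgroupOf P) := hP.to_quotient _
  have hnil : Group.IsNilpotent (P ⧸ D.subgroupOf P) := hq.isNilpotent
  set N : Subgroup (P ⧸ D.subgroupOf P) := (X.subgroupOf P).map (QuotientGroup.mk' (D.subgroupOf P)) with hN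
  have hNn : N.Normal := hnX.map _ (QuotientGroup.mk'_surjective _)
  have hNe : N ≠ ⊥ := by
    intro h
    apply hne
    intro x hx
    have h1 : QuotientGroup.mk' (D.subgroupOf P) ⟨x, hXP hx⟩ ∈ N := mem_map_of_mem _ (mem_subgroupOf.2 hx)
    rw [h, mem_bot, ← MonoidHom.mem_ker, QuotientGroup.ker_mk', mem_subgroupOf] at h1
    exact h1
  have h := Cfsg.Agent.Lib.NormalAbelian.normal_inf_center_ne_bot N hNe
  obtain ⟨q, hq1, hqne⟩ := (bot_or_exists_ne_one _).resolve_left h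
  obtain ⟨⟨x, hxX, rfl⟩, hc⟩ := hq1
  refine ⟨x, mem_subgroupOf.1 hxX, ?_, ?_⟩
  · intro hxD
    apply hqne
    rw [← MonoidHom.mem_ker, QuotientGroup.ker_mk', mem_subgroupOf]
    exact hxD
  · intro b hb
    have h2 := mem_center_iff.1 hc (QuotientGroup.mk' (D.subgroupOf P) ⟨b, hb⟩)
    have h3 : QuotientGroup.mk' (D.subgroupOf P) (x * ⟨b, hb⟩ * x⁻¹ * ⟨b, hb⟩⁻¹) = 1 := by
      rw [map_mul, map_mul, map_mul, map_inv, map_inv, ← h2, mul_inv_cancel_right, mul_inv_cancel]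
    rw [← MonoidHom.mem_ker, QuotientGroup.ker_mk', mem_subgroupOf] at h3
    exact h3

theorem central_of [Finite G] {R Bq Λ : Subgroup G} (hR : IsPGroup 2 R) (hB : IsPGroup 2 Bq) (hBΛ : Bq ≤ Λ)
    (hn : Λ ≤ normalizer (R : Set G)) {a b : G} (ha : a ∈ Bq) (hb : b ∈ Bq)
    (hz : ∀ r ∈ R, r * (a * b * a⁻¹ * b⁻¹) = (a * b * a⁻¹ * b⁻¹) * r → ∀ l ∈ Λ, r * l = l * r) : ∀ r ∈ R, ∀ l ∈ Λ, r * l = l * r := by
  have hf : Fact (Nat.Prime 2) := ⟨Nat.prime_two⟩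
  set C : Subgroup G := R ⊓ centralizer (Λ : Set G) with hC
  have hCΛ : ∀ r, r ∈ C ↔ r ∈ R ∧ ∀ l ∈ Λ, r * l = l * r := by
    intro r
    rw [hC, mem_inf, mem_centralizer_iff]
    exact and_congr_right fun _ => forall₂_congr fun l _ => eq_comm
  suffices h : ¬ ∃ X : Subgroup G, X ≤ R ∧ Λ ≤ normalizer (X : Set G) ∧ ¬ X ≤ C by
    intro r hr
    by_contra hcon
    exact h ⟨R, le_rfl, hn, fun hRC => hcon ((hCΛ r).1 (hRC hr)).2⟩
  rintro hex
  -- a minimal such `X`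
  obtain ⟨X, ⟨hXR, hXn, hXC⟩, hmin⟩ := (Set.toFinite {X : Subgroup G | X ≤ R ∧ Λ ≤ normalizer (X : Set G) ∧ ¬ X ≤ C}).exists_minimal
    hex
  have hmin' : ∀ Y : Subgroup G, Y ≤ X → Λ ≤ normalizer (Y : Set G) → Y ≠ X → Y ≤ C := by
    intro Y hY hYn hne
    by_contra hYC
    exact hne (le_antisymm hY (hmin ⟨hY.trans hXR, hYn, hYC⟩ hY))
  have hcent : ⁅C, Λ⁆ = ⊥ := by
    rw [commutator_eq_bot_iff_le_centralizer]
    exact inf_le_right
  have hXΛ : ⁅X, Λ⁆ ≤ X := by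
    rw [commutator_le]
    intro x hx l hl
    rw [commutatorElement_def]
    have h1 : l * x⁻¹ * l⁻¹ ∈ X := (mem_normalizer_iff.1 (hXn hl) _).1 (inv_mem hx)
    have : x * l * x⁻¹ * l⁻¹ = x * (l * x⁻¹ * l⁻¹) := by group
    rw [this]
    exact mul_mem hx h1
  have hzΛ : a * b * a⁻¹ * b⁻¹ ∈ ⁅Λ, Λ⁆ := commutator_mem_commutator (hBΛ ha) (hBΛ hb)
  have hcj : ∀ l ∈ Λ, ∀ Y : Subgroup G, Λ ≤ normalizer (Y : Set G) → Y.map (MulAut.conj l).toMonoidHom = Y := by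
    intro l hl Y hY
    ext y
    rw [mem_map]
    constructor
    · rintro ⟨w, hw, rfl⟩
      exact (mem_normalizer_iff.1 (hY hl) w).1 hw
    · intro hy
      refine ⟨l⁻¹ * y * l, ?_, ?_⟩
      · have h1 := (mem_normalizer_iff.1 (hY (inv_mem hl)) y).1 hy
        rwa [inv_inv] at h1
      · change l * (l⁻¹ * y * l) * l⁻¹ = y
        group
  by_cases hcase : ⁅X, Λ⁆ ≤ C
  · -- `[X, Λ, Λ] = 1`
    have h1 : ⁅⁅X, Λ⁆, Λ⁆ = ⊥ := by
      rw [eq_bot_iff, ← hcent]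
      exact commutator_mono hcase le_rfl
    have h2 : ⁅⁅Λ, Λ⁆, X⁆ = ⊥ := by
      apply commutator_commutator_eq_bot_of_rotate
      · rw [commutator_comm Λ X]; exact h1
      · exact h1
    rw [commutator_eq_bot_iff_le_centralizer] at h2
    apply hXC
    intro x hx
    refine (hCΛ x).2 ⟨hXR hx, hz x (hXR hx) ?_⟩
    exact mem_centralizer_iff.1 (h2 hzΛ) x hx
  · have hXX : ⁅X, Λ⁆ = X := by
      by_contra hne
      exact hcase (hmin' _ hXΛ (Cfsg.Agent.Lib.CoprimeCommutator.right_le_normalizer_commutator X Λ) hne)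
    have hX2 : IsPGroup 2 X := hR.to_le hXR
    -- `X' ≤ C`
    have hX' : ⁅X, X⁆ ≤ C := by
      refine hmin' _ (commutator_le_self X) ?_ ?_
      · intro l hl
        have h1 : (⁅X, X⁆ : Subgroup G).map (MulAut.conj l).toMonoidHom = ⁅X, X⁆ := by
          rw [map_commutator, hcj l hl X hXn]
        rw [mem_normalizer_iff]
        intro y
        constructor
        · intro hy
          have h2 := mem_map_of_mem (MulAut.conj l).toMonoidHom hy
          rw [h1] at h2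
          exact h2
        · intro hy
          have h2 : l * y * l⁻¹ ∈ (⁅X, X⁆ : Subgroup G).map (MulAut.conj l).toMonoidHom := by rw [h1]; exact hy
          obtain ⟨w, hw, hwe⟩ := h2
          have h3 : w = y := by
            have h4 : l * w * l⁻¹ = l * y * l⁻¹ := hwe
            exact mul_left_cancel (mul_right_cancel h4)
          rwa [h3] at hw
      · intro he
        have hnt : Nontrivial X := by
          rw [nontrivial_iff_ne_bot]
          rintro rfl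
          exact hXC bot_le
        have hnil : Group.IsNilpotent X := hX2.isNilpotent
        have hlt := Group.IsSolvable.commutator_lt_top_of_nontrivial X
        apply hlt.ne
        rw [eq_top_iff]
        intro y _
        have h1 : (y : G) ∈ (_root_.commutator X).map X.subtype := by
          rw [map_subtype_commutator, he]
          exact y.2
        obtain ⟨w, hw, hwe⟩ := h1
        have : w = y := Subtype.ext hwe
        rwa [this] at hw
    set D : Subgroup G := X ⊓ C with hD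
    have hDΛ : ⁅D, Λ⁆ = ⊥ := by
      rw [eq_bot_iff, ← hcent]
      exact commutator_mono inf_le_right le_rfl
    have hDX : ⁅X, D⁆ = ⊥ := by
      have h1 : ⁅⁅Λ, X⁆, D⁆ = ⊥ := by
        apply commutator_commutator_eq_bot_of_rotate
        · rw [eq_bot_iff, ← hcent]
          exact commutator_mono ((commutator_mono le_rfl inf_le_left).trans hX') le_rfl
        · rw [hDΛ, commutator_bot_left]
      rwa [commutator_comm Λ X, hXX] at h1
    have hDX' : ∀ d ∈ D, ∀ y ∈ X, d * y = y * d := by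
      intro d hd y hy
      rw [commutator_eq_bot_iff_le_centralizer] at hDX
      exact mem_centralizer_iff.1 (hDX hy) d hd
    have hDΛ' : ∀ d ∈ D, ∀ y ∈ Λ, d * y = y * d := by
      intro d hd y hy
      exact ((hCΛ d).1 hd.2).2 y hy
    have hDn : X ⊔ Bq ≤ normalizer (D : Set G) := by
      have key : X ⊔ Bq ≤ centralizer (D : Set G) := by
        refine sup_le ?_ ?_
        · intro y hy
          rw [mem_centralizer_iff]
          exact fun d hd => hDX' d hd y hy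
        · intro y hy
          rw [mem_centralizer_iff]
          exact fun d hd => hDΛ' d hd y (hBΛ hy)
      exact key.trans (centralizer_le_normalizer _)
    obtain ⟨x, hx, hxD, hxb⟩ := exists_fix (X := X) (D := D) (P := X ⊔ Bq) (p := 2)
      (hX2.to_sup_of_normal_left' hB (hBΛ.trans hXn)) le_sup_left
      (sup_le le_normalizer (hBΛ.trans hXn)) inf_le_left hDn (fun h => hXC (h.trans inf_le_right))
    apply hxD
    refine ⟨hx, (hCΛ x).2 ⟨hXR hx, hz x (hXR hx) ?_⟩⟩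
    have hda := hxb a ((le_sup_right : Bq ≤ _) ha)
    have hdb := hxb b ((le_sup_right : Bq ≤ _) hb)
    set u : G := x * a * x⁻¹ * a⁻¹ with hu
    set w : G := x * b * x⁻¹ * b⁻¹ with hw
    have hxa : x * a * x⁻¹ = u * a := by rw [hu]; group
    have hxb' : x * b * x⁻¹ = w * b := by rw [hw]; group
    have hua : u * a = a * u := hDΛ' u hda a (hBΛ ha)
    have hub : u * b = b * u := hDΛ' u hda b (hBΛ hb)
    have hwa : w * a = a * w := hDΛ' w hdb a (hBΛ ha)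
    have hwb : w * b = b * w := hDΛ' w hdb b (hBΛ hb)
    have huw : u * w = w * u := hDX' u hda w hdb.1
    have h1 : x * (a * b * a⁻¹ * b⁻¹) * x⁻¹ = a * b * a⁻¹ * b⁻¹ := by
      have e1 : x * (a * b * a⁻¹ * b⁻¹) * x⁻¹ =
          (x * a * x⁻¹) * (x * b * x⁻¹) * (x * a * x⁻¹)⁻¹ * (x * b * x⁻¹)⁻¹ := by group
      rw [e1, hxa, hxb']
      have cu : Commute u (a * b * a⁻¹) := by
        have c1 : Commute u a := hua
        have c2 : Commute u b := hub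
        exact (c1.mul_right c2).mul_right c1.inv_right
      have cw : Commute w (a * b * a⁻¹ * b⁻¹) := by
        have c1 : Commute w a := hwa
        have c2 : Commute w b := hwb
        exact ((c1.mul_right c2).mul_right c1.inv_right).mul_right c2.inv_right
      have cwa : Commute w a := hwa
      calc u * a * (w * b) * (u * a)⁻¹ * (w * b)⁻¹
          = u * (a * w) * b * a⁻¹ * u⁻¹ * b⁻¹ * w⁻¹ := by group
        _ = u * (w * a) * b * a⁻¹ * u⁻¹ * b⁻¹ * w⁻¹ := by rw [hwa]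
        _ = (u * w) * (a * b * a⁻¹) * u⁻¹ * b⁻¹ * w⁻¹ := by group
        _ = (w * u) * (a * b * a⁻¹) * u⁻¹ * b⁻¹ * w⁻¹ := by rw [huw]
        _ = w * (u * (a * b * a⁻¹)) * u⁻¹ * b⁻¹ * w⁻¹ := by group
        _ = w * ((a * b * a⁻¹) * u) * u⁻¹ * b⁻¹ * w⁻¹ := by rw [cu.eq]
        _ = w * (a * b * a⁻¹ * b⁻¹) * w⁻¹ := by group
        _ = a * b * a⁻¹ * b⁻¹ := by rw [cw.eq, mul_inv_cancel_right]
    exact mul_inv_eq_iff_eq_mul.1 h1

/-- **(3.2), (3.3)**: `C` has characteristic 2 with `O₂(C) = R`; `Bq ≤ C` a 2-group, `z = [a, b]` with `a, b ∈ Bq`;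
elements of `R` commuting with `z` normalise `Bq`, `R ∩ Bq = 1`; `c ∈ C` normalises a subgroup `Qq ≤ Bq` containing `z`.
Then `⟨Bq, c Bq c⁻¹⟩` is a 2-group. -/
theorem isPGroup_of [Finite G] {C R Bq Qq : Subgroup G} (hR : IsPGroup 2 R) (hRn : C ≤ normalizer (R : Set G))
    (hchar : C ⊓ centralizer (R : Set G) ≤ R) (hB : IsPGroup 2 Bq) (hBC : Bq ≤ C) {a b c : G} (ha : a ∈ Bq) (hb : b ∈ Bq)
    (hQB : Qq ≤ Bq) (hzQ : a * b * a⁻¹ * b⁻¹ ∈ Qq) (hcC : c ∈ C) (hcQ : ∀ q ∈ Qq, c * q * c⁻¹ ∈ Qq)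
    (hM : ∀ r ∈ R, r * (a * b * a⁻¹ * b⁻¹) = (a * b * a⁻¹ * b⁻¹) * r → ∀ y ∈ Bq, r * y * r⁻¹ ∈ Bq)
    (hRB : R ⊓ Bq = ⊥) : IsPGroup 2 (Bq ⊔ Bq.map (MulAut.conj c).toMonoidHom : Subgroup G) := by
  set z : G := a * b * a⁻¹ * b⁻¹ with hz
  -- elements of `R` commuting with `z` commute with `Bq`
  have h1 : ∀ r ∈ R, r * z = z * r → ∀ y ∈ Bq, r * y = y * r := by
    intro r hr hrz y hy
    have h2 : r * y * r⁻¹ * y⁻¹ ∈ R ⊓ Bq := by
      refine ⟨?_, Bq.mul_mem (hM r hr hrz y hy) (Bq.inv_mem hy)⟩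
      have h3 : y * r⁻¹ * y⁻¹ ∈ R := (mem_normalizer_iff.1 (hRn (hBC hy)) _).1 (inv_mem hr)
      have : r * y * r⁻¹ * y⁻¹ = r * (y * r⁻¹ * y⁻¹) := by group
      rw [this]
      exact mul_mem hr h3
    rw [hRB, mem_bot, mul_inv_eq_one] at h2
    exact mul_inv_eq_iff_eq_mul.1 h2
  have hΛC : Bq ⊔ Bq.map (MulAut.conj c).toMonoidHom ≤ C := by
    refine sup_le hBC ?_
    rintro _ ⟨y, hy, rfl⟩
    exact C.mul_mem (C.mul_mem hcC (hBC hy)) (C.inv_mem hcC)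
  have h4 := central_of (Λ := Bq ⊔ Bq.map (MulAut.conj c).toMonoidHom) hR hB le_sup_left (hΛC.trans hRn) ha hb (by
    intro r hr hrz
    have h5 := h1 r hr hrz
    have h6 : ∀ y ∈ Bq, (c⁻¹ * r * c) * y = y * (c⁻¹ * r * c) := by
      refine h1 _ ?_ ?_
      · have := (mem_normalizer_iff.1 (hRn (inv_mem hcC)) r).1 hr
        rwa [inv_inv] at this
      · have h7 := h5 _ (hQB (hcQ z hzQ))
        calc c⁻¹ * r * c * z = c⁻¹ * (r * (c * z * c⁻¹)) * c := by group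
          _ = c⁻¹ * (c * z * c⁻¹ * r) * c := by rw [h7]
          _ = z * (c⁻¹ * r * c) := by group
    have h8 : Bq ⊔ Bq.map (MulAut.conj c).toMonoidHom ≤ centralizer {r} := by
      refine sup_le ?_ ?_
      · intro y hy
        exact mem_centralizer_singleton_iff.2 (h5 y hy).symm
      · rintro _ ⟨y, hy, rfl⟩
        refine mem_centralizer_singleton_iff.2 ?_
        change c * y * c⁻¹ * r = r * (c * y * c⁻¹)
        calc c * y * c⁻¹ * r = c * (y * (c⁻¹ * r * c)) * c⁻¹ := by group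
          _ = c * (c⁻¹ * r * c * y) * c⁻¹ := by rw [h6 y hy]
          _ = r * (c * y * c⁻¹) := by group
    intro l hl
    exact (mem_centralizer_singleton_iff.1 (h8 hl)).symm)
  refine hR.to_le ?_
  intro l hl
  apply hchar
  refine ⟨hΛC hl, mem_centralizer_iff.2 fun r hr => h4 r hr l hl⟩

end Cfsg.Agent.Omega.SQ1.EndThree

end

end

-- merged: Cfsg.Agent.Mrg.Omega.SQ1.End4
section

/-!
# The end `k = 1`, `q ≥ 4` (SQ1.7), part 4: the case `T = B`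

`|S : B| = 2`, the elements of `S - B` interchange `Q₁` and `Q₂`; good elements are conjugate under
`N_G(B)` and their centralizers lie in `N_G(B)`.  Then `G` has a subgroup of index 2.
-/

set_option autoImplicit false
set_option Elab.async false

namespace Cfsg.Agent.Omega.SQ1.End

open Subgroup Cfsg Cfsg.Agent.ZN Cfsg.Agent.Omega.MinPar
open Cfsg.Agent.Lib.GoldschmidtFusion (mem_map_conj card_map_conj exists_conj_le_in exists_sylow_in
  lt_inf_normalizer)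

universe u

variable {G : Type u} [Group G]

section

variable {T B Q₁ Q₂ D C₁ C₂ : Subgroup G} {s : G} {q : ℕ}

namespace Base

variable [Finite G] {S : Sylow 2 G} (h : Base (S : Subgroup G) T B Q₁ Q₂ D C₁ C₂ s q)

/-- (2) Elements conjugating a good element to a good element lie in `N_G(B)`. -/
theorem mem_NB (go1 : ∀ d e, Gd D C₁ C₂ d → Gd D C₁ C₂ e → ∃ n ∈ normalizer (B : Set G), n * d * n⁻¹ = e)
    (cent : ∀ z, Gd D C₁ C₂ z → centralizer ({z} : Set G) ≤ normalizer (B : Set G)) {z g : G}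
    (hz : Gd D C₁ C₂ z) (hg : Gd D C₁ C₂ (g * z * g⁻¹)) : g ∈ normalizer (B : Set G) := by
  obtain ⟨n, hn, hnz⟩ := go1 z _ hz hg
  have h1 : n⁻¹ * g ∈ centralizer ({z} : Set G) := by
    rw [mem_centralizer_singleton_iff]
    calc n⁻¹ * g * z = n⁻¹ * (g * z * g⁻¹) * g := by group
      _ = z * (n⁻¹ * g) := by rw [← hnz]; group
  have h2 := (normalizer (B : Set G)).mul_mem hn (cent z hz h1)
  rwa [mul_inv_cancel_left] at h2

include h

/-- Squares in `B` are good or trivial. -/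
theorem sq_good {b : G} (hb : b ∈ B) (hb2 : b * b ≠ 1) : Gd D C₁ C₂ (b * b) := by
  obtain ⟨a, ha, c, hc, rfl⟩ := h.prod b hb
  have h1 : a ∉ D := by
    intro h1
    exact hb2 (h.sq2 _ (Q₂.mul_mem (h.D2 h1) hc))
  have h2 : c ∉ D := by
    intro h2
    exact hb2 (h.sq1 _ (Q₁.mul_mem ha (h.D1 h2)))
  have h3 := h.good a ha h1 c hc h2
  rw [h.inv1 ha, h.inv2 hc] at h3
  have h4 : a * c * a * c = a * c * (a * c) := by group
  rwa [h4] at h3

/-- Involutions of `B` commuting with a swap are good. -/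
theorem inv_good {x e : G} (hx : s⁻¹ * x ∈ T) (he : e ∈ B) (he2 : e * e = 1) (he1 : e ≠ 1)
    (hxe : x * e * x⁻¹ = e) : Gd D C₁ C₂ e := by
  apply h.gd_of_swap hx _ he1 hxe
  rcases h.inv_mem_or he he2 with h1 | h1
  · have h2 := h.swap1 hx h1
    rw [hxe] at h2
    exact (h.memD e).2 ⟨h1, h2⟩
  · have h2 := h.swap2 hx h1
    rw [hxe] at h2
    exact (h.memD e).2 ⟨h2, h1⟩

theorem relIndex_B (hTB : T ≤ B) : B.relIndex (S : Subgroup G) = 2 := by
  rw [relIndex, Subgroup.index_eq_two_iff]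
  refine ⟨⟨s, h.sS⟩⁻¹, fun b => ?_⟩
  rw [mem_subgroupOf, mem_subgroupOf]
  have hbs : ((b * (⟨s, h.sS⟩ : (S : Subgroup G))⁻¹ : (S : Subgroup G)) : G) = b * s⁻¹ := rfl
  rw [hbs]
  have hsB : s ∉ B := fun h1 => h.s_notMem (h.BT h1)
  rcases h.mem_S b.2 with h1 | h1
  · right
    refine ⟨hTB h1, fun h2 => hsB ?_⟩
    have h3 := B.mul_mem (B.inv_mem h2) (hTB h1)
    have h4 : ((b : G) * s⁻¹)⁻¹ * b = s := by group
    rwa [h4] at h3
  · left
    have h2 := hTB (h.sT h1)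
    have h3 : s * (s⁻¹ * (b : G)) * s⁻¹ = b * s⁻¹ := by group
    rw [h3] at h2
    refine ⟨h2, fun h4 => hsB ?_⟩
    have h5 := B.mul_mem (B.inv_mem h2) h4
    have h6 : ((b : G) * s⁻¹)⁻¹ * b = s := by group
    rwa [h6] at h5

/-- **(4)** `T = B` is impossible. -/
theorem false_of_T_le (hTB : T ≤ B) (hG : ∀ N : Subgroup G, N.index ≠ 2)
    (go1 : ∀ d e, Gd D C₁ C₂ d → Gd D C₁ C₂ e → ∃ n ∈ normalizer (B : Set G), n * d * n⁻¹ = e)
    (cent : ∀ z, Gd D C₁ C₂ z → centralizer ({z} : Set G) ≤ normalizer (B : Set G))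
    (fus1 : ∀ x ∈ Q₁, ∃ l : G, l * x * l⁻¹ ∈ D) (fus2 : ∀ x ∈ Q₂, ∃ l : G, l * x * l⁻¹ ∈ D)
    (dich : ∀ x ∈ (S : Subgroup G), x ∉ T → x * x = 1 →
      4 ≤ Nat.card (D ⊓ centralizer ({x} : Set G) : Subgroup G) ∨ Free x D ⊥) : False := by
  have hp : Fact (Nat.Prime 2) := ⟨Nat.prime_two⟩
  have hBS : B ≤ (S : Subgroup G) := h.BT.trans h.TS
  -- an element of least order of `S - B`
  obtain ⟨x, ⟨hxS, hxB⟩, hmin⟩ := Set.exists_min_image {x : G | x ∈ (S : Subgroup G) ∧ x ∉ B} orderOf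
    (Set.toFinite _) ⟨s, h.sS, fun h1 => h.s_notMem (h.BT h1)⟩
  have hxT : x ∉ T := fun h1 => hxB (hTB h1)
  have hsx : s⁻¹ * x ∈ T := (h.mem_S hxS).resolve_left hxT
  obtain ⟨g, hg, -⟩ := ThreePrime.Transfer.exists_conj S hBS (h.relIndex_B hTB) hG hxS hxB
    (fun t ht htB => hmin t ⟨ht, htB⟩)
  have hnot : g ∉ normalizer (B : Set G) := fun h1 => hxB ((mem_normalizer_iff.1 h1 x).2 hg)
  by_cases hxx : x * x = 1
  swap
  · -- `|x| > 2`
    apply hnot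
    have hxxB : x * x ∈ B := by
      apply hTB
      apply h.memT _ ((S : Subgroup G).mul_mem hxS hxS)
      intro a ha
      have h1 := h.swap2 hsx (h.swap1 hsx ha)
      have h2 : x * (x * a * x⁻¹) * x⁻¹ = x * x * a * (x * x)⁻¹ := by group
      rwa [h2] at h1
    have hb : g * x * g⁻¹ * (g * x * g⁻¹) = g * (x * x) * g⁻¹ := by group
    have hbne : g * x * g⁻¹ * (g * x * g⁻¹) ≠ 1 := by
      rw [hb]
      intro h1
      apply hxx
      have h2 : x * x = g⁻¹ * (g * (x * x) * g⁻¹) * g := by group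
      rw [h2, h1]; group
    have hgd := h.sq_good hg hbne
    rw [hb] at hgd
    apply mem_NB go1 cent _ hgd
    apply h.inv_good hsx hxxB _ hxx (by group)
    have h1 := h.sqD hgd.1
    have h2 : x * x * (x * x) = g⁻¹ * (g * (x * x) * g⁻¹ * (g * (x * x) * g⁻¹)) * g := by group
    rw [h2, h1]; group
  · -- `|x| = 2`
    set U : Subgroup G := B ⊓ centralizer ({x} : Set G) with hU
    set W : Subgroup G := (S : Subgroup G) ⊓ centralizer ({x} : Set G) with hW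
    have hcx : ∀ y, y ∈ centralizer ({x} : Set G) ↔ x * y * x⁻¹ = y := by
      intro y
      rw [mem_centralizer_singleton_iff, mul_inv_eq_iff_eq_mul]
      exact eq_comm
    have hUW : U ≤ W := inf_le_inf_right _ hBS
    have hxW : x ∈ W := ⟨hxS, (hcx x).2 (by group)⟩
    have hcoset : ∀ y ∈ W, y ∈ U ∨ x⁻¹ * y ∈ U := by
      rintro y ⟨hyS, hyx⟩
      rcases h.mem_S hyS with h1 | h1
      · exact Or.inl ⟨hTB h1, hyx⟩
      · right
        refine ⟨hTB ?_, (centralizer ({x} : Set G)).mul_mem ((centralizer ({x} : Set G)).inv_mem hxW.2) hyx⟩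
        have h2 := T.mul_mem (T.inv_mem hsx) h1
        have h3 : (s⁻¹ * x)⁻¹ * (s⁻¹ * y) = x⁻¹ * y := by group
        rwa [h3] at h2
    have hxinv : x⁻¹ = x := inv_eq_of_mul_eq_one_right hxx
    -- `N_G(W) ≤ N_G(B)`
    have hNW : ∀ n, (∀ w ∈ W, n * w * n⁻¹ ∈ W) → n ∈ normalizer (B : Set G) := by
      intro n hn
      by_cases hsq : ∃ u ∈ U, u * u ≠ 1
      · obtain ⟨u, hu, hu2⟩ := hsq
        have h1 := h.sq_good hu.1 hu2
        have hv := hn u (hUW hu)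
        have hvv : n * u * n⁻¹ * (n * u * n⁻¹) = n * (u * u) * n⁻¹ := by group
        have hne : n * (u * u) * n⁻¹ ≠ 1 := by
          intro h2
          apply hu2
          have h3 : u * u = n⁻¹ * (n * (u * u) * n⁻¹) * n := by group
          rw [h3, h2]; group
        apply mem_NB go1 cent h1
        rw [← hvv] at hne ⊢
        rcases hcoset _ hv with h2 | h2
        · exact h.sq_good h2.1 hne
        · have h3 := (hcx _).1 h2.2
          have h4 : x⁻¹ * (n * u * n⁻¹) * (x⁻¹ * (n * u * n⁻¹)) = n * u * n⁻¹ * (n * u * n⁻¹) := by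
            have h5 : x * (x⁻¹ * (n * u * n⁻¹)) = x⁻¹ * (n * u * n⁻¹) * x :=
              mul_inv_eq_iff_eq_mul.1 h3
            calc x⁻¹ * (n * u * n⁻¹) * (x⁻¹ * (n * u * n⁻¹))
                = x⁻¹ * (n * u * n⁻¹) * x * (n * u * n⁻¹) := by rw [hxinv]; group
              _ = x * (x⁻¹ * (n * u * n⁻¹)) * (n * u * n⁻¹) := by rw [h5]
              _ = _ := by group
          rw [← h4] at hne ⊢
          exact h.sq_good h2.1 hne
      · push Not at hsq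
        have hUD : U ≤ D := by
          intro u hu
          have hxu := (hcx u).1 hu.2
          rcases h.inv_mem_or hu.1 (hsq u hu) with h1 | h1
          · have h2 := h.swap1 hsx h1
            rw [hxu] at h2
            exact (h.memD u).2 ⟨h1, h2⟩
          · have h2 := h.swap2 hsx h1
            rw [hxu] at h2
            exact (h.memD u).2 ⟨h2, h1⟩
        have hUeq : U = D ⊓ centralizer ({x} : Set G) :=
          le_antisymm (le_inf hUD inf_le_right) (inf_le_inf_right _ h.DB)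
        rcases dich x hxS hxT hxx with h4 | hfr
        · -- `|U| ≥ 4`
          rw [← hUeq] at h4
          let Un : Subgroup G := U.map (MulAut.conj n).toMonoidHom
          have hUn : Nat.card Un = Nat.card U := card_map_conj U n
          have hUnW : Un ≤ W := by
            rintro _ ⟨u, hu, rfl⟩
            exact hn u (hUW hu)
          have hle : Nat.card Un ≤ 2 * Nat.card (Un ⊓ U : Subgroup G) := by
            by_cases hsub : Un ≤ U
            · exact card_le_two_mul Un.one_mem (fun e he => Or.inl ⟨he, hsub he⟩)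
            · obtain ⟨f, hf, hfU⟩ := Set.not_subset.1 hsub
              apply card_le_two_mul hf
              intro e he
              rcases hcoset e (hUnW he) with h5 | h5
              · exact Or.inl ⟨he, h5⟩
              · right
                have h6 := (hcoset f (hUnW hf)).resolve_left hfU
                refine ⟨Un.mul_mem (Un.inv_mem hf) he, ?_⟩
                have h7 := U.mul_mem (U.inv_mem h6) h5
                have h8 : (x⁻¹ * f)⁻¹ * (x⁻¹ * e) = f⁻¹ * e := by group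
                rwa [h8] at h7
          have h5 : 1 < Nat.card (Un ⊓ U : Subgroup G) := by omega
          rw [Subgroup.one_lt_card_iff_ne_bot] at h5
          obtain ⟨⟨d, hd⟩, hd1⟩ := Subgroup.ne_bot_iff_exists_ne_one.1 h5
          have hd1' : d ≠ 1 := fun h6 => hd1 (Subtype.ext h6)
          have hdn : n⁻¹ * d * n ∈ U := mem_map_conj.1 hd.1
          have h6 : Gd D C₁ C₂ d := h.gd_of_swap hsx (hUD hd.2) hd1' ((hcx d).1 hd.2.2)
          have h7 : Gd D C₁ C₂ (n⁻¹ * d * n) := by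
            apply h.gd_of_swap hsx (hUD hdn) _ ((hcx _).1 hdn.2)
            intro h8
            apply hd1'
            have h9 : d = n * (n⁻¹ * d * n) * n⁻¹ := by group
            rw [h9, h8]; group
          have h8 : n⁻¹ ∈ normalizer (B : Set G) := by
            apply mem_NB go1 cent h6
            rw [inv_inv]; exact h7
          have h9 := (normalizer (B : Set G)).inv_mem h8
          rwa [inv_inv] at h9
        · -- `x` acts freely on `D`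
          exfalso
          obtain ⟨a, ha, haD⟩ := h.exists_a
          have ha' := h.swap1 hsx ha
          set a' := x * a * x⁻¹ with ha'def
          have hxa' : x * a' * x⁻¹ = a := by
            calc x * a' * x⁻¹ = x * x * a * (x * x)⁻¹ := by rw [ha'def]; group
              _ = a := by rw [hxx]; group
          have hbB : a * a' ∈ B := B.mul_mem (h.Q1B ha) (h.Q2B ha')
          have hxb : x * (a * a') * x⁻¹ = a' * a := by
            calc x * (a * a') * x⁻¹ = (x * a * x⁻¹) * (x * a' * x⁻¹) := by group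
              _ = a' * a := by rw [hxa']
          set d := (a * a')⁻¹ * (a' * a) with hddef
          have hdD : d ∈ D := by
            have h1 := h.commB (B.inv_mem (h.Q2B ha')) (B.inv_mem (h.Q1B ha))
            have h2 : a'⁻¹ * a⁻¹ * a'⁻¹⁻¹ * a⁻¹⁻¹ = d := by rw [hddef]; group
            rwa [h2] at h1
          have hxb' : x * (a * a') * x⁻¹ = a * a' * d := by rw [hxb, hddef]; group
          have hxd : x * d * x⁻¹ = d := by
            have h1 : x * (x * (a * a') * x⁻¹) * x⁻¹ = a * a' := by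
              calc x * (x * (a * a') * x⁻¹) * x⁻¹ = x * x * (a * a') * (x * x)⁻¹ := by group
                _ = a * a' := by rw [hxx]; group
            rw [hxb'] at h1
            have h2 : a * a' * d * (x * d * x⁻¹) = a * a' := by
              calc a * a' * d * (x * d * x⁻¹) = x * (a * a') * x⁻¹ * (x * d * x⁻¹) := by rw [hxb']
                _ = x * (a * a' * d) * x⁻¹ := by group
                _ = a * a' := h1
            have h3 : d * (x * d * x⁻¹) = 1 := by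
              have h4 : a * a' * (d * (x * d * x⁻¹)) = a * a' := by rw [← mul_assoc]; exact h2
              exact mul_eq_left.1 h4
            have h5 : x * d * x⁻¹ = d⁻¹ := by
              rw [mul_eq_one_iff_inv_eq] at h3; exact h3.symm
            rw [h5, h.inv1 (h.D1 hdD)]
          obtain ⟨u, hu, hu2⟩ := hfr d hdD (by rw [hxd, inv_mul_cancel]; exact one_mem _)
          rw [mem_bot, inv_mul_eq_one] at hu2
          have hxu : x * u * x⁻¹ ∈ D := h.P_D hxS hu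
          have hbu : a * a' * u ∈ U := by
            refine ⟨B.mul_mem hbB (h.DB hu), (hcx _).2 ?_⟩
            calc x * (a * a' * u) * x⁻¹ = x * (a * a') * x⁻¹ * (x * u * x⁻¹) := by group
              _ = a * a' * d * (x * u * x⁻¹) := by rw [hxb']
              _ = a * a' * u * ((x * u * x⁻¹) * (x * u * x⁻¹)) := by rw [hu2]; group
              _ = a * a' * u := by rw [h.sqD hxu, mul_one]
          have h1 := D.mul_mem (hUD hbu) (D.inv_mem hu)
          rw [mul_inv_cancel_right] at h1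
          have h2 := Q₂.mul_mem (h.D2 h1) (Q₂.inv_mem ha')
          rw [mul_inv_cancel_right] at h2
          exact haD ((h.memD a).2 ⟨ha, h2⟩)
    -- `W` is a maximal 2-subgroup of `C_G(x)`
    have hW2 : IsPGroup 2 W := h.two.to_le inf_le_left
    have hWmax : ∀ P : Subgroup G, IsPGroup 2 P → W ≤ P → P ≤ centralizer ({x} : Set G) → P = W := by
      intro P hP hWP hPC
      by_contra hne
      have hlt : W < P := lt_of_le_of_ne hWP (Ne.symm hne)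
      obtain ⟨y, ⟨hyP, hyN⟩, hyW⟩ := Set.exists_of_ssubset (lt_inf_normalizer hP hlt)
      have hle : P ⊓ normalizer (W : Set G) ≤ normalizer (B : Set G) := by
        rintro n ⟨-, hn⟩
        exact hNW n (fun w hw => (mem_normalizer_iff.1 hn w).1 hw)
      have h1 : IsPGroup 2 (B ⊔ (P ⊓ normalizer (W : Set G)) : Subgroup G) :=
        IsPGroup.to_sup_of_normal_left' (h.two.to_le hBS) (hP.to_le inf_le_left) hle
      have h2 : (S : Subgroup G) ≤ B ⊔ (P ⊓ normalizer (W : Set G)) := by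
        intro w hw
        have hxP : x ∈ B ⊔ (P ⊓ normalizer (W : Set G)) :=
          (le_sup_right : P ⊓ normalizer (W : Set G) ≤ _) ⟨hWP hxW, le_normalizer hxW⟩
        rcases h.mem_S hw with h3 | h3
        · exact (le_sup_left : B ≤ _) (hTB h3)
        · have h4 : x⁻¹ * w ∈ B := by
            have h5 := T.mul_mem (T.inv_mem hsx) h3
            have h6 : (s⁻¹ * x)⁻¹ * (s⁻¹ * w) = x⁻¹ * w := by group
            rw [h6] at h5
            exact hTB h5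
          have h5 := (B ⊔ (P ⊓ normalizer (W : Set G))).mul_mem hxP ((le_sup_left : B ≤ _) h4)
          rwa [mul_inv_cancel_left] at h5
      have h3 := S.is_maximal' h1 h2
      have hyS : y ∈ (S : Subgroup G) := by
        rw [← h3]
        exact (le_sup_right : P ⊓ normalizer (W : Set G) ≤ _) ⟨hyP, hyN⟩
      exact hyW ⟨hyS, hPC hyP⟩
    -- a conjugate of `B` lies in `C_G(x)`
    have hb2 : g * x * g⁻¹ * (g * x * g⁻¹) = 1 := by
      calc g * x * g⁻¹ * (g * x * g⁻¹) = g * (x * x) * g⁻¹ := by group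
        _ = 1 := by rw [hxx]; group
    obtain ⟨k, hk⟩ : ∃ k : G, k * x * k⁻¹ ∈ D := by
      rcases h.inv_mem_or hg hb2 with h1 | h1
      · obtain ⟨l, hl⟩ := fus1 _ h1
        refine ⟨l * g, ?_⟩
        have h2 : l * (g * x * g⁻¹) * l⁻¹ = l * g * x * (l * g)⁻¹ := by group
        rwa [h2] at hl
      · obtain ⟨l, hl⟩ := fus2 _ h1
        refine ⟨l * g, ?_⟩
        have h2 : l * (g * x * g⁻¹) * l⁻¹ = l * g * x * (l * g)⁻¹ := by group
        rwa [h2] at hl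
    have hkB : B.map (MulAut.conj k⁻¹).toMonoidHom ≤ centralizer ({x} : Set G) := by
      rintro _ ⟨b, hb, rfl⟩
      rw [hcx]
      have h1 := h.centD hk hb
      show x * (k⁻¹ * b * k⁻¹⁻¹) * x⁻¹ = k⁻¹ * b * k⁻¹⁻¹
      calc x * (k⁻¹ * b * k⁻¹⁻¹) * x⁻¹ = k⁻¹ * ((k * x * k⁻¹) * b) * (k * x * k⁻¹)⁻¹ * k := by group
        _ = k⁻¹ * b * k⁻¹⁻¹ := by rw [h1]; group
    obtain ⟨R, hWR, hRC, hR2, hRi⟩ := exists_sylow_in (p := 2) (N := centralizer ({x} : Set G)) (D := W)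
      inf_le_right hW2
    have hRW : R = W := hWmax R hR2 hWR hRC
    rw [hRW] at hRi
    obtain ⟨n, -, hn⟩ := exists_conj_le_in hW2 hRi hkB ((h.two.to_le hBS).map _)
    have h1 : Nat.card B ≤ Nat.card W := by
      have h2 := Subgroup.card_le_of_le hn
      rwa [card_map_conj, card_map_conj] at h2
    have h2 : Nat.card W ≤ 2 * Nat.card U := card_le_two_mul hxW hcoset
    have h3 := h.card_delta hsx (E := U) inf_le_left (fun e he => by
      rw [(hcx e).1 he.2, mul_inv_cancel]; exact one_mem _)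
    rw [h.card1] at h3
    have h4 : 0 < Nat.card D := Nat.card_pos
    have h5 : 0 < Nat.card U := Nat.card_pos
    have h6 : Nat.card U * q ≤ Nat.card B := by
      apply Nat.le_of_mul_le_mul_right _ h4
      rw [mul_assoc]; exact h3
    have h7 := h.hq
    have h8 : Nat.card U * 4 ≤ Nat.card U * q := Nat.mul_le_mul_left _ h7
    omega

end Base

end

end Cfsg.Agent.Omega.SQ1.End

end

-- merged: Cfsg.Agent.Mrg.Omega.SQ1.EndFin
section

/-!
# The end `k = 1`, `q ≥ 4` (SQ1.7): assembly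

* `Base.cent`: centralizers of good elements lie in `N_G(B)`;
* `Base.false_of`: the configuration does not occur in a simple group, given `T ≤ B`.
-/

set_option autoImplicit false
set_option Elab.async false

namespace Cfsg.Agent.Omega.SQ1.End

open Subgroup Cfsg Cfsg.Agent.ZN Cfsg.Agent.Omega.MinPar

universe u

variable {G : Type u} [Group G]

section

variable {T B Q₁ Q₂ D C₁ C₂ : Subgroup G} {s : G} {q : ℕ}

namespace Base

variable [Finite G] {S : Sylow 2 G} {M : Subgroup G}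
  (h : Base (S : Subgroup G) T B Q₁ Q₂ D C₁ C₂ s q) (g : Glob S M)

include h

/-- Centralizers of good elements lie in `N_G(B)`. -/
theorem cent (g : Glob S M) {K : Subgroup G} (τ : Tor T B D C₁ K)
    (go1 : ∀ d e, Gd D C₁ C₂ d → Gd D C₁ C₂ e → ∃ n ∈ normalizer (B : Set G), n * d * n⁻¹ = e)
    (z : G) (hz : Gd D C₁ C₂ z) : centralizer ({z} : Set G) ≤ normalizer (B : Set G) := by
  obtain ⟨z₀, hz₀, hz₀g⟩ := h.exists_z0
  have hc := mem_zc.1 hz₀
  have h0 : centralizer ({z₀} : Set G) ≤ normalizer (B : Set G) := by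
    rw [← h.M_eq g τ]
    apply g.uni
    apply isLoc_centralizer S hc.2.2 (h.good_ne hz₀g)
    intro x hx
    rw [mem_centralizer_singleton_iff]
    exact hc.2.1 x hx
  obtain ⟨n, hn, rfl⟩ := go1 z₀ z hz₀g hz
  intro c hc
  rw [mem_centralizer_singleton_iff] at hc
  have h1 : n⁻¹ * c * n ∈ centralizer ({z₀} : Set G) := by
    rw [mem_centralizer_singleton_iff]
    calc n⁻¹ * c * n * z₀ = n⁻¹ * (c * (n * z₀ * n⁻¹)) * n := by group
      _ = n⁻¹ * (n * z₀ * n⁻¹ * c) * n := by rw [hc]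
      _ = z₀ * (n⁻¹ * c * n) := by group
  have h2 := (normalizer (B : Set G)).mul_mem ((normalizer (B : Set G)).mul_mem hn (h0 h1))
    ((normalizer (B : Set G)).inv_mem hn)
  have h3 : n * (n⁻¹ * c * n) * n⁻¹ = c := by group
  rwa [h3] at h2

theorem index_ne_two [IsSimpleGroup G] (N : Subgroup G) : N.index ≠ 2 := by
  intro hN
  have hNn : N.Normal := Subgroup.normal_of_index_eq_two hN
  rcases hNn.eq_bot_or_eq_top with h1 | h1
  · rw [h1, Subgroup.index_bot] at hN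
    have h2 : Nat.card Q₁ ≤ Nat.card G := Subgroup.card_le_card_group Q₁
    have h3 := h.card1
    have h4 := h.hq
    have h5 := h.one_lt_D
    rw [h3, hN] at h2
    nlinarith
  · rw [h1, Subgroup.index_top] at hN
    omega

/-- `|D| ≥ q`. -/
theorem q_le_D : q ≤ Nat.card D := by
  obtain ⟨a, ha, haD⟩ := h.exists_a
  -- `b ↦ [a, b]` is injective on `Q₂` modulo `D`
  let φ : Q₂ → D := fun b => ⟨a * b * a⁻¹ * (b : G)⁻¹, h.comm12 ha b.2⟩
  have hmul : ∀ b ∈ Q₂, ∀ c ∈ Q₂, a * b * a⁻¹ * b⁻¹ = a * c * a⁻¹ * c⁻¹ → b⁻¹ * c ∈ D := by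
    intro b hb c hc hbc
    by_contra hno
    have h1 := h.good a ha haD (b⁻¹ * c) (Q₂.mul_mem (Q₂.inv_mem hb) hc) hno
    apply h.good_ne h1
    have h2 : a * (b⁻¹ * c) * a⁻¹ * (b⁻¹ * c)⁻¹ =
        b⁻¹ * (a * b * a⁻¹ * b⁻¹)⁻¹ * (a * c * a⁻¹ * c⁻¹) * b := by group
    rw [h2, ← hbc]; group
  have hinj : Nat.card (Q₂ ⧸ D.subgroupOf Q₂) ≤ Nat.card D := by
    let ψ : Q₂ ⧸ D.subgroupOf Q₂ → D := fun y => φ y.out
    apply Nat.card_le_card_of_injective ψ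
    intro y z hyz
    have h1 : a * (y.out : G) * a⁻¹ * (y.out : G)⁻¹ = a * (z.out : G) * a⁻¹ * (z.out : G)⁻¹ :=
      congrArg Subtype.val hyz
    have h2 := hmul _ y.out.2 _ z.out.2 h1
    rw [← QuotientGroup.out_eq' y, ← QuotientGroup.out_eq' z, QuotientGroup.eq, mem_subgroupOf]
    exact h2
  have h1 : (D.subgroupOf Q₂).index * Nat.card D = Nat.card Q₂ := by
    have h2 := Subgroup.relIndex_mul_relIndex ⊥ D Q₂ bot_le h.D2
    rw [Subgroup.relIndex_bot_left, Subgroup.relIndex_bot_left] at h2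
    rw [← h2, mul_comm]; rfl
  rw [h.card2] at h1
  have h3 := Nat.eq_of_mul_eq_mul_right (Nat.card_pos) h1
  rw [← h3]
  exact hinj

/-- An element of `S` with square 1 acts freely on `D` or centralises at least four elements of `D`. -/
theorem dich {x : G} (hx : x ∈ (S : Subgroup G)) (hxx : x * x = 1) :
    4 ≤ Nat.card (D ⊓ centralizer ({x} : Set G) : Subgroup G) ∨ Free x D ⊥ := by
  set F : Subgroup G := D ⊓ centralizer ({x} : Set G) with hF
  have hcx : ∀ y, y ∈ centralizer ({x} : Set G) ↔ x * y * x⁻¹ = y := by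
    intro y
    rw [mem_centralizer_singleton_iff, mul_inv_eq_iff_eq_mul]
    exact eq_comm
  by_cases h4 : 4 ≤ Nat.card F
  · exact Or.inl h4
  right
  let ν : D →* D :=
    { toFun := fun u => ⟨u * (x * u * x⁻¹), D.mul_mem u.2 (h.P_D hx u.2)⟩
      map_one' := by ext; simp
      map_mul' := by
        intro a b
        ext
        show (a : G) * b * (x * (a * b) * x⁻¹) = a * (x * a * x⁻¹) * (b * (x * b * x⁻¹))
        have h1 := h.c1 _ (h.D1 b.2) _ (h.D1 (h.P_D hx a.2))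
        calc (a : G) * b * (x * (a * b) * x⁻¹) = a * (b * (x * a * x⁻¹)) * (x * b * x⁻¹) := by group
          _ = a * (x * a * x⁻¹) * (b * (x * b * x⁻¹)) := by rw [h1]; group }
  have hker : ν.ker = F.subgroupOf D := by
    ext u
    rw [MonoidHom.mem_ker, mem_subgroupOf]
    constructor
    · intro hu
      have h1 : (u : G) * (x * u * x⁻¹) = 1 := congrArg Subtype.val hu
      refine ⟨u.2, (hcx _).2 ?_⟩
      have h2 := eq_inv_of_mul_eq_one_right h1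
      rw [h2]; exact h.inv1 (h.D1 u.2)
    · rintro ⟨-, hu⟩
      apply Subtype.ext
      show (u : G) * (x * u * x⁻¹) = 1
      rw [(hcx _).1 hu]; exact h.sqD u.2
  have hrange : ν.range ≤ F.subgroupOf D := by
    rintro _ ⟨u, rfl⟩
    rw [mem_subgroupOf]
    refine ⟨(ν u).2, (hcx _).2 ?_⟩
    show x * (u * (x * u * x⁻¹)) * x⁻¹ = u * (x * u * x⁻¹)
    have h1 := h.c1 _ (h.D1 (h.P_D hx u.2)) _ (h.D1 u.2)
    calc x * (u * (x * u * x⁻¹)) * x⁻¹ = (x * u * x⁻¹) * (x * x * u * (x * x)⁻¹) := by group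
      _ = u * (x * u * x⁻¹) := by rw [hxx, one_mul, inv_one, mul_one, h1]
  have hcardF : Nat.card (F.subgroupOf D) = Nat.card F :=
    Nat.card_congr (Subgroup.subgroupOfEquivOfLe inf_le_left).toEquiv
  have h1 : Nat.card F * Nat.card ν.range = Nat.card D := by
    rw [← hcardF, ← hker, ← Subgroup.index_ker, Subgroup.card_mul_index]
  have h2 : Nat.card ν.range ≤ Nat.card F := by
    rw [← hcardF]; exact Subgroup.card_le_of_le hrange
  have h3 := h.q_le_D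
  have h5 := h.hq
  have hp : Fact (Nat.Prime 2) := ⟨Nat.prime_two⟩
  have hF2 : IsPGroup 2 F := h.two.to_le (inf_le_left.trans (h.DB.trans (h.BT.trans h.TS)))
  obtain ⟨m, hm⟩ := IsPGroup.iff_card.1 hF2
  have hD2 : IsPGroup 2 D := h.two.to_le (h.DB.trans (h.BT.trans h.TS))
  obtain ⟨m', hm'⟩ := IsPGroup.iff_card.1 hD2
  have hm1 : m < 2 := by
    by_contra hm2
    apply h4
    rw [hm]
    calc 4 = 2 ^ 2 := by norm_num
      _ ≤ 2 ^ m := Nat.pow_le_pow_right (by norm_num) (by omega)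
  have hF22 : Nat.card F = 2 := by
    rcases Nat.lt_or_ge m 1 with h6 | h6
    · have h7 : m = 0 := by omega
      rw [h7, pow_zero] at hm
      rw [hm] at h1 h2
      omega
    · have h7 : m = 1 := by omega
      rw [h7, pow_one] at hm
      exact hm
  have hr : Nat.card ν.range = 2 := by
    rw [hF22] at h1 h2
    omega
  have heq : ν.range = F.subgroupOf D := by
    apply Subgroup.eq_of_le_of_card_ge hrange
    rw [hcardF, hF22, hr]
  intro d hd hxd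
  have hdF : (⟨d, hd⟩ : D) ∈ F.subgroupOf D := by
    rw [mem_subgroupOf]
    refine ⟨hd, (hcx _).2 ?_⟩
    rw [mem_bot, inv_mul_eq_one] at hxd
    exact hxd.symm
  rw [← heq] at hdF
  obtain ⟨u, hu⟩ := hdF
  refine ⟨u, u.2, ?_⟩
  have h6 : (u : G) * (x * u * x⁻¹) = d := congrArg Subtype.val hu
  rw [h6, inv_mul_cancel]
  exact one_mem _

/-- The end, given `T ≤ B`. -/
theorem false_of_T [IsSimpleGroup G] (g : Glob S M) {K : Subgroup G} (τ : Tor T B D C₁ K)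
    (hTB : T ≤ B)
    (go1 : ∀ d e, Gd D C₁ C₂ d → Gd D C₁ C₂ e → ∃ n ∈ normalizer (B : Set G), n * d * n⁻¹ = e)
    (fus1 : ∀ x ∈ Q₁, ∃ l : G, l * x * l⁻¹ ∈ D) (fus2 : ∀ x ∈ Q₂, ∃ l : G, l * x * l⁻¹ ∈ D) : False :=
  h.false_of_T_le hTB h.index_ne_two go1 (h.cent g τ go1) fus1 fus2 (fun _ hx _ hxx => h.dich hx hxx)

end Base

end

end Cfsg.Agent.Omega.SQ1.End

end

-- merged: Cfsg.Agent.Mrg.Omega.SQ1.End3
section

/-!
# The end `k = 1`, `q ≥ 4` of the unique maximal 2-local case (SQ1.7, #11260), step (3): `T = B`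

`T_le_B`: in the situation `Base` with blocks `L₁`, `L₂` over `Q₁`, `Q₂`, if all good elements `z` satisfy
`C_G(z) ≤ N_G(B)` and `G` is of characteristic 2 type, then `T = B`.
-/

set_option autoImplicit false
set_option Elab.async false

namespace Cfsg.Agent.Omega.SQ1.End3

open Subgroup Cfsg
open Cfsg.Agent.Omega.SQ1.End
open scoped Pointwise

universe u

variable {G : Type u} [Group G]

/-- Sylow's theorem for an involution and a maximal 2-subgroup of a subgroup. -/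
theorem exists_conj_mem [Finite G] {X P : Subgroup G} (hP : IsPGroup 2 P) (hPX : P ≤ X)
    (hmax : ∀ R : Subgroup G, IsPGroup 2 R → P ≤ R → R ≤ X → R ≤ P) {y : G} (hy : y ∈ X)
    (hy2 : y * y = 1) : ∃ g ∈ X, g * y * g⁻¹ ∈ P := by
  have h1 : IsPGroup 2 (P.subgroupOf X) := hP.comap_of_injective _ X.subtype_injective
  obtain ⟨Q, hQ⟩ := h1.exists_le_sylow
  have h2 : (Q : Subgroup X).map X.subtype ≤ P := by
    apply hmax _ (Q.isPGroup'.map _) ?_ (map_subtype_le _)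
    intro x hx
    exact ⟨⟨x, hPX hx⟩, hQ (mem_subgroupOf.2 hx), rfl⟩
  have h3 : IsPGroup 2 (zpowers (⟨y, hy⟩ : X)) := by
    have h4 : (⟨y, hy⟩ : X) ^ 2 = 1 := by
      apply Subtype.ext
      show y ^ 2 = 1
      rw [pow_two]; exact hy2
    rintro ⟨_, i, rfl⟩
    refine ⟨1, ?_⟩
    apply Subtype.ext
    show ((⟨y, hy⟩ : X) ^ i) ^ 2 ^ 1 = 1
    rw [pow_one, ← zpow_natCast, ← zpow_mul, mul_comm, zpow_mul, zpow_natCast, h4, one_zpow]
  obtain ⟨R, hR⟩ := h3.exists_le_sylow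
  obtain ⟨g, hg⟩ := MulAction.exists_smul_eq X R Q
  refine ⟨g, g.2, h2 ?_⟩
  refine ⟨g * ⟨y, hy⟩ * g⁻¹, ?_, rfl⟩
  have h4 : g * ⟨y, hy⟩ * g⁻¹ ∈ (g • R : Sylow 2 X) := by
    have h5 : g * ⟨y, hy⟩ * g⁻¹ = MulAut.conj g • (⟨y, hy⟩ : X) := rfl
    rw [h5]
    exact Subgroup.smul_mem_pointwise_smul _ _ _ (hR (mem_zpowers _))
  rw [hg] at h4
  exact h4

/-- Descent of the square. -/
theorem sq_descent {t : G} {X Y : Subgroup G} (hcom : ∀ a ∈ X, ∀ b ∈ X, a * b * a⁻¹ * b⁻¹ ∈ Y)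
    (htX : ∀ x ∈ X, t * x * t⁻¹ ∈ X) (hfr : Free t X Y) (ht : t * t ∈ X) :
    ∃ u ∈ X, (u⁻¹ * t) * (u⁻¹ * t) ∈ Y := by
  obtain ⟨u, hu, h1⟩ := hfr (t * t) ht (by
    have : (t * t)⁻¹ * (t * (t * t) * t⁻¹) = 1 := by group
    rw [this]; exact one_mem _)
  refine ⟨u, hu, ?_⟩
  have hv := htX u hu
  set v := t * u * t⁻¹ with hvd
  have h2 := Y.inv_mem h1
  have h3 := hcom _ (X.inv_mem hu) _ (X.inv_mem hv)
  have h4 := Y.mul_mem h3 h2
  have h5 : u⁻¹ * v⁻¹ * u⁻¹⁻¹ * v⁻¹⁻¹ * ((t * t)⁻¹ * (u * v))⁻¹ = u⁻¹ * t * (u⁻¹ * t) := by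
    rw [hvd]; group
  rwa [h5] at h4

/-- Descent of the conjugation. -/
theorem conj_descent {y b : G} {X Y : Subgroup G} (hcom : ∀ a ∈ X, ∀ c ∈ Y, a * c * a⁻¹ ∈ Y)
    (hsq : ∀ a ∈ X, a * a ∈ Y) (hyX : ∀ x ∈ X, y * x * y⁻¹ ∈ X) (hfr : Free y X Y) (hy : y * y = 1)
    (hb : b ∈ X) (hby : (b * y) * (b * y) = 1) : ∃ u ∈ X, ∃ c ∈ Y, u⁻¹ * (b * y) * u = c * y := by
  have hyi : y⁻¹ = y := inv_eq_of_mul_eq_one_right hy
  have h1 : y * b * y⁻¹ = b⁻¹ := by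
    rw [hyi, eq_comm, inv_eq_iff_mul_eq_one]
    calc b * (y * b * y) = (b * y) * (b * y) := by group
      _ = 1 := hby
  obtain ⟨u, hu, h2⟩ := hfr b hb (by
    rw [h1]
    have h3 := Y.inv_mem (hsq b hb)
    rwa [mul_inv_rev] at h3)
  refine ⟨u, hu, u⁻¹ * b * (y * u * y⁻¹), ?_, ?_⟩
  · have hv := hyX u hu
    set v := y * u * y⁻¹ with hvd
    have h3 := Y.mul_mem (hcom v hv _ (Y.inv_mem h2)) (hsq v hv)
    have h4 : v * (b⁻¹ * (u * v))⁻¹ * v⁻¹ * (v * v) = u⁻¹ * b * v := by group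
    rwa [h4] at h3
  · rw [hyi]
    calc u⁻¹ * (b * y) * u = u⁻¹ * b * (y * u) := by group
      _ = u⁻¹ * b * (y * u) * (y * y) := by rw [hy, mul_one]
      _ = u⁻¹ * b * (y * u * y) * y := by group

/-- A fixed point outside `Y`. -/
theorem exists_fixed {y : G} {X Y : Subgroup G} (hc : ∀ a ∈ X, ∀ b ∈ X, a * b = b * a)
    (hsq : ∀ a ∈ X, a * a = 1) (hyX : ∀ x ∈ X, y * x * y⁻¹ ∈ X) (hfr : Free y X Y) (hy : y * y = 1)
    (hne : ∃ x ∈ X, x ∉ Y) : ∃ a ∈ X, a ∉ Y ∧ y * a = a * y := by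
  have hfix : ∀ u ∈ X, y * (u * (y * u * y⁻¹)) = u * (y * u * y⁻¹) * y := by
    intro u hu
    have h1 := hc _ hu _ (hyX u hu)
    have h2 : y * (u * (y * u * y⁻¹)) = (y * u * y⁻¹) * (y * y * u * (y * y)⁻¹) * y := by group
    rw [h2, hy, one_mul, inv_one, mul_one, h1]
  by_cases hall : ∀ x ∈ X, x * (y * x * y⁻¹) ∈ Y
  · exfalso
    obtain ⟨x, hx, hxY⟩ := hne
    have hxi : x⁻¹ = x := inv_eq_of_mul_eq_one_right (hsq x hx)
    obtain ⟨u, hu, h1⟩ := hfr x hx (by rw [hxi]; exact hall x hx)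
    apply hxY
    have h2 := Y.mul_mem (hall u hu) (Y.inv_mem h1)
    have h3 : u * (y * u * y⁻¹) * (x⁻¹ * (u * (y * u * y⁻¹)))⁻¹ = x := by group
    rwa [h3] at h2
  · push Not at hall
    obtain ⟨u, hu, h1⟩ := hall
    exact ⟨u * (y * u * y⁻¹), X.mul_mem hu (hyX u hu), h1, hfix u hu⟩

/-- The group `N ∪ yN`, `y` an involution normalising `N`. -/
def ext (N : Subgroup G) {y : G} (hy2 : y * y = 1) (hN : ∀ n ∈ N, y * n * y⁻¹ ∈ N) : Subgroup G where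
  carrier := {x | x ∈ N ∨ y * x ∈ N}
  one_mem' := Or.inl (one_mem _)
  mul_mem' := by
    rintro x x' (hx | hx) (hx' | hx')
    · exact Or.inl (N.mul_mem hx hx')
    · right
      have h1 := N.mul_mem (hN x hx) hx'
      have h2 : y * x * y⁻¹ * (y * x') = y * (x * x') := by group
      rwa [h2] at h1
    · right
      have h1 := N.mul_mem hx hx'
      rwa [mul_assoc] at h1
    · left
      have h1 := N.mul_mem (hN _ hx) hx'
      have h2 : y * (y * x) * y⁻¹ * (y * x') = (y * y) * (x * x') := by group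
      rwa [h2, hy2, one_mul] at h1
  inv_mem' := by
    rintro x (hx | hx)
    · exact Or.inl (N.inv_mem hx)
    · right
      have h1 := hN _ (N.inv_mem hx)
      have h2 : y * (y * x)⁻¹ * y⁻¹ = y * x⁻¹ * (y * y)⁻¹ := by group
      rwa [h2, hy2, inv_one, mul_one] at h1

theorem mem_ext {N : Subgroup G} {y : G} {hy2 : y * y = 1} {hN : ∀ n ∈ N, y * n * y⁻¹ ∈ N} {x : G} :
    x ∈ ext N hy2 hN ↔ x ∈ N ∨ y * x ∈ N := Iff.rfl

/-- A second point of the projective line fixed by an involution. -/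
theorem exists_c [Finite G] {S T B Q D C L N : Subgroup G} (hS : IsPGroup 2 S) (hTS : T ≤ S) (hBT : B ≤ T)
    (b1 : Blk T B Q D C L N) (hcom : ∀ a ∈ B, ∀ b ∈ B, a * b * a⁻¹ * b⁻¹ ∈ Q) (hsq : ∀ a ∈ B, a * a ∈ Q)
    (hQB : Q ≤ B) {y : G} (hy : y ∈ T) (hyB : y ∉ B) (hy2 : y * y = 1) (hyN : ∀ b ∈ B, y * b * y⁻¹ ∈ B)
    (hfr : Free y B Q) (hcj : ∀ b ∈ B, (b * y) * (b * y) = 1 → ∃ u ∈ B, u⁻¹ * (b * y) * u = y) :
    ∃ c ∈ L, c ∉ N ∧ c * y = y * c := by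
  have hyi : y⁻¹ = y := inv_eq_of_mul_eq_one_right hy2
  have hBL : B ≤ L := b1.BN.trans b1.NL
  have hconjQ : ∀ a ∈ B, ∀ x ∈ Q, a * x * a⁻¹ ∈ Q := fun a ha x hx => b1.QL a (hBL ha) x hx
  have hN := b1.TN y hy
  -- `y` is not in `L`
  have hPS : ext B hy2 hyN ≤ S := by
    rintro x (hx | hx)
    · exact hTS (hBT hx)
    · have h1 := S.mul_mem (S.inv_mem (hTS hy)) (hTS (hBT hx))
      rwa [inv_mul_cancel_left] at h1
  have hP : IsPGroup 2 (ext B hy2 hyN) := hS.to_le hPS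
  have hyP : y ∈ ext B hy2 hyN := Or.inr (by rw [hy2]; exact one_mem _)
  have hyL : y ∉ L := by
    intro hyL
    have h1 := b1.syl _ hP (fun x hx => Or.inl hx) (by
      rintro x (hx | hx)
      · exact hBL hx
      · have h1 := L.mul_mem (L.inv_mem hyL) (hBL hx)
        rwa [inv_mul_cancel_left] at h1)
    exact hyB (h1 ▸ hyP)
  have hconjL : ∀ l ∈ L, ∀ x, l * x * l⁻¹ ∈ L → x ∈ L := by
    intro l hl x hx
    have h1 := L.mul_mem (L.mul_mem (L.inv_mem hl) hx) hl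
    have h2 : l⁻¹ * (l * x * l⁻¹) * l = x := by group
    rwa [h2] at h1
  -- a point fixed by `y`
  obtain ⟨l, hl, hlN⟩ := b1.ne
  have hl' : y * l * y⁻¹ ∈ L := b1.TL y hy l hl
  have hlN' : y * l * y⁻¹ ∉ N := by
    intro h1
    have h2 := hN _ h1
    have h3 : y * (y * l * y⁻¹) * y⁻¹ = (y * y) * l * (y * y)⁻¹ := by group
    rw [h3, hy2, one_mul, inv_one, mul_one] at h2
    exact hlN h2
  obtain ⟨b, hb, hn⟩ := b1.tr l hl hlN _ hl' hlN'
  have hbb : y * b * y⁻¹ * b ∈ Q := by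
    apply b1.st _ (B.mul_mem (hyN b hb) hb) l hl hlN
    have h1 := N.inv_mem (N.mul_mem hn (hN _ hn))
    have h3 : (l⁻¹ * b⁻¹ * (y * l * y⁻¹) * (y * (l⁻¹ * b⁻¹ * (y * l * y⁻¹)) * y⁻¹))⁻¹
        = ((y * y) * l * (y * y)⁻¹)⁻¹ * (y * b * y⁻¹ * b) * l := by group
    rw [h3, hy2, one_mul, inv_one, mul_one] at h1
    exact h1
  obtain ⟨u, hu, hq⟩ := hfr b hb (by
    have h1 := hconjQ _ (B.inv_mem hb) _ hbb
    have h2 := Q.mul_mem h1 (Q.inv_mem (hsq b hb))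
    have h3 : b⁻¹ * (y * b * y⁻¹ * b) * b⁻¹⁻¹ * (b * b)⁻¹ = b⁻¹ * (y * b * y⁻¹) := by group
    rwa [h3] at h2)
  have hv := hyN u hu
  have hum : u * l ∈ L := L.mul_mem (hBL hu) hl
  have humN : u * l ∉ N := by
    intro h1
    have h2 := N.mul_mem (N.inv_mem (b1.BN hu)) h1
    rw [inv_mul_cancel_left] at h2
    exact hlN h2
  have hn1 : (u * l)⁻¹ * y * (u * l) * y⁻¹ ∈ N := by
    have h1 : u⁻¹ * (y * u * y⁻¹) * b ∈ Q := by
      have h2 := Q.mul_mem (Q.mul_mem (hcom _ (B.inv_mem hu) _ hv) (hsq _ hv)) (Q.inv_mem hq)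
      have h3 : u⁻¹ * (y * u * y⁻¹) * u⁻¹⁻¹ * (y * u * y⁻¹)⁻¹ * (y * u * y⁻¹ * (y * u * y⁻¹)) *
          (b⁻¹ * (u * (y * u * y⁻¹)))⁻¹ = u⁻¹ * (y * u * y⁻¹) * b := by group
      rwa [h3] at h2
    have h2 := b1.QL _ (L.inv_mem hl) _ h1
    have h3 := N.mul_mem (b1.BN (hQB h2)) hn
    have h4 : l⁻¹ * (u⁻¹ * (y * u * y⁻¹) * b) * l⁻¹⁻¹ * (l⁻¹ * b⁻¹ * (y * l * y⁻¹))
        = (u * l)⁻¹ * y * (u * l) * y⁻¹ := by group
    rwa [h4] at h3
  set m := u * l with hm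
  -- Sylow
  have hy1 : m⁻¹ * y * m * (m⁻¹ * y * m) = 1 := by
    have h1 : m⁻¹ * y * m * (m⁻¹ * y * m) = m⁻¹ * (y * y) * m := by group
    rw [h1, hy2]; group
  have hy1X : m⁻¹ * y * m ∈ ext N hy2 hN := by
    right
    have h1 := hN _ hn1
    have h2 : y * (m⁻¹ * y * m * y⁻¹) * y⁻¹ = y * (m⁻¹ * y * m) * (y * y)⁻¹ := by group
    rwa [h2, hy2, inv_one, mul_one] at h1
  have hmax : ∀ R : Subgroup G, IsPGroup 2 R → ext B hy2 hyN ≤ R → R ≤ ext N hy2 hN →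
      R ≤ ext B hy2 hyN := by
    intro R hR hPR hRX r hr
    have hyR := hPR hyP
    have h1 : R ⊓ L = B := b1.syl _ (hR.to_le inf_le_left)
      (fun x hx => ⟨hPR (Or.inl hx), hBL hx⟩) inf_le_right
    rcases hRX hr with h2 | h2
    · left
      rw [← h1]; exact ⟨hr, b1.NL h2⟩
    · right
      rw [← h1]; exact ⟨R.mul_mem hyR hr, b1.NL h2⟩
  obtain ⟨g, hg, hgP⟩ := exists_conj_mem hP (by
    rintro x (hx | hx)
    · exact Or.inl (b1.BN hx)
    · exact Or.inr (b1.BN hx)) hmax hy1X hy1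
  obtain ⟨n, hn', hnP⟩ : ∃ n ∈ N, n * (m⁻¹ * y * m) * n⁻¹ ∈ ext B hy2 hyN := by
    rcases hg with hg | hg
    · exact ⟨g, hg, hgP⟩
    · refine ⟨y * g, hg, ?_⟩
      have h1 := (ext B hy2 hyN).mul_mem ((ext B hy2 hyN).mul_mem hyP hgP) ((ext B hy2 hyN).inv_mem hyP)
      have h2 : y * (g * (m⁻¹ * y * m) * g⁻¹) * y⁻¹ = y * g * (m⁻¹ * y * m) * (y * g)⁻¹ := by group
      rwa [h2] at h1
  have hk : n * m⁻¹ ∈ L := L.mul_mem (b1.NL hn') (L.inv_mem hum)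
  rcases hnP with h1 | h1
  · exfalso
    apply hyL
    apply hconjL _ hk
    have h2 := hBL h1
    have h3 : n * (m⁻¹ * y * m) * n⁻¹ = n * m⁻¹ * y * (n * m⁻¹)⁻¹ := by group
    rwa [h3] at h2
  · have h2 := hyN _ h1
    have h3 : y * (y * (n * (m⁻¹ * y * m) * n⁻¹)) * y⁻¹ * y = y * y * (n * (m⁻¹ * y * m) * n⁻¹) := by
      group
    rw [hy2, one_mul] at h3
    obtain ⟨w, hw, hw1⟩ := hcj _ h2 (by
      rw [h3]
      have h4 : n * (m⁻¹ * y * m) * n⁻¹ * (n * (m⁻¹ * y * m) * n⁻¹) =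
        n * (m⁻¹ * (y * y) * m) * n⁻¹ := by group
      rw [h4, hy2]; group)
    rw [h3] at hw1
    refine ⟨m * n⁻¹ * w, L.mul_mem (L.mul_mem hum (L.inv_mem (b1.NL hn'))) (hBL hw), ?_, ?_⟩
    · intro h4
      apply humN
      have h5 := N.mul_mem (N.mul_mem h4 (N.inv_mem (b1.BN hw))) hn'
      have h6 : m * n⁻¹ * w * w⁻¹ * n = m := by group
      rwa [h6] at h5
    · have h4 : m * n⁻¹ * w * (w⁻¹ * (n * (m⁻¹ * y * m) * n⁻¹) * w) = y * (m * n⁻¹ * w) := by group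
      rw [hw1] at h4
      exact h4

/-! ### The elements `y`, `a`, `b`, `c₁`, `c₂` -/

section

variable {S T B Q₁ Q₂ D C₁ C₂ : Subgroup G} {s : G} {q : ℕ} [Finite G]

omit [Finite G] in
theorem sqB (h : Base S T B Q₁ Q₂ D C₁ C₂ s q) {x : G} (hx : x ∈ B) : x * x ∈ D := by
  obtain ⟨a, ha, b, hb, rfl⟩ := h.prod x hx
  have h1 := h.comm12 ha hb
  rw [h.inv1 ha, h.inv2 hb] at h1
  have h2 : a * b * (a * b) = a * b * a * b := by group
  rw [h2]; exact h1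

theorem exists_y (h : Base S T B Q₁ Q₂ D C₁ C₂ s q)
    (hfD : ∀ t ∈ T, t ∉ B → t * t ∈ B → Free t D ⊥) (hTB : ¬ T ≤ B) : ∃ y ∈ T, y ∉ B ∧ y * y = 1 := by
  classical
  obtain ⟨t, ht, htB⟩ := Set.not_subset.1 hTB
  have ht : t ∈ T := ht
  have hex : ∃ k : ℕ, t ^ 2 ^ k ∈ B := by
    obtain ⟨k, hk⟩ := h.two ⟨t, h.TS ht⟩
    refine ⟨k, ?_⟩
    have h1 : t ^ 2 ^ k = 1 := by
      have := congrArg Subtype.val hk
      simpa using this
    rw [h1]; exact one_mem _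
  have h0 : Nat.find hex ≠ 0 := by
    intro h0
    have h1 := Nat.find_spec hex
    rw [h0, pow_zero, pow_one] at h1
    exact htB h1
  obtain ⟨k, hk⟩ := Nat.exists_eq_succ_of_ne_zero h0
  have h1 : t ^ 2 ^ k ∉ B := Nat.find_min hex (by omega)
  have h2 : t ^ 2 ^ k * t ^ 2 ^ k ∈ B := by
    have h3 := Nat.find_spec hex
    rw [hk, Nat.succ_eq_add_one, pow_succ, pow_mul, pow_two] at h3
    exact h3
  have h3 : t ^ 2 ^ k ∈ T := T.pow_mem ht _
  generalize t ^ 2 ^ k = r at h1 h2 h3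
  have hnm : ∀ r u : G, r ∈ T → r ∉ B → u ∈ B → u⁻¹ * r ∈ T ∧ u⁻¹ * r ∉ B := by
    intro r u hr hrB hu
    refine ⟨T.mul_mem (h.BT (B.inv_mem hu)) hr, fun h4 => hrB ?_⟩
    have h5 := B.mul_mem hu h4
    rwa [mul_inv_cancel_left] at h5
  obtain ⟨u₁, hu₁, e₁⟩ := sq_descent (t := r) (X := B) (Y := Q₁) (fun a ha b hb => h.D1 (h.commB ha hb))
    (fun x hx => h.S_B (h.TS h3) hx) (h.free1 r h3 h1 h2) h2
  obtain ⟨h3', h1'⟩ := hnm r u₁ h3 h1 hu₁
  generalize u₁⁻¹ * r = r₁ at e₁ h3' h1'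
  obtain ⟨u₂, hu₂, e₂⟩ := sq_descent (t := r₁) (X := Q₁) (Y := D) (fun a ha b hb => by
      rw [h.c1 a ha b hb]; have : b * a * a⁻¹ * b⁻¹ = 1 := by group
      rw [this]; exact one_mem _)
    (h.T1 r₁ h3') (h.free1D r₁ h3' h1' (h.Q1B e₁)) e₁
  obtain ⟨h4', h5'⟩ := hnm r₁ u₂ h3' h1' (h.Q1B hu₂)
  generalize u₂⁻¹ * r₁ = r₂ at e₂ h4' h5'
  obtain ⟨u₃, hu₃, e₃⟩ := sq_descent (t := r₂) (X := D) (Y := ⊥) (fun a ha b hb => by
      rw [h.c1 a (h.D1 ha) b (h.D1 hb)]; have : b * a * a⁻¹ * b⁻¹ = 1 := by group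
      rw [this]; exact one_mem _)
    (fun x hx => h.T_D h4' hx) (hfD r₂ h4' h5' (h.DB e₂)) e₂
  obtain ⟨h6', h7'⟩ := hnm r₂ u₃ h4' h5' (h.DB hu₃)
  exact ⟨u₃⁻¹ * r₂, h6', h7', mem_bot.1 e₃⟩

/-- The involutions of `By` are conjugate. -/
theorem conj_y (h : Base S T B Q₁ Q₂ D C₁ C₂ s q)
    (hfD : ∀ t ∈ T, t ∉ B → t * t ∈ B → Free t D ⊥) {y : G} (hy : y ∈ T) (hyB : y ∉ B) (hy2 : y * y = 1)
    {b : G} (hb : b ∈ B) (hby : (b * y) * (b * y) = 1) : ∃ u ∈ B, u⁻¹ * (b * y) * u = y := by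
  have hyy : y * y ∈ B := by rw [hy2]; exact one_mem _
  have hsqc : ∀ u c : G, ((u⁻¹ * c * u) * (u⁻¹ * c * u)) = u⁻¹ * (c * c) * u := by intro u c; group
  obtain ⟨u₁, hu₁, c₁, hc₁, e₁⟩ := conj_descent (y := y) (X := B) (Y := Q₁)
    (fun a ha c hc => h.conjQ1 ha hc) (fun a ha => h.D1 (sqB h ha)) (fun x hx => h.S_B (h.TS hy) hx)
    (h.free1 y hy hyB hyy) hy2 hb hby
  have f₁ : (c₁ * y) * (c₁ * y) = 1 := by rw [← e₁, hsqc, hby]; group
  obtain ⟨u₂, hu₂, c₂, hc₂, e₂⟩ := conj_descent (y := y) (X := Q₁) (Y := D)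
    (fun a ha c hc => by rw [h.c1 a ha c (h.D1 hc), mul_inv_cancel_right]; exact hc)
    (fun a ha => by rw [h.sq1 a ha]; exact one_mem _) (h.T1 y hy)
    (h.free1D y hy hyB hyy) hy2 hc₁ f₁
  have f₂ : (c₂ * y) * (c₂ * y) = 1 := by rw [← e₂, hsqc, f₁]; group
  obtain ⟨u₃, hu₃, c₃, hc₃, e₃⟩ := conj_descent (y := y) (X := D) (Y := ⊥)
    (fun a ha c hc => by rw [mem_bot.1 hc, mul_one, mul_inv_cancel]; exact one_mem _)
    (fun a ha => by rw [h.sqD ha]; exact one_mem _) (fun x hx => h.T_D hy hx)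
    (hfD y hy hyB hyy) hy2 hc₂ f₂
  refine ⟨u₁ * u₂ * u₃, B.mul_mem (B.mul_mem hu₁ (h.Q1B hu₂)) (h.DB hu₃), ?_⟩
  rw [mem_bot.1 hc₃, one_mul] at e₃
  calc (u₁ * u₂ * u₃)⁻¹ * (b * y) * (u₁ * u₂ * u₃)
      = u₃⁻¹ * (u₂⁻¹ * (u₁⁻¹ * (b * y) * u₁) * u₂) * u₃ := by group
    _ = y := by rw [e₁, e₂, e₃]

theorem exists_c1 {L N : Subgroup G} (h : Base S T B Q₁ Q₂ D C₁ C₂ s q)
    (hfD : ∀ t ∈ T, t ∉ B → t * t ∈ B → Free t D ⊥) (b1 : Blk T B Q₁ D C₁ L N) {y : G}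
    (hy : y ∈ T) (hyB : y ∉ B) (hy2 : y * y = 1) : ∃ c ∈ L, c ∉ N ∧ c * y = y * c :=
  exists_c h.two h.TS h.BT b1 (fun a ha b hb => h.D1 (h.commB ha hb)) (fun a ha => h.D1 (sqB h ha))
    h.Q1B hy hyB hy2 (fun b hb => h.S_B (h.TS hy) hb) (h.free1 y hy hyB (by rw [hy2]; exact one_mem _))
    (fun _ hb hby => conj_y h hfD hy hyB hy2 hb hby)

omit [Finite G] in
/-- `[x, a]` is good for `x ∈ B - D` and a suitable `a`. -/
theorem comm_good (h : Base S T B Q₁ Q₂ D C₁ C₂ s q) {a b x : G} (ha : a ∈ Q₁) (haD : a ∉ D)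
    (hb : b ∈ Q₂) (hbD : b ∉ D) (hx : x ∈ B) (hxD : x ∉ D) :
    Gd D C₁ C₂ (a * x * a⁻¹ * x⁻¹) ∨ Gd D C₁ C₂ (x * b * x⁻¹ * b⁻¹) := by
  obtain ⟨a', ha', b', hb', rfl⟩ := h.prod x hx
  by_cases h1 : b' ∈ D
  · right
    have h2 : a' ∉ D := fun h2 => hxD (D.mul_mem h2 h1)
    have h3 := h.good a' ha' h2 b hb hbD
    have h4 : a' * b' * b * (a' * b')⁻¹ * b⁻¹ = a' * b * a'⁻¹ * b⁻¹ := by
      have h5 : b' * b = b * b' := h.c2 b' hb' b hb
      calc a' * b' * b * (a' * b')⁻¹ * b⁻¹ = a' * (b' * b) * b'⁻¹ * a'⁻¹ * b⁻¹ := by group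
        _ = _ := by rw [h5]; group
    rwa [h4]
  · left
    have h3 := h.good a ha haD b' hb' h1
    have h4 : a * (a' * b') * a⁻¹ * (a' * b')⁻¹ = a * b' * a⁻¹ * b'⁻¹ := by
      have h5 : a * a' = a' * a := h.c1 a ha a' ha'
      have h6 : (a * b' * a⁻¹ * b'⁻¹) * a' = a' * (a * b' * a⁻¹ * b'⁻¹) :=
        h.centD h3.1 (h.Q1B ha')
      calc a * (a' * b') * a⁻¹ * (a' * b')⁻¹ = (a * a') * b' * a⁻¹ * b'⁻¹ * a'⁻¹ := by group
        _ = (a' * (a * b' * a⁻¹ * b'⁻¹)) * a'⁻¹ := by rw [h5]; group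
        _ = _ := by rw [← h6]; group
    rwa [h4]

/-- (3) `T = B`. -/
theorem T_le_B_of (hc : IsCharacteristicTwoType G) {L₁ N₁ L₂ N₂ : Subgroup G}
    (h : Base S T B Q₁ Q₂ D C₁ C₂ s q) (hfD : ∀ t ∈ T, t ∉ B → t * t ∈ B → Free t D ⊥)
    (b1 : Blk T B Q₁ D C₁ L₁ N₁) (b2 : Blk T B Q₂ D C₂ L₂ N₂)
    (hgood : ∀ z, Gd D C₁ C₂ z → centralizer ({z} : Set G) ≤ normalizer (B : Set G)) : T ≤ B := by
  by_contra hTB
  obtain ⟨y, hy, hyB, hy2⟩ := exists_y h hfD hTB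
  have hy1 : y ≠ 1 := fun h1 => hyB (h1 ▸ one_mem _)
  have hyy : y * y ∈ B := by rw [hy2]; exact one_mem _
  obtain ⟨c₁, hc₁, hc₁N, hc₁y⟩ := exists_c1 h hfD b1 hy hyB hy2
  obtain ⟨c₂, hc₂, hc₂N, hc₂y⟩ := exists_c1 h.symm hfD b2 hy hyB hy2
  obtain ⟨a, ha, haD, hya⟩ := exists_fixed h.c1 h.sq1 (h.T1 y hy) (h.free1D y hy hyB hyy) hy2 h.exists_a
  obtain ⟨b, hb, hbD, hyb⟩ := exists_fixed h.c2 h.sq2 (h.T2 y hy) (h.free2D y hy hyB hyy) hy2 h.exists_b
  set z := a * b * a⁻¹ * b⁻¹ with hz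
  have hzg : Gd D C₁ C₂ z := h.good a ha haD b hb hbD
  set H : Subgroup G := centralizer ({y} : Set G) with hH
  have memH : ∀ x, x ∈ H ↔ y * x = x * y := fun x => by rw [hH, mem_centralizer_singleton_iff, eq_comm]
  have haH : a ∈ H := (memH a).2 hya
  have hbH : b ∈ H := (memH b).2 hyb
  have hc₁H : c₁ ∈ H := (memH _).2 hc₁y.symm
  have hc₂H : c₂ ∈ H := (memH _).2 hc₂y.symm
  set R : Subgroup G := ZN.o2 H with hR
  have hR2 : IsPGroup 2 R := MinSimple.VModule.o2_isPGroup H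
  have hRH : R ≤ H := MinSimple.VModule.o2_le H
  have hRn : H ≤ normalizer (R : Set G) := MinSimple.VModule.le_normalizer_o2 H
  have hchar : H ⊓ centralizer (R : Set G) ≤ R :=
    MinSimple.Basic.char2_centralizer hc (by rw [pow_two]; exact hy2) hy1
  have hcj : ∀ g ∈ H, ∀ r ∈ R, g * r * g⁻¹ ∈ R := fun g hg r hr => (mem_normalizer_iff.1 (hRn hg) r).1 hr
  -- (3.1)
  have key : ∀ g ∈ R, Gd D C₁ C₂ g → False := by
    intro g hg hgd
    have h1 := hcj _ hc₂H g hg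
    have h2 : c₂ * g * c₂⁻¹ ∉ D := b2.line g hgd.1 hgd.2.2 c₂ hc₂ hc₂N
    have h3 : c₂ * g * c₂⁻¹ ∈ Q₂ := b2.QL c₂ hc₂ g (h.D2 hgd.1)
    have h4 : c₂ * g * c₂⁻¹ ∉ Q₁ := fun h4 => h2 ((h.memD _).2 ⟨h4, h3⟩)
    exact b1.ti _ (h.Q2B h3) h4 _ (h.Q2B h3) h4 c₁ hc₁ hc₁N R hR2 h1 (hcj _ hc₁H _ h1)
  have key2 : ∀ x ∈ R, x ∈ B → x ∈ D := by
    intro x hx hxB
    by_contra hxD
    rcases comm_good h ha haD hb hbD hxB hxD with h1 | h1
    · refine key _ ?_ h1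
      exact R.mul_mem (hcj a haH x hx) (R.inv_mem hx)
    · refine key _ ?_ h1
      have h2 := R.mul_mem hx (hcj b hbH _ (R.inv_mem hx))
      have h3 : x * (b * x⁻¹ * b⁻¹) = x * b * x⁻¹ * b⁻¹ := by group
      rwa [h3] at h2
  have h31 : ∀ x ∈ R, x ∈ B → x = 1 := by
    intro x hx hxB
    have hxD := key2 x hx hxB
    by_contra hx1
    by_cases h1 : x ∈ C₁
    · have h2 : x ∉ C₂ := fun h2 => hx1 (by
        have h3 : x ∈ C₁ ⊓ C₂ := ⟨h1, h2⟩
        rwa [h.C12, mem_bot] at h3)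
      exact b2.line x hxD h2 c₂ hc₂ hc₂N (key2 _ (hcj _ hc₂H x hx) (h.Q2B (b2.QL c₂ hc₂ x (h.D2 hxD))))
    · exact b1.line x hxD h1 c₁ hc₁ hc₁N (key2 _ (hcj _ hc₁H x hx) (h.Q1B (b1.QL c₁ hc₁ x (h.D1 hxD))))
  -- (3.2)
  have hzH : z ∈ H := H.mul_mem (H.mul_mem (H.mul_mem haH hbH) (H.inv_mem haH)) (H.inv_mem hbH)
  have h32 : ∀ r ∈ R, r * z = z * r → ∀ x ∈ H, x ∈ B → r * x = x * r := by
    intro r hr hrz x hxH hxB
    have h1 : r ∈ normalizer (B : Set G) := hgood z hzg (mem_centralizer_singleton_iff.2 hrz)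
    have h2 : r * x * r⁻¹ * x⁻¹ = 1 := by
      apply h31
      · have h3 := R.mul_mem hr (hcj x hxH _ (R.inv_mem hr))
        have h4 : r * (x * r⁻¹ * x⁻¹) = r * x * r⁻¹ * x⁻¹ := by group
        rwa [h4] at h3
      · exact B.mul_mem ((mem_normalizer_iff.1 h1 x).1 hxB) (B.inv_mem hxB)
    calc r * x = (r * x * r⁻¹ * x⁻¹) * (x * r) := by group
      _ = x * r := by rw [h2, one_mul]
  set Bq : Subgroup G := H ⊓ B with hBq
  set Λ : Subgroup G := Bq ⊔ Bq.map (MulAut.conj c₁).toMonoidHom with hΛ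
  have hΛH : Λ ≤ H := by
    apply sup_le inf_le_left
    rintro _ ⟨x, hx, rfl⟩
    exact H.mul_mem (H.mul_mem hc₁H hx.1) (H.inv_mem hc₁H)
  have hcen := EndThree.central_of (R := R) (Bq := Bq) (Λ := Λ) hR2 (h.two.to_le
    (inf_le_right.trans (h.BT.trans h.TS))) le_sup_left (hΛH.trans hRn) (a := a) (b := b)
    ⟨haH, h.Q1B ha⟩ ⟨hbH, h.Q2B hb⟩ (by
      intro r hr hrz
      have h1 : ∀ x ∈ Bq, r * x = x * r := fun x hx => h32 r hr hrz x hx.1 hx.2
      have h2 : ∀ x ∈ Bq.map (MulAut.conj c₁).toMonoidHom, r * x = x * r := by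
        rintro _ ⟨x, hx, rfl⟩
        show r * (c₁ * x * c₁⁻¹) = c₁ * x * c₁⁻¹ * r
        -- `c₁⁻¹ r c₁` commutes with `z`
        have h3 : c₁⁻¹ * r * c₁ ∈ R := by
          have := hcj _ (H.inv_mem hc₁H) r hr
          rwa [inv_inv] at this
        have hzc : c₁ * z * c₁⁻¹ ∈ Bq :=
          ⟨H.mul_mem (H.mul_mem hc₁H hzH) (H.inv_mem hc₁H), h.Q1B (b1.QL c₁ hc₁ z (h.D1 hzg.1))⟩
        have h4 := h1 _ hzc
        have h5 : c₁⁻¹ * r * c₁ * z = z * (c₁⁻¹ * r * c₁) := by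
          calc c₁⁻¹ * r * c₁ * z = c₁⁻¹ * (r * (c₁ * z * c₁⁻¹)) * c₁ := by group
            _ = z * (c₁⁻¹ * r * c₁) := by rw [h4]; group
        have h6 := h32 _ h3 h5 x hx.1 hx.2
        calc r * (c₁ * x * c₁⁻¹) = c₁ * (c₁⁻¹ * r * c₁ * x) * c₁⁻¹ := by group
          _ = c₁ * x * c₁⁻¹ * r := by rw [h6]; group
      intro l hl
      have h7 : Λ ≤ centralizer ({r} : Set G) :=
        sup_le (fun x hx => mem_centralizer_singleton_iff.2 (h1 x hx).symm)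
          (fun x hx => mem_centralizer_singleton_iff.2 (h2 x hx).symm)
      exact (mem_centralizer_singleton_iff.1 (h7 hl)).symm)
  have hbR : b ∈ R := by
    apply hchar
    refine ⟨hbH, mem_centralizer_iff.2 ?_⟩
    intro r hr
    exact hcen r hr b ((le_sup_left : Bq ≤ Λ) ⟨hbH, h.Q2B hb⟩)
  exact hbD (key2 b hbR (h.Q2B hb))

end

end Cfsg.Agent.Omega.SQ1.End3

end

-- merged: Cfsg.Agent.Mrg.Omega.SQ1.EndAll
section

/-!
# The end `k = 1`, `q ≥ 4` (SQ1.7): plugs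

* `tor_of`: `Tor` from `Base`, `LK` and faithfulness of `T/B` on `D/C₁`;
* `Blk.conj`: the block `L₂ = L₁^s`;
* `Base.false_of_LK`: the end given `T ≤ B`, from `Base`, `Glob`, `LK` and faithfulness;
* `Base.false`: **the end**.
-/

set_option autoImplicit false
set_option Elab.async false

namespace Cfsg.Agent.Omega.SQ1.End

open Subgroup Cfsg Cfsg.Agent.ZN Cfsg.Agent.Omega.MinPar
open Cfsg.Agent.Lib.GoldschmidtFusion (mem_map_conj card_map_conj)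

universe u

variable {G : Type u} [Group G]

section

variable {P T B Q₁ Q₂ D C₁ C₂ L K N : Subgroup G} {s : G} {q : ℕ}

namespace Base

variable [Finite G]

section

variable (h : Base P T B Q₁ Q₂ D C₁ C₂ s q)

include h

/-- `|D : C₁| ≥ 3`: two classes different from `C₁`. -/
theorem exists_two : ∃ x ∈ D, ∃ y ∈ D, x ∉ C₁ ∧ y ∉ C₁ ∧ x⁻¹ * y ∉ C₁ := by
  obtain ⟨a, ha, haD⟩ := h.exists_a
  obtain ⟨b, hb, hbD⟩ := h.exists_b
  -- an element of `Q₂` outside `D ∪ bD`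
  obtain ⟨c, hc, hcD, hbc⟩ : ∃ c ∈ Q₂, c ∉ D ∧ b⁻¹ * c ∉ D := by
    by_contra hcon
    push Not at hcon
    have h1 : Nat.card Q₂ ≤ 2 * Nat.card D := by
      apply card_le_two_mul hb
      intro e he
      by_cases heD : e ∈ D
      · exact Or.inl heD
      · exact Or.inr (hcon e he heD)
    have h2 := h.card2
    have h3 := h.hq
    have h4 : 0 < Nat.card D := Nat.card_pos
    rw [h2] at h1
    nlinarith
  have hb1 := h.good a ha haD b hb hbD
  have hc1 := h.good a ha haD c hc hcD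
  have hbc1 := h.good a ha haD _ (Q₂.mul_mem (Q₂.inv_mem hb) hc) hbc
  refine ⟨_, hb1.1, _, hc1.1, hb1.2.1, hc1.2.1, ?_⟩
  have h2 : a * (b⁻¹ * c) * a⁻¹ * (b⁻¹ * c)⁻¹ =
      b⁻¹ * ((a * b * a⁻¹ * b⁻¹)⁻¹ * (a * c * a⁻¹ * c⁻¹)) * b := by group
  have h3 : (a * b * a⁻¹ * b⁻¹)⁻¹ * (a * c * a⁻¹ * c⁻¹) ∈ D := D.mul_mem (D.inv_mem hb1.1) hc1.1
  have h4 := h.centD h3 (h.Q2B hb)
  rw [h2, mul_assoc, h4, inv_mul_cancel_left] at hbc1
  exact hbc1.2.1

/-- The torus data from a block with torus. -/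
theorem tor_of (k : NSOf.LK B Q₁ D C₁ L K)
    (faith : ∀ t ∈ T, (∀ d ∈ D, d⁻¹ * (t * d * t⁻¹) ∈ C₁) → t ∈ B) : Tor T B D C₁ K where
  KB := k.KB
  KC := by
    intro x hx c hc
    rw [((k.memC c).1 hc).2 x (k.KL hx), mul_inv_cancel_right]
  C1D := by
    intro c hc
    by_contra hcD
    obtain ⟨b, hb, hbD⟩ := h.exists_b
    apply h.good_ne (h.good c ((k.memC c).1 hc).1 hcD b hb hbD)
    rw [← ((k.memC c).1 hc).2 b (k.BL (h.Q2B hb)), mul_inv_cancel_right, mul_inv_cancel]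
  fix := by
    intro d hd hfix
    by_contra hdC
    obtain ⟨x, hx, y, hy, hxC, hyC, hxy⟩ := h.exists_two
    obtain ⟨a, ha, h1⟩ := k.Ktr d hd hdC x hx hxC
    obtain ⟨b, hb, h2⟩ := k.Ktr d hd hdC y hy hyC
    rw [hfix a ha] at h1
    rw [hfix b hb] at h2
    apply hxy
    have h3 := C₁.mul_mem (C₁.inv_mem h2) h1
    have h4 : (d * y⁻¹)⁻¹ * (d * x⁻¹) = x⁻¹ * y := by
      have h5 := h.c1 y (h.D1 hy) x⁻¹ (Q₁.inv_mem (h.D1 hx))
      rw [← h5]; group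
    rwa [h4] at h3
  irr := by
    intro E hED hE hEC d hd
    obtain ⟨e, he, heC⟩ := Set.not_subset.1 hEC
    by_cases hdC : d ∈ C₁
    · exact ⟨1, E.one_mem, by simpa using hdC⟩
    obtain ⟨a, ha, h1⟩ := k.Ktr e (hED he) heC d hd hdC
    refine ⟨a * e * a⁻¹, hE a ha e he, ?_⟩
    have h2 : (a * e * a⁻¹)⁻¹ * d = (a * e * a⁻¹ * d⁻¹)⁻¹ := by
      have h3 := h.c1 d (h.D1 hd) (a * e * a⁻¹)⁻¹ (Q₁.inv_mem (h.D1 (hED (hE a ha e he))))
      rw [← h3]; group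
    rw [h2]; exact C₁.inv_mem h1
  faith := faith

end

section

variable {S : Sylow 2 G} {M : Subgroup G} (h : Base (S : Subgroup G) T B Q₁ Q₂ D C₁ C₂ s q)

include h

/-- `N_G(B)` is transitive on the good elements. -/
theorem go1_of (g : Glob S M) (k : NSOf.LK B Q₁ D C₁ L K)
    (faith : ∀ t ∈ T, (∀ d ∈ D, d⁻¹ * (t * d * t⁻¹) ∈ C₁) → t ∈ B) (d e : G)
    (hd : Gd D C₁ C₂ d) (he : Gd D C₁ C₂ e) : ∃ n ∈ normalizer (B : Set G), n * d * n⁻¹ = e := by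
  have hM := h.M_eq g (h.tor_of k faith)
  exact NSOf.go1 h k (NSOf.hM_of (B := B) (S := S) fun X hX => hM ▸ g.uni X hX) hd he

omit [Finite G] in
/-- Freeness on `D` from the types. -/
theorem freeD_of (types : (C₁ = ⊥ ∧ C₂ = ⊥) ∨ ∀ d ∈ D, ∃ c₁ ∈ C₁, ∃ c₂ ∈ C₂, d = c₁ * c₂) :
    ∀ t ∈ T, t ∉ B → t * t ∈ B → Free t D ⊥ := by
  intro t ht htB ht2
  rcases types with ⟨h1, -⟩ | htyp
  · have h2 := h.freeC1 t ht htB ht2
    rwa [h1] at h2
  have hcomm : ∀ x ∈ D, ∀ y ∈ D, x * y = y * x := fun x hx y hy => h.c1 x (h.D1 hx) y (h.D1 hy)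
  have htD : ∀ x ∈ D, t * x * t⁻¹ ∈ D := fun x hx =>
    (h.memD _).2 ⟨h.T1 t ht x (h.D1 hx), h.T2 t ht x (h.D2 hx)⟩
  have hnorm : ∀ x ∈ D, ∀ y ∈ D, x * y * (t * (x * y) * t⁻¹) = x * (t * x * t⁻¹) * (y * (t * y * t⁻¹)) := by
    intro x hx y hy
    have e := hcomm y hy _ (htD x hx)
    calc x * y * (t * (x * y) * t⁻¹) = x * (y * (t * x * t⁻¹)) * (t * y * t⁻¹) := by group
      _ = _ := by rw [e]; group
  intro d hd hfix
  rw [mem_bot, inv_mul_eq_one] at hfix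
  obtain ⟨c₁, hc₁, c₂, hc₂, rfl⟩ := htyp d hd
  have hc₁D := h.C1D hc₁
  have hc₂D := h.C2D hc₂
  have k1 := h.TC1 t ht c₁ hc₁
  have k2 := h.TC2 t ht c₂ hc₂
  -- both components are fixed
  have e1 : c₁⁻¹ * (t * c₁ * t⁻¹) ∈ C₁ ⊓ C₂ := by
    refine ⟨C₁.mul_mem (C₁.inv_mem hc₁) k1, ?_⟩
    have e2 : c₁⁻¹ * (t * c₁ * t⁻¹) = c₂ * (t * c₂ * t⁻¹)⁻¹ := by
      rw [inv_mul_eq_iff_eq_mul, eq_comm, ← mul_assoc, hfix]
      group
    rw [e2]
    exact C₂.mul_mem hc₂ (C₂.inv_mem k2)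
  rw [h.C12, mem_bot, inv_mul_eq_one] at e1
  have e2 : c₂ = t * c₂ * t⁻¹ := by
    have e3 : c₁ * c₂ = (t * c₁ * t⁻¹) * (t * c₂ * t⁻¹) := by rw [hfix]; group
    rw [← e1] at e3
    exact mul_left_cancel e3
  obtain ⟨u, hu, hu2⟩ := h.freeC2 t ht htB ht2 c₁ hc₁D (by rw [← e1, inv_mul_cancel]; exact one_mem _)
  obtain ⟨v, hv, hv2⟩ := h.freeC1 t ht htB ht2 c₂ hc₂D (by rw [← e2, inv_mul_cancel]; exact one_mem _)
  obtain ⟨u₁, hu₁, u₂, hu₂, rfl⟩ := htyp u hu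
  obtain ⟨v₁, hv₁, v₂, hv₂, rfl⟩ := htyp v hv
  have f1 : c₁⁻¹ * (u₁ * (t * u₁ * t⁻¹)) ∈ C₁ ⊓ C₂ := by
    refine ⟨C₁.mul_mem (C₁.inv_mem hc₁) (C₁.mul_mem hu₁ (h.TC1 t ht _ hu₁)), ?_⟩
    have f2 := hnorm u₁ (h.C1D hu₁) u₂ (h.C2D hu₂)
    rw [f2] at hu2
    have f3 : u₂ * (t * u₂ * t⁻¹) ∈ C₂ := C₂.mul_mem hu₂ (h.TC2 t ht _ hu₂)
    have f4 := C₂.mul_mem hu2 (C₂.inv_mem f3)
    have f5 : c₁⁻¹ * (u₁ * (t * u₁ * t⁻¹) * (u₂ * (t * u₂ * t⁻¹))) * (u₂ * (t * u₂ * t⁻¹))⁻¹ =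
      c₁⁻¹ * (u₁ * (t * u₁ * t⁻¹)) := by group
    rwa [f5] at f4
  have f2 : c₂⁻¹ * (v₂ * (t * v₂ * t⁻¹)) ∈ C₁ ⊓ C₂ := by
    refine ⟨?_, C₂.mul_mem (C₂.inv_mem hc₂) (C₂.mul_mem hv₂ (h.TC2 t ht _ hv₂))⟩
    have g2 := hnorm v₂ (h.C2D hv₂) v₁ (h.C1D hv₁)
    rw [hcomm v₂ (h.C2D hv₂) v₁ (h.C1D hv₁)] at g2
    rw [g2] at hv2
    have f3 : v₁ * (t * v₁ * t⁻¹) ∈ C₁ := C₁.mul_mem hv₁ (h.TC1 t ht _ hv₁)
    have f4 := C₁.mul_mem hv2 (C₁.inv_mem f3)
    have f5 : c₂⁻¹ * (v₂ * (t * v₂ * t⁻¹) * (v₁ * (t * v₁ * t⁻¹))) * (v₁ * (t * v₁ * t⁻¹))⁻¹ =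
      c₂⁻¹ * (v₂ * (t * v₂ * t⁻¹)) := by group
    rwa [f5] at f4
  rw [h.C12, mem_bot, inv_mul_eq_one] at f1 f2
  refine ⟨u₁ * v₂, D.mul_mem (h.C1D hu₁) (h.C2D hv₂), ?_⟩
  rw [hnorm u₁ (h.C1D hu₁) v₂ (h.C2D hv₂), ← f1, ← f2, inv_mul_cancel]
  exact one_mem _

/-- Freeness on `D`. -/
theorem freeD (g : Glob S M) (k : NSOf.LK B Q₁ D C₁ L K)
    (faith : ∀ t ∈ T, (∀ d ∈ D, d⁻¹ * (t * d * t⁻¹) ∈ C₁) → t ∈ B) :
    ∀ t ∈ T, t ∉ B → t * t ∈ B → Free t D ⊥ := by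
  have hM := h.M_eq g (h.tor_of k faith)
  exact h.freeD_of (NSOf.types h k (NSOf.hM_of (B := B) (S := S) fun X hX => hM ▸ g.uni X hX))

/-- The end, given `T ≤ B`. -/
theorem false_of_LK [IsSimpleGroup G] (g : Glob S M) (k : NSOf.LK B Q₁ D C₁ L K)
    (faith : ∀ t ∈ T, (∀ d ∈ D, d⁻¹ * (t * d * t⁻¹) ∈ C₁) → t ∈ B) (hTB : T ≤ B) : False := by
  have fus1 : ∀ x ∈ Q₁, ∃ l : G, l * x * l⁻¹ ∈ D := fun x hx => by
    obtain ⟨l, -, hl⟩ := k.fus x hx
    exact ⟨l, hl⟩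
  have fus2 : ∀ x ∈ Q₂, ∃ l : G, l * x * l⁻¹ ∈ D := fun x hx => by
    obtain ⟨l, hl⟩ := fus1 _ (h.s2 x hx)
    refine ⟨l * s, ?_⟩
    have h1 : l * (s * x * s⁻¹) * l⁻¹ = l * s * x * (l * s)⁻¹ := by group
    rwa [h1] at hl
  exact h.false_of_T g (h.tor_of k faith) hTB (h.go1_of g k faith) fus1 fus2

end

end Base

/-- The conjugate by `s` of a block. -/
theorem Blk.conj [Finite G] (h : Base P T B Q₁ Q₂ D C₁ C₂ s q) (b : Blk T B Q₁ D C₁ L N) :
    Blk T B Q₂ D C₂ (L.map (MulAut.conj s).toMonoidHom) (N.map (MulAut.conj s).toMonoidHom) := by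
  have hB : ∀ x ∈ B, s * x * s⁻¹ ∈ B := fun x hx => h.S_B h.sS hx
  have hB' := inv_conj_mem hB
  have hD : ∀ x ∈ D, s * x * s⁻¹ ∈ D := fun x hx => (h.memD _).2 ⟨h.s2 x (h.D2 hx), h.s1 x (h.D1 hx)⟩
  have hD' := inv_conj_mem hD
  refine ⟨?_, map_mono b.NL, ?_, ?_, ?_, ?_, ?_, ?_, ?_, ?_, ?_, ?_⟩
  · intro x hx
    exact mem_map_conj.2 (b.BN (hB' x hx))
  · rintro _ ⟨l, hl, rfl⟩ x hx
    have h1 := h.s1 _ (b.QL l hl _ (h.s1' hx))
    have h2 : s * (l * (s⁻¹ * x * s) * l⁻¹) * s⁻¹ = s * l * s⁻¹ * x * (s * l * s⁻¹)⁻¹ := by group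
    rwa [h2] at h1
  · rintro t ht _ ⟨l, hl, rfl⟩
    rw [mem_map_conj]
    have h1 := b.TL _ (h.sT' ht) l hl
    have h2 : s⁻¹ * (t * (s * l * s⁻¹) * t⁻¹) * s = s⁻¹ * t * s * l * (s⁻¹ * t * s)⁻¹ := by group
    show s⁻¹ * (t * (s * l * s⁻¹) * t⁻¹) * s ∈ L
    rw [h2]; exact h1
  · rintro t ht _ ⟨l, hl, rfl⟩
    rw [mem_map_conj]
    have h1 := b.TN _ (h.sT' ht) l hl
    have h2 : s⁻¹ * (t * (s * l * s⁻¹) * t⁻¹) * s = s⁻¹ * t * s * l * (s⁻¹ * t * s)⁻¹ := by group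
    show s⁻¹ * (t * (s * l * s⁻¹) * t⁻¹) * s ∈ N
    rw [h2]; exact h1
  · intro R hR hBR hRL
    have h1 : R.map (MulAut.conj s⁻¹).toMonoidHom = B := by
      apply b.syl _ (hR.map _)
      · intro x hx
        rw [mem_map_conj, inv_inv]
        exact hBR (hB x hx)
      · rintro _ ⟨r, hr, rfl⟩
        have h2 := mem_map_conj.1 (hRL hr)
        show s⁻¹ * r * s⁻¹⁻¹ ∈ L
        rw [inv_inv]; exact h2
    have h2 : Nat.card R = Nat.card B := by rw [← h1, card_map_conj]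
    exact (Subgroup.eq_of_le_of_card_ge hBR h2.le).symm
  · obtain ⟨l, hl, hlN⟩ := b.ne
    refine ⟨s * l * s⁻¹, ⟨l, hl, rfl⟩, fun h1 => hlN ?_⟩
    have h2 := mem_map_conj.1 h1
    have h3 : s⁻¹ * (s * l * s⁻¹) * s = l := by group
    rwa [h3] at h2
  · rintro _ ⟨l, hl, rfl⟩ hlN _ ⟨l', hl', rfl⟩ hlN'
    have hl0 : l ∉ N := fun h1 => hlN ⟨l, h1, rfl⟩
    have hl0' : l' ∉ N := fun h1 => hlN' ⟨l', h1, rfl⟩
    obtain ⟨c, hc, hcN⟩ := b.tr l hl hl0 l' hl' hl0'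
    refine ⟨s * c * s⁻¹, hB c hc, ?_⟩
    rw [mem_map_conj]
    have h1 : s⁻¹ * ((s * l * s⁻¹)⁻¹ * (s * c * s⁻¹)⁻¹ * (s * l' * s⁻¹)) * s = l⁻¹ * c⁻¹ * l' := by
      group
    show s⁻¹ * ((s * l * s⁻¹)⁻¹ * (s * c * s⁻¹)⁻¹ * (s * l' * s⁻¹)) * s ∈ N
    rw [h1]; exact hcN
  · rintro x hx _ ⟨l, hl, rfl⟩ hlN hxN
    have hl0 : l ∉ N := fun h1 => hlN ⟨l, h1, rfl⟩
    have h1 : l⁻¹ * (s⁻¹ * x * s) * l ∈ N := by
      have h2 := mem_map_conj.1 hxN
      have h3 : s⁻¹ * ((s * l * s⁻¹)⁻¹ * x * (s * l * s⁻¹)) * s = l⁻¹ * (s⁻¹ * x * s) * l := by group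
      have h4 : s⁻¹ * ((s * l * s⁻¹)⁻¹ * x * (s * l * s⁻¹)) * s ∈ N := h2
      rwa [h3] at h4
    have h5 := h.s1 _ (b.st _ (hB' x hx) l hl hl0 h1)
    have h6 : s * (s⁻¹ * x * s) * s⁻¹ = x := by group
    rwa [h6] at h5
  · rintro x hx hxQ y hy hyQ _ ⟨l, hl, rfl⟩ hlN R hR hxR hyR
    have hl0 : l ∉ N := fun h1 => hlN ⟨l, h1, rfl⟩
    have e1 : s⁻¹ * x * s ∉ Q₁ := fun h1 => hxQ (by
      have h2 := h.s1 _ h1
      have h3 : s * (s⁻¹ * x * s) * s⁻¹ = x := by group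
      rwa [h3] at h2)
    have e2 : s⁻¹ * y * s ∉ Q₁ := fun h1 => hyQ (by
      have h2 := h.s1 _ h1
      have h3 : s * (s⁻¹ * y * s) * s⁻¹ = y := by group
      rwa [h3] at h2)
    refine b.ti _ (hB' x hx) e1 _ (hB' y hy) e2 l hl hl0 (R.map (MulAut.conj s⁻¹).toMonoidHom) (hR.map _)
      ?_ ?_
    · rw [mem_map_conj, inv_inv]
      have h3 : s * (s⁻¹ * x * s) * s⁻¹ = x := by group
      rw [h3]; exact hxR
    · rw [mem_map_conj, inv_inv]
      have h3 : s * (l * (s⁻¹ * y * s) * l⁻¹) * s⁻¹ = s * l * s⁻¹ * y * (s * l * s⁻¹)⁻¹ := by group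
      rw [h3]; exact hyR
  · rintro d hd hdC _ ⟨l, hl, rfl⟩ hlN hD2
    have hl0 : l ∉ N := fun h1 => hlN ⟨l, h1, rfl⟩
    have e1 : s⁻¹ * d * s ∉ C₁ := fun h1 => hdC (by
      have h2 := h.sC1 _ h1
      have h3 : s * (s⁻¹ * d * s) * s⁻¹ = d := by group
      rwa [h3] at h2)
    refine b.line _ (hD' d hd) e1 l hl hl0 ?_
    have h1 := hD' _ hD2
    have h2 : s⁻¹ * (s * l * s⁻¹ * d * (s * l * s⁻¹)⁻¹) * s = l * (s⁻¹ * d * s) * l⁻¹ := by group
    have h3 : s⁻¹ * (s * l * s⁻¹ * d * (s * l * s⁻¹)⁻¹) * s ∈ D := h1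
    rwa [h2] at h3
  · intro x hx
    obtain ⟨l, hl, hlD⟩ := b.fus _ (h.s1' hx)
    refine ⟨s * l * s⁻¹, ⟨l, hl, rfl⟩, ?_⟩
    have h1 := hD _ hlD
    have h2 : s * (l * (s⁻¹ * x * s) * l⁻¹) * s⁻¹ = s * l * s⁻¹ * x * (s * l * s⁻¹)⁻¹ := by group
    rwa [h2] at h1

/-- **The end of the case `k = 1`, `q ≥ 4`** of the unique maximal 2-local case: the configuration does
not occur in a simple group of characteristic 2 type. -/
theorem Base.false [Finite G] [IsSimpleGroup G] {S : Sylow 2 G} {M : Subgroup G}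
    (h : Base (S : Subgroup G) T B Q₁ Q₂ D C₁ C₂ s q) (g : Glob S M) (k : NSOf.LK B Q₁ D C₁ L K)
    (b : Blk T B Q₁ D C₁ L N) (faith : ∀ t ∈ T, (∀ d ∈ D, d⁻¹ * (t * d * t⁻¹) ∈ C₁) → t ∈ B) :
    False :=
  h.false_of_LK g k faith (End3.T_le_B_of g.c2t h (h.freeD g k faith) b (b.conj h)
    (h.cent g (h.tor_of k faith) (h.go1_of g k faith)))

end

end Cfsg.Agent.Omega.SQ1.End

end

-- merged: Cfsg.Agent.Mrg.Omega.SQ1.MidEnd
section

section


/-!
# SQ1, one block, `b = 1`, `q ≥ 4`: the producer of `End.Base`, `End.Blk`, `NSOf.LK`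
-/

set_option autoImplicit false
set_option linter.unusedSectionVars false
set_option linter.unusedVariables false

namespace Cfsg.Agent.Omega.SQ1.MidOne

open Subgroup Cfsg Cfsg.Agent.ZN Cfsg.Agent.ZN.ChoiceBase
open Cfsg.Agent.Omega.NatPair Cfsg.Agent.Lib.SL2Mat
open Cfsg.Agent.Omega.SQ1.FFOne Cfsg.Agent.Omega.SQ1.End
open scoped Pointwise

universe u

variable {G : Type u} [Group G]

/-- the stabiliser of the line `Z` -/
def NN (L Z : Subgroup G) : Subgroup G := L ⊓ normalizer (Z : Set G)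

section

variable {F : Type*} [Field F] (x : Matrix.SpecialLinearGroup (Fin 2) F)

theorem inv_00 : ent x⁻¹ 0 0 = ent x 1 1 := by rw [ent_inv, mk_00]
theorem inv_01 : ent x⁻¹ 0 1 = - ent x 0 1 := by rw [ent_inv, mk_01]
theorem inv_10 : ent x⁻¹ 1 0 = - ent x 1 0 := by rw [ent_inv, mk_10]
theorem inv_11 : ent x⁻¹ 1 1 = ent x 0 0 := by rw [ent_inv, mk_11]

end

namespace Mid

variable {F : Type*} [Field F] {H T B Y Z C L : Subgroup G} {s : G}
variable (M : Mid F H T B Y Z C L s)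

include M

theorem smem {X : Subgroup G} {x : G} (hx : x ∈ X) : s * x * s⁻¹ ∈ cj s X := by
  rw [mem_cj]
  have e : s⁻¹ * (s * x * s⁻¹) * s = x := by group
  rwa [e]

theorem ssY {y : G} (hy : y ∈ Y) : s * s * y * (s * s)⁻¹ ∈ Y := M.TY M.ss hy

theorem ssC {y : G} (hy : y ∈ C) : s * s * y * (s * s)⁻¹ ∈ C := M.V0n _ (M.TH M.ss) y hy

/-- `Y ∩ Y^s = Z` -/
theorem mem_Z_iff [Finite G] {x : G} : x ∈ Z ↔ x ∈ Y ∧ x ∈ cj s Y := by
  constructor
  · intro hx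
    exact ⟨M.ZY hx, by rw [mem_cj]; exact M.ZY (M.sZ' hx)⟩
  · rintro ⟨h1, h2⟩
    rw [mem_cj] at h2
    have h3 := M.inf _ h2 (by
      have e : s * (s⁻¹ * x * s) * s⁻¹ = x := by group
      rwa [e])
    have h4 := M.sZ _ h3
    have e : s * (s⁻¹ * x * s) * s⁻¹ = x := by group
    rwa [e] at h4

theorem comm_YB {a b : G} (ha : a ∈ Y) (hb : b ∈ B) :
    M.π (a * b * a⁻¹ * b⁻¹) = ![- (M.β b * M.π a 1), 0] := by
  have e : a * b * a⁻¹ * b⁻¹ = a * (b * a⁻¹ * b⁻¹) := by group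
  have h1 := M.LY (M.BL hb) (inv_mem ha)
  rw [e, M.map_mul a ha _ h1, M.β_spec hb (inv_mem ha), M.map_inv ha]
  apply NatPair.ext2
  · rw [Pi.add_apply, M.ap_up_zero, Pi.neg_apply, Pi.neg_apply]
    show _ = - (M.β b * M.π a 1)
    ring
  · rw [Pi.add_apply, M.ap_up_one, Pi.neg_apply]
    show _ = (0 : F)
    ring

theorem comm_YB_mem {a b : G} (ha : a ∈ Y) (hb : b ∈ B) : a * b * a⁻¹ * b⁻¹ ∈ Z := by
  have e : a * b * a⁻¹ * b⁻¹ = a * (b * a⁻¹ * b⁻¹) := by group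
  have h1 : a * b * a⁻¹ * b⁻¹ ∈ Y := by
    rw [e]; exact mul_mem ha (M.LY (M.BL hb) (inv_mem ha))
  apply M.π_mem_Z h1
  rw [M.comm_YB ha hb]
  rfl

theorem comm_notMem {a b : G} (ha : a ∈ Y) (haZ : a ∉ Z) (hb : b ∈ B) (hbY : b ∉ Y) :
    a * b * a⁻¹ * b⁻¹ ∉ C := by
  intro h
  have h1 := M.comm_YB ha hb
  rw [(M.ker _ (M.CY h)).2 h] at h1
  have h2 := congrFun h1 0
  simp only [Pi.zero_apply, Matrix.cons_val_zero] at h2
  have h3 : M.β b * M.π a 1 = 0 := by linear_combination h2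
  rcases mul_eq_zero.1 h3 with h4 | h4
  · exact hbY ((M.β_zero_iff hb).1 h4)
  · exact haZ (M.π_mem_Z ha h4)

theorem card_YZ [Finite G] : Nat.card Y = Nat.card F * Nat.card Z := by
  rw [mul_comm]
  refine card_of_map (fun v => M.π v 1) ?_ M.ZY ?_ ?_
  · intro v hv w hw
    show M.π (v * w) 1 = _
    rw [M.map_mul v hv w hw]; rfl
  · intro v hv
    exact (M.Zpi v hv).symm
  · intro c
    obtain ⟨v, hv, e⟩ := M.surj ![0, c]
    exact ⟨v, hv, by show M.π v 1 = c; rw [e]; rfl⟩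

theorem card_ZC [Finite G] : Nat.card Z = Nat.card F * Nat.card C := by
  rw [mul_comm]
  refine card_of_map (fun v => M.π v 0) ?_ M.CZ ?_ ?_
  · intro v hv w hw
    show M.π (v * w) 0 = _
    rw [M.map_mul v (M.ZY hv) w (M.ZY hw)]; rfl
  · intro v hv
    rw [← M.ker v (M.ZY hv)]
    constructor
    · intro h
      exact NatPair.ext2 h ((M.Zpi v (M.ZY hv)).1 hv)
    · intro h
      show M.π v 0 = 0
      rw [h]; rfl
  · intro c
    obtain ⟨v, hv, e⟩ := M.surj ![c, 0]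
    exact ⟨v, M.π_mem_Z hv (by rw [e]; rfl), by show M.π v 0 = c; rw [e]; rfl⟩

theorem prod' [Finite G] (x : G) (hx : x ∈ B) : ∃ a ∈ Y, ∃ b ∈ cj s Y, x = a * b := by
  obtain ⟨y, hy, y', hy', rfl⟩ := M.prod x hx
  exact ⟨y, hy, _, M.smem hy', rfl⟩

theorem cjYB [Finite G] : cj s Y ≤ B := by
  rw [← M.cjB]
  exact cj_mono s M.YB

theorem sY2 [Finite G] {x : G} (hx : x ∈ cj s Y) : s * x * s⁻¹ ∈ Y := by
  rw [mem_cj] at hx
  have h1 := M.ssY hx
  have e : s * s * (s⁻¹ * x * s) * (s * s)⁻¹ = s * x * s⁻¹ := by group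
  rwa [e] at h1

theorem sC2 [Finite G] {x : G} (hx : x ∈ cj s C) : s * x * s⁻¹ ∈ C := by
  rw [mem_cj] at hx
  have h1 := M.ssC hx
  have e : s * s * (s⁻¹ * x * s) * (s * s)⁻¹ = s * x * s⁻¹ := by group
  rwa [e] at h1

theorem sY1' [Finite G] {x : G} (hx : x ∈ Y) : s⁻¹ * x * s ∈ cj s Y := by
  rw [mem_cj]
  have h1 := M.TY (inv_mem M.ss) hx
  have e : (s * s)⁻¹ * x * (s * s)⁻¹⁻¹ = s⁻¹ * (s⁻¹ * x * s) * s := by
    simp only [mul_inv_rev, inv_inv, mul_assoc]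
  rwa [e] at h1

theorem good' [Finite G] {a b : G} (ha : a ∈ Y) (haZ : a ∉ Z) (hb : b ∈ cj s Y) (hbZ : b ∉ Z) :
    Gd Z C (cj s C) (a * b * a⁻¹ * b⁻¹) := by
  have hbB := M.cjYB hb
  refine ⟨M.comm_YB_mem ha hbB, M.comm_notMem ha haZ hbB ?_, ?_⟩
  · intro h
    exact hbZ (M.mem_Z_iff.2 ⟨h, hb⟩)
  · rw [mem_cj] at hb ⊢
    intro h
    have h1 : s⁻¹ * b * s ∉ Z := fun h2 => hbZ (by
      have h3 := M.sZ _ h2
      have e : s * (s⁻¹ * b * s) * s⁻¹ = b := by group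
      rwa [e] at h3)
    have ha' := M.sY1' ha
    have h2 : s⁻¹ * a * s ∉ Y := by
      intro h3
      apply haZ
      have h4 := M.mem_Z_iff.2 ⟨h3, ha'⟩
      have h5 := M.sZ _ h4
      have e : s * (s⁻¹ * a * s) * s⁻¹ = a := by group
      rwa [e] at h5
    have h3 := M.comm_notMem hb h1 (M.cjYB ha') h2
    apply h3
    have h4 := inv_mem h
    have e : (s⁻¹ * (a * b * a⁻¹ * b⁻¹) * s)⁻¹ =
      s⁻¹ * b * s * (s⁻¹ * a * s) * (s⁻¹ * b * s)⁻¹ * (s⁻¹ * a * s)⁻¹ := by group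
    rwa [e] at h4

/-- **`End.Base`** -/
theorem base [Finite G] [Finite F] [CharP F 2] {S : Subgroup G} (hS : IsPGroup 2 S) (hTS : T ≤ S)
    (hs : s ∈ S) (hNS : ∀ x ∈ S, (∀ a ∈ Y, x * a * x⁻¹ ∈ Y) → x ∈ T) (hq : 4 ≤ Nat.card F) :
    Base S T B Y (cj s Y) Z C (cj s C) s (Nat.card F) where
  two := hS
  c1 := M.Ycomm
  c2 := by
    rintro _ ⟨x, hx, rfl⟩ _ ⟨y, hy, rfl⟩
    rw [← map_mul, M.Ycomm x hx y hy, map_mul]
  sq1 := M.Ysq
  sq2 := by
    rintro _ ⟨x, hx, rfl⟩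
    rw [← map_mul, M.Ysq x hx, map_one]
  memD := fun x => M.mem_Z_iff
  Q1B := M.YB
  Q2B := M.cjYB
  prod := M.prod'
  good := fun a ha haD b hb hbD => M.good' ha haD hb hbD
  C12 := by
    rw [eq_bot_iff]
    rintro x ⟨h1, h2⟩
    rw [mem_bot]
    have h3 := M.CC x h1 (M.sC2 h2)
    exact h3
  card1 := M.card_YZ
  card2 := by rw [card_cj]; exact M.card_YZ
  hq := hq
  BT := M.BT
  TS := hTS
  sS := hs
  s1 := fun x hx => M.smem hx
  s2 := fun x hx => M.sY2 hx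
  sC1 := fun x hx => M.smem hx
  sC2 := fun x hx => M.sC2 hx
  T1 := fun t ht x hx => M.TY ht hx
  T2 := by
    intro t ht x hx
    rw [mem_cj] at hx ⊢
    have h1 := M.TY (M.sT' ht) hx
    have e : s⁻¹ * t * s * (s⁻¹ * x * s) * (s⁻¹ * t * s)⁻¹ = s⁻¹ * (t * x * t⁻¹) * s := by group
    rwa [e] at h1
  TC1 := fun t ht x hx => M.V0n t (M.TH ht) x hx
  TC2 := by
    intro t ht x hx
    rw [mem_cj] at hx ⊢
    have h1 := M.V0n _ (M.TH (M.sT' ht)) _ hx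
    have e : s⁻¹ * t * s * (s⁻¹ * x * s) * (s⁻¹ * t * s)⁻¹ = s⁻¹ * (t * x * t⁻¹) * s := by group
    rwa [e] at h1
  memT := hNS
  free1 := fun t ht h1 h2 => M.free_BY ht h1 h2
  free2 := fun t ht h1 h2 => M.free_BY' ht h1 h2
  free1D := fun t ht h1 h2 => M.free_YZ ht h1 h2
  free2D := fun t ht h1 h2 => M.free_YZ' ht h1 h2
  freeC1 := fun t ht h1 h2 => M.free_ZC ht h1 h2
  freeC2 := fun t ht h1 h2 => M.free_ZC' ht h1 h2
  C1D := M.CZ
  C2D := by
    rw [← M.cjZ]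
    exact cj_mono s M.CZ
  cardC1 := M.card_ZC
  cardC2 := by rw [card_cj]; exact M.card_ZC
  cenD := by
    intro t ht h
    exact M.cent t ht fun z hz => mul_inv_eq_iff_eq_mul.1 (h z hz)
  uniq := M.uniq

/-- `T` acts faithfully on `Z / C` modulo `B`. -/
theorem faith [Finite G] [Finite F] [CharP F 2] (t : G) (ht : t ∈ T)
    (h : ∀ d ∈ Z, d⁻¹ * (t * d * t⁻¹) ∈ C) : t ∈ B := by
  obtain ⟨σ, a, d, hw⟩ := M.exists_tw ht
  have key : ∀ x : F, a * σ x = x := by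
    intro x
    obtain ⟨z, hz, e⟩ := M.surj ![x, 0]
    have hzZ : z ∈ Z := M.π_mem_Z hz (by rw [e]; rfl)
    have htz := M.TY ht hz
    have h1 := congrFun ((M.ker _ (mul_mem (inv_mem hz) htz)).2 (h z hzZ)) 0
    rw [M.map_mul _ (inv_mem hz) _ htz, M.map_inv hz, Pi.add_apply, Pi.neg_apply, hw.zero z hzZ, e] at h1
    have h2 : -x + a * σ x = 0 := h1
    linear_combination h2
  have h1 := key 1
  rw [map_one, mul_one] at h1
  subst h1
  have h2 : σ = RingEquiv.refl F := by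
    ext x
    have h3 := key x
    rw [one_mul] at h3
    exact h3
  subst h2
  exact M.mem_B ht hw

/-! ### The block -/

theorem ind_conj {l x : G} (hl : l ∈ L) (hx : x ∈ L) {A X : Matrix.SpecialLinearGroup (Fin 2) F}
    (hA : M.Ind l A) (hX : M.Ind x X) : M.Ind (l * x * l⁻¹) (A * X * A⁻¹) :=
  M.ind_mul (M.LH (mul_mem hl hx)) (M.LH (inv_mem hl)) (M.ind_mul (M.LH hl) (M.LH hx) hA hX)
    (M.ind_inv (M.LH hl) hA)

theorem mem_of_ind {l l' : G} (hl : l ∈ L) (hl' : l' ∈ L) {A : Matrix.SpecialLinearGroup (Fin 2) F}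
    (hA : M.Ind l A) (hA' : M.Ind l' A) : l⁻¹ * l' ∈ Y := by
  have h1 := M.ind_mul (M.LH (inv_mem hl)) (M.LH hl') (M.ind_inv (M.LH hl) hA) hA'
  rw [inv_mul_cancel] at h1
  apply M.kerL _ (mul_mem (inv_mem hl) hl')
  intro v hv
  rw [h1 v hv, ap_one]

theorem mem_B_of_ind {l : G} (hl : l ∈ L) {c : F} (hA : M.Ind l (up c)) : l ∈ B := by
  obtain ⟨b, hb, h⟩ := M.cup c
  have h1 := mul_mem hb (M.YB (M.mem_of_ind (M.BL hb) hl h hA))
  rwa [mul_inv_cancel_left] at h1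


theorem mem_NN_iff [Finite G] {l : G} (hl : l ∈ L) {A : Matrix.SpecialLinearGroup (Fin 2) F}
    (hA : M.Ind l A) : l ∈ (NN L Z) ↔ ent A 1 0 = 0 := by
  constructor
  · intro h
    obtain ⟨z, hz, e⟩ := M.surj ![1, 0]
    have hzZ : z ∈ Z := M.π_mem_Z hz (by rw [e]; rfl)
    have h1 : l * z * l⁻¹ ∈ Z := (mem_normalizer_iff.1 (mem_inf.1 h).2 z).1 hzZ
    have h2 := (M.Zpi _ (M.ZY h1)).1 h1
    rw [hA z hz, e, ap_one'] at h2
    simpa using h2
  · intro h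
    refine ⟨hl, End.mem_normalizer_of fun z hz => ?_⟩
    apply M.π_mem_Z (M.LY hl (M.ZY hz))
    rw [hA z (M.ZY hz), ap_one', h, (M.Zpi z (M.ZY hz)).1 hz, mul_zero, zero_mul, add_zero]

theorem ind_pow {l : G} (hl : l ∈ L) {A : Matrix.SpecialLinearGroup (Fin 2) F}
    (hA : M.Ind l A) (n : ℕ) : M.Ind (l ^ n) (A ^ n) := by
  induction n with
  | zero =>
    rw [pow_zero, pow_zero]
    exact M.ind_one
  | succ n ih =>
    rw [pow_succ, pow_succ]
    exact M.ind_mul (M.LH (pow_mem hl n)) (M.LH hl) ih hA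

omit M in
theorem trace_sq [CharP F 2] (A : Matrix.SpecialLinearGroup (Fin 2) F) :
    ent (A ^ 2) 0 0 + ent (A ^ 2) 1 1 = (ent A 0 0 + ent A 1 1) ^ 2 := by
  have h := det_eq A
  have h2 : (2 : F) = 0 := CharTwo.two_eq_zero
  rw [pow_two, ent_mul, ent_mul]
  linear_combination (-2) * h + h2 * (-1 + 0 * ent A 0 0)

omit M in
theorem trace_pow [CharP F 2] (A : Matrix.SpecialLinearGroup (Fin 2) F) (k : ℕ) :
    ent (A ^ 2 ^ k) 0 0 + ent (A ^ 2 ^ k) 1 1 = (ent A 0 0 + ent A 1 1) ^ 2 ^ k := by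
  induction k with
  | zero => simp
  | succ k ih => rw [pow_succ, pow_mul, trace_sq, ih, pow_mul]

/-- 2-elements have trace zero. -/
theorem trace_zero [CharP F 2] {P : Subgroup G} (hP : IsPGroup 2 P) {x : G} (hx : x ∈ P) (hxL : x ∈ L)
    {A : Matrix.SpecialLinearGroup (Fin 2) F} (hA : M.Ind x A) : ent A 0 0 + ent A 1 1 = 0 := by
  obtain ⟨k, hk⟩ := hP ⟨x, hx⟩
  have hk' : x ^ 2 ^ k = 1 := by simpa using congrArg Subtype.val hk
  have h1 := M.ind_pow hxL hA (2 ^ k)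
  rw [hk'] at h1
  have h2 := M.ind_unique (one_mem H) h1 M.ind_one
  have h3 := trace_pow A k
  rw [h2, ent_one_00, ent_one_11] at h3
  have h4 : (1 : F) + 1 = 0 := CharTwo.add_self_eq_zero 1
  rw [h4] at h3
  exact (pow_eq_zero_iff (pow_ne_zero k two_ne_zero)).1 h3.symm

theorem exists_ind {l : G} (hl : l ∈ L) : ∃ A, M.Ind l A := M.ind l hl

theorem B_le_NN [Finite G] : B ≤ (NN L Z) := by
  intro b hb
  rw [M.mem_NN_iff (M.BL hb) (M.ind_β hb), up_10]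

theorem fus (x : G) (hx : x ∈ Y) : ∃ l ∈ L, l * x * l⁻¹ ∈ Z := by
  by_cases h1 : M.π x 1 = 0
  · exact ⟨1, one_mem L, by simpa using M.π_mem_Z hx h1⟩
  · obtain ⟨l, hl, hA⟩ := M.liftL (Cfsg.Agent.Lib.SL2Mat.mk 0 1 (-1) (M.π x 0 / M.π x 1) (by ring))
    refine ⟨l, hl, M.π_mem_Z (M.LY hl hx) ?_⟩
    rw [hA x hx, ap_one', mk_10, mk_11]
    field_simp
    ring

/-- **`End.Blk`** -/
theorem blk [Finite G] [Finite F] [CharP F 2] : Blk T B Y Z C L (NN L Z) where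
  BN := M.B_le_NN
  NL := inf_le_left
  QL := fun l hl x hx => M.LY hl hx
  TL := M.TL
  TN := by
    intro t ht n hn
    obtain ⟨hnL, hnZ⟩ := mem_inf.1 hn
    refine ⟨M.TL t ht n hnL, ?_⟩
    have h1 : t ∈ normalizer (Z : Set G) := End.mem_normalizer_of (M.TZ t ht)
    exact (normalizer (Z : Set G)).mul_mem ((normalizer (Z : Set G)).mul_mem h1 hnZ)
      ((normalizer (Z : Set G)).inv_mem h1)
  syl := by
    intro P hP hBP hPL
    refine le_antisymm (fun x hx => ?_) hBP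
    have hxL := hPL hx
    obtain ⟨A, hA⟩ := M.exists_ind hxL
    have hc : ent A 1 0 = 0 := by
      by_contra hc
      obtain ⟨b, hb, hbu⟩ := M.cup ((1 - ent A 0 0 - ent A 1 1) / ent A 1 0)
      have h1 := M.trace_zero hP (mul_mem (hBP hb) hx) (mul_mem (M.BL hb) hxL)
        (M.ind_mul (M.LH (M.BL hb)) (M.LH hxL) hbu hA)
      rw [ent_mul, ent_mul, up_00, up_01, up_10, up_11, div_mul_cancel₀ _ hc] at h1
      have h2 : (1 : F) = 0 := by linear_combination h1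
      exact one_ne_zero h2
    have h1 := M.trace_zero hP hx hxL hA
    have h2 := det_eq A
    rw [hc, mul_zero, sub_zero] at h2
    have h3 : ent A 0 0 = ent A 1 1 := by
      have := eq_neg_of_add_eq_zero_left h1
      rwa [CharTwo.neg_eq] at this
    have h4 : ent A 0 0 = 1 := by
      rw [← h3] at h2
      have h5 : (ent A 0 0 - 1) * (ent A 0 0 + 1) = 0 := by linear_combination h2
      rcases mul_eq_zero.1 h5 with h6 | h6
      · linear_combination h6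
      · have := eq_neg_of_add_eq_zero_left h6
        rwa [CharTwo.neg_eq] at this
    have h5 : A = up (ent A 0 1) := ext_ent h4 rfl hc (by rw [← h3, h4]; rfl)
    rw [h5] at hA
    exact M.mem_B_of_ind hxL hA
  ne := by
    obtain ⟨l, hl, hA⟩ := M.liftL (wm 1 one_ne_zero)
    refine ⟨l, hl, fun h => ?_⟩
    have h1 := (M.mem_NN_iff hl hA).1 h
    rw [wm_10] at h1
    simp at h1
  tr := by
    intro l hl hlN l' hl' hlN'
    obtain ⟨A, hA⟩ := M.exists_ind hl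
    obtain ⟨A', hA'⟩ := M.exists_ind hl'
    rw [M.mem_NN_iff hl hA] at hlN
    rw [M.mem_NN_iff hl' hA'] at hlN'
    obtain ⟨b, hb, hbu⟩ := M.cup ((ent A 1 0 * ent A' 0 0 - ent A 0 0 * ent A' 1 0) /
      (ent A 1 0 * ent A' 1 0))
    refine ⟨b, hb, ?_⟩
    have hbL := M.BL hb
    have h1 := M.ind_mul (M.LH (mul_mem (inv_mem hl) (inv_mem hbL))) (M.LH hl')
      (M.ind_mul (M.LH (inv_mem hl)) (M.LH (inv_mem hbL)) (M.ind_inv (M.LH hl) hA)
        (M.ind_inv (M.LH hbL) hbu)) hA'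
    rw [M.mem_NN_iff (mul_mem (mul_mem (inv_mem hl) (inv_mem hbL)) hl') h1]
    rw [ent_mul, ent_mul, ent_mul, up_inv, up_00, up_01, up_10, up_11, inv_10, inv_11]
    field_simp
    ring
  st := by
    intro b hb l hl hlN hN
    obtain ⟨A, hA⟩ := M.exists_ind hl
    rw [M.mem_NN_iff hl hA] at hlN
    have hbL := M.BL hb
    have h1 := M.ind_mul (M.LH (mul_mem (inv_mem hl) hbL)) (M.LH hl)
      (M.ind_mul (M.LH (inv_mem hl)) (M.LH hbL) (M.ind_inv (M.LH hl) hA) (M.ind_β hb)) hA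
    rw [M.mem_NN_iff (mul_mem (mul_mem (inv_mem hl) hbL) hl) h1, ent_mul, ent_mul, ent_mul, up_00,
      up_01, up_10, up_11, inv_10, inv_11] at hN
    have h2 : M.β b * ent A 1 0 ^ 2 = 0 := by linear_combination -hN
    rw [← M.β_zero_iff hb]
    rcases mul_eq_zero.1 h2 with h3 | h3
    · exact h3
    · exact absurd (pow_eq_zero_iff two_ne_zero |>.1 h3) hlN
  ti := by
    intro b hb hbY b' hb' hbY' l hl hlN P hP hbP hcon
    obtain ⟨A, hA⟩ := M.exists_ind hl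
    rw [M.mem_NN_iff hl hA] at hlN
    have hbL := M.BL hb
    have h1 := M.trace_zero hP (mul_mem hbP hcon)
      (mul_mem hbL (mul_mem (mul_mem hl (M.BL hb')) (inv_mem hl)))
      (M.ind_mul (M.LH hbL) (M.LH (mul_mem (mul_mem hl (M.BL hb')) (inv_mem hl))) (M.ind_β hb)
        (M.ind_conj hl (M.BL hb') hA (M.ind_β hb')))
    rw [← M.β_zero_iff hb] at hbY
    rw [← M.β_zero_iff hb'] at hbY'
    have h2 := det_eq A
    simp only [ent_mul, up_00, up_01, up_10, up_11, inv_00, inv_01, inv_10, inv_11] at h1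
    have h3 : (1 : F) + 1 = 0 := CharTwo.add_self_eq_zero 1
    have h4 : M.β b * M.β b' * ent A 1 0 ^ 2 = 0 := by
      linear_combination -h1 + 2 * h2 + h3
    rcases mul_eq_zero.1 h4 with h5 | h5
    · rcases mul_eq_zero.1 h5 with h6 | h6
      · exact hbY h6
      · exact hbY' h6
    · exact hlN (pow_eq_zero_iff two_ne_zero |>.1 h5)
  line := by
    intro d hd hdC l hl hlN hcon
    obtain ⟨A, hA⟩ := M.exists_ind hl
    rw [M.mem_NN_iff hl hA] at hlN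
    have hdY := M.ZY hd
    have h1 := (M.Zpi _ (M.ZY hcon)).1 hcon
    rw [hA d hdY, ap_one', (M.Zpi d hdY).1 hd, mul_zero, add_zero] at h1
    rcases mul_eq_zero.1 h1 with h2 | h2
    · exact hlN h2
    · exact hdC ((M.ker d hdY).1 (NatPair.ext2 h2 ((M.Zpi d hdY).1 hd)))
  fus := M.fus

/-! ### The torus -/

/-- `L = ⟨B^L⟩` -/
theorem gen [Finite G] (N : Subgroup G) (hN : ∀ l ∈ L, ∀ b ∈ B, l * b * l⁻¹ ∈ N) : L ≤ N := by
  have hBN : B ≤ N := fun b hb => by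
    have h1 := hN 1 (one_mem L) b hb
    simpa using h1
  have hup : ∀ c : F, ∃ x ∈ N, x ∈ L ∧ M.Ind x (up c) := by
    intro c
    obtain ⟨b, hb, h⟩ := M.cup c
    exact ⟨b, hBN hb, M.BL hb, h⟩
  have hlo : ∀ c : F, ∃ x ∈ N, x ∈ L ∧ M.Ind x (lo c) := by
    intro c
    obtain ⟨w, hw, hwA⟩ := M.liftL (wm 1 one_ne_zero)
    obtain ⟨b, hb, h⟩ := M.cup (-c)
    refine ⟨w * b * w⁻¹, hN w hw b hb, mul_mem (mul_mem hw (M.BL hb)) (inv_mem hw), ?_⟩
    have h1 := M.ind_conj hw (M.BL hb) hwA h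
    have e : wm (1 : F) one_ne_zero * up (-c) * (wm 1 one_ne_zero)⁻¹ = lo c := by
      rw [wm_up, mul_inv_cancel_right]
      congr 1
      ring
    rwa [e] at h1
  intro x hx
  obtain ⟨A, hA⟩ := M.exists_ind hx
  obtain ⟨a, b, c, d, e⟩ := exists_up_lo A
  obtain ⟨x₁, h₁, l₁, i₁⟩ := hup a
  obtain ⟨x₂, h₂, l₂, i₂⟩ := hlo b
  obtain ⟨x₃, h₃, l₃, i₃⟩ := hup c
  obtain ⟨x₄, h₄, l₄, i₄⟩ := hlo d
  have hl12 := mul_mem l₁ l₂
  have hl123 := mul_mem hl12 l₃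
  have hl := mul_mem hl123 l₄
  have hi := M.ind_mul (M.LH hl123) (M.LH l₄) (M.ind_mul (M.LH hl12) (M.LH l₃)
    (M.ind_mul (M.LH l₁) (M.LH l₂) i₁ i₂) i₃) i₄
  rw [← e] at hi
  have h1 := M.mem_of_ind hl hx hi hA
  have h2 := N.mul_mem (N.mul_mem (N.mul_mem (N.mul_mem h₁ h₂) h₃) h₄) (hBN (M.YB h1))
  rwa [mul_inv_cancel_left] at h2

/-- the torus -/
theorem exists_torus [Finite G] [Finite F] [CharP F 2] : ∃ k ∈ L, k ^ (Nat.card F - 1) = 1 ∧
    (∀ b ∈ B, k * b * k⁻¹ ∈ B) ∧ ∀ c : F, c ≠ 0 → ∃ (n : ℕ) (a d : F), a = c ∧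
      ∀ v ∈ Y, M.π (k ^ n * v * (k ^ n)⁻¹) = ![a * M.π v 0, d * M.π v 1] := by
  classical
  have := Fintype.ofFinite F
  obtain ⟨ω, hω⟩ := IsCyclic.exists_generator (α := Fˣ)
  obtain ⟨l, hl, hA⟩ := M.liftL (Cfsg.Agent.Lib.SL2Mat.dg (ω : F) ω.ne_zero)
  have hdgpow : ∀ n : ℕ, ent ((Cfsg.Agent.Lib.SL2Mat.dg (ω : F) ω.ne_zero) ^ n) 0 0 = (ω : F) ^ n ∧
      ent ((Cfsg.Agent.Lib.SL2Mat.dg (ω : F) ω.ne_zero) ^ n) 0 1 = 0 ∧
      ent ((Cfsg.Agent.Lib.SL2Mat.dg (ω : F) ω.ne_zero) ^ n) 1 0 = 0 ∧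
      ent ((Cfsg.Agent.Lib.SL2Mat.dg (ω : F) ω.ne_zero) ^ n) 1 1 = ((ω : F)⁻¹) ^ n := by
    intro n
    induction n with
    | zero => simp
    | succ n ih =>
      obtain ⟨h1, h2, h3, h4⟩ := ih
      simp only [pow_succ, ent_mul, h1, h2, h3, h4, dg_00, dg_01, dg_10, dg_11]
      simp
  have hcard : (ω : F) ^ (Nat.card F - 1) = 1 := by
    have h1 : (ω : Fˣ) ^ (Nat.card F - 1) = 1 := by
      rw [Nat.card_eq_fintype_card, ← Fintype.card_units, pow_card_eq_one]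
    have h2 := congrArg Units.val h1
    simpa using h2
  have hl1 : l ^ (Nat.card F - 1) ∈ Y := by
    apply M.kerL _ (pow_mem hl _)
    intro v hv
    have h1 := M.ind_pow hl hA (Nat.card F - 1) v hv
    obtain ⟨e1, e2, e3, e4⟩ := hdgpow (Nat.card F - 1)
    rw [h1]
    apply NatPair.ext2
    · rw [ap_zero', e1, e2, hcard]; ring
    · rw [ap_one', e3, e4, inv_pow, hcard]; simp
  have hK : (l ^ 2) ^ (Nat.card F - 1) = 1 := by
    rw [← pow_mul, mul_comm 2, pow_mul, pow_two]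
    exact M.Ysq _ hl1
  refine ⟨l ^ 2, pow_mem hl 2, hK, ?_, ?_⟩
  · have hn : l ∈ normalizer (B : Set G) := End.mem_normalizer_of fun b hb => by
      have h1 := M.ind_conj hl (M.BL hb) hA (M.ind_β hb)
      have e : Cfsg.Agent.Lib.SL2Mat.dg (ω : F) ω.ne_zero * up (M.β b) *
          (Cfsg.Agent.Lib.SL2Mat.dg (ω : F) ω.ne_zero)⁻¹ = up ((ω : F) ^ 2 * M.β b) := by
        rw [Cfsg.Agent.Lib.SL2Mat.dg_up, mul_inv_cancel_right]
      rw [e] at h1
      exact M.mem_B_of_ind (mul_mem (mul_mem hl (M.BL hb)) (inv_mem hl)) h1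
    intro b hb
    exact (mem_normalizer_iff.1 (pow_mem hn 2) b).1 hb
  · intro c hc
    obtain ⟨v, hv⟩ : IsSquare c := FiniteField.isSquare_of_char_two (ringChar.eq F 2) c
    have hv0 : v ≠ 0 := by
      rintro rfl
      exact hc (by rw [hv, mul_zero])
    obtain ⟨n, hn⟩ := mem_powers_iff_mem_zpowers.2 (hω (Units.mk0 v hv0))
    have hn' : (ω : F) ^ n = v := by
      have := congrArg Units.val hn
      simpa using this
    refine ⟨n, (ω : F) ^ (2 * n), ((ω : F)⁻¹) ^ (2 * n), ?_, ?_⟩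
    · rw [two_mul, pow_add, hn', hv]
    · intro w hw
      have h1 := M.ind_pow hl hA (2 * n) w hw
      obtain ⟨e1, e2, e3, e4⟩ := hdgpow (2 * n)
      rw [← pow_mul, h1]
      apply NatPair.ext2
      · rw [ap_zero', e1, e2]
        show _ = (ω : F) ^ (2 * n) * M.π w 0
        ring
      · rw [ap_one', e3, e4]
        show _ = ((ω : F)⁻¹) ^ (2 * n) * M.π w 1
        ring

omit M in
theorem odd_card_sub_one (F : Type*) [Field F] [Finite F] [CharP F 2] : Odd (Nat.card F - 1) := by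
  have := Fintype.ofFinite F
  have h1 : Even (Fintype.card F) := by
    obtain ⟨n, hp, h2⟩ := FiniteField.card F 2
    rw [h2]
    exact (even_two).pow_of_ne_zero n.ne_zero
  rw [Nat.card_eq_fintype_card]
  have h2 : 1 < Fintype.card F := Fintype.one_lt_card
  rcases h1 with ⟨m, hm⟩
  exact ⟨m - 1, by omega⟩

/-- **`NSOf.LK`** -/
theorem lk [Finite G] [Finite F] [CharP F 2] : ∃ K : Subgroup G, NSOf.LK B Y Z C L K := by
  obtain ⟨k, hk, hk1, hkB, hkt⟩ := M.exists_torus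
  have hn : k ∈ normalizer (B : Set G) := End.mem_normalizer_of hkB
  refine ⟨zpowers k, ?_⟩
  exact
  { BL := M.BL
    LQ := fun l hl x hx => M.LY hl hx
    gen := M.gen
    fus := M.fus
    memC := M.cC
    KL := by rwa [zpowers_le]
    KB := by
      intro x hx b hb
      have h1 : x ∈ normalizer (B : Set G) := (zpowers_le.2 hn) hx
      exact (mem_normalizer_iff.1 h1 b).1 hb
    Kodd := by
      rw [Nat.card_zpowers]
      exact (odd_card_sub_one F).of_dvd_nat (orderOf_dvd_of_pow_eq_one hk1)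
    Ktr := by
      intro z hz hzC w hw hwC
      have hzY := M.ZY hz
      have hwY := M.ZY hw
      have hz0 : M.π z 0 ≠ 0 := fun h =>
        hzC ((M.ker z hzY).1 (NatPair.ext2 h ((M.Zpi z hzY).1 hz)))
      have hw0 : M.π w 0 ≠ 0 := fun h =>
        hwC ((M.ker w hwY).1 (NatPair.ext2 h ((M.Zpi w hwY).1 hw)))
      obtain ⟨n, a, d, ha, h⟩ := hkt (M.π w 0 / M.π z 0) (div_ne_zero hw0 hz0)
      refine ⟨k ^ n, pow_mem (mem_zpowers k) n, ?_⟩
      have hkz := M.LY (pow_mem hk n) hzY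
      rw [← M.ker _ (mul_mem hkz (inv_mem hwY)), M.map_mul _ hkz _ (inv_mem hwY), h z hzY,
        M.map_inv hwY, ha]
      apply NatPair.ext2
      · show M.π w 0 / M.π z 0 * M.π z 0 + -(M.π w 0) = 0
        rw [div_mul_cancel₀ _ hz0]
        ring
      · show d * M.π z 1 + -(M.π w 1) = 0
        rw [(M.Zpi z hzY).1 hz, (M.Zpi w hwY).1 hw]
        ring }

/-- **The end for one block, `q ≥ 4`.** -/
theorem false_of [Finite G] [IsSimpleGroup G] [Finite F] [CharP F 2] {S : Sylow 2 G}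
    {N : Subgroup G} (hTS : T ≤ (S : Subgroup G)) (hs : s ∈ (S : Subgroup G))
    (hNS : ∀ x ∈ (S : Subgroup G), (∀ a ∈ Y, x * a * x⁻¹ ∈ Y) → x ∈ T) (hq : 4 ≤ Nat.card F)
    (g : Glob S N) : False := by
  obtain ⟨K, hK⟩ := M.lk
  exact (M.base S.isPGroup' hTS hs hNS hq).false g hK M.blk M.faith

end Mid

end Cfsg.Agent.Omega.SQ1.MidOne

end

section


/-!
# SQ1: one natural summand, `q ≥ 4` (`Main.EndOne`)

* `memT`: `N_S(Y) = T`;
* `NodeA`: node (A): every member of `L(S)` normalises `B`;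
* `glob`: `Glob S N_G(B)`;
* `endOne_of`: `NodeA → Main.EndOne`.
-/

set_option autoImplicit false

namespace Cfsg.Agent.Omega.SQ1.EndOneOf

open Subgroup Cfsg Cfsg.Agent.ZN Cfsg.Agent.ZN.ChoiceBase Cfsg.Agent.Omega.MinPar
open Cfsg.Agent.MinSimple.Choice97 (loc2_normalizer)
open Cfsg.Agent.Omega.SQ1.Choice (Config)
open Cfsg.Agent.Omega.SQ1.Bau
open Cfsg.Agent.Omega.SQ1.Bau.In (Y Z_le_Y V_le_Y)
open Cfsg.Agent.Omega.SQ1.FFOne Cfsg.Agent.Omega.SQ1.MatchL Cfsg.Agent.Omega.SQ1.MidOne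
open Cfsg.Agent.Omega.SQ1.End (Base Glob)

universe u

variable {G : Type u} [Group G] {F : Type} [Field F] {M₀ H T V V0 : Subgroup G} {s : G}

/-- `N_S(Y) = T` for every 2-subgroup `S` over `T`. -/
theorem memT [Finite G] [Finite F] [CharP F 2] (c : Config M₀ T H s) {M : FFOne.FF F H T V V0}
    (h : LSit M s) {S : Subgroup G} (hS : IsPGroup 2 S) (hTS : T ≤ S) :
    ∀ x ∈ S, (∀ a ∈ Y T V, x * a * x⁻¹ ∈ Y T V) → x ∈ T := by
  intro x hx hn
  have hY2 : IsPGroup 2 (Y T V) := c.two.to_le (h.sit.Y_le_B.trans (ChoiceBase.bau_le T))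
  have hY0 : Y T V ≠ ⊥ := by
    obtain ⟨v, hv, e⟩ := M.surj ![1, 0]
    intro h0
    have h1 : v ∈ Y T V := V_le_Y T V hv
    rw [h0, mem_bot] at h1
    subst h1
    rw [(M.ker 1 hv).2 (one_mem _)] at e
    have := congrFun e 0
    simp at this
  have hH : H ≤ normalizer (Y T V : Set G) := fun g hg => mem_norm_of (h.sit.dd.Y_norm g hg)
  have hsyl := c.syl_of_loc (h.TH.trans hH) (loc2_normalizer hY2 hY0) fun hle => c.notM (hH.trans hle)
  have hP : IsPGroup 2 (S ⊓ normalizer (Y T V : Set G) : Subgroup G) := hS.to_le inf_le_left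
  rw [← hsyl.2.2 _ inf_le_right hP (le_inf hTS (h.TH.trans hH))]
  exact ⟨hx, mem_norm_of hn⟩

/-- **Node (A)**: every member of `L(S)` normalises `B`. -/
def NodeA : Prop :=
  ∀ (G : Type u) [Group G] [Finite G] [IsSimpleGroup G], IsCharacteristicTwoType G →
    ¬ SectionalPRankLE 2 4 G → ∀ (F : Type) [Field F] [Finite F] [CharP F 2] (S : Sylow 2 G)
    (H T B Y Z C L : Subgroup G) (s : G), Mid F H T B Y Z C L s → T ≤ (S : Subgroup G) →
    s ∈ (S : Subgroup G) → (∀ x ∈ (S : Subgroup G), (∀ a ∈ Y, x * a * x⁻¹ ∈ Y) → x ∈ T) →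
    4 ≤ Nat.card F → ∀ X : Subgroup G, IsLoc (S : Subgroup G) X → X ≤ normalizer (B : Set G)

/-- `Glob` for `N_G(B)`. -/
theorem glob [Finite G] [Finite F] [CharP F 2] {B Y Z C L : Subgroup G} (M : Mid F H T B Y Z C L s)
    (hc : IsCharacteristicTwoType G) {S : Sylow 2 G} (hTS : T ≤ (S : Subgroup G))
    (hs : s ∈ (S : Subgroup G))
    (hNS : ∀ x ∈ (S : Subgroup G), (∀ a ∈ Y, x * a * x⁻¹ ∈ Y) → x ∈ T) (hF : 4 ≤ Nat.card F)
    (hA : ∀ X : Subgroup G, IsLoc (S : Subgroup G) X → X ≤ normalizer (B : Set G)) :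
    Glob S (normalizer (B : Set G)) where
  c2t := hc
  loc := by
    have hb := M.base S.isPGroup' hTS hs hNS hF
    have hB2 : IsPGroup 2 B := M.two.to_le M.BT
    have hB0 : B ≠ ⊥ := by
      obtain ⟨v, hv, e⟩ := M.surj ![1, 0]
      intro h0
      have h1 : v ∈ B := M.YB hv
      rw [h0, mem_bot] at h1
      subst h1
      rw [(M.ker 1 hv).2 (one_mem _)] at e
      have := congrFun e 0
      simp at this
    refine isLoc_normalizer S hB2 hB0 ?_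
    have hTB : T ≤ normalizer (B : Set G) := fun t ht => mem_norm_of (M.TB t ht)
    have hsB : s ∈ normalizer (B : Set G) := mem_norm_of M.sB
    intro x hx
    rcases hb.mem_S hx with h1 | h1
    · exact hTB h1
    · have h2 := mul_mem hsB (hTB h1)
      rwa [mul_inv_cancel_left] at h2
  uni := hA

/-- **One natural summand, `q ≥ 4`: contradiction.** -/
theorem endOne_of (hA : NodeA.{u}) : Main.EndOne.{u} := by
  intro G _ _ S M T H s h F _ _ _ hF N hN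
  have := h.simple
  obtain ⟨S₁, hS₁M, hTS₁, hsS₁⟩ := h.cfg.exists_sylow
  have hNS := memT h.cfg hN S₁.isPGroup' hTS₁
  have mid := hN.mid hF
  exact mid.false_of hTS₁ hsS₁ hNS hF (glob mid h.char2 hTS₁ hsS₁ hNS hF
    (hA G h.char2 h.rank F S₁ _ _ _ _ _ _ _ _ mid hTS₁ hsS₁ hNS hF))

end Cfsg.Agent.Omega.SQ1.EndOneOf

end

end

-- merged: Cfsg.Agent.Mrg.Omega.SQ1.NodeA0
section

/-!
# SQ1, node (A) (arbitrary overgroup), part 0: `N_G(D) ≤ N_G(B)`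

The chain argument (1.3), (1.4) of `End1` (helper69) with `O₂(M)` replaced by a normal 2-subgroup `R` of
`M` which centralises `D`, `D ≤ R`, `C_{C_M(D)}(R) ≤ R`; applied to `M = N_G(D)`, `R = O₂(C_G(D))`.
-/

set_option autoImplicit false
set_option Elab.async false

namespace Cfsg.Agent.Omega.SQ1.NodeA

open Subgroup Cfsg Cfsg.Agent.ZN Cfsg.Agent.Omega.MinPar
open Cfsg.Agent.Omega.SQ1.End Cfsg.Agent.Omega.SQ1.End.Base
open Cfsg.Agent.Lib.GoldschmidtFusion (mem_map_conj card_map_conj exists_conj_le_in)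

universe u

variable {G : Type u} [Group G]

/-- `R` is a normal 2-subgroup of `M` centralising `D ≤ R`, with `C_{C_M(D)}(R) ≤ R`. -/
structure Top (S : Sylow 2 G) (M R D : Subgroup G) : Prop where
  SM : (S : Subgroup G) ≤ M
  RS : R ≤ (S : Subgroup G)
  MR' : ∀ m ∈ M, ∀ r ∈ R, m * r * m⁻¹ ∈ R
  MD' : ∀ m ∈ M, ∀ d ∈ D, m * d * m⁻¹ ∈ D
  DR : D ≤ R
  RD' : ∀ r ∈ R, ∀ d ∈ D, r * d * r⁻¹ = d
  cR : CM M D ⊓ centralizer (R : Set G) ≤ R
  max : ∀ K : Subgroup G, K ≤ CM M D → IsPGroup 2 K → (∀ m ∈ M, ∀ k ∈ K, m * k * m⁻¹ ∈ K) → K ≤ R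

namespace Top

variable [Finite G] {S : Sylow 2 G} {M R T B Q₁ Q₂ D C₁ C₂ : Subgroup G} {s : G} {q : ℕ}
variable (g : Top S M R D) (h : Base (S : Subgroup G) T B Q₁ Q₂ D C₁ C₂ s q)

include g

omit [Finite G] in
theorem R2 : IsPGroup 2 R := S.isPGroup'.to_le g.RS

omit [Finite G] in
theorem MR {m r : G} (hm : m ∈ M) (hr : r ∈ R) : m * r * m⁻¹ ∈ R := g.MR' m hm r hr

omit [Finite G] in
theorem MD {m d : G} (hm : m ∈ M) (hd : d ∈ D) : m * d * m⁻¹ ∈ D := g.MD' m hm d hd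

omit [Finite G] in
theorem RD {r d : G} (hr : r ∈ R) (hd : d ∈ D) : r * d * r⁻¹ = d := g.RD' r hr d hd

theorem M_CM {m c : G} (hm : m ∈ M) (hc : c ∈ CM M D) : m * c * m⁻¹ ∈ CM M D := by
  refine ⟨M.mul_mem (M.mul_mem hm hc.1) (M.inv_mem hm), mem_centralizer_iff.2 fun d hd => ?_⟩
  have h1 : m⁻¹ * d * m ∈ D := inv_conj_mem (fun x hx => g.MD hm hx) d hd
  have h2 := mem_centralizer_iff.1 hc.2 _ h1
  calc d * (m * c * m⁻¹) = m * (m⁻¹ * d * m * c) * m⁻¹ := by group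
    _ = m * (c * (m⁻¹ * d * m)) * m⁻¹ := by rw [h2]
    _ = m * c * m⁻¹ * d := by group

theorem R_le_CM : R ≤ CM M D := fun _ hr =>
  ⟨g.SM (g.RS hr), mem_centralizer_iff.2 fun _ hd => (mul_inv_eq_iff_eq_mul.1 (g.RD hr hd)).symm⟩

include h

theorem B_le_M : B ≤ M := h.BT.trans (h.TS.trans g.SM)

theorem B_le_CM : B ≤ CM M D := fun _ hb =>
  ⟨g.B_le_M h hb, mem_centralizer_iff.2 fun _ hd => h.centD hd hb⟩

/-- If `B ≤ R` then `M ≤ N_G(B)`. -/
theorem M_le_of (hB : B ≤ R) : M ≤ normalizer (B : Set G) := fun _ hm =>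
  h.conj_B (fun _ hb => g.RS (g.MR hm (hB hb)))

/-- The chain stabiliser is normalised by the elements of `M` normalising `E`. -/
theorem chain_conj {E : Subgroup G} {n : G} (hn : n ∈ M) (hE : ∀ r ∈ E, n * r * n⁻¹ ∈ E) {k : G}
    (hk : k ∈ chain (CM M D) R E D (fun _ hc _ hr => g.MR hc.1 hr) (fun _ hc _ hd => CM_D hc hd)) :
    n * k * n⁻¹ ∈ chain (CM M D) R E D (fun _ hc _ hr => g.MR hc.1 hr)
      (fun _ hc _ hd => CM_D hc hd) := by
  obtain ⟨k0, k1, k2, k3⟩ := hk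
  refine ⟨g.M_CM hn k0, ?_, ?_, ?_⟩
  · intro r hr
    have h1 := hE _ (k1 _ (inv_conj_mem hE r hr))
    have h2 : n * (k * (n⁻¹ * r * n) * k⁻¹) * n⁻¹ = n * k * n⁻¹ * r * (n * k * n⁻¹)⁻¹ := by group
    rwa [h2] at h1
  · intro r hr
    have h1 := hE _ (k2 _ (inv_conj_mem (X := R) (fun x hx => g.MR hn hx) r hr))
    have h2 : n * (k * (n⁻¹ * r * n) * k⁻¹ * (n⁻¹ * r * n)⁻¹) * n⁻¹ =
      n * k * n⁻¹ * r * (n * k * n⁻¹)⁻¹ * r⁻¹ := by group
    rwa [h2] at h1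
  · intro r hr
    have h1 := g.MD hn (k3 _ (inv_conj_mem hE r hr))
    have h2 : n * (k * (n⁻¹ * r * n) * k⁻¹ * (n⁻¹ * r * n)⁻¹) * n⁻¹ =
      n * k * n⁻¹ * r * (n * k * n⁻¹)⁻¹ * r⁻¹ := by group
    rwa [h2] at h1

/-- (1.3) If `O₂(M) ∩ B` is normal in `M` then `B ≤ O₂(M)`. -/
theorem B_le_of_normal (hn : ∀ m ∈ M, ∀ r ∈ R ⊓ B, m * r * m⁻¹ ∈ R ⊓ B) : B ≤ R := by
  let K := chain (CM M D) R (R ⊓ B) D (fun c hc r hr => g.MR hc.1 hr)
    (fun c hc d hd => CM_D hc hd)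
  have hK2 : IsPGroup 2 K := chain_two g.R2 inf_le_left
    (le_inf (g.DR) h.DB) (g.cR)
  have hBK : B ≤ K := by
    intro b hb
    refine ⟨g.B_le_CM h hb, hn b (g.B_le_M h hb), ?_, ?_⟩
    · intro r hr
      have h1 := R.mul_mem (g.MR (g.B_le_M h hb) hr) (R.inv_mem hr)
      have h2 := B.mul_mem hb (h.S_B (g.RS hr) (B.inv_mem hb))
      have h3 : b * (r * b⁻¹ * r⁻¹) = b * r * b⁻¹ * r⁻¹ := by group
      rw [h3] at h2
      exact ⟨h1, h2⟩
    · intro r hr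
      exact h.commB hb hr.2
  refine hBK.trans (g.max K (fun k hk => hk.1) hK2 ?_)
  intro m hm k hk
  exact g.chain_conj h hm (hn m hm) hk

/-- Elements of `C_S(D)` lie in `B ∪ xB`, for `x ∈ O₂(M) - B`. -/
theorem mem_or {x : G} (hx : x ∈ R) (hxB : x ∉ B) {y : G} (hy : y ∈ (S : Subgroup G))
    (hyD : ∀ d ∈ D, y * d * y⁻¹ = d) : y ∈ B ∨ x⁻¹ * y ∈ B := by
  have hxT : s⁻¹ * x ∈ T := by
    refine (h.mem_S (g.RS hx)).resolve_left fun h1 => hxB ?_
    exact h.mem_B_of_centD h1 (fun d hd => g.RD hx hd)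
  rcases h.mem_S hy with h1 | h1
  · exact Or.inl (h.mem_B_of_centD h1 hyD)
  · right
    apply h.mem_B_of_centD
    · have h2 := T.mul_mem (T.inv_mem hxT) h1
      have h3 : (s⁻¹ * x)⁻¹ * (s⁻¹ * y) = x⁻¹ * y := by group
      rwa [h3] at h2
    · intro d hd
      have h2 : x⁻¹ * d * x = d := by
        have h3 := g.RD (R.inv_mem hx) hd
        rwa [inv_inv] at h3
      calc x⁻¹ * y * d * (x⁻¹ * y)⁻¹ = x⁻¹ * (y * d * y⁻¹) * x := by group
        _ = d := by rw [hyD d hd, h2]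

/-- A 2-subgroup of `C_M(D)` containing `O₂(M)` and normalised by `B` lies in `S`, if `O₂(M) ≰ B`. -/
theorem le_S {x : G} (hx : x ∈ R) (hxB : x ∉ B) {K : Subgroup G} (hK : IsPGroup 2 K)
    (hKC : K ≤ CM M D) (hRK : R ≤ K) (hBK : ∀ b ∈ B, ∀ k ∈ K, b * k * b⁻¹ ∈ K) :
    K ≤ (S : Subgroup G) := by
  have hp : Fact (Nat.Prime 2) := ⟨Nat.prime_two⟩
  have hB2 : IsPGroup 2 B := h.two.to_le (h.BT.trans h.TS)
  have hKB : IsPGroup 2 (B ⊔ K : Subgroup G) :=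
    IsPGroup.to_sup_of_normal_right' hB2 hK (fun b hb => mem_normalizer_of (hBK b hb))
  have hle : (S : Subgroup G) ⊓ CM M D ≤ B ⊔ K := by
    rintro y ⟨hyS, hyC⟩
    rcases g.mem_or h hx hxB hyS (fun d hd => CM_D hyC hd) with h1 | h1
    · exact (le_sup_left : B ≤ B ⊔ K) h1
    · have h2 := (B ⊔ K).mul_mem ((le_sup_right : K ≤ B ⊔ K) (hRK hx)) ((le_sup_left : B ≤ B ⊔ K) h1)
      rwa [mul_inv_cancel_left] at h2
  have hKBC : (B ⊔ K : Subgroup G) ≤ CM M D := sup_le (g.B_le_CM h) hKC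
  obtain ⟨n, hn, hn2⟩ := exists_conj_le_in S.isPGroup' (MinSimple.Basic.not_dvd_relIndex S g.SM)
    (hKBC.trans inf_le_left) hKB
  have h3 : (B ⊔ K : Subgroup G).map (MulAut.conj n).toMonoidHom ≤ (S : Subgroup G) ⊓ CM M D := by
    refine le_inf hn2 ?_
    rintro _ ⟨y, hy, rfl⟩
    exact g.M_CM hn (hKBC hy)
  have h4 : (S : Subgroup G) ⊓ CM M D = B ⊔ K := by
    apply Subgroup.eq_of_le_of_card_ge hle
    rw [← card_map_conj (B ⊔ K) n]
    exact Subgroup.card_le_of_le h3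
  exact le_sup_right.trans (h4.symm.le.trans inf_le_left)

/-- (1.4) `O₂(M) ∩ B` is normal in `M`. -/
theorem R0_normal : ∀ m ∈ M, ∀ r ∈ R ⊓ B, m * r * m⁻¹ ∈ R ⊓ B := by
  by_contra hcon
  push Not at hcon
  obtain ⟨m, hm, r₁, hr₁, hm1⟩ := hcon
  have hxR : m * r₁ * m⁻¹ ∈ R := g.MR hm hr₁.1
  have hxB : m * r₁ * m⁻¹ ∉ B := fun h1 => hm1 ⟨hxR, h1⟩
  -- the conjugate `Bm` of `B`
  set x := m * r₁ * m⁻¹ with hxdef
  have hxBm : m⁻¹ * x * m ∈ B := by
    have : m⁻¹ * x * m = r₁ := by rw [hxdef]; group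
    rw [this]; exact hr₁.2
  have hmD : ∀ d ∈ D, m⁻¹ * d * m ∈ D := inv_conj_mem (fun d hd => g.MD hm hd)
  have hmR : ∀ r ∈ R, m⁻¹ * r * m ∈ R := inv_conj_mem (fun r hr => g.MR hm hr)
  let Bm : Subgroup G := B.map (MulAut.conj m).toMonoidHom
  have hBm : ∀ y, y ∈ Bm ↔ m⁻¹ * y * m ∈ B := fun y => mem_map_conj
  have hxS := g.RS hxR
  have hxT : s⁻¹ * x ∈ T := by
    refine (h.mem_S hxS).resolve_left fun h1 => hxB ?_
    exact h.mem_B_of_centD h1 (fun d hd => g.RD hxR hd)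
  have hDBm : D ≤ Bm := fun d hd => (hBm d).2 (h.DB (hmD d hd))
  have hcommBm : ∀ y ∈ Bm, ∀ z ∈ Bm, y * z * y⁻¹ * z⁻¹ ∈ D := by
    intro y hy z hz
    have h1 := g.MD hm (h.commB ((hBm y).1 hy) ((hBm z).1 hz))
    have h2 : m * (m⁻¹ * y * m * (m⁻¹ * z * m) * (m⁻¹ * y * m)⁻¹ * (m⁻¹ * z * m)⁻¹) * m⁻¹ =
      y * z * y⁻¹ * z⁻¹ := by group
    rwa [h2] at h1
  -- the coset properties
  have hco : ∀ y ∈ R, y ∈ B ∨ x⁻¹ * y ∈ B := fun y hy =>
    g.mem_or h hxR hxB (g.RS hy) (fun d hd => g.RD hy hd)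
  have hcom : ∀ y ∈ R, y ∉ Bm → ∀ z ∈ R, z ∉ Bm → y⁻¹ * z ∈ Bm := by
    intro y hy hy' z hz hz'
    have h1 := (hco _ (hmR y hy)).resolve_left (fun h2 => hy' ((hBm y).2 h2))
    have h2 := (hco _ (hmR z hz)).resolve_left (fun h2 => hz' ((hBm z).2 h2))
    rw [hBm]
    have h3 := B.mul_mem (B.inv_mem h1) h2
    have h4 : (x⁻¹ * (m⁻¹ * y * m))⁻¹ * (x⁻¹ * (m⁻¹ * z * m)) = m⁻¹ * (y⁻¹ * z) * m := by group
    rwa [h4] at h3
  have hcomB : ∀ b ∈ B, x * b * x⁻¹ * b⁻¹ ∈ R ⊓ B := by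
    intro b hb
    refine ⟨?_, B.mul_mem (h.S_B hxS hb) (B.inv_mem hb)⟩
    have h1 := R.mul_mem hxR (g.MR (g.B_le_M h hb) (R.inv_mem hxR))
    have h2 : x * (b * x⁻¹ * b⁻¹) = x * b * x⁻¹ * b⁻¹ := by group
    rwa [h2] at h1
  have hxxB : x * x ∈ B := by
    rcases hco (x * x) (R.mul_mem hxR hxR) with h1 | h1
    · exact h1
    · rw [inv_mul_cancel_left] at h1
      exact absurd h1 hxB
  -- `[x, b]` is centralised by `x` modulo `D`
  have hdd : ∀ b ∈ B, x * (x * b * x⁻¹ * b⁻¹) * x⁻¹ * (x * b * x⁻¹ * b⁻¹)⁻¹ ∈ D := by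
    intro b hb
    have h1 := h.commB hxxB hb
    have hb' := h.S_B hxS hb
    have h2 := h.sqB (B.mul_mem hb (B.inv_mem hb'))
    have h3 := D.mul_mem h1 h2
    have h4 : x * x * b * (x * x)⁻¹ * b⁻¹ * (b * (x * b * x⁻¹)⁻¹ * (b * (x * b * x⁻¹)⁻¹)) =
        x * (x * b * x⁻¹ * b⁻¹) * x⁻¹ * (x * b * x⁻¹ * b⁻¹)⁻¹ := by group
    rwa [h4] at h3
  -- the chain stabiliser
  have hE : ∀ n ∈ B, ∀ r ∈ R ⊓ B ⊓ Bm, n * r * n⁻¹ ∈ R ⊓ B ⊓ Bm := by
    intro n hn r hr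
    have h1 := h.commB hn hr.1.2
    have h2 : n * r * n⁻¹ = n * r * n⁻¹ * r⁻¹ * r := by group
    rw [h2]
    exact mul_mem (show n * r * n⁻¹ * r⁻¹ ∈ R ⊓ B ⊓ Bm from
      ⟨⟨g.DR h1, h.DB h1⟩, hDBm h1⟩) hr
  have hEm : ∀ n ∈ Bm, ∀ r ∈ R ⊓ B ⊓ Bm, n * r * n⁻¹ ∈ R ⊓ B ⊓ Bm := by
    intro n hn r hr
    have h1 := hcommBm n hn r hr.2
    have h2 : n * r * n⁻¹ = n * r * n⁻¹ * r⁻¹ * r := by group
    rw [h2]
    exact mul_mem (show n * r * n⁻¹ * r⁻¹ ∈ R ⊓ B ⊓ Bm from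
      ⟨⟨g.DR h1, h.DB h1⟩, hDBm h1⟩) hr
  let K := chain (CM M D) R (R ⊓ B ⊓ Bm) D (fun _ hc _ hr => g.MR hc.1 hr)
    (fun _ hc _ hd => CM_D hc hd)
  have hK2 : IsPGroup 2 K := chain_two g.R2 (inf_le_left.trans inf_le_left)
    (le_inf (le_inf (g.DR) h.DB) hDBm) (g.cR)
  -- `[R, R] ≤ R₁`
  have hRBm : ∀ y ∈ R, ∀ r ∈ R ⊓ B, y * r * y⁻¹ ∈ R ⊓ B := fun y hy r hr =>
    ⟨g.MR (g.SM (g.RS hy)) hr.1, h.S_B (g.RS hy) hr.2⟩
  have hRB : ∀ y ∈ R, ∀ z ∈ R, y * z * y⁻¹ * z⁻¹ ∈ B := by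
    intro y hy z hz
    have hyz : ∀ w ∈ R, ∀ b ∈ B, w * b * w⁻¹ ∈ B := fun w hw b hb => h.S_B (g.RS hw) hb
    rcases hco y hy with h1 | h1
    · have h2 := B.mul_mem h1 (hyz z hz _ (B.inv_mem h1))
      have h3 : y * (z * y⁻¹ * z⁻¹) = y * z * y⁻¹ * z⁻¹ := by group
      rwa [h3] at h2
    · rcases hco z hz with h4 | h4
      · exact B.mul_mem (hyz y hy z h4) (B.inv_mem h4)
      · -- `y = x y'`, `z = x z'`
        have h5 := hyz x hxR _ h1
        have h6 := hyz x hxR _ h4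
        have h7 := hyz (x * x) (R.mul_mem hxR hxR) _ (B.mul_mem h4 (B.inv_mem h1))
        have h8 := hyz x hxR _ (hyz x hxR _ (B.inv_mem h4))
        have h9 : y * z * y⁻¹ * z⁻¹ = (x * (x⁻¹ * y) * x⁻¹) * (x * x * ((x⁻¹ * z) * (x⁻¹ * y)⁻¹) * (x * x)⁻¹)
          * (x * (x⁻¹ * z)⁻¹ * x⁻¹) := by group
        rw [h9]
        refine B.mul_mem (B.mul_mem h5 h7) (hyz x hxR _ (B.inv_mem h4))
  have hRBm2 : ∀ y ∈ R, ∀ z ∈ R, y * z * y⁻¹ * z⁻¹ ∈ Bm := by
    intro y hy z hz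
    rw [hBm]
    have h1 := hRB _ (hmR y hy) _ (hmR z hz)
    have h2 : m⁻¹ * y * m * (m⁻¹ * z * m) * (m⁻¹ * y * m)⁻¹ * (m⁻¹ * z * m)⁻¹ =
      m⁻¹ * (y * z * y⁻¹ * z⁻¹) * m := by group
    rwa [h2] at h1
  have hcr : ∀ r ∈ R ⊓ B ⊓ Bm, ∀ y ∈ R, y * r * y⁻¹ * r⁻¹ ∈ D := by
    intro r hr y hy
    rcases hco y hy with h1 | h1
    · exact h.commB h1 hr.1.2
    · have h2 := h.commB h1 hr.1.2
      have h3 := hcommBm x ((hBm x).2 hxBm) r hr.2
      have h4 := D.mul_mem (h.P_D hxS h2) h3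
      have h5 : x * (x⁻¹ * y * r * (x⁻¹ * y)⁻¹ * r⁻¹) * x⁻¹ * (x * r * x⁻¹ * r⁻¹) =
        y * r * y⁻¹ * r⁻¹ := by group
      rwa [h5] at h4
  have hRK : R ≤ K := by
    intro y hy
    refine ⟨g.R_le_CM hy, ?_, ?_, ?_⟩
    · intro r hr
      have h1 := hcr r hr y hy
      have h2 : y * r * y⁻¹ = y * r * y⁻¹ * r⁻¹ * r := by group
      rw [h2]
      exact mul_mem (show y * r * y⁻¹ * r⁻¹ ∈ R ⊓ B ⊓ Bm from
        ⟨⟨g.DR h1, h.DB h1⟩, hDBm h1⟩) hr
    · intro r hr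
      exact ⟨⟨R.mul_mem (g.MR (g.SM (g.RS hy)) hr) (R.inv_mem hr), hRB y hy r hr⟩,
        hRBm2 y hy r hr⟩
    · intro r hr
      exact hcr r hr y hy
  -- `K ≤ S` after conjugation by `m⁻¹`
  have hKS : ∀ k ∈ K, m⁻¹ * k * m ∈ (S : Subgroup G) := by
    intro k hk
    have h1 : K.map (MulAut.conj m⁻¹).toMonoidHom ≤ (S : Subgroup G) := by
      apply g.le_S h hxR hxB (hK2.map _)
      · rintro _ ⟨y, hy, rfl⟩
        exact g.M_CM (M.inv_mem hm) hy.1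
      · intro y hy
        rw [mem_map_conj, inv_inv]
        exact hRK (g.MR hm hy)
      · rintro b hb _ ⟨y, hy, rfl⟩
        rw [mem_map_conj, inv_inv]
        have hbm : m * b * m⁻¹ ∈ Bm := (hBm _).2 (by
          have : m⁻¹ * (m * b * m⁻¹) * m = b := by group
          rwa [this])
        have h2 := g.chain_conj h (M.mul_mem (M.mul_mem hm (g.B_le_M h hb)) (M.inv_mem hm))
          (hEm _ hbm) hy
        have h3 : m * (b * ((MulAut.conj m⁻¹).toMonoidHom y) * b⁻¹) * m⁻¹ =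
            m * b * m⁻¹ * y * (m * b * m⁻¹)⁻¹ := by
          show m * (b * (m⁻¹ * y * m⁻¹⁻¹) * b⁻¹) * m⁻¹ = _
          group
        rw [h3]; exact h2
    have h2 : (MulAut.conj m⁻¹).toMonoidHom k ∈ (S : Subgroup G) := h1 ⟨k, hk, rfl⟩
    have h3 : (MulAut.conj m⁻¹).toMonoidHom k = m⁻¹ * k * m := by
      show m⁻¹ * k * m⁻¹⁻¹ = _
      rw [inv_inv]
    rwa [h3] at h2
  -- elements `b ∈ B` with `[x, b] ∈ Bm` lie in `K`
  have hB1 : ∀ b ∈ B, x * b * x⁻¹ * b⁻¹ ∈ Bm → b ∈ K := by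
    intro b hb hxb
    have hbD : ∀ y ∈ R, b * y * b⁻¹ * y⁻¹ ∈ R ⊓ B := by
      intro y hy
      refine ⟨R.mul_mem (g.MR (g.B_le_M h hb) hy) (R.inv_mem hy), ?_⟩
      have h2 := B.mul_mem hb (h.S_B (g.RS hy) (B.inv_mem hb))
      have h3 : b * (y * b⁻¹ * y⁻¹) = b * y * b⁻¹ * y⁻¹ := by group
      rwa [h3] at h2
    have hbx : b * x * b⁻¹ * x⁻¹ ∈ Bm := by
      have h1 := Bm.inv_mem hxb
      have h2 : (x * b * x⁻¹ * b⁻¹)⁻¹ = b * x * b⁻¹ * x⁻¹ := by group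
      rwa [h2] at h1
    refine ⟨g.B_le_CM h hb, hE b hb, ?_, ?_⟩
    · intro y hy
      refine ⟨hbD y hy, ?_⟩
      rcases hco y hy with h1 | h1
      · exact hDBm (h.commB hb h1)
      · have h2 := h.P_D hxS (h.commB hb h1)
        have h3 := Bm.mul_mem hbx (hDBm h2)
        have h4 : b * x * b⁻¹ * x⁻¹ * (x * (b * (x⁻¹ * y) * b⁻¹ * (x⁻¹ * y)⁻¹) * x⁻¹) =
          b * y * b⁻¹ * y⁻¹ := by group
        rwa [h4] at h3
    · intro r hr
      exact h.commB hb hr.1.2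
  by_cases hcase : ∀ r ∈ R ⊓ B, x * r * x⁻¹ * r⁻¹ ∈ D
  · -- case (i)
    let Δ : Subgroup G :=
      { carrier := {b | b ∈ B ∧ x * b * x⁻¹ * b⁻¹ ∈ D}
        one_mem' := ⟨one_mem _, by simp⟩
        mul_mem' := by
          rintro b c ⟨hb, hb2⟩ ⟨hc, hc2⟩
          refine ⟨B.mul_mem hb hc, ?_⟩
          have h1 := D.mul_mem hb2 (h.P_D (h.TS (h.BT hb)) hc2)
          have h2 : x * b * x⁻¹ * b⁻¹ * (b * (x * c * x⁻¹ * c⁻¹) * b⁻¹) =
            x * (b * c) * x⁻¹ * (b * c)⁻¹ := by group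
          rwa [h2] at h1
        inv_mem' := by
          rintro b ⟨hb, hb2⟩
          refine ⟨B.inv_mem hb, ?_⟩
          have h1 := h.P_D (h.TS (h.BT (B.inv_mem hb))) (D.inv_mem hb2)
          have h2 : b⁻¹ * (x * b * x⁻¹ * b⁻¹)⁻¹ * b⁻¹⁻¹ = x * b⁻¹ * x⁻¹ * b⁻¹⁻¹ := by group
          rwa [h2] at h1 }
    have hΔ : ∀ b ∈ B, x * b * x⁻¹ * b⁻¹ ∈ Bm → b ∈ Δ := by
      intro b hb hxb
      refine ⟨hb, ?_⟩
      have h1 := hKS b (hB1 b hb hxb)
      have hbCM := g.B_le_CM h hb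
      have h2 := g.mem_or h hxR hxB h1 (fun d hd => by
        have h3 := CM_D hbCM (g.MD hm hd)
        calc m⁻¹ * b * m * d * (m⁻¹ * b * m)⁻¹ = m⁻¹ * (b * (m * d * m⁻¹) * b⁻¹) * m := by group
          _ = d := by rw [h3]; group)
      rcases h2 with h2 | h2
      · exact hcommBm x ((hBm x).2 hxBm) b ((hBm b).2 h2)
      · -- `b = x' b'`
        have hx' : m * x * m⁻¹ ∈ R := g.MR hm hxR
        have hb' : (m * x * m⁻¹)⁻¹ * b ∈ Bm := by
          rw [hBm]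
          have h3 : m⁻¹ * ((m * x * m⁻¹)⁻¹ * b) * m = x⁻¹ * (m⁻¹ * b * m) := by group
          rwa [h3]
        have h3 := hcommBm x ((hBm x).2 hxBm) _ hb'
        have h4 : x * (m * x * m⁻¹) * x⁻¹ * (m * x * m⁻¹)⁻¹ ∈ D := by
          rcases hco _ hx' with h5 | h5
          · exact hcase _ ⟨hx', h5⟩
          · have h6 := hcase _ ⟨R.mul_mem (R.inv_mem hxR) hx', h5⟩
            have h7 := h.P_D hxS h6
            have h8 : x * (x * (x⁻¹ * (m * x * m⁻¹)) * x⁻¹ * (x⁻¹ * (m * x * m⁻¹))⁻¹) * x⁻¹ =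
              x * (m * x * m⁻¹) * x⁻¹ * (m * x * m⁻¹)⁻¹ := by group
            rwa [h8] at h7
        have h5 := D.mul_mem h4 (h.P_D (g.RS hx') h3)
        have h6 : x * (m * x * m⁻¹) * x⁻¹ * (m * x * m⁻¹)⁻¹ * (m * x * m⁻¹ *
            (x * ((m * x * m⁻¹)⁻¹ * b) * x⁻¹ * ((m * x * m⁻¹)⁻¹ * b)⁻¹) * (m * x * m⁻¹)⁻¹) =
            x * b * x⁻¹ * b⁻¹ := by group
        rwa [h6] at h5
    have hcard : Nat.card B ≤ 2 * Nat.card Δ := by
      by_cases hall : ∀ b ∈ B, x * b * x⁻¹ * b⁻¹ ∈ Bm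
      · exact card_le_two_mul B.one_mem (fun b hb => Or.inl (hΔ b hb (hall b hb)))
      · push Not at hall
        obtain ⟨f, hf, hfx⟩ := hall
        apply card_le_two_mul hf
        intro b hb
        by_cases hbx : x * b * x⁻¹ * b⁻¹ ∈ Bm
        · exact Or.inl (hΔ b hb hbx)
        · right
          apply hΔ _ (B.mul_mem (B.inv_mem hf) hb)
          have h1 := hcom _ (hcomB f hf).1 hfx _ (hcomB b hb).1 hbx
          have h2 : (x * f * x⁻¹ * f⁻¹)⁻¹ * (x * b * x⁻¹ * b⁻¹) ∈ R ⊓ B ⊓ Bm :=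
            ⟨(R ⊓ B).mul_mem ((R ⊓ B).inv_mem (hcomB f hf)) (hcomB b hb), h1⟩
          have h3 := (hE _ (B.inv_mem hf) _ h2).2
          have h4 : f⁻¹ * ((x * f * x⁻¹ * f⁻¹)⁻¹ * (x * b * x⁻¹ * b⁻¹)) * f⁻¹⁻¹ =
            x * (f⁻¹ * b) * x⁻¹ * (f⁻¹ * b)⁻¹ := by group
          rwa [h4] at h3
    have h1 := h.card_delta hxT (E := Δ) (fun b hb => hb.1) (fun b hb => hb.2)
    have h2 := h.card1
    have h3 := h.hq
    have h4 : 0 < Nat.card D := Nat.card_pos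
    have h5 : 0 < Nat.card B := Nat.card_pos
    rw [h2] at h1
    have h6 : Nat.card B * (q * Nat.card D) ≤ 2 * (Nat.card B * Nat.card D) :=
      calc Nat.card B * (q * Nat.card D) ≤ 2 * Nat.card Δ * (q * Nat.card D) :=
            Nat.mul_le_mul_right _ hcard
        _ = 2 * (Nat.card Δ * (q * Nat.card D)) := by ring
        _ ≤ _ := Nat.mul_le_mul_left _ h1
    have h7 : Nat.card B * (q * Nat.card D) = q * (Nat.card B * Nat.card D) := by ring
    rw [h7] at h6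
    have h8 : q ≤ 2 := Nat.le_of_mul_le_mul_right h6 (Nat.mul_pos h5 h4)
    omega
  · -- case (ii)
    push Not at hcase
    obtain ⟨r₀, hr₀, hr₀x⟩ := hcase
    have hr₀m : r₀ ∉ Bm := fun h1 => hr₀x (hcommBm x ((hBm x).2 hxBm) r₀ h1)
    have hall : ∀ b ∈ B, x * b * x⁻¹ * b⁻¹ ∈ Bm := by
      intro b hb
      by_contra hc
      have h1 := hcom _ (hcomB b hb).1 hc r₀ hr₀.1 hr₀m
      have h2 := hcommBm x ((hBm x).2 hxBm) _ h1
      have h3 := hdd b hb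
      apply hr₀x
      have h4 := D.mul_mem h3 (h.P_D (g.RS (hcomB b hb).1) h2)
      have h5 : x * (x * b * x⁻¹ * b⁻¹) * x⁻¹ * (x * b * x⁻¹ * b⁻¹)⁻¹ *
          (x * b * x⁻¹ * b⁻¹ * (x * ((x * b * x⁻¹ * b⁻¹)⁻¹ * r₀) * x⁻¹ *
            ((x * b * x⁻¹ * b⁻¹)⁻¹ * r₀)⁻¹) * (x * b * x⁻¹ * b⁻¹)⁻¹) = x * r₀ * x⁻¹ * r₀⁻¹ := by
        group
      rwa [h5] at h4
    have h1 : m⁻¹ ∈ normalizer (B : Set G) := by
      apply h.conj_B
      intro b hb
      have h2 := hKS b (hB1 b hb (hall b hb))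
      rwa [inv_inv]
    have h2 := (normalizer (B : Set G)).inv_mem h1
    rw [inv_inv] at h2
    exact hxB ((mem_normalizer_iff.1 h2 r₁).1 hr₁.2)


/-- `M ≤ N_G(B)`. -/
theorem M_le : M ≤ normalizer (B : Set G) :=
  g.M_le_of h (g.B_le_of_normal h (g.R0_normal h))

end Top

section

variable [Finite G] {S : Sylow 2 G} {T B Q₁ Q₂ D C₁ C₂ : Subgroup G} {s : G} {q : ℕ}

/-- **(2)** `N_G(D) ≤ N_G(B)`. -/
theorem normD_le (hc : IsCharacteristicTwoType G)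
    (h : Base (S : Subgroup G) T B Q₁ Q₂ D C₁ C₂ s q) :
    normalizer (D : Set G) ≤ normalizer (B : Set G) := by
  have hDS : D ≤ (S : Subgroup G) := h.DB.trans (h.BT.trans h.TS)
  have hD2 : IsPGroup 2 D := h.two.to_le hDS
  have hDne : D ≠ ⊥ := by
    intro h1
    have h2 := h.one_lt_D
    rw [h1, Subgroup.card_bot] at h2
    exact lt_irrefl _ h2
  have hSN : (S : Subgroup G) ≤ normalizer (D : Set G) := fun x hx =>
    mem_normalizer_of (fun d hd => h.P_D hx hd)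
  have hloc : IsLoc (S : Subgroup G) (normalizer (D : Set G)) := isLoc_normalizer S hD2 hDne hSN
  set M := normalizer (D : Set G) with hM
  have hMD : ∀ m ∈ M, ∀ d ∈ D, m * d * m⁻¹ ∈ D := fun m hm d hd =>
    (mem_normalizer_iff.1 hm d).1 hd
  let C : Subgroup G := CM M D
  let R : Subgroup G := o2 M ⊓ C
  have hMC : ∀ m ∈ M, ∀ c ∈ C, m * c * m⁻¹ ∈ C := by
    intro m hm c hc
    refine ⟨M.mul_mem (M.mul_mem hm hc.1) (M.inv_mem hm), mem_centralizer_iff.2 fun d hd => ?_⟩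
    have h1 : m⁻¹ * d * m ∈ D := inv_conj_mem (fun x hx => hMD m hm x hx) d hd
    have h2 := mem_centralizer_iff.1 hc.2 _ h1
    calc d * (m * c * m⁻¹) = m * (m⁻¹ * d * m * c) * m⁻¹ := by group
      _ = m * (c * (m⁻¹ * d * m)) * m⁻¹ := by rw [h2]
      _ = m * c * m⁻¹ * d := by group
  have hmax : ∀ K : Subgroup G, K ≤ C → IsPGroup 2 K → (∀ m ∈ M, ∀ k ∈ K, m * k * m⁻¹ ∈ K) →
      K ≤ R := fun K hK hK2 hn =>
    le_inf (ZN.le_o2 (hK.trans inf_le_left) hK2 fun m hm => mem_normalizer_of (hn m hm)) hK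
  have g : Top S M R D := by
    refine ⟨hSN, inf_le_left.trans (hloc.o2_le S), ?_, hMD, ?_, ?_, ?_, hmax⟩
    · intro m hm r hr
      exact ⟨(mem_normalizer_iff.1 (ZN.le_normalizer_o2 M hm) r).1 hr.1, hMC m hm r hr.2⟩
    · apply hmax D _ hD2 hMD
      exact fun d hd => ⟨hSN (hDS hd), mem_centralizer_iff.2 fun e he => h.c1 e (h.D1 he) d (h.D1 hd)⟩
    · intro r hr d hd
      exact CM_D hr.2 hd
    · -- `C_C(R) ≤ R`
      have hRR : ∀ m ∈ M, ∀ r ∈ R, m * r * m⁻¹ ∈ R := fun m hm r hr =>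
        ⟨(mem_normalizer_iff.1 (ZN.le_normalizer_o2 M hm) r).1 hr.1, hMC m hm r hr.2⟩
      have hKn : ∀ m ∈ M, ∀ k ∈ C ⊓ centralizer (R : Set G),
          m * k * m⁻¹ ∈ C ⊓ centralizer (R : Set G) := by
        intro m hm k hk
        refine ⟨hMC m hm k hk.1, mem_centralizer_iff.2 fun r hr => ?_⟩
        have h1 : m⁻¹ * r * m ∈ R := inv_conj_mem (hRR m hm) r hr
        have h2 := mem_centralizer_iff.1 hk.2 _ h1
        calc r * (m * k * m⁻¹) = m * (m⁻¹ * r * m * k) * m⁻¹ := by group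
          _ = m * (k * (m⁻¹ * r * m)) * m⁻¹ := by rw [h2]
          _ = m * k * m⁻¹ * r := by group
      refine hmax _ inf_le_left ?_ hKn
      apply isPGroup_two_of
      rintro k hk n hn hkn
      have hkM : k ∈ M := hk.1.1
      have hcent : ∀ r ∈ o2 M, k * r * k⁻¹ = r := by
        intro r hr
        have hrM := ZN.o2_le M hr
        have h1 : k * r * k⁻¹ * r⁻¹ ∈ R := by
          refine ⟨?_, ?_⟩
          · exact (o2 M).mul_mem ((mem_normalizer_iff.1 (ZN.le_normalizer_o2 M hkM) r).1 hr)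
              ((o2 M).inv_mem hr)
          · have h2 := C.mul_mem hk.1 (hMC r hrM _ (C.inv_mem hk.1))
            have h3 : k * (r * k⁻¹ * r⁻¹) = k * r * k⁻¹ * r⁻¹ := by group
            rwa [h3] at h2
        obtain ⟨m, hm⟩ := isPGroup_o2 M ⟨_, h1.1⟩
        have h2 := odd_fix (k := k) (e := k * r * k⁻¹ * r⁻¹) (r := r) hn hkn (by group)
          (mem_centralizer_iff.1 hk.2 _ h1).symm (by simpa using congrArg Subtype.val hm)
        exact mul_inv_eq_one.1 h2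
      have hkO : k ∈ o2 M := hloc.char2 S hc ⟨hkM, mem_centralizer_iff.2 fun r hr =>
        (mul_inv_eq_iff_eq_mul.1 (hcent r hr)).symm⟩
      obtain ⟨m, hm⟩ := isPGroup_o2 M ⟨_, hkO⟩
      exact eq_one_of_odd_of_two hn hkn (by simpa using congrArg Subtype.val hm)
  exact g.M_le h

end

end Cfsg.Agent.Omega.SQ1.NodeA

end

-- merged: Cfsg.Agent.Mrg.Omega.SQ1.NodeA
section

/-!
# NODE (A) / (h4) of project OMEGA (blueprints/OMEGA-NodeA-helper603.md (i), (iii), (iv))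

`Base` (helper69): `S` a Sylow 2-subgroup with `J(S) = B = Q₁Q₂` of type `L₃(q)` (`c = 1`) or `Sp₄(q)`
(`c = 2`), `D = Q₁ ∩ Q₂`, `s ∈ S` swaps `Q₁`, `Q₂`.  `Ty … c`: the facts which depend on the type.

* `card_D_le` = (iii): `|D| ≤ c |D ∩ R|` for `R = O₂(X)`, `X ∈ L(S)`;
* `exists_of_not_le` = (iv): if `X ∈ L(S)` does not normalise `B`, there is an involution `x ∈ O₂(X)`, `x ∉ C(D)`, with
  `|D ∩ O₂(X)| ≤ 2 |D ∩ O₂(X) ∩ C(x)|`;
* `card_le_of_not_le`: then `|D| ≤ 4 c²` (so `q = 4`);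
* `le_normalizer_of_two`: type `Sp₄(q)`, all `q ≥ 4`: every `X ∈ L(S)` normalises `B`;
* `le_normalizer_of_lt`: `|D| > 4 c²`: every `X ∈ L(S)` normalises `B`.
-/

set_option autoImplicit false
set_option Elab.async false

namespace Cfsg.Agent.Omega.SQ1.NodeA

open Subgroup Cfsg Cfsg.Agent.ZN Cfsg.Agent.Omega.MinPar Cfsg.Agent.Omega.SQ1.End

universe u

variable {G : Type u} [Group G]

/-- The facts depending on the type: `L₃(q)` (`c = 1`) or `Sp₄(q)` (`c = 2`). -/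
structure Ty (S B Q₁ Q₂ D : Subgroup G) (c : ℕ) : Prop where
  /-- `[xy, B]` has index at most `c` in `D` -/
  big : ∀ x ∈ Q₁, x ∉ D → ∀ y ∈ Q₂, y ∉ D → ∀ K : Subgroup G, K ≤ D →
    (∀ b ∈ B, (x * y) * b * (x * y)⁻¹ * b⁻¹ ∈ K) → Nat.card D ≤ c * Nat.card K
  /-- a proper subgroup `K` of `D` of index at most `c` has `C_S(K) ≤ B` (void for `c = 1`) -/
  fix : ∀ K : Subgroup G, K < D → Nat.card D ≤ c * Nat.card K → ∀ u ∈ S,
    (∀ d ∈ K, u * d = d * u) → u ∈ B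
  /-- `S/C_S(D)` is cyclic -/
  cyc : ∀ x ∈ S, x * x = 1 → ∀ y ∈ S, y * y = 1 → x ∉ centralizer (D : Set G) →
    y ∉ centralizer (D : Set G) → x * y ∈ centralizer (D : Set G)
  /-- `|C_D(x)| = √|D|` for an involution of `S` acting nontrivially on `D` -/
  mv : ∀ x ∈ S, x * x = 1 → x ∉ centralizer (D : Set G) →
    Nat.card (D ⊓ centralizer ({x} : Set G) : Subgroup G) ^ 2 ≤ Nat.card D

theorem conj_o2 {L : Subgroup G} {l q : G} (hl : l ∈ L) (hq : q ∈ o2 L) : l * q * l⁻¹ ∈ o2 L :=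
  (mem_normalizer_iff.1 (le_normalizer_o2 L hl) q).1 hq

theorem le_norm [Finite G] {M L : Subgroup G} (h : ∀ l ∈ L, ∀ m ∈ M, l * m * l⁻¹ ∈ M) : L ≤ normalizer (M : Set G) :=
  fun l hl => End.mem_normalizer_of (h l hl)

theorem mem_cent {A : Subgroup G} {x : G} : x ∈ centralizer (A : Set G) ↔ ∀ a ∈ A, a * x = x * a := Iff.rfl

/-- an odd order element stabilising a chain of length 2 of a 2-group -/
theorem comm_of_odd {c w : G} (hc : Odd (orderOf c)) {P : Subgroup G} (hP : IsPGroup 2 P)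
    (h : c * w * c⁻¹ * w⁻¹ ∈ P) (h2 : c * (c * w * c⁻¹ * w⁻¹) = c * w * c⁻¹ * w⁻¹ * c) : c * w = w * c := by
  set t := c * w * c⁻¹ * w⁻¹ with ht
  have hk : ∀ k : ℕ, c ^ k * w * (c ^ k)⁻¹ = t ^ k * w := by
    intro k
    induction k with
    | zero => simp
    | succ k ih =>
      have hct : c * t ^ k = t ^ k * c := (show Commute c t from h2).pow_right k
      calc c ^ (k + 1) * w * (c ^ (k + 1))⁻¹ = c * (c ^ k * w * (c ^ k)⁻¹) * c⁻¹ := by
            rw [pow_succ']; group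
        _ = (c * t ^ k) * w * c⁻¹ := by rw [ih]; group
        _ = t ^ k * (c * w * c⁻¹ * w⁻¹) * w := by rw [hct]; group
        _ = t ^ (k + 1) * w := by rw [← ht, pow_succ]
  have h1 := hk (orderOf c)
  rw [pow_orderOf_eq_one, one_mul, inv_one, mul_one, eq_comm, mul_eq_right] at h1
  obtain ⟨n, hn⟩ := hP ⟨t, h⟩
  have hn' : t ^ 2 ^ n = 1 := congrArg Subtype.val hn
  have hd := Nat.dvd_gcd (orderOf_dvd_of_pow_eq_one h1) (orderOf_dvd_of_pow_eq_one hn')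
  have hco : Nat.gcd (orderOf c) (2 ^ n) = 1 := (Nat.coprime_two_right.2 hc).pow_right n
  rw [hco, Nat.dvd_one, orderOf_eq_one_iff] at hd
  rw [hd, eq_comm, mul_inv_eq_one, mul_inv_eq_iff_eq_mul] at ht
  exact ht

theorem isPGroup_of_odd [Finite G] {H : Subgroup G} (h : ∀ c ∈ H, Odd (orderOf c) → c = 1) :
    IsPGroup 2 H := by
  rintro ⟨c, hc⟩
  obtain ⟨k, m, hm, hk⟩ := Nat.exists_eq_two_pow_mul_odd (orderOf_pos c).ne'
  refine ⟨k, Subtype.ext ?_⟩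
  change c ^ 2 ^ k = 1
  refine h _ (pow_mem hc _) ?_
  rw [orderOf_pow' c (by positivity), hk, Nat.gcd_mul_right_left, Nat.mul_div_cancel_left _ (by positivity)]
  exact hm

/-- `C_Y(O₂(Y)) ≤ O₂(Y)`, `A ≤ O₂(Y)` normal in `Y`, `U ≤ Y` centralising `A` and `O₂(Y)/A`: `U ≤ O₂(Y)`. -/
theorem le_o2_of_chain [Finite G] {Y A U : Subgroup G} (hY : Y ⊓ centralizer (o2 Y : Set G) ≤ o2 Y)
    (hA : A ≤ o2 Y) (hAn : ∀ y ∈ Y, ∀ a ∈ A, y * a * y⁻¹ ∈ A) (hUY : U ≤ Y) (hUA : ∀ u ∈ U, ∀ a ∈ A, u * a = a * u)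
    (hUR : ∀ u ∈ U, ∀ r ∈ o2 Y, u * r * u⁻¹ * r⁻¹ ∈ A) : U ≤ o2 Y := by
  let K : Subgroup G :=
    { carrier := {u | u ∈ Y ∧ (∀ a ∈ A, u * a = a * u) ∧ ∀ r ∈ o2 Y, u * r * u⁻¹ * r⁻¹ ∈ A}
      one_mem' := ⟨one_mem _, fun a _ => by simp, fun r _ => by simp⟩
      mul_mem' := by
        rintro u v ⟨hu, hu1, hu2⟩ ⟨hv, hv1, hv2⟩
        refine ⟨mul_mem hu hv, fun a ha => ?_, fun r hr => ?_⟩
        · rw [mul_assoc, hv1 a ha, ← mul_assoc, hu1 a ha, mul_assoc]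
        · have h1 : u * v * r * (u * v)⁻¹ * r⁻¹ = (u * (v * r * v⁻¹ * r⁻¹) * u⁻¹) * (u * r * u⁻¹ * r⁻¹) := by group
          rw [h1]
          exact mul_mem (hAn u hu _ (hv2 r hr)) (hu2 r hr)
      inv_mem' := by
        rintro u ⟨hu, hu1, hu2⟩
        refine ⟨inv_mem hu, fun a ha => ?_, fun r hr => ?_⟩
        · rw [inv_mul_eq_iff_eq_mul, ← mul_assoc, hu1 a ha, mul_assoc, mul_inv_cancel, mul_one]
        · have h1 : u⁻¹ * r * u⁻¹⁻¹ * r⁻¹ = u⁻¹ * (u * r * u⁻¹ * r⁻¹)⁻¹ * u⁻¹⁻¹ := by group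
          rw [h1]
          exact hAn _ (inv_mem hu) _ (inv_mem (hu2 r hr)) }
  have hK : ∀ x, x ∈ K ↔ x ∈ Y ∧ (∀ a ∈ A, x * a = a * x) ∧ ∀ r ∈ o2 Y, x * r * x⁻¹ * r⁻¹ ∈ A := fun x => Iff.rfl
  have hKY : K ≤ Y := fun x hx => ((hK x).1 hx).1
  have hKn : Y ≤ normalizer (K : Set G) := by
    refine le_norm fun y hy k hk => ?_
    obtain ⟨h1, h2, h3⟩ := (hK k).1 hk
    refine (hK _).2 ⟨mul_mem (mul_mem hy h1) (inv_mem hy), fun a ha => ?_, fun r hr => ?_⟩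
    · have h4 : y⁻¹ * a * y ∈ A := by
        have := hAn _ (inv_mem hy) a ha
        rwa [inv_inv] at this
      calc y * k * y⁻¹ * a = y * (k * (y⁻¹ * a * y)) * y⁻¹ := by group
        _ = y * (y⁻¹ * a * y * k) * y⁻¹ := by rw [h2 _ h4]
        _ = a * (y * k * y⁻¹) := by group
    · have h4 : y⁻¹ * r * y ∈ o2 Y := by
        have := conj_o2 (inv_mem hy) hr
        rwa [inv_inv] at this
      have h5 : y * k * y⁻¹ * r * (y * k * y⁻¹)⁻¹ * r⁻¹ = y * (k * (y⁻¹ * r * y) * k⁻¹ * (y⁻¹ * r * y)⁻¹) * y⁻¹ := by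
        group
      rw [h5]
      exact hAn y hy _ (h3 _ h4)
  have hK2 : IsPGroup 2 K := by
    refine isPGroup_of_odd fun x hx hodd => ?_
    obtain ⟨h1, h2, h3⟩ := (hK x).1 hx
    have h4 : x ∈ o2 Y := by
      refine hY ⟨h1, mem_cent.2 fun r hr => ?_⟩
      exact (comm_of_odd hodd ((MinSimple.VModule.o2_isPGroup Y).to_le hA) (h3 r hr) (h2 _ (h3 r hr))).symm
    obtain ⟨n, hn⟩ := MinSimple.VModule.o2_isPGroup Y ⟨x, h4⟩
    have hn' : x ^ 2 ^ n = 1 := congrArg Subtype.val hn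
    have hd := orderOf_dvd_of_pow_eq_one hn'
    have hco : (orderOf x).Coprime (2 ^ n) := (Nat.coprime_two_right.2 hodd).pow_right n
    have h6 := Nat.Coprime.eq_one_of_dvd hco hd
    exact orderOf_eq_one_iff.1 h6
  exact fun u hu => ZN.le_o2 hKY hK2 hKn ((hK u).2 ⟨hUY hu, hUA u hu, hUR u hu⟩)

section

variable {P T B Q₁ Q₂ D C₁ C₂ : Subgroup G} {s : G} {q : ℕ}
variable [Finite G] (h : Base P T B Q₁ Q₂ D C₁ C₂ s q)

include h

/-- (f3) `C_S(B/D) = B`. -/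
theorem mem_B_of_comm {u : G} (hu : u ∈ P) (hc : ∀ b ∈ B, u * b * u⁻¹ * b⁻¹ ∈ D) : u ∈ B := by
  classical
  -- the set of these elements is closed under powers
  have hpow : ∀ n : ℕ, ∀ b ∈ B, u ^ n * b * (u ^ n)⁻¹ * b⁻¹ ∈ D := by
    intro n
    induction n with
    | zero => intro b _; simp [one_mem]
    | succ n ih =>
      intro b hb
      have h1 : u ^ (n + 1) * b * (u ^ (n + 1))⁻¹ * b⁻¹ =
          (u * (u ^ n * b * (u ^ n)⁻¹ * b⁻¹) * u⁻¹) * (u * b * u⁻¹ * b⁻¹) := by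
        rw [pow_succ']; group
      rw [h1]
      exact mul_mem (h.P_D hu (ih b hb)) (hc b hb)
  rcases h.mem_S hu with huT | huT
  · by_contra huB
    obtain ⟨m, hm⟩ := h.two ⟨u, hu⟩
    have hm' : u ^ 2 ^ m ∈ B := by
      have : u ^ 2 ^ m = 1 := by simpa using congrArg Subtype.val hm
      rw [this]; exact one_mem _
    have hex : ∃ m : ℕ, u ^ 2 ^ m ∈ B := ⟨m, hm'⟩
    obtain ⟨j, hj⟩ : ∃ j, Nat.find hex = j + 1 := by
      apply Nat.exists_eq_succ_of_ne_zero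
      intro h0
      have h1 := Nat.find_spec hex
      rw [h0, pow_zero, pow_one] at h1
      exact huB h1
    have hj1 : u ^ 2 ^ j ∉ B := Nat.find_min hex (by omega)
    have hj2 : u ^ 2 ^ j * u ^ 2 ^ j ∈ B := by
      have h1 := Nat.find_spec hex
      rw [hj, pow_succ, pow_mul, pow_two] at h1
      exact h1
    set f := u ^ 2 ^ j with hf
    have hcf := hpow (2 ^ j)
    rw [← hf] at hcf
    have hfr := h.free1 f (T.pow_mem huT _) hj1 hj2
    obtain ⟨b, hb, hbD⟩ := h.exists_b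
    have hbB := h.Q2B hb
    have h1 : b⁻¹ * (f * b * f⁻¹) ∈ Q₁ := by
      have h4 : b⁻¹ * (f * b * f⁻¹) = b⁻¹ * (f * b * f⁻¹ * b⁻¹) * b := by group
      rw [h4, mul_assoc, h.centD (hcf b hbB) hbB, inv_mul_cancel_left]
      exact h.D1 (hcf b hbB)
    obtain ⟨v, hv, hv2⟩ := hfr b hbB h1
    have h5 : v * (f * v * f⁻¹) ∈ Q₁ := by
      have h6 : v * (f * v * f⁻¹) = v * (f * v * f⁻¹ * v⁻¹) * v := by group
      rw [h6, mul_assoc, h.centD (hcf v hv) hv, ← mul_assoc]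
      exact h.D1 (D.mul_mem (h.sqB hv) (hcf v hv))
    have h7 : b⁻¹ ∈ Q₁ := by
      have h8 := Q₁.mul_mem hv2 (Q₁.inv_mem h5)
      rwa [mul_inv_cancel_right] at h8
    exact hbD ((h.memD b).2 ⟨by simpa using Q₁.inv_mem h7, hb⟩)
  · exfalso
    obtain ⟨a, ha, haD⟩ := h.exists_a
    have h1 := h.swap1 huT ha
    have h2 := h.D2 (hc a (h.Q1B ha))
    have h3 := Q₂.mul_mem (Q₂.inv_mem h2) h1
    have h4 : (u * a * u⁻¹ * a⁻¹)⁻¹ * (u * a * u⁻¹) = a := by group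
    rw [h4] at h3
    exact haD ((h.memD a).2 ⟨ha, h3⟩)

theorem swap_not {x : G} (hx : x ∉ D) : s * x * s⁻¹ ∉ D := by
  intro h1
  apply hx
  have h2 := h.P_D (P.inv_mem h.sS) h1
  have h3 : s⁻¹ * (s * x * s⁻¹) * s⁻¹⁻¹ = x := by group
  rwa [h3] at h2

theorem not_B_le_D : ¬ B ≤ D := by
  obtain ⟨a, ha, haD⟩ := h.exists_a
  exact fun h1 => haD (h1 (h.Q1B ha))

/-- (iii): `|D| ≤ c |D ∩ R|` -/
theorem card_D_le {c : ℕ} (t : Ty P B Q₁ Q₂ D c) {R : Subgroup G} (hRS : R ≤ P)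
    (hn : ∀ x ∈ P, ∀ r ∈ R, x * r * x⁻¹ ∈ R)
    (hC : ∀ g ∈ B, (∀ r ∈ R, g * r = r * g) → g ∈ R) : Nat.card D ≤ c * Nat.card (D ⊓ R : Subgroup G) := by
  have hBP : B ≤ P := h.BT.trans h.TS
  have h1 : ∃ n ∈ R, n ∈ B ∧ n ∉ D := by
    by_contra hcon
    push Not at hcon
    have h2 : ∀ r ∈ R, r ∈ D := by
      intro r hr
      refine hcon r hr (mem_B_of_comm h (hRS hr) fun b hb => hcon _ ?_ ?_)
      · have h2 : r * b * r⁻¹ * b⁻¹ = r * (b * r⁻¹ * b⁻¹) := by group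
        rw [h2]; exact mul_mem hr (hn b (hBP hb) _ (inv_mem hr))
      · exact mul_mem (h.S_B (hRS hr) hb) (inv_mem hb)
    exact not_B_le_D h fun b hb => h2 b (hC b hb fun r hr => (h.centD (h2 r hr) hb).symm)
  have h2 : ∃ x ∈ Q₁, x ∉ D ∧ ∃ y ∈ Q₂, y ∉ D ∧ x * y ∈ R := by
    obtain ⟨n, hnR, hnB, hnD⟩ := h1
    obtain ⟨x, hx, y, hy, rfl⟩ := h.prod n hnB
    have hs := hn s h.sS _ hnR
    by_cases hxD : x ∈ D
    · have h3 : x * y ∈ Q₂ := mul_mem (h.D2 hxD) hy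
      exact ⟨_, h.s2 _ h3, swap_not h hnD, _, h3, hnD, mul_mem hs hnR⟩
    · by_cases hyD : y ∈ D
      · have h3 : x * y ∈ Q₁ := mul_mem hx (h.D1 hyD)
        exact ⟨_, h3, hnD, _, h.s1 _ h3, swap_not h hnD, mul_mem hnR hs⟩
      · exact ⟨x, hx, hxD, y, hy, hyD, hnR⟩
  obtain ⟨x, hx, hxD, y, hy, hyD, hxy⟩ := h2
  refine t.big x hx hxD y hy hyD _ inf_le_left fun b hb =>
    ⟨h.commB (mul_mem (h.Q1B hx) (h.Q2B hy)) hb, ?_⟩
  have h4 : x * y * b * (x * y)⁻¹ * b⁻¹ = x * y * (b * (x * y)⁻¹ * b⁻¹) := by group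
  rw [h4]; exact mul_mem hxy (hn b (hBP hb) _ (inv_mem hxy))

theorem s_not_mem_B : s ∉ B := fun hs => h.s_notMem (h.BT hs)

end

/-- the subgroup generated by the `X`-conjugates of `D₀` -/
def cl (X D₀ : Subgroup G) : Subgroup G := closure {x | ∃ g ∈ X, ∃ d ∈ D₀, x = g * d * g⁻¹}

theorem le_cl {X D₀ : Subgroup G} : D₀ ≤ cl X D₀ := fun d hd =>
  subset_closure ⟨1, one_mem _, d, hd, by simp⟩

theorem cl_conj {X D₀ : Subgroup G} {g w : G} (hg : g ∈ X) (hw : w ∈ cl X D₀) : g * w * g⁻¹ ∈ cl X D₀ := by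
  have h1 : cl X D₀ ≤ (cl X D₀).comap (MulAut.conj g).toMonoidHom := by
    refine (closure_le _).2 ?_
    rintro _ ⟨k, hk, d, hd, rfl⟩
    refine subset_closure ⟨g * k, mul_mem hg hk, d, hd, ?_⟩
    simp only [MulEquiv.coe_toMonoidHom, MulAut.conj_apply]
    group
  exact h1 hw

theorem cl_le {X D₀ R : Subgroup G} (h : ∀ g ∈ X, ∀ d ∈ D₀, g * d * g⁻¹ ∈ R) : cl X D₀ ≤ R := by
  refine (closure_le _).2 ?_
  rintro _ ⟨k, hk, d, hd, rfl⟩
  exact h k hk d hd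

theorem cl_sq {X D₀ : Subgroup G} (h2 : ∀ d ∈ D₀, d * d = 1)
    (hc : ∀ g ∈ X, ∀ d ∈ D₀, ∀ e ∈ D₀, d * (g * e * g⁻¹) = g * e * g⁻¹ * d) :
    ∀ w ∈ cl X D₀, w * w = 1 := by
  have hcomm : ∀ x ∈ {x | ∃ g ∈ X, ∃ d ∈ D₀, x = g * d * g⁻¹}, ∀ y ∈ {x | ∃ g ∈ X, ∃ d ∈ D₀, x = g * d * g⁻¹},
      x * y = y * x := by
    rintro _ ⟨g, hg, d, hd, rfl⟩ _ ⟨k, hk, e, he, rfl⟩
    have h1 := hc (g⁻¹ * k) (mul_mem (inv_mem hg) hk) d hd e he
    calc g * d * g⁻¹ * (k * e * k⁻¹) = g * (d * (g⁻¹ * k * e * (g⁻¹ * k)⁻¹)) * g⁻¹ := by group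
      _ = g * (g⁻¹ * k * e * (g⁻¹ * k)⁻¹ * d) * g⁻¹ := by rw [h1]
      _ = k * e * k⁻¹ * (g * d * g⁻¹) := by group
  have hcl : ∀ x ∈ cl X D₀, ∀ y ∈ cl X D₀, x * y = y * x := by
    intro x hx y hy
    have h1 : cl X D₀ ≤ centralizer {x | ∃ g ∈ X, ∃ d ∈ D₀, x = g * d * g⁻¹} := by
      refine (closure_le _).2 fun z hz => ?_
      rw [SetLike.mem_coe, mem_centralizer_iff]
      exact fun w hw => hcomm w hw z hz
    have h2 : cl X D₀ ≤ centralizer (cl X D₀ : Set G) := by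
      refine (closure_le _).2 fun z hz => ?_
      rw [SetLike.mem_coe, mem_centralizer_iff]
      exact fun w hw => (mem_centralizer_iff.1 (h1 hw) z hz).symm
    exact mem_centralizer_iff.1 (h2 hy) x hx
  intro w hw
  refine closure_induction (p := fun x _ => x * x = 1) ?_ (by simp) ?_ ?_ hw
  · rintro _ ⟨g, -, d, hd, rfl⟩
    have : g * d * g⁻¹ * (g * d * g⁻¹) = g * (d * d) * g⁻¹ := by group
    rw [this, h2 d hd]; simp
  · intro x y hx hy hx1 hy1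
    calc x * y * (x * y) = x * (y * x) * y := by group
      _ = x * (x * y) * y := by rw [hcl y hy x hx]
      _ = (x * x) * (y * y) := by group
      _ = 1 := by rw [hx1, hy1, one_mul]
  · intro x _ hx1
    rw [← mul_inv_rev, hx1, inv_one]

section

variable {S : Sylow 2 G} {T B Q₁ Q₂ D C₁ C₂ : Subgroup G} {s : G} {q : ℕ}
variable [Finite G] (h : Base (S : Subgroup G) T B Q₁ Q₂ D C₁ C₂ s q)

include h

/-- (iv), first half: `D ∩ O₂(X)` does not commute with one of its `X`-conjugates. -/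
theorem exists_noncomm (hG : IsCharacteristicTwoType G) {c : ℕ} (t : Ty (S : Subgroup G) B Q₁ Q₂ D c)
    (hD : normalizer (D : Set G) ≤ normalizer (B : Set G)) {X : Subgroup G} (hX : IsLoc (S : Subgroup G) X)
    (hXB : ¬ X ≤ normalizer (B : Set G)) :
    ∃ g ∈ X, ∃ d ∈ D ⊓ o2 X, ∃ e ∈ D ⊓ o2 X, d * (g * e * g⁻¹) ≠ g * e * g⁻¹ * d := by
  by_contra hcon
  push Not at hcon
  set D₀ := D ⊓ o2 X with hD₀
  have hBS : B ≤ S := h.BT.trans h.TS
  have hRS : o2 X ≤ (S : Subgroup G) := hX.o2_le S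
  have hcard : Nat.card D ≤ c * Nat.card D₀ := by
    refine card_D_le h t hRS (fun x hx r hr => conj_o2 (hX.le hx) hr) fun g hg hgr => ?_
    exact hX.char2 S hG ⟨hX.le (hBS hg), mem_cent.2 fun r hr => (hgr r hr).symm⟩
  -- `D₀` is normal in `X`
  have h1 : cl X D₀ ≤ D₀ := by
    have h2 : cl X D₀ ≤ o2 X := cl_le fun g hg d hd => conj_o2 hg hd.2
    refine le_inf ?_ h2
    refine h.normal_elem_le (h2.trans hRS) (fun x hx v hv => cl_conj (hX.le hx) hv) ?_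
    exact cl_sq (fun d hd => h.sqD hd.1) hcon
  have hXD₀ : X ≤ normalizer (D₀ : Set G) :=
    le_norm fun x hx d hd => h1 (cl_conj hx (le_cl hd))
  by_cases hDD : D ≤ o2 X
  · have h2 : D₀ = D := inf_eq_left.2 hDD
    rw [h2] at hXD₀
    exact hXB (hXD₀.trans hD)
  -- `D₀ < D`: `C_S(D₀) ≤ B`
  have hlt : D₀ < D := lt_of_le_of_ne inf_le_left fun h2 => hDD (inf_eq_left.1 h2)
  have hfix := t.fix D₀ hlt hcard
  have hne : D₀ ≠ ⊥ := by
    intro h2
    refine s_not_mem_B h (hfix s h.sS fun d hd => ?_)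
    rw [h2, mem_bot] at hd
    subst hd; simp
  have hloc : IsLoc (S : Subgroup G) (normalizer (D₀ : Set G)) :=
    isLoc_normalizer S (h.two.to_le (inf_le_right.trans hRS)) hne (hX.le.trans hXD₀)
  have hDDcomm : ∀ d ∈ D, ∀ e ∈ D, d * e = e * d := fun d hd e he => h.centD hd (h.DB he)
  have hDN : D ≤ normalizer (D₀ : Set G) := by
    refine le_norm fun x hx d hd => ?_
    rw [hDDcomm x hx d hd.1, mul_inv_cancel_right]; exact hd
  -- `D` stabilises the chain `O₂(N(D₀)) ≥ C(D₀) ∩ O₂(N(D₀)) ≥ 1`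
  have h3 : D ≤ o2 (normalizer (D₀ : Set G)) := by
    refine le_o2_of_chain (A := o2 (normalizer (D₀ : Set G)) ⊓ centralizer (D₀ : Set G)) (hloc.char2 S hG)
      inf_le_left ?_ hDN ?_ ?_
    · rintro y hy a ⟨ha1, ha2⟩
      refine ⟨conj_o2 hy ha1, mem_cent.2 fun d hd => ?_⟩
      have h4 : y⁻¹ * d * y ∈ D₀ := (mem_normalizer_iff''.1 hy d).1 hd
      have h5 := mem_cent.1 ha2 _ h4
      calc d * (y * a * y⁻¹) = y * (y⁻¹ * d * y * a) * y⁻¹ := by group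
        _ = y * (a * (y⁻¹ * d * y)) * y⁻¹ := by rw [h5]
        _ = y * a * y⁻¹ * d := by group
    · rintro d hd a ⟨ha1, ha2⟩
      refine h.centD hd (hfix a (hloc.o2_le S ha1) fun e he => ?_)
      exact (mem_centralizer_iff.1 ha2 e he).symm
    · intro d hd r hr
      refine ⟨?_, ?_⟩
      · have h4 : d * r * d⁻¹ * r⁻¹ = (d * r * d⁻¹) * r⁻¹ := by group
        rw [h4]
        exact (o2 (normalizer (D₀ : Set G))).mul_mem (conj_o2 (hDN hd) hr) (Subgroup.inv_mem _ hr)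
      · have h4 : d * r * d⁻¹ * r⁻¹ = d * (r * d⁻¹ * r⁻¹) := by group
        rw [h4]
        have h5 : D ≤ centralizer (D₀ : Set G) := by
          intro x hx
          rw [mem_centralizer_iff]
          exact fun e he => hDDcomm e he.1 x hx
        refine (centralizer (D₀ : Set G)).mul_mem (h5 hd) (mem_cent.2 fun e he => ?_)
        have h6 : r⁻¹ * e * r ∈ D₀ := (mem_normalizer_iff''.1 (o2_le _ hr) e).1 he
        have h7 := hDDcomm _ h6.1 d⁻¹ (inv_mem hd)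
        calc e * (r * d⁻¹ * r⁻¹) = r * (r⁻¹ * e * r * d⁻¹) * r⁻¹ := by group
          _ = r * (d⁻¹ * (r⁻¹ * e * r)) * r⁻¹ := by rw [h7]
          _ = r * d⁻¹ * r⁻¹ * e := by group
  exact hDD (h3.trans (o2_le_o2 S hX.le hXD₀))

theorem card_inf_le (hG : IsCharacteristicTwoType G) {c : ℕ} (t : Ty (S : Subgroup G) B Q₁ Q₂ D c)
    {X : Subgroup G} (hX : IsLoc (S : Subgroup G) X) : Nat.card D ≤ c * Nat.card (D ⊓ o2 X : Subgroup G) := by
  have hBS : B ≤ S := h.BT.trans h.TS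
  refine card_D_le h t (hX.o2_le S) (fun x hx r hr => conj_o2 (hX.le hx) hr) fun g hg hgr => ?_
  exact hX.char2 S hG ⟨hX.le (hBS hg), mem_cent.2 fun r hr => (hgr r hr).symm⟩

/-- (iv) -/
theorem exists_of_not_le (hG : IsCharacteristicTwoType G) {c : ℕ} (t : Ty (S : Subgroup G) B Q₁ Q₂ D c)
    (hD : normalizer (D : Set G) ≤ normalizer (B : Set G)) {X : Subgroup G} (hX : IsLoc (S : Subgroup G) X)
    (hXB : ¬ X ≤ normalizer (B : Set G)) :
    ∃ x ∈ o2 X, x * x = 1 ∧ x ∉ centralizer (D : Set G) ∧ Nat.card D ≤ c * Nat.card (D ⊓ o2 X : Subgroup G) ∧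
      Nat.card (D ⊓ o2 X : Subgroup G) ≤
        2 * Nat.card (D ⊓ o2 X ⊓ centralizer ({x} : Set G) : Subgroup G) := by
  obtain ⟨g, hg, d, hd, e, he, hne⟩ := exists_noncomm h hG t hD hX hXB
  have hRS : o2 X ≤ (S : Subgroup G) := hX.o2_le S
  set x := g * e * g⁻¹ with hx
  have hxR : x ∈ o2 X := conj_o2 hg he.2
  refine ⟨x, hxR, ?_, fun h1 => hne (mem_cent.1 h1 d hd.1), card_inf_le h hG t hX, ?_⟩
  · have h1 : x * x = g * (e * e) * g⁻¹ := by rw [hx]; group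
    rw [h1, h.sqD he.1]; simp
  have hmem : ∀ a, a ∈ centralizer ({x} : Set G) ↔ x * a = a * x :=
    fun a => mem_centralizer_singleton_iff.trans eq_comm
  refine card_le_two_mul (f := d) hd fun a ha => ?_
  by_cases hax : a ∈ centralizer ({x} : Set G)
  · exact Or.inl ⟨ha, hax⟩
  right
  refine ⟨(D ⊓ o2 X).mul_mem ((D ⊓ o2 X).inv_mem hd) ha, (hmem _).2 ?_⟩
  have key : ∀ b ∈ D ⊓ o2 X, b ∉ centralizer ({x} : Set G) → (g⁻¹ * b * g) ∈ (S : Subgroup G) ∧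
      (g⁻¹ * b * g) * (g⁻¹ * b * g) = 1 ∧ g⁻¹ * b * g ∉ centralizer (D : Set G) := by
    intro b hb hbx
    refine ⟨hRS ?_, ?_, fun h1 => hbx ((hmem b).2 ?_)⟩
    · have := conj_o2 (inv_mem hg) hb.2
      rwa [inv_inv] at this
    · have h1 : (g⁻¹ * b * g) * (g⁻¹ * b * g) = g⁻¹ * (b * b) * g := by group
      rw [h1, h.sqD hb.1]; simp
    · have h2 := mem_cent.1 h1 e he.1
      calc x * b = g * (e * (g⁻¹ * b * g)) * g⁻¹ := by rw [hx]; group
        _ = g * (g⁻¹ * b * g * e) * g⁻¹ := by rw [h2]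
        _ = b * x := by rw [hx]; group
  obtain ⟨k1, k2, k3⟩ := key a ha hax
  obtain ⟨l1, l2, l3⟩ := key d hd fun h1 => hne (((hmem d).1 h1).symm)
  have hdi : d⁻¹ = d := inv_eq_of_mul_eq_one_right (h.sqD hd.1)
  have h2 := mem_cent.1 (t.cyc _ l1 l2 _ k1 k2 l3 k3) e he.1
  rw [hdi]
  calc x * (d * a) = g * (e * (g⁻¹ * d * g * (g⁻¹ * a * g))) * g⁻¹ := by rw [hx]; group
    _ = g * (g⁻¹ * d * g * (g⁻¹ * a * g) * e) * g⁻¹ := by rw [h2]
    _ = d * a * x := by rw [hx]; group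

/-- (iv), the order: `q = 4`. -/
theorem card_le_of_not_le (hG : IsCharacteristicTwoType G) {c : ℕ} (t : Ty (S : Subgroup G) B Q₁ Q₂ D c)
    (hD : normalizer (D : Set G) ≤ normalizer (B : Set G)) {X : Subgroup G} (hX : IsLoc (S : Subgroup G) X)
    (hXB : ¬ X ≤ normalizer (B : Set G)) : Nat.card D ≤ (2 * c) ^ 2 := by
  obtain ⟨x, hxR, hx2, hxD, h1, h2⟩ := exists_of_not_le h hG t hD hX hXB
  have h3 := t.mv x (hX.o2_le S hxR) hx2 hxD
  have h4 : Nat.card (D ⊓ o2 X ⊓ centralizer ({x} : Set G) : Subgroup G) ≤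
      Nat.card (D ⊓ centralizer ({x} : Set G) : Subgroup G) :=
    Subgroup.card_le_of_le (inf_le_inf inf_le_left le_rfl)
  set a := Nat.card (D ⊓ centralizer ({x} : Set G) : Subgroup G)
  have h5 : Nat.card D ≤ 2 * c * a := by
    calc Nat.card D ≤ c * (2 * a) := h1.trans (Nat.mul_le_mul_left c (h2.trans (Nat.mul_le_mul_left 2 h4)))
      _ = 2 * c * a := by ring
  have ha : 0 < a := Nat.card_pos
  have h6 : a ≤ 2 * c := by
    have : a * a ≤ 2 * c * a := by rw [pow_two] at h3; exact h3.trans h5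
    exact Nat.le_of_mul_le_mul_right this ha
  calc Nat.card D ≤ 2 * c * a := h5
    _ ≤ 2 * c * (2 * c) := Nat.mul_le_mul_left _ h6
    _ = (2 * c) ^ 2 := by ring

/-- (vi), all `q`: type `Sp₄(q)`.  `two`: `[n, B] [n', B] = D` for mixed `n`, `n'` different modulo `D`; `idx`: `|T : B| ≤ 2`
(used for `q = 4`). -/
theorem le_normalizer_of_two (hG : IsCharacteristicTwoType G) {c : ℕ} (t : Ty (S : Subgroup G) B Q₁ Q₂ D c)
    (hD : normalizer (D : Set G) ≤ normalizer (B : Set G)) (hcard : 4 < Nat.card D)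
    (two : ∀ x ∈ Q₁, x ∉ D → ∀ y ∈ Q₂, y ∉ D → ∀ x' ∈ Q₁, x' ∉ D → ∀ y' ∈ Q₂, y' ∉ D → x⁻¹ * x' ∉ D →
      ∀ K : Subgroup G, K ≤ D → (∀ b ∈ B, (x * y) * b * (x * y)⁻¹ * b⁻¹ ∈ K) →
        (∀ b ∈ B, (x' * y') * b * (x' * y')⁻¹ * b⁻¹ ∈ K) → D ≤ K)
    (idx : ∀ t ∈ T, t ∉ B → ∀ t' ∈ T, t' ∉ B → t⁻¹ * t' ∈ B) {X : Subgroup G}
    (hX : IsLoc (S : Subgroup G) X) : X ≤ normalizer (B : Set G) := by
  by_contra hXB
  obtain ⟨x, hxR, hx2, hxD, h1, h2⟩ := exists_of_not_le h hG t hD hX hXB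
  have hBS : B ≤ S := h.BT.trans h.TS
  have hRS : o2 X ≤ (S : Subgroup G) := hX.o2_le S
  -- `D ≰ O₂(X)`
  have hDR : ¬ D ≤ o2 X := by
    intro h3
    have h4 := t.mv x (hX.o2_le S hxR) hx2 hxD
    rw [inf_eq_left.2 h3] at h2
    set a := Nat.card (D ⊓ centralizer ({x} : Set G) : Subgroup G)
    nlinarith
  have hxB : x ∉ B := fun h3 => hxD (mem_cent.2 fun d hd => h.centD hd h3)
  -- commutators of `R ∩ B` with `B` lie in `D ∩ R`
  have hcom : ∀ n ∈ o2 X, n ∈ B → ∀ b ∈ B, n * b * n⁻¹ * b⁻¹ ∈ D ⊓ o2 X := by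
    intro n hn hnB b hb
    refine ⟨h.commB hnB hb, ?_⟩
    have h4 : n * b * n⁻¹ * b⁻¹ = n * (b * n⁻¹ * b⁻¹) := by group
    rw [h4]; exact mul_mem hn (conj_o2 (hX.le (hBS hb)) (inv_mem hn))
  -- step A: no swap in `O₂(X)`
  have hRT : ∀ r ∈ o2 X, r ∈ T := by
    intro v hv
    by_contra hvT
    have hsw := (h.mem_S (hRS hv)).resolve_left hvT
    have hna : ∀ a ∈ Q₁, a ∉ D → a⁻¹ ∈ Q₁ ∧ a⁻¹ ∉ D ∧ v * a * v⁻¹ ∈ Q₂ ∧ v * a * v⁻¹ ∉ D ∧
        a⁻¹ * (v * a * v⁻¹) ∈ o2 X := by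
      intro a ha haD
      refine ⟨inv_mem ha, fun h3 => haD (by simpa using D.inv_mem h3), h.swap1 hsw ha, fun h3 => haD ?_, ?_⟩
      · have h4 := h.P_D (inv_mem (hRS hv)) h3
        have h5 : v⁻¹ * (v * a * v⁻¹) * v⁻¹⁻¹ = a := by group
        rwa [h5] at h4
      · have h5 : a⁻¹ * (v * a * v⁻¹) = (a⁻¹ * v * a⁻¹⁻¹) * v⁻¹ := by group
        rw [h5]
        exact mul_mem (conj_o2 (hX.le (hBS (h.Q1B (inv_mem ha)))) hv) (inv_mem hv)
    obtain ⟨a, ha, haD, a', ha', haD', haa⟩ : ∃ a ∈ Q₁, a ∉ D ∧ ∃ a' ∈ Q₁, a' ∉ D ∧ a⁻¹ * a' ∉ D := by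
      obtain ⟨a, ha, haD⟩ := h.exists_a
      by_contra hcon
      push Not at hcon
      have h3 := card_le_two_mul (E := Q₁) (E₀ := D) ha fun e he => by
        by_cases heD : e ∈ D
        · exact Or.inl heD
        · exact Or.inr (hcon a ha haD e he heD)
      rw [h.card1] at h3
      have h4 := h.hq
      have h5 : 0 < Nat.card D := Nat.card_pos
      nlinarith
    obtain ⟨k1, k2, k3, k4, k5⟩ := hna a ha haD
    obtain ⟨l1, l2, l3, l4, l5⟩ := hna a' ha' haD'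
    refine hDR ((two _ k1 k2 _ k3 k4 _ l1 l2 _ l3 l4 ?_ (D ⊓ o2 X) inf_le_left
      (hcom _ k5 (mul_mem (h.Q1B k1) (h.Q2B k3))) (hcom _ l5 (mul_mem (h.Q1B l1) (h.Q2B l3)))).trans inf_le_right)
    rw [inv_inv]
    intro h3
    apply haa
    have h4 : a⁻¹ * a' = a * a' := by rw [h.inv1 ha]
    have h5 : a * a'⁻¹ = a * a' := by rw [h.inv1 ha']
    rw [h4, ← h5]; exact h3
  -- step B
  have hRx : ∀ r ∈ o2 X, r ∉ B → x⁻¹ * r ∈ B := fun r hr hrB => idx x (hRT x hxR) hxB r (hRT r hr) hrB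
  have hxx : x⁻¹ = x := inv_eq_of_mul_eq_one_right hx2
  -- `[R, D] ≤ Z(R)`
  have hcomD : ∀ r ∈ o2 X, ∀ d ∈ D, ∀ r' ∈ o2 X, r' * (d * r * d⁻¹ * r⁻¹) = d * r * d⁻¹ * r⁻¹ * r' := by
    intro r hr d hd r' hr'
    by_cases hrB : r ∈ B
    · have h3 : d * r * d⁻¹ * r⁻¹ = 1 := by rw [h.centD hd hrB]; group
      rw [h3, mul_one, one_mul]
    have h3 := hRx r hr hrB
    -- `r = x n`
    have h4 : d * r * d⁻¹ * r⁻¹ = d * x * d⁻¹ * x⁻¹ := by
      have h5 := h.centD (inv_mem hd) h3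
      calc d * r * d⁻¹ * r⁻¹ = d * x * (x⁻¹ * r * d⁻¹) * r⁻¹ := by group
        _ = d * x * (d⁻¹ * (x⁻¹ * r)) * r⁻¹ := by rw [h5]
        _ = d * x * d⁻¹ * x⁻¹ := by group
    have h6 : d * x * d⁻¹ * x⁻¹ ∈ D := by
      have h7 : d * x * d⁻¹ * x⁻¹ = d * (x * d⁻¹ * x⁻¹) := by group
      rw [h7]; exact mul_mem hd (h.P_D (hRS hxR) (inv_mem hd))
    have h8 : x * (d * x * d⁻¹ * x⁻¹) = d * x * d⁻¹ * x⁻¹ * x := by
      have hdd : d⁻¹ = d := inv_eq_of_mul_eq_one_right (h.sqD hd)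
      have h9 : d * (x * d * x⁻¹) = x * d * x⁻¹ * d := h.centD hd (h.DB (h.P_D (hRS hxR) hd))
      rw [hdd]
      rw [hxx] at h9 ⊢
      calc x * (d * x * d * x) = (x * d * x * d) * x := by group
        _ = d * (x * d * x) * x := by rw [h9]
        _ = d * x * d * x * x := by group
    rw [h4]
    by_cases hr'B : r' ∈ B
    · exact (h.centD h6 hr'B).symm
    · have h9 := hRx r' hr' hr'B
      have h10 : r' = x * (x⁻¹ * r') := by group
      rw [h10]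
      calc x * (x⁻¹ * r') * (d * x * d⁻¹ * x⁻¹) = x * (x⁻¹ * r' * (d * x * d⁻¹ * x⁻¹)) := by group
        _ = x * (d * x * d⁻¹ * x⁻¹ * (x⁻¹ * r')) := by rw [← h.centD h6 h9]
        _ = (x * (d * x * d⁻¹ * x⁻¹)) * (x⁻¹ * r') := by group
        _ = d * x * d⁻¹ * x⁻¹ * x * (x⁻¹ * r') := by rw [h8]
        _ = d * x * d⁻¹ * x⁻¹ * (x * (x⁻¹ * r')) := by group
  have hlt : D ⊓ o2 X < D := lt_of_le_of_ne inf_le_left fun h3 => hDR (inf_eq_left.1 h3)
  -- the centre of `R` lies in `B`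
  have hZB : ∀ z ∈ o2 X, (∀ r ∈ o2 X, r * z = z * r) → z ∈ B := fun z hz hzr =>
    t.fix _ hlt h1 z (hRS hz) fun d hd => (hzr d hd.2).symm
  have hDX : D ≤ X := h.DB.trans (hBS.trans hX.le)
  refine hDR (le_o2_of_chain (A := o2 X ⊓ centralizer (o2 X : Set G)) (hX.char2 S hG) inf_le_left ?_ hDX ?_ ?_)
  · rintro y hy a ⟨ha1, ha2⟩
    refine ⟨conj_o2 hy ha1, mem_cent.2 fun r hr => ?_⟩
    have h4 : y⁻¹ * r * y ∈ o2 X := by
      have := conj_o2 (inv_mem hy) hr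
      rwa [inv_inv] at this
    have h5 := mem_cent.1 ha2 _ h4
    calc r * (y * a * y⁻¹) = y * (y⁻¹ * r * y * a) * y⁻¹ := by group
      _ = y * (a * (y⁻¹ * r * y)) * y⁻¹ := by rw [h5]
      _ = y * a * y⁻¹ * r := by group
  · rintro d hd a ⟨ha1, ha2⟩
    exact h.centD hd (hZB a ha1 fun r hr => mem_cent.1 ha2 r hr)
  · intro d hd r hr
    refine ⟨?_, mem_cent.2 fun r' hr' => hcomD r hr d hd r' hr'⟩
    exact (o2 X).mul_mem (conj_o2 (hDX hd) hr) ((o2 X).inv_mem hr)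

/-- (h4) for `q ≥ 8`. -/
theorem le_normalizer_of_lt (hG : IsCharacteristicTwoType G) {c : ℕ} (t : Ty (S : Subgroup G) B Q₁ Q₂ D c)
    (hD : normalizer (D : Set G) ≤ normalizer (B : Set G)) (hq : (2 * c) ^ 2 < Nat.card D) {X : Subgroup G}
    (hX : IsLoc (S : Subgroup G) X) : X ≤ normalizer (B : Set G) := by
  by_contra hXB
  exact absurd (card_le_of_not_le h hG t hD hX hXB) (not_le.2 hq)

end

end Cfsg.Agent.Omega.SQ1.NodeA

end

-- merged: Cfsg.Agent.Mrg.Omega.SQ1.TySp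
section

/-!
# NODE (A): the facts `Ty` for type `Sp₄(q)`, from helper67's coordinates `FFOne.SpFour`
-/

set_option autoImplicit false
set_option Elab.async false

namespace Cfsg.Agent.Omega.SQ1.NodeA

open Subgroup Cfsg Cfsg.Agent.Omega.SQ1.End
open Cfsg.Agent.Omega.FFOne (cm SpFour semi_mul semi_sq)

universe u

/-! ### Field facts -/

section Field

variable {F : Type*} [Field F] [Finite F] [CharP F 2]

/-- `δ² = Frobenius`: no involutory automorphism -/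
theorem aut_trivial (δ ρ : F ≃+* F) (hδ : ∀ a, δ (δ a) = a * a) (hρ : ∀ a, ρ (ρ a) = a) (a : F) : ρ a = a := by
  have h2 : Fact (Nat.Prime 2) := ⟨Nat.prime_two⟩
  let _ : Algebra (ZMod 2) F := ZMod.algebra F 2
  let e : (F ≃+* F) → (F ≃ₐ[ZMod 2] F) := fun φ => AlgEquiv.ofRingEquiv (f := φ) (fun a => by
        have : (φ : F →+* F).comp (algebraMap (ZMod 2) F) = algebraMap (ZMod 2) F :=
          Subsingleton.elim _ _
        exact RingHom.congr_fun this a)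
  have he : ∀ φ b, e φ b = φ b := fun φ b => rfl
  let fr := FiniteField.frobeniusAlgEquivOfAlgebraic (ZMod 2) F
  have hfr : ∀ b, fr b = b * b := by
    intro b
    have h1 : (⇑fr) = (· ^ Fintype.card (ZMod 2)) := FiniteField.coe_frobeniusAlgEquivOfAlgebraic (ZMod 2) F
    rw [h1]
    simp only [ZMod.card, pow_two]
  have h3 : e δ * e δ = fr := by
    ext b
    rw [AlgEquiv.mul_apply, he, he, hδ, hfr]
  have h4 : e ρ * e ρ = 1 := by
    ext b
    rw [AlgEquiv.mul_apply, he, he, hρ]; rfl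
  obtain ⟨m, hm⟩ := (FiniteField.bijective_frobeniusAlgEquivOfAlgebraic_pow (ZMod 2) F).2 (e δ)
  obtain ⟨k, hk⟩ := (FiniteField.bijective_frobeniusAlgEquivOfAlgebraic_pow (ZMod 2) F).2 (e ρ)
  have hm' : fr ^ (m : ℕ) = e δ := hm
  have hk' : fr ^ (k : ℕ) = e ρ := hk
  -- the order of `δ` is odd
  have h5 : (e δ) ^ (2 * (m : ℕ)) = e δ := by
    rw [pow_mul, pow_two, h3, hm']
  have h6 : Odd (orderOf (e δ)) := by
    rcases Nat.eq_zero_or_pos (m : ℕ) with h0 | h0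
    · rw [h0, mul_zero, pow_zero] at h5
      rw [← h5, orderOf_one]
      exact odd_one
    · have h7 : (e δ) ^ (2 * (m : ℕ) - 1) = 1 := by
        have h8 : (e δ) ^ (2 * (m : ℕ) - 1) * e δ = 1 * e δ := by
          rw [← pow_succ, Nat.sub_add_cancel (by omega), h5, one_mul]
        exact mul_right_cancel h8
      refine Odd.of_dvd_nat ?_ (orderOf_dvd_of_pow_eq_one h7)
      exact ⟨(m : ℕ) - 1, by omega⟩
  have h7 : (e ρ) ^ orderOf (e δ) = 1 := by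
    rw [← hk', ← h3, ← pow_two, ← pow_mul, ← pow_mul]
    exact orderOf_dvd_iff_pow_eq_one.1 (Dvd.intro_left (2 * (k : ℕ)) (by ring))
  have h8 : (e ρ) ^ 2 = 1 := by rw [pow_two, h4]
  have h9 : e ρ = 1 := by
    obtain ⟨j, hj⟩ := h6
    rw [hj, pow_add, pow_mul, h8, one_pow, one_mul, pow_one] at h7
    exact h7
  rw [← he ρ a, h9]; rfl

/-- The Artin–Schreier set has index at most 2. -/
theorem as_index (w0 w : F) (h0 : ¬ ∃ t : F, t * t + t = w0) (h1 : ¬ ∃ t : F, t * t + t = w) :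
    ∃ t : F, t * t + t = w + w0 := by
  classical
  let φ : F →+ F :=
    { toFun := fun t => t * t + t
      map_zero' := by simp
      map_add' := fun a b => by
        have h2 : (2 : F) = 0 := CharTwo.two_eq_zero
        linear_combination (a * b) * h2 }
  have hker : Nat.card φ.ker = 2 := by
    have h2 : (φ.ker : Set F) = {0, 1} := by
      ext t
      simp only [SetLike.mem_coe, AddMonoidHom.mem_ker, Set.mem_insert_iff, Set.mem_singleton_iff]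
      constructor
      · intro h
        have h3 : t * (t + 1) = 0 := by
          have : t * t + t = 0 := h
          linear_combination this
        rcases mul_eq_zero.1 h3 with h4 | h4
        · exact Or.inl h4
        · exact Or.inr (CharTwo.add_eq_zero.1 h4)
      · rintro (rfl | rfl)
        · exact map_zero φ
        · show (1 : F) * 1 + 1 = 0
          rw [mul_one]; exact CharTwo.add_self_eq_zero 1
    have h3 : Nat.card φ.ker = Nat.card (({0, 1} : Set F)) := by rw [← h2]; rfl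
    rw [h3, Nat.card_coe_set_eq, Set.ncard_pair zero_ne_one]
  have h2 : φ.range.index = 2 := by
    have h3 := φ.ker.card_mul_index
    have h4 := φ.range.card_mul_index
    rw [AddSubgroup.index_ker, hker] at h3
    have h5 : 0 < Nat.card φ.range := Nat.card_pos
    rw [← h3, mul_comm 2] at h4
    exact Nat.eq_of_mul_eq_mul_left h5 h4
  have h3 := (AddSubgroup.add_mem_iff_of_index_two h2 (a := w) (b := w0)).2
    ⟨fun h => absurd h h1, fun h => absurd h h0⟩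
  exact h3

end Field

variable {G : Type u} [Group G] {F : Type*} [Field F]

/-- conjugation in coordinates -/
theorem exists_add {Q K Q' K' : Subgroup G} {f f' : G → F} (f_mul : ∀ u ∈ Q, ∀ v ∈ Q, f (u * v) = f u + f v)
    (f_surj : ∀ a, ∃ u ∈ Q, f u = a) (f_ker : ∀ u ∈ Q, f u = 0 ↔ u ∈ K)
    (f'_mul : ∀ u ∈ Q', ∀ v ∈ Q', f' (u * v) = f' u + f' v) (f'_ker : ∀ u ∈ Q', f' u = 0 ↔ u ∈ K') {g : G}
    (hg : ∀ u ∈ Q, g * u * g⁻¹ ∈ Q') (hK : ∀ u ∈ Q, g * u * g⁻¹ ∈ K' ↔ u ∈ K) :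
    ∃ α : F →+ F, Function.Injective α ∧ ∀ u ∈ Q, f' (g * u * g⁻¹) = α (f u) := by
  choose l hlQ hlf using f_surj
  have key : ∀ u ∈ Q, ∀ v ∈ Q, f u = f v → f' (g * u * g⁻¹) = f' (g * v * g⁻¹) := by
    intro u hu v hv huv
    have h1 : u * v⁻¹ ∈ K := (f_ker _ (mul_mem hu (inv_mem hv))).1 (by
      rw [f_mul _ hu _ (inv_mem hv), FFOne.add_inv' f_mul hv, huv, add_neg_cancel])
    have h2 := (f'_ker _ (hg _ (mul_mem hu (inv_mem hv)))).2 ((hK _ (mul_mem hu (inv_mem hv))).2 h1)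
    have h3 : g * (u * v⁻¹) * g⁻¹ = g * u * g⁻¹ * (g * v * g⁻¹)⁻¹ := by group
    rw [h3, f'_mul _ (hg u hu) _ (inv_mem (hg v hv)), FFOne.add_inv' f'_mul (hg v hv)] at h2
    linear_combination h2
  let α : F →+ F := AddMonoidHom.mk' (fun a => f' (g * l a * g⁻¹)) fun a b => by
    rw [← f'_mul _ (hg _ (hlQ a)) _ (hg _ (hlQ b))]
    have h3 : g * l a * g⁻¹ * (g * l b * g⁻¹) = g * (l a * l b) * g⁻¹ := by group
    rw [h3]
    exact key _ (hlQ _) _ (mul_mem (hlQ _) (hlQ _)) (by rw [f_mul _ (hlQ _) _ (hlQ _), hlf, hlf, hlf])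
  refine ⟨α, (injective_iff_map_eq_zero α).2 fun a ha => ?_, fun u hu => key u hu _ (hlQ _) (hlf _).symm⟩
  have h1 : f' (g * l a * g⁻¹) = 0 := ha
  rw [f'_ker _ (hg _ (hlQ a)), hK _ (hlQ a), ← f_ker _ (hlQ a), hlf] at h1
  exact h1

section

variable {S T B Q₁ Q₂ D C₁ C₂ : Subgroup G} {s t₁ t₂ : G} {q : ℕ} {x y z z' : G → F} {ω₁ ω₂ : F}

theorem ffbase (h : End.Base S T B Q₁ Q₂ D C₁ C₂ s q) : FFOne.Base Q₁ Q₂ D :=
  ⟨h.D1, h.D2, h.sq1, h.sq2, fun _ hu _ hv => h.comm12 hu hv⟩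

/-- the commutator of two elements of `B` -/
theorem com4 (h : End.Base S T B Q₁ Q₂ D C₁ C₂ s q) {a b a' b' : G} (ha : a ∈ Q₁) (hb : b ∈ Q₂) (ha' : a' ∈ Q₁)
    (hb' : b' ∈ Q₂) : a * b * (a' * b') * (a * b)⁻¹ * (a' * b')⁻¹ = cm a' b * cm a b' := by
  have h1 : cm a' b ∈ D := h.comm12 ha' hb
  have h2 : cm a b' ∈ D := h.comm12 ha hb'
  have hdi : (cm a' b)⁻¹ = cm a' b := h.inv1 (h.D1 h1)
  have hei : (cm a b')⁻¹ = cm a b' := h.inv1 (h.D1 h2)
  have e1' : b * a' = (cm a' b)⁻¹ * (a' * b) := by simp only [cm]; group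
  have e2' : b' * a = (cm a b')⁻¹ * (a * b') := by simp only [cm]; group
  rw [hdi] at e1'
  rw [hei] at e2'
  have k1 : a * b * (a' * b') = cm a' b * (a * a' * (b * b')) := by
    calc a * b * (a' * b') = a * (b * a') * b' := by group
      _ = (a * cm a' b) * a' * b * b' := by rw [e1']; group
      _ = cm a' b * (a * a' * (b * b')) := by rw [← h.centD h1 (h.Q1B ha)]; group
  have k2 : a' * b' * (a * b) = cm a b' * (a * a' * (b * b')) := by
    calc a' * b' * (a * b) = a' * (b' * a) * b := by group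
      _ = (a' * cm a b') * (a * (b' * b)) := by rw [e2']; group
      _ = cm a b' * (a' * a) * (b' * b) := by
          rw [← h.centD h2 (h.Q1B ha')]; group
      _ = cm a b' * (a * a' * (b * b')) := by rw [h.c1 a' ha' a ha, h.c2 b' hb' b hb]; group
  calc a * b * (a' * b') * (a * b)⁻¹ * (a' * b')⁻¹
      = (a * b * (a' * b')) * (a' * b' * (a * b))⁻¹ := by group
    _ = cm a' b * (cm a b')⁻¹ := by rw [k1, k2]; group
    _ = cm a' b * cm a b' := by rw [hei]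

variable [Finite G]
variable (h : End.Base S T B Q₁ Q₂ D C₁ C₂ s q) (co : SpFour Q₁ Q₂ D C₁ C₂ x y z z' t₁ t₂ ω₁ ω₂)

include h co

theorem com4z {a b a' b' : G} (ha : a ∈ Q₁) (hb : b ∈ Q₂) (ha' : a' ∈ Q₁) (hb' : b' ∈ Q₂) :
    z (a * b * (a' * b') * (a * b)⁻¹ * (a' * b')⁻¹) = x a' * y b + x a * y b' := by
  rw [com4 h ha hb ha' hb', co.z_mul (cm a' b) (h.comm12 ha' hb) (cm a b') (h.comm12 ha hb'), co.com _ ha' _ hb, co.com _ ha _ hb']

theorem com4z' {a b a' b' : G} (ha : a ∈ Q₁) (hb : b ∈ Q₂) (ha' : a' ∈ Q₁) (hb' : b' ∈ Q₂) :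
    z' (a * b * (a' * b') * (a * b)⁻¹ * (a' * b')⁻¹) = x a' * x a' * y b + x a * x a * y b' := by
  rw [com4 h ha hb ha' hb', co.z'_mul (cm a' b) (h.comm12 ha' hb) (cm a b') (h.comm12 ha hb'), co.com' _ ha' _ hb,
    co.com' _ ha _ hb']

omit h in
theorem eq_of_coord {d e : G} (hd : d ∈ D) (he : e ∈ D) (h1 : z d = z e) (h2 : z' d = z' e) : d = e := by
  have h3 : d * e⁻¹ = 1 := co.z_inj _ (mul_mem hd (inv_mem he))
    (by rw [co.z_mul _ hd _ (inv_mem he), FFOne.add_inv' co.z_mul he, h1, add_neg_cancel])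
    (by rw [co.z'_mul _ hd _ (inv_mem he), FFOne.add_inv' co.z'_mul he, h2, add_neg_cancel])
  exact mul_inv_eq_one.1 h3

/-- `[n, B]` has index at most 2 in `D` -/
theorem sp_big [Finite F] [CharP F 2] : ∀ a ∈ Q₁, a ∉ D → ∀ b ∈ Q₂, b ∉ D → ∀ K : Subgroup G, K ≤ D →
    (∀ c ∈ B, (a * b) * c * (a * b)⁻¹ * c⁻¹ ∈ K) → Nat.card D ≤ 2 * Nat.card K := by
  intro a ha haD b hb hbD K hKD hK
  have h2 : (2 : F) = 0 := CharTwo.two_eq_zero
  have hp : x a ≠ 0 := fun h1 => haD ((co.x_ker a ha).1 h1)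
  have hr : y b ≠ 0 := fun h1 => hbD ((co.y_ker b hb).1 h1)
  have key : ∀ e ∈ D, (∃ t : F, t * t + t = (z' e + x a * z e) / (x a * x a * y b)) → e ∈ K := by
    rintro e he ⟨t, ht⟩
    obtain ⟨a', ha', hxa'⟩ := co.x_surj (x a * t)
    obtain ⟨b', hb', hyb'⟩ := co.y_surj ((z e + x a * t * y b) / x a)
    have h3 := hK (a' * b') (mul_mem (h.Q1B ha') (h.Q2B hb'))
    have h4 : e = a * b * (a' * b') * (a * b)⁻¹ * (a' * b')⁻¹ := by
      refine eq_of_coord co he (hKD h3) ?_ ?_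
      · rw [com4z h co ha hb ha' hb', hxa', hyb']
        field_simp
        linear_combination (-(x a * t * y b)) * h2
      · rw [com4z' h co ha hb ha' hb', hxa', hyb']
        rw [eq_div_iff (by positivity)] at ht
        field_simp
        linear_combination (-1 : F) * ht + (- x a * z e) * h2
    rw [h4]; exact h3
  by_cases hall : ∀ w : F, ∃ t : F, t * t + t = w
  · have h3 : D ≤ K := fun e he => key e he (hall _)
    have h4 := Subgroup.card_le_of_le h3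
    omega
  · push Not at hall
    obtain ⟨w0, hw0⟩ := hall
    obtain ⟨f, hf, hf1, hf2⟩ := co.z_surj 0 (x a * x a * y b * w0)
    refine card_le_two_mul (f := f) hf fun e he => ?_
    by_cases he1 : ∃ t : F, t * t + t = (z' e + x a * z e) / (x a * x a * y b)
    · exact Or.inl (key e he he1)
    · right
      refine key _ (mul_mem (inv_mem hf) he) ?_
      obtain ⟨t, ht⟩ := as_index w0 _ (fun ⟨t, ht⟩ => hw0 t ht) he1
      refine ⟨t, ?_⟩
      rw [ht, co.z'_mul _ (inv_mem hf) _ he, co.z_mul _ (inv_mem hf) _ he, FFOne.add_inv' co.z'_mul hf,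
        FFOne.add_inv' co.z_mul hf, hf1, hf2]
      field_simp
      linear_combination (x a * x a * y b * w0) * h2

/-- `[n, B] [n', B] = D` -/
theorem sp_two [Finite F] [CharP F 2] : ∀ a ∈ Q₁, a ∉ D → ∀ b ∈ Q₂, b ∉ D → ∀ a' ∈ Q₁, a' ∉ D → ∀ b' ∈ Q₂, b' ∉ D →
    a⁻¹ * a' ∉ D → ∀ K : Subgroup G, K ≤ D → (∀ c ∈ B, (a * b) * c * (a * b)⁻¹ * c⁻¹ ∈ K) →
      (∀ c ∈ B, (a' * b') * c * (a' * b')⁻¹ * c⁻¹ ∈ K) → D ≤ K := by
  intro a ha haD b hb hbD a' ha' haD' b' hb' hbD' haa K hKD hK hK' e he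
  have h2 : (2 : F) = 0 := CharTwo.two_eq_zero
  have hp : x a ≠ 0 := fun h1 => haD ((co.x_ker a ha).1 h1)
  have hp' : x a' ≠ 0 := fun h1 => haD' ((co.x_ker a' ha').1 h1)
  have hpp : x a + x a' ≠ 0 := by
    intro h1
    apply haa
    rw [← co.x_ker _ (mul_mem (inv_mem ha) ha'), co.x_mul _ (inv_mem ha) _ ha', FFOne.add_inv' co.x_mul ha]
    linear_combination h1 - x a * h2
  obtain ⟨c, hc, hyc⟩ := co.y_surj ((x a' * z e + z' e) / (x a * (x a + x a')))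
  obtain ⟨c', hc', hyc'⟩ := co.y_surj ((x a * z e + z' e) / (x a' * (x a + x a')))
  have k1 := hK (1 * c) (mul_mem (one_mem _) (h.Q2B hc))
  have k2 := hK' (1 * c') (mul_mem (one_mem _) (h.Q2B hc'))
  have hx1 : x 1 = 0 := FFOne.add_one' co.x_mul
  have h4 : e = a * b * (1 * c) * (a * b)⁻¹ * (1 * c)⁻¹ * (a' * b' * (1 * c') * (a' * b')⁻¹ * (1 * c')⁻¹) := by
    refine eq_of_coord co he (mul_mem (hKD k1) (hKD k2)) ?_ ?_
    · rw [co.z_mul _ (hKD k1) _ (hKD k2), com4z h co ha hb (one_mem _) hc, com4z h co ha' hb' (one_mem _) hc', hx1,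
        hyc, hyc']
      field_simp
      linear_combination (-z' e) * h2
    · rw [co.z'_mul _ (hKD k1) _ (hKD k2), com4z' h co ha hb (one_mem _) hc, com4z' h co ha' hb' (one_mem _) hc', hx1,
        hyc, hyc']
      field_simp
      linear_combination (- x a * x a' * z e) * h2
  rw [h4]; exact mul_mem k1 k2

/-- `u ∈ S` trivial on `Q₁/D` and `Q₂/D` lies in `B` -/
theorem mem_B_of_xy {t : G} (ht : t ∈ T) (h1 : ∀ u ∈ Q₁, x (t * u * t⁻¹) = x u) (h2 : ∀ v ∈ Q₂, y (t * v * t⁻¹) = y v) :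
    t ∈ B := by
  have k1 : ∀ u ∈ Q₁, t * u * t⁻¹ * u⁻¹ ∈ D := fun u hu => by
    rw [← co.x_ker _ (mul_mem (h.T1 t ht u hu) (inv_mem hu)), co.x_mul _ (h.T1 t ht u hu) _ (inv_mem hu),
      FFOne.add_inv' co.x_mul hu, h1 u hu, add_neg_cancel]
  have k2 : ∀ u ∈ Q₂, t * u * t⁻¹ * u⁻¹ ∈ D := fun u hu => by
    rw [← co.y_ker _ (mul_mem (h.T2 t ht u hu) (inv_mem hu)), co.y_mul _ (h.T2 t ht u hu) _ (inv_mem hu),
      FFOne.add_inv' co.y_mul hu, h2 u hu, add_neg_cancel]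
  refine mem_B_of_comm h (h.TS ht) fun b hb => ?_
  obtain ⟨u, hu, v, hv, rfl⟩ := h.prod b hb
  have e : t * (u * v) * t⁻¹ * (u * v)⁻¹ = (t * u * t⁻¹ * u⁻¹) * (u * (t * v * t⁻¹ * v⁻¹) * u⁻¹) := by group
  rw [e]
  refine mul_mem (k1 u hu) ?_
  rw [← h.centD (k2 v hv) (h.Q1B hu), mul_inv_cancel_right]
  exact k2 v hv

/-- elements of `B` act trivially on `Q₁/D`, `Q₂/D` -/
theorem x_B {b u : G} (hb : b ∈ B) (hu : u ∈ Q₁) : x (b * u * b⁻¹) = x u := by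
  have h1 := h.commB hb (h.Q1B hu)
  have e : b * u * b⁻¹ = (b * u * b⁻¹ * u⁻¹) * u := by group
  rw [e, co.x_mul _ (h.D1 h1) _ hu, (co.x_ker _ (h.D1 h1)).2 h1, zero_add]

theorem y_B {b u : G} (hb : b ∈ B) (hu : u ∈ Q₂) : y (b * u * b⁻¹) = y u := by
  have h1 := h.commB hb (h.Q2B hu)
  have e : b * u * b⁻¹ = (b * u * b⁻¹ * u⁻¹) * u := by group
  rw [e, co.y_mul _ (h.D2 h1) _ hu, (co.y_ker _ (h.D2 h1)).2 h1, zero_add]

/-- `T` acts by field automorphisms -/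
theorem exists_semi [Finite F] {t : G} (ht : t ∈ T) :
    ∃ (ρ : F ≃+* F) (a b c c' : F), a ≠ 0 ∧ b ≠ 0 ∧ (∀ u ∈ Q₁, x (t * u * t⁻¹) = a * ρ (x u)) ∧
      (∀ v ∈ Q₂, y (t * v * t⁻¹) = b * ρ (y v)) ∧ (∀ d ∈ D, z (t * d * t⁻¹) = c * ρ (z d)) ∧
      ∀ d ∈ D, z' (t * d * t⁻¹) = c' * ρ (z' d) := by
  have cjm : ∀ K : Subgroup G, (∀ u ∈ K, t * u * t⁻¹ ∈ K) → ∀ u, t * u * t⁻¹ ∈ K ↔ u ∈ K := fun K hK u =>
    ((mem_normalizer_iff.1 (End.mem_normalizer_of hK)) u).symm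
  have hD := cjm D (fun u hu => h.T_D ht hu)
  obtain ⟨τ, hτ, hx⟩ := exists_add co.x_mul co.x_surj co.x_ker co.x_mul co.x_ker (h.T1 t ht) fun u _ => hD u
  obtain ⟨τ', hτ', hy⟩ := exists_add co.y_mul co.y_surj co.y_ker co.y_mul co.y_ker (h.T2 t ht) fun u _ => hD u
  obtain ⟨σ, hσ, hz⟩ := exists_add co.z_mul (fun a => (co.z_surj a 0).imp fun u hu => ⟨hu.1, hu.2.1⟩) co.z_ker
    co.z_mul co.z_ker (fun u hu => h.T_D ht hu) fun u _ => cjm C₁ (h.TC1 t ht) u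
  obtain ⟨σ', hσ', hz'⟩ := exists_add co.z'_mul (fun a => (co.z_surj 0 a).imp fun u hu => ⟨hu.1, hu.2.2⟩) co.z'_ker
    co.z'_mul co.z'_ker (fun u hu => h.T_D ht hu) fun u _ => cjm C₂ (h.TC2 t ht) u
  have key : ∀ u ∈ Q₁, ∀ v ∈ Q₂, t * cm u v * t⁻¹ = cm (t * u * t⁻¹) (t * v * t⁻¹) := fun u _ v _ => FFOne.cm_conj t u v
  obtain ⟨ρ, h1, h2, h3⟩ := semi_mul σ τ τ' hτ hτ' (by
    intro p r
    obtain ⟨u, hu, rfl⟩ := co.x_surj p
    obtain ⟨v, hv, rfl⟩ := co.y_surj r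
    rw [← co.com u hu v hv, ← hz (cm u v) (h.comm12 hu hv)]
    have e := key u hu v hv
    rw [show t * cm u v * t⁻¹ = cm (t * u * t⁻¹) (t * v * t⁻¹) from e, co.com _ (h.T1 t ht u hu) _ (h.T2 t ht v hv),
      hx u hu, hy v hv])
  have h4 : ∀ p r, σ' (p * p * r) = τ p * τ p * τ' r := by
    intro p r
    obtain ⟨u, hu, rfl⟩ := co.x_surj p
    obtain ⟨v, hv, rfl⟩ := co.y_surj r
    rw [← co.com' u hu v hv, ← hz' (cm u v) (h.comm12 hu hv)]
    have e := key u hu v hv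
    rw [show t * cm u v * t⁻¹ = cm (t * u * t⁻¹) (t * v * t⁻¹) from e, co.com' _ (h.T1 t ht u hu) _ (h.T2 t ht v hv),
      hx u hu, hy v hv]
  refine ⟨ρ, τ 1, τ' 1, σ 1, τ 1 * τ 1 * τ' 1, fun h0 => ?_, fun h0 => ?_, fun u hu => by rw [hx u hu, h2],
    fun v hv => by rw [hy v hv, h3], fun d hd => by rw [hz d hd, h1], fun d hd => ?_⟩
  · exact one_ne_zero (hτ (h0.trans (map_zero τ).symm))
  · exact one_ne_zero (hτ' (h0.trans (map_zero τ').symm))
  · rw [hz' d hd]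
    have e := h4 1 (z' d)
    rw [one_mul, one_mul] at e
    rw [e, h3]; ring

/-- a field automorphism of order 2 -/
theorem semi_invol [Finite F] [CharP F 2] {t : G} (ht : t ∈ T) (htB : t ∉ B) (ht2 : t * t ∈ B) {ρ : F ≃+* F} {a b : F}
    (hx : ∀ u ∈ Q₁, x (t * u * t⁻¹) = a * ρ (x u))
    (hy : ∀ v ∈ Q₂, y (t * v * t⁻¹) = b * ρ (y v)) : (∀ c, ρ (ρ c) = c) ∧ ∃ c, ρ c ≠ c := by
  have hxx : ∀ c : F, a * ρ (a * ρ c) = c := by
    intro c
    obtain ⟨u, hu, rfl⟩ := co.x_surj c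
    rw [← hx u hu, ← hx _ (h.T1 t ht u hu)]
    have e : t * (t * u * t⁻¹) * t⁻¹ = t * t * u * (t * t)⁻¹ := by group
    rw [e, x_B h co ht2 hu]
  have hyy : ∀ c : F, b * ρ (b * ρ c) = c := by
    intro c
    obtain ⟨u, hu, rfl⟩ := co.y_surj c
    rw [← hy u hu, ← hy _ (h.T2 t ht u hu)]
    have e : t * (t * u * t⁻¹) * t⁻¹ = t * t * u * (t * t)⁻¹ := by group
    rw [e, y_B h co ht2 hu]
  have ha1 : a * ρ a = 1 := by have := hxx 1; rwa [map_one, mul_one] at this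
  have hb1 : b * ρ b = 1 := by have := hyy 1; rwa [map_one, mul_one] at this
  have hρ : ∀ c, ρ (ρ c) = c := by
    intro c
    have := hxx c
    rwa [map_mul, ← mul_assoc, ha1, one_mul] at this
  refine ⟨hρ, ?_⟩
  by_contra hcon
  push Not at hcon
  have ha : a = 1 := TyAlg.one_of_two_pow (n := 1) (by rw [pow_one, pow_two]; rw [hcon] at ha1; exact ha1)
  have hb : b = 1 := TyAlg.one_of_two_pow (n := 1) (by rw [pow_one, pow_two]; rw [hcon] at hb1; exact hb1)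
  refine htB (mem_B_of_xy h co ht (fun u hu => by rw [hx u hu, ha, one_mul, hcon]) fun v hv => by
    rw [hy v hv, hb, one_mul, hcon])

/-- If `T > B`, no swap has its square in `B`. -/
theorem no_swap [Finite F] [CharP F 2] {t v : G} (ht : t ∈ T) (htB : t ∉ B) (ht2 : t * t ∈ B) (hv : s⁻¹ * v ∈ T)
    (hv2 : v * v ∈ B) : False := by
  obtain ⟨ρ, a, b, c, c', -, -, hx, hy, -, -⟩ := exists_semi h co ht
  obtain ⟨hρ, w, hw⟩ := semi_invol h co ht htB ht2 hx hy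
  have hvS : v ∈ S := by
    have := S.mul_mem h.sS (h.TS hv)
    rwa [mul_inv_cancel_left] at this
  have hD : ∀ u, v * u * v⁻¹ ∈ D ↔ u ∈ D := fun u =>
    ((mem_normalizer_iff.1 (End.mem_normalizer_of fun d hd => h.P_D hvS hd)) u).symm
  have hsw1 : ∀ u ∈ Q₁, v * u * v⁻¹ ∈ Q₂ := fun u hu => h.swap1 hv hu
  have hsw2 : ∀ u ∈ Q₂, v * u * v⁻¹ ∈ Q₁ := fun u hu => h.swap2 hv hu
  have hC : ∀ u, v * u * v⁻¹ ∈ C₁ ↔ u ∈ C₂ := by
    have k1 : ∀ u ∈ C₁, v * u * v⁻¹ ∈ C₂ := by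
      intro u hu
      have h1 := h.sC1 _ (h.TC1 _ hv u hu)
      have e : s * (s⁻¹ * v * u * (s⁻¹ * v)⁻¹) * s⁻¹ = v * u * v⁻¹ := by group
      rwa [e] at h1
    have k2 : ∀ u ∈ C₂, v * u * v⁻¹ ∈ C₁ := by
      intro u hu
      have h1 := h.sC2 _ (h.TC2 _ hv u hu)
      have e : s * (s⁻¹ * v * u * (s⁻¹ * v)⁻¹) * s⁻¹ = v * u * v⁻¹ := by group
      rwa [e] at h1
    intro u
    refine ⟨fun h1 => ?_, k2 u⟩
    have h2 := k1 _ h1
    have h3 : v * v ∈ T := h.BT hv2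
    have h4 := h.TC2 _ (T.inv_mem h3) _ h2
    have e : (v * v)⁻¹ * (v * (v * u * v⁻¹) * v⁻¹) * (v * v)⁻¹⁻¹ = u := by group
    rwa [e] at h4
  obtain ⟨α, hα, hxy⟩ := exists_add co.x_mul co.x_surj co.x_ker co.y_mul co.y_ker hsw1 fun u _ => hD u
  obtain ⟨γ, hγ, hyx⟩ := exists_add co.y_mul co.y_surj co.y_ker co.x_mul co.x_ker hsw2 fun u _ => hD u
  obtain ⟨ε, hε, hz⟩ := exists_add co.z'_mul (fun a => (co.z_surj 0 a).imp fun u hu => ⟨hu.1, hu.2.2⟩) co.z'_ker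
    co.z_mul co.z_ker (fun u hu => (hD u).2 hu) fun u _ => hC u
  obtain ⟨δ, h1, h2, h3⟩ := semi_sq ε α γ hα hγ (by
    intro p r
    obtain ⟨u, hu, rfl⟩ := co.x_surj p
    obtain ⟨w, hw, rfl⟩ := co.y_surj r
    rw [← co.com' u hu w hw, ← hz (cm u w) (h.comm12 hu hw), FFOne.cm_conj,
      (ffbase h).cm_inv (hsw2 w hw) (hsw1 u hu), co.com _ (hsw2 w hw) _ (hsw1 u hu), hxy u hu, hyx w hw]
    ring)
  -- `v²` acts trivially on `Q₁/D`
  have h4 : ∀ p : F, γ (α p) = p := by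
    intro p
    obtain ⟨u, hu, rfl⟩ := co.x_surj p
    rw [← hxy u hu, ← hyx _ (hsw1 u hu)]
    have e : v * (v * u * v⁻¹) * v⁻¹ = v * v * u * (v * v)⁻¹ := by group
    rw [e, x_B h co hv2 hu]
  have h5 : ∀ p : F, γ 1 * (δ (α 1) * (δ (δ p) * δ (δ p))) = p := by
    intro p
    have := h4 p
    rwa [h2, h3, map_mul, map_mul] at this
  have h6 : γ 1 * δ (α 1) = 1 := by
    have := h5 1
    rwa [map_one δ, map_one δ, mul_one, mul_one] at this
  have h7 : ∀ p : F, δ (δ p) * δ (δ p) = p := by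
    intro p
    have := h5 p
    rwa [← mul_assoc, h6, one_mul] at this
  have h8 : ∀ p : F, δ.symm (δ.symm p) = p * p := by
    intro p
    have := h7 (δ.symm (δ.symm p))
    simpa using this.symm
  exact hw (aut_trivial δ.symm ρ h8 hρ w)

theorem card_D_eq [Finite F] : Nat.card D = Nat.card F ^ 2 := by
  rw [pow_two, ← Nat.card_prod]
  refine Nat.card_congr (Equiv.ofBijective (fun d : D => (z d, z' d)) ⟨?_, ?_⟩)
  · intro d e hde
    have h1 : (z d, z' d) = (z e, z' e) := hde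
    rw [Prod.mk.injEq] at h1
    exact Subtype.ext (eq_of_coord co d.2 e.2 h1.1 h1.2)
  · rintro ⟨a, a'⟩
    obtain ⟨u, hu, h1, h2⟩ := co.z_surj a a'
    exact ⟨⟨u, hu⟩, Prod.ext h1 h2⟩

theorem card_C_eq [Finite F] : Nat.card C₁ = Nat.card F := by
  refine Nat.card_congr (Equiv.ofBijective (fun d : C₁ => z' d) ⟨?_, ?_⟩)
  · intro d e hde
    exact Subtype.ext (eq_of_coord co (h.C1D d.2) (h.C1D e.2)
      (((co.z_ker _ (h.C1D d.2)).2 d.2).trans ((co.z_ker _ (h.C1D e.2)).2 e.2).symm) hde)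
  · intro a
    obtain ⟨u, hu, h1, h2⟩ := co.z_surj 0 a
    exact ⟨⟨u, (co.z_ker u hu).1 h1⟩, h2⟩

theorem q_eq [Finite F] : q = Nat.card F := by
  have h1 := h.cardC1
  rw [card_D_eq h co, card_C_eq h co, pow_two] at h1
  exact (Nat.eq_of_mul_eq_mul_right Nat.card_pos h1).symm

/-- elements of `S - B` have at most `q` fixed points on `D` -/
theorem card_fix_le [Finite F] [CharP F 2] {u : G} (hu : u ∈ S) (huB : u ∉ B) {E : Subgroup G} (hED : E ≤ D)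
    (hE : ∀ e ∈ E, u * e = e * u) : Nat.card E ^ 2 ≤ Nat.card D := by
  rcases h.mem_S hu with huT | huT
  · -- a power with square in `B`
    have hpow : ∀ n : ℕ, ∀ e ∈ E, u ^ n * e = e * u ^ n := fun n e he =>
      ((show Commute u e from hE e he).pow_left n)
    obtain ⟨m, hm⟩ := h.two ⟨u, hu⟩
    classical
    have hex : ∃ m : ℕ, u ^ 2 ^ m ∈ B := ⟨m, by
      have : u ^ 2 ^ m = 1 := by simpa using congrArg Subtype.val hm
      rw [this]; exact one_mem _⟩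
    obtain ⟨j, hj⟩ : ∃ j, Nat.find hex = j + 1 := by
      apply Nat.exists_eq_succ_of_ne_zero
      intro h0
      have h1 := Nat.find_spec hex
      rw [h0, pow_zero, pow_one] at h1
      exact huB h1
    have hj1 : u ^ 2 ^ j ∉ B := Nat.find_min hex (by omega)
    have hj2 : u ^ 2 ^ j * u ^ 2 ^ j ∈ B := by
      have h1 := Nat.find_spec hex
      rw [hj, pow_succ, pow_mul, pow_two] at h1
      exact h1
    have hcf := hpow (2 ^ j)
    have hT := T.pow_mem huT (2 ^ j)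
    set t := u ^ 2 ^ j with ht
    obtain ⟨ρ, a, b, c, c', -, -, hx, hy, hz, hz'⟩ := exists_semi h co hT
    obtain ⟨-, hρ⟩ := semi_invol h co hT hj1 hj2 hx hy
    have h1 := TyAlg.card_fix_sq_le' ρ hρ c
    have h2 := TyAlg.card_fix_sq_le' ρ hρ c'
    have h3 : Nat.card E ≤ Nat.card ({a : F // c * ρ a = a} × {a : F // c' * ρ a = a}) := by
      refine Nat.card_le_card_of_injective (fun e : E =>
        ((⟨z e, ?_⟩ : {a : F // c * ρ a = a}), (⟨z' e, ?_⟩ : {a : F // c' * ρ a = a}))) ?_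
      · rw [← hz _ (hED e.2), hcf _ e.2, mul_inv_cancel_right]
      · rw [← hz' _ (hED e.2), hcf _ e.2, mul_inv_cancel_right]
      · intro d e hde
        rw [Prod.mk.injEq, Subtype.mk.injEq, Subtype.mk.injEq] at hde
        exact Subtype.ext (eq_of_coord co (hED d.2) (hED e.2) hde.1 hde.2)
    rw [Nat.card_prod] at h3
    rw [card_D_eq h co]
    calc Nat.card E ^ 2 ≤ (Nat.card {a : F // c * ρ a = a} * Nat.card {a : F // c' * ρ a = a}) ^ 2 :=
          Nat.pow_le_pow_left h3 2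
      _ = Nat.card {a : F // c * ρ a = a} ^ 2 * Nat.card {a : F // c' * ρ a = a} ^ 2 := by rw [mul_pow]
      _ ≤ Nat.card F * Nat.card F := Nat.mul_le_mul h1 h2
      _ = Nat.card F ^ 2 := (pow_two _).symm
  · have h1 : E ⊓ C₁ = ⊥ := by
      rw [eq_bot_iff]
      rintro e ⟨he1, he2⟩
      have h1 := h.sC1 _ (h.TC1 _ huT e he2)
      have e1 : s * (s⁻¹ * u * e * (s⁻¹ * u)⁻¹) * s⁻¹ = u * e * u⁻¹ := by group
      rw [e1, hE e he1, mul_inv_cancel_right] at h1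
      have h2 : e ∈ C₁ ⊓ C₂ := ⟨he2, h1⟩
      rwa [h.C12] at h2
    have h2 := h.card_le_q hED h1
    rw [card_D_eq h co, ← q_eq h co]
    exact Nat.pow_le_pow_left h2 2

/-- **`Ty` for type `Sp₄(q)`** -/
theorem ty_sp [Finite F] [CharP F 2] : Ty S B Q₁ Q₂ D 2 where
  big := sp_big h co
  fix := by
    intro K hK hcard u hu hc
    by_contra huB
    have h1 := card_fix_le h co hu huB hK.le hc
    have h2 : 16 ≤ Nat.card D := by
      rw [card_D_eq h co, ← q_eq h co]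
      have := h.hq
      nlinarith
    nlinarith
  cyc := by
    intro u hu hu2 v hv hv2 huD hvD
    have hcB : ∀ w ∈ B, w ∈ centralizer (D : Set G) := fun w hw => mem_cent.2 fun d hd => h.centD hd hw
    have huB : u ∉ B := fun h1 => huD (hcB u h1)
    have hvB : v ∉ B := fun h1 => hvD (hcB v h1)
    have hu2B : u * u ∈ B := by rw [hu2]; exact one_mem _
    have hv2B : v * v ∈ B := by rw [hv2]; exact one_mem _
    apply hcB
    rcases h.mem_S hu with huT | huT <;> rcases h.mem_S hv with hvT | hvT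
    · have h1 := h.uniq u huT huB hu2B v hvT hvB hv2B
      have h2 : u⁻¹ = u := inv_eq_of_mul_eq_one_right hu2
      rwa [h2] at h1
    · exact (no_swap h co huT huB hu2B hvT hv2B).elim
    · exact (no_swap h co hvT hvB hv2B huT hu2B).elim
    · by_contra hnB
      -- `u v ∈ T - B`
      have h1 : u * v ∈ T := by
        have k1 := T.mul_mem (T.mul_mem (h.sT huT) h.ss_mem) hvT
        have e : s * (s⁻¹ * u) * s⁻¹ * (s * s) * (s⁻¹ * v) = u * v := by group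
        rwa [e] at k1
      obtain ⟨m, hm⟩ := h.two ⟨u * v, h.TS h1⟩
      classical
      have hex : ∃ m : ℕ, (u * v) ^ 2 ^ m ∈ B := ⟨m, by
        have : (u * v) ^ 2 ^ m = 1 := by simpa using congrArg Subtype.val hm
        rw [this]; exact one_mem _⟩
      obtain ⟨j, hj⟩ : ∃ j, Nat.find hex = j + 1 := by
        apply Nat.exists_eq_succ_of_ne_zero
        intro h0
        have h2 := Nat.find_spec hex
        rw [h0, pow_zero, pow_one] at h2
        exact hnB h2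
      have hj1 : (u * v) ^ 2 ^ j ∉ B := Nat.find_min hex (by omega)
      have hj2 : (u * v) ^ 2 ^ j * (u * v) ^ 2 ^ j ∈ B := by
        have h2 := Nat.find_spec hex
        rw [hj, pow_succ, pow_mul, pow_two] at h2
        exact h2
      exact no_swap h co (T.pow_mem h1 _) hj1 hj2 huT hu2B
  mv := by
    intro u hu hu2 huD
    have huB : u ∉ B := fun h1 => huD (mem_cent.2 fun d hd => h.centD hd h1)
    exact card_fix_le h co hu huB inf_le_left fun e he => mem_centralizer_singleton_iff.1 he.2 |>.symm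

end

end Cfsg.Agent.Omega.SQ1.NodeA

end

-- merged: Cfsg.Agent.Mrg.Omega.SQ1.TyL
section

/-!
# NODE (A): `Ty` for type `L₃(q)` (`c = 1`)

`semi`: every `t ∈ S` acts on `D ≅ F` as `a ↦ k ρ(a)`, `k ≠ 0`, `ρ ∈ Aut F`.
`ty_L`: `NodeA.Ty S B Q₁ Q₂ D 1`.
-/

set_option autoImplicit false
set_option Elab.async false

namespace Cfsg.Agent.Omega.SQ1.TyL

open Subgroup Cfsg.Agent.Omega.SQ1.End Cfsg.Agent.Omega.FFOne

universe u

variable {G : Type u} [Group G] {F : Type*} [Field F]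

/-- an isomorphism `Q / D → Q' / D'` in coordinates -/
theorem exists_hom {Q Q' D D' : Subgroup G} {f f' : G → F} (t : G)
    (f_mul : ∀ u ∈ Q, ∀ v ∈ Q, f (u * v) = f u + f v) (f_surj : ∀ a, ∃ u ∈ Q, f u = a)
    (f_ker : ∀ u ∈ Q, f u = 0 ↔ u ∈ D) (f'_mul : ∀ u ∈ Q', ∀ v ∈ Q', f' (u * v) = f' u + f' v)
    (f'_ker : ∀ u ∈ Q', f' u = 0 ↔ u ∈ D') (hQ : ∀ u ∈ Q, t * u * t⁻¹ ∈ Q')
    (hD : ∀ u ∈ D, t * u * t⁻¹ ∈ D') (hD' : ∀ u ∈ D', t⁻¹ * u * t ∈ D) :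
    ∃ τ : F →+ F, Function.Injective τ ∧ ∀ u ∈ Q, f' (t * u * t⁻¹) = τ (f u) := by
  have hconj : ∀ a b : G, t * (a * b) * t⁻¹ = (t * a * t⁻¹) * (t * b * t⁻¹) := fun a b => by group
  have hwd : ∀ a ∈ Q, ∀ b ∈ Q, f a = f b → f' (t * a * t⁻¹) = f' (t * b * t⁻¹) := by
    intro a ha b hb hab
    have h1 : a * b⁻¹ ∈ D := (f_ker _ (mul_mem ha (inv_mem hb))).1 (by
      rw [f_mul _ ha _ (inv_mem hb), add_inv' f_mul hb, hab, add_neg_cancel])
    have h2 := (f'_ker _ (hQ _ (mul_mem ha (inv_mem hb)))).2 (hD _ h1)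
    have h3 : t * b⁻¹ * t⁻¹ = (t * b * t⁻¹)⁻¹ := by group
    rw [hconj, h3, f'_mul _ (hQ a ha) _ (inv_mem (hQ b hb)), add_inv' f'_mul (hQ b hb)] at h2
    linear_combination h2
  choose u huQ huf using f_surj
  refine ⟨AddMonoidHom.mk' (fun a => f' (t * u a * t⁻¹)) fun a b => ?_, ?_, fun v hv => hwd v hv _ (huQ _) (huf _).symm⟩
  · rw [← f'_mul _ (hQ _ (huQ _)) _ (hQ _ (huQ _)), ← hconj]
    exact hwd _ (huQ _) _ (mul_mem (huQ _) (huQ _)) (by rw [f_mul _ (huQ _) _ (huQ _), huf, huf, huf])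
  · rw [injective_iff_map_eq_zero]
    intro a ha
    have h1 : f' (t * u a * t⁻¹) = 0 := ha
    have h2 := hD' _ ((f'_ker _ (hQ _ (huQ a))).1 h1)
    have h3 : t⁻¹ * (t * u a * t⁻¹) * t = u a := by group
    rw [h3] at h2
    rw [← huf a]
    exact (f_ker _ (huQ a)).2 h2

variable {P T B Q₁ Q₂ D C₁ C₂ : Subgroup G} {s : G} {q : ℕ} {x y z : G → F} {t₁ t₂ : G} {ω₁ ω₂ : F}

theorem toBase (h : End.Base P T B Q₁ Q₂ D C₁ C₂ s q) : FFOne.Base Q₁ Q₂ D where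
  D₁ := fun d hd => ((h.memD d).1 hd).1
  D₂ := fun d hd => ((h.memD d).1 hd).2
  sq₁ := h.sq1
  sq₂ := h.sq2
  mem := fun u hu v hv => by
    by_cases huD : u ∈ D
    · have h1 : cm u v = 1 := by
        rw [cm, h.c2 u ((h.memD u).1 huD).2 v hv]; group
      rw [h1]; exact one_mem _
    by_cases hvD : v ∈ D
    · have h1 : cm u v = 1 := by
        rw [cm, h.c1 u hu v ((h.memD v).1 hvD).1]; group
      rw [h1]; exact one_mem _
    exact (h.good u hu huD v hv hvD).1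

variable [Finite G] [Finite F]

/-- every `t ∈ S` is semilinear on `D` -/
theorem semi (h : End.Base P T B Q₁ Q₂ D C₁ C₂ s q) (co : LThree Q₁ Q₂ D x y z t₁ t₂ ω₁ ω₂) {t : G} (ht : t ∈ P) :
    ∃ (k : F) (ρ : F ≃+* F), k ≠ 0 ∧ ∀ d ∈ D, z (t * d * t⁻¹) = k * ρ (z d) := by
  have b : FFOne.Base Q₁ Q₂ D := toBase h
  have hDt : ∀ d ∈ D, t * d * t⁻¹ ∈ D := fun d hd => h.P_D ht hd
  have hDt' : ∀ d ∈ D, t⁻¹ * d * t ∈ D := fun d hd => by
    have h1 := h.P_D (inv_mem ht) hd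
    rwa [inv_inv] at h1
  have zker : ∀ d ∈ D, z d = 0 ↔ d ∈ (⊥ : Subgroup G) := fun d hd =>
    ⟨fun h0 => mem_bot.2 (co.z_inj d hd h0), fun h0 => by rw [mem_bot.1 h0]; exact add_one' co.z_mul⟩
  obtain ⟨σ, hσi, hσ⟩ := exists_hom (Q := D) (Q' := D) (D := ⊥) (D' := ⊥) t co.z_mul co.z_surj zker co.z_mul zker hDt
    (fun u hu => by rw [mem_bot] at hu ⊢; rw [hu]; group) (fun u hu => by rw [mem_bot] at hu ⊢; rw [hu]; group)
  obtain ⟨g, g', hgi, hgi', H⟩ : ∃ (g g' : F →+ F), Function.Injective g ∧ Function.Injective g' ∧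
      ∀ a c, σ (a * c) = g a * g' c := by
    rcases h.mem_S ht with hT | hT
    · obtain ⟨g, hgi, hg⟩ := exists_hom (Q := Q₁) (Q' := Q₁) (D := D) (D' := D) t co.x_mul co.x_surj co.x_ker
        co.x_mul co.x_ker (h.T1 t hT) hDt hDt'
      obtain ⟨g', hgi', hg'⟩ := exists_hom (Q := Q₂) (Q' := Q₂) (D := D) (D' := D) t co.y_mul co.y_surj co.y_ker
        co.y_mul co.y_ker (h.T2 t hT) hDt hDt'
      refine ⟨g, g', hgi, hgi', fun a c => ?_⟩
      obtain ⟨u, hu, rfl⟩ := co.x_surj a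
      obtain ⟨v, hv, rfl⟩ := co.y_surj c
      rw [← co.com u hu v hv, ← hσ _ (b.mem u hu v hv), cm_conj, co.com _ (h.T1 t hT u hu) _ (h.T2 t hT v hv),
        hg u hu, hg' v hv]
    · obtain ⟨g, hgi, hg⟩ := exists_hom (Q := Q₁) (Q' := Q₂) (D := D) (D' := D) t co.x_mul co.x_surj co.x_ker
        co.y_mul co.y_ker (fun u hu => h.swap1 hT hu) hDt hDt'
      obtain ⟨g', hgi', hg'⟩ := exists_hom (Q := Q₂) (Q' := Q₁) (D := D) (D' := D) t co.y_mul co.y_surj co.y_ker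
        co.x_mul co.x_ker (fun u hu => h.swap2 hT hu) hDt hDt'
      refine ⟨g, g', hgi, hgi', fun a c => ?_⟩
      obtain ⟨u, hu, rfl⟩ := co.x_surj a
      obtain ⟨v, hv, rfl⟩ := co.y_surj c
      rw [← co.com u hu v hv, ← hσ _ (b.mem u hu v hv), cm_conj, b.cm_inv (h.swap2 hT hv) (h.swap1 hT hu),
        co.com _ (h.swap2 hT hv) _ (h.swap1 hT hu), hg u hu, hg' v hv, mul_comm]
  obtain ⟨ρ, hρ, -, -⟩ := semi_mul σ g g' hgi hgi' H
  refine ⟨σ 1, ρ, fun h0 => one_ne_zero (hσi (h0.trans (map_zero σ).symm)), fun d hd => ?_⟩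
  rw [hσ d hd, hρ]

theorem mem_cent_iff (h : End.Base P T B Q₁ Q₂ D C₁ C₂ s q) (co : LThree Q₁ Q₂ D x y z t₁ t₂ ω₁ ω₂) {t : G}
    (ht : t ∈ P) {d : G} (hd : d ∈ D) : t * d = d * t ↔ z (t * d * t⁻¹) = z d := by
  have hm := h.P_D ht hd
  constructor
  · intro h1
    rw [h1, mul_inv_cancel_right]
  · intro h1
    have h2 : z (t * d * t⁻¹ * d⁻¹) = 0 := by
      rw [co.z_mul _ hm _ (inv_mem hd), add_inv' co.z_mul hd, h1, add_neg_cancel]
    have h3 := co.z_inj _ (mul_mem hm (inv_mem hd)) h2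
    exact (mul_inv_eq_iff_eq_mul.1 (mul_inv_eq_one.1 h3))

/-- an involution acting nontrivially -/
theorem semi_inv [CharP F 2] (h : End.Base P T B Q₁ Q₂ D C₁ C₂ s q) (co : LThree Q₁ Q₂ D x y z t₁ t₂ ω₁ ω₂) {t : G}
    (ht : t ∈ P) (h2 : t * t = 1) (hn : t ∉ centralizer (D : Set G)) :
    ∃ (k : F) (ρ : F ≃+* F), k ≠ 0 ∧ (∀ d ∈ D, z (t * d * t⁻¹) = k * ρ (z d)) ∧ (∀ a, ρ (ρ a) = a) ∧
      ∃ a, ρ a ≠ a := by
  obtain ⟨k, ρ, hk, hρ⟩ := semi h co ht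
  have h3 : ∀ a, k * (ρ k * ρ (ρ a)) = a := by
    intro a
    obtain ⟨d, hd, rfl⟩ := co.z_surj a
    rw [← map_mul, ← hρ d hd, ← hρ _ (h.P_D ht hd)]
    congr 1
    calc t * (t * d * t⁻¹) * t⁻¹ = (t * t) * d * (t * t)⁻¹ := by group
      _ = d := by rw [h2]; simp
  have h4 : k * ρ k = 1 := by
    have := h3 1
    simpa using this
  refine ⟨k, ρ, hk, hρ, fun a => ?_, ?_⟩
  · have h5 := h3 a
    rwa [← mul_assoc, h4, one_mul] at h5
  · by_contra hcon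
    push Not at hcon
    have h5 : k ^ 2 ^ 1 = 1 := by rw [pow_one, pow_two, ← h4, hcon]
    have h6 := TyAlg.one_of_two_pow h5
    apply hn
    rw [mem_centralizer_iff]
    intro d hd
    exact ((mem_cent_iff h co ht hd).2 (by rw [hρ d hd, hcon, h6, one_mul])).symm

/-- `Ty` for type `L₃(q)` -/
theorem ty_L [CharP F 2] (h : End.Base P T B Q₁ Q₂ D C₁ C₂ s q) (co : LThree Q₁ Q₂ D x y z t₁ t₂ ω₁ ω₂) :
    NodeA.Ty P B Q₁ Q₂ D 1 := by
  have b : FFOne.Base Q₁ Q₂ D := toBase h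
  have hcardF : Nat.card D = Nat.card F := by
    refine Nat.card_congr (Equiv.ofBijective (fun d : D => z d.1) ⟨?_, ?_⟩)
    · rintro ⟨d, hd⟩ ⟨e, he⟩ hde
      have h1 : z d = z e := hde
      have h2 := co.z_inj (d * e⁻¹) (mul_mem hd (inv_mem he)) (by
        rw [co.z_mul _ hd _ (inv_mem he), add_inv' co.z_mul he, h1, add_neg_cancel])
      exact Subtype.ext (mul_inv_eq_one.1 h2)
    · intro a
      obtain ⟨d, hd, h1⟩ := co.z_surj a
      exact ⟨⟨d, hd⟩, h1⟩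
  refine { big := ?_, fix := ?_, cyc := ?_, mv := ?_ }
  · intro x' hx' hxD y' hy' hyD K hKD hK
    have h1 : D ≤ K := by
      intro d hd
      have hy0 : y y' ≠ 0 := fun h0 => hyD ((co.y_ker y' hy').1 h0)
      obtain ⟨u, hu, h1⟩ := co.x_surj (z d / y y')
      have h2 := hK u (h.Q1B hu)
      have hcm := b.mem u hu y' hy'
      have h3 : x' * y' * u * (x' * y')⁻¹ * u⁻¹ = cm u y' := by
        rw [← b.cm_inv hu hy'] at hcm ⊢
        calc x' * y' * u * (x' * y')⁻¹ * u⁻¹ = x' * cm y' u * (u * x'⁻¹) * u⁻¹ := by simp only [cm]; group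
          _ = x' * cm y' u * (x'⁻¹ * u) * u⁻¹ := by rw [b.comm₁ hu (inv_mem hx')]
          _ = (x' * cm y' u) * x'⁻¹ := by group
          _ = cm y' u := by rw [b.comm₁ hx' (b.D₁ hcm), mul_inv_cancel_right]
      rw [h3] at h2
      have h4 : z (d * (cm u y')⁻¹) = 0 := by
        rw [co.z_mul _ hd _ (inv_mem hcm), add_inv' co.z_mul hcm, co.com u hu y' hy', h1, div_mul_cancel₀ _ hy0,
          add_neg_cancel]
      have h5 := co.z_inj _ (mul_mem hd (inv_mem hcm)) h4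
      rw [mul_inv_eq_one.1 h5]
      exact h2
    rw [one_mul]
    exact Subgroup.card_le_of_le h1
  · intro K hK hcard
    exfalso
    rw [one_mul] at hcard
    exact hK.ne (Subgroup.eq_of_le_of_card_ge hK.le hcard)
  · intro t ht ht2 t' ht' ht2' htD htD'
    obtain ⟨k, ρ, hk, hρ, hρ2, hρn⟩ := semi_inv h co ht ht2 htD
    obtain ⟨k', ρ', hk', hρ', hρ2', hρn'⟩ := semi_inv h co ht' ht2' htD'
    have heq := TyAlg.aut_unique ρ ρ' hρ2 hρ2' hρn hρn'
    set κ := k * ρ k' with hκ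
    have h1 : ∀ d ∈ D, z (t * t' * d * (t * t')⁻¹) = κ * z d := by
      intro d hd
      have h2 : t * t' * d * (t * t')⁻¹ = t * (t' * d * t'⁻¹) * t⁻¹ := by group
      rw [h2, hρ _ (h.P_D ht' hd), hρ' d hd, map_mul, ← heq, hρ2, hκ]; ring
    have hmem : t * t' ∈ P := mul_mem ht ht'
    have h3 : ∀ n : ℕ, ∀ d ∈ D, z ((t * t') ^ n * d * ((t * t') ^ n)⁻¹) = κ ^ n * z d := by
      intro n
      induction n with
      | zero => intro d _; simp
      | succ n ih =>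
        intro d hd
        have h4 : (t * t') ^ (n + 1) * d * ((t * t') ^ (n + 1))⁻¹ =
            t * t' * ((t * t') ^ n * d * ((t * t') ^ n)⁻¹) * (t * t')⁻¹ := by
          rw [pow_succ', mul_inv_rev]; simp only [mul_assoc]
        rw [h4, h1 _ (h.P_D (pow_mem hmem n) hd), ih d hd]; ring
    obtain ⟨n, hn⟩ := h.two ⟨_, hmem⟩
    have hn' : (t * t') ^ 2 ^ n = 1 := congrArg Subtype.val hn
    have h5 : κ ^ 2 ^ n = 1 := by
      obtain ⟨d, hd, hd1⟩ := co.z_surj 1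
      have h6 := h3 (2 ^ n) d hd
      rw [hn', hd1, mul_one, one_mul, inv_one, mul_one, hd1] at h6
      exact h6.symm
    have h6 := TyAlg.one_of_two_pow h5
    rw [mem_centralizer_iff]
    intro d hd
    exact ((mem_cent_iff h co hmem hd).2 (by rw [h1 d hd, h6, one_mul])).symm
  · intro t ht ht2 htD
    obtain ⟨k, ρ, hk, hρ, hρ2, hρn⟩ := semi_inv h co ht ht2 htD
    rw [hcardF]
    refine le_trans (Nat.pow_le_pow_left (Nat.card_le_card_of_injective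
      (fun d : (D ⊓ centralizer ({t} : Set G) : Subgroup G) => (⟨z d.1, ?_⟩ : {a : F // k * ρ a = a})) ?_) 2)
      (TyAlg.card_fix_sq_le' ρ hρn k)
    · rw [← hρ _ d.2.1]
      exact (mem_cent_iff h co ht d.2.1).1 (mem_centralizer_singleton_iff.1 d.2.2).symm
    · rintro ⟨d, hd⟩ ⟨e, he⟩ hde
      have h1 : z d = z e := congrArg Subtype.val hde
      have h2 := co.z_inj (d * e⁻¹) (mul_mem hd.1 (inv_mem he.1)) (by
        rw [co.z_mul _ hd.1 _ (inv_mem he.1), add_inv' co.z_mul he.1, h1, add_neg_cancel])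
      exact Subtype.ext (mul_inv_eq_one.1 h2)

end Cfsg.Agent.Omega.SQ1.TyL

end

-- merged: Cfsg.Agent.Mrg.Omega.SQ1.RankFourOf
section

/-!
# SQT, Node (A) (v): `r(S) ≤ 4` for type `L₃(4)`, from `End.Base`

`rank_four (h : Base S T B Q₁ Q₂ D C₁ C₂ s 4) (hD : |D| = 4) : SectionalPRankLE 2 4 S`.
-/

set_option autoImplicit false

namespace Cfsg.Agent.Omega.SQ1.RankFourOf

open Subgroup Cfsg Cfsg.Agent.Omega.SQ1.End Cfsg.Agent.Omega.SQ1.RankFour

universe u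

variable {G : Type u} [Group G] {S T B Q₁ Q₂ D C₁ C₂ : Subgroup G} {s : G}

section

variable [Finite G] (h : Base S T B Q₁ Q₂ D C₁ C₂ s 4) (hD : Nat.card D = 4)

include h

omit [Finite G] in
theorem conj_D {w : G} (hw : w ∈ T) {d : G} (hd : d ∈ D) : w * d * w⁻¹ ∈ D :=
  (h.memD _).2 ⟨h.T1 w hw d (h.D1 hd), h.T2 w hw d (h.D2 hd)⟩

include hD

/-- squares of elements of `T` act trivially on `Q₁ / D` -/
theorem sq_triv {w : G} (hw : w ∈ T) {y : G} (hy : y ∈ Q₁) : (w * w) * y * (w * w)⁻¹ * y⁻¹ ∈ D := by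
  have hf2 : Fact (Nat.Prime 2) := ⟨Nat.prime_two⟩
  have hT2 : IsPGroup 2 T := h.two.to_le h.TS
  have hQT : Q₁ ≤ T := h.Q1B.trans h.BT
  have hnQ : T ≤ normalizer (Q₁ : Set G) := fun t ht => mem_normalizer_of (h.T1 t ht)
  have hnD : T ≤ normalizer (D : Set G) := fun t ht => mem_normalizer_of (fun d hd => conj_D h ht hd)
  obtain ⟨x, hx, hxD, hfix⟩ := EndThree.exists_fix hT2 hQT hnQ h.D1 hnD (by
    intro h1
    obtain ⟨a, ha, haD⟩ := h.exists_a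
    exact haD (h1 ha))
  have hxx := h.sq1 x hx
  -- `E = D ∪ xD`
  let E : Subgroup G :=
    { carrier := {g | g ∈ D ∨ x * g ∈ D}
      one_mem' := Or.inl D.one_mem
      mul_mem' := by
        rintro a b (ha | ha) (hb | hb)
        · exact Or.inl (D.mul_mem ha hb)
        · right
          have e : x * (a * b) = a * (x * b) := by
            rw [← mul_assoc, ← mul_assoc, h.c1 x hx a (h.D1 ha)]
          rw [e]; exact D.mul_mem ha hb
        · right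
          rw [← mul_assoc]; exact D.mul_mem ha hb
        · left
          have hxa : a ∈ Q₁ := by
            have := Q₁.mul_mem hx (h.D1 ha)
            rwa [← mul_assoc, hxx, one_mul] at this
          have e : a * b = (x * a) * (x * b) := by
            calc a * b = (x * x) * a * b := by rw [hxx, one_mul]
              _ = x * (x * a) * b := by group
              _ = x * (a * x) * b := by rw [h.c1 x hx a hxa]
              _ = _ := by group
          rw [e]; exact D.mul_mem ha hb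
      inv_mem' := by
        rintro a (ha | ha)
        · exact Or.inl (D.inv_mem ha)
        · right
          have hxa : a ∈ Q₁ := by
            have := Q₁.mul_mem hx (h.D1 ha)
            rwa [← mul_assoc, hxx, one_mul] at this
          rw [h.inv1 hxa]; exact ha }
  have hEQ : E ≤ Q₁ := by
    rintro a (ha | ha)
    · exact h.D1 ha
    · have := Q₁.mul_mem hx (h.D1 ha)
      rwa [← mul_assoc, hxx, one_mul] at this
  have hDE : D ≤ E := fun d hd => Or.inl hd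
  have hxE : x ∈ E := Or.inr (by rw [hxx]; exact D.one_mem)
  have hE8 : 8 ≤ Nat.card E := by
    have := two_mul_le hDE ⟨x, hxE, hxD⟩
    omega
  have hQ16 : Nat.card Q₁ = 16 := by rw [h.card1, hD]
  have hrel : E.relIndex Q₁ ≤ 2 := by
    have h1 := card_mul_relIndex hEQ
    by_contra h2
    have : 8 * 3 ≤ Nat.card E * E.relIndex Q₁ := Nat.mul_le_mul hE8 (by omega)
    omega
  -- products of two elements outside `E` lie in `E`
  have hprod : ∀ a ∈ Q₁, ∀ b ∈ Q₁, a ∉ E → b ∉ E → a * b ∈ E := by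
    intro a ha b hb haE hbE
    have h1 : (E.subgroupOf Q₁).index = 2 := by
      have h2 : E.relIndex Q₁ ≠ 0 := by
        intro h3
        have h1 := card_mul_relIndex hEQ
        rw [h3, mul_zero] at h1
        exact absurd h1.symm Nat.card_pos.ne'
      have h3 : E.relIndex Q₁ ≠ 1 := fun h3 => haE (relIndex_eq_one.1 h3 ha)
      show E.relIndex Q₁ = 2
      omega
    have h2 := (Subgroup.mul_mem_iff_of_index_two h1 (a := ⟨a, ha⟩) (b := ⟨b, hb⟩)).2 (by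
      constructor
      · intro h3; exact absurd h3 haE
      · intro h3; exact absurd h3 hbE)
    exact h2
  -- `T` acts trivially on `E` modulo `D`
  have hEfix : ∀ t ∈ T, ∀ e ∈ E, t * e * t⁻¹ * e⁻¹ ∈ D := by
    rintro t ht e (he | he)
    · exact D.mul_mem (conj_D h ht he) (D.inv_mem he)
    · have h1 := hfix t ht
      have h2 : t * x * t⁻¹ * x⁻¹ ∈ D := by
        have := D.inv_mem h1
        have e1 : (x * t * x⁻¹ * t⁻¹)⁻¹ = t * x * t⁻¹ * x⁻¹ := by group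
        rwa [e1] at this
      have heQ : e ∈ Q₁ := hEQ (Or.inr he)
      -- `e = x (x e)`
      have h3 := conj_D h ht he
      have h4 : t * e * t⁻¹ * e⁻¹ = (t * x * t⁻¹)⁻¹ * (t * (x * e) * t⁻¹) * e⁻¹ := by group
      have h5 : (t * x * t⁻¹)⁻¹ = t * x * t⁻¹ := by
        have : (t * x * t⁻¹)⁻¹ = t * x⁻¹ * t⁻¹ := by group
        rw [this, h.inv1 hx]
      rw [h4, h5]
      have h6 : t * x * t⁻¹ * (t * (x * e) * t⁻¹) * e⁻¹ =
          (t * x * t⁻¹ * x⁻¹) * (x * (t * (x * e) * t⁻¹) * e⁻¹) := by group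
      rw [h6]
      refine D.mul_mem h2 ?_
      have h7 : x * (t * (x * e) * t⁻¹) * e⁻¹ = (t * (x * e) * t⁻¹) * (x * e⁻¹) := by
        rw [h.c1 x hx _ (h.D1 h3)]; group
      rw [h7]
      refine D.mul_mem h3 ?_
      rw [h.inv1 heQ]
      exact he
  have hEconj : ∀ t ∈ T, ∀ e ∈ E, t * e * t⁻¹ ∈ E := by
    intro t ht e he
    have := E.mul_mem (hDE (hEfix t ht e he)) he
    rwa [inv_mul_cancel_right] at this
  by_cases hyE : y ∈ E
  · exact hEfix _ (T.mul_mem hw hw) y hyE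
  · have hwy : w * y * w⁻¹ ∉ E := by
      intro h1
      have h2 := hEconj w⁻¹ (T.inv_mem hw) _ h1
      have e1 : w⁻¹ * (w * y * w⁻¹) * w⁻¹⁻¹ = y := by group
      rw [e1] at h2
      exact hyE h2
    have hyi : y⁻¹ = y := h.inv1 hy
    have he : w * y * w⁻¹ * y⁻¹ ∈ E := by
      rw [hyi]
      exact hprod _ (h.T1 w hw y hy) _ hy hwy hyE
    set e : G := w * y * w⁻¹ * y⁻¹ with hedef
    have h1 : w * e * w⁻¹ * e⁻¹ ∈ D := hEfix w hw e he
    have hee : e * e = 1 := h.sq1 e (hEQ he)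
    have h2 : (w * w) * y * (w * w)⁻¹ * y⁻¹ = w * e * w⁻¹ * e⁻¹ * (e * e) := by
      rw [hedef]; group
    rw [h2, hee, mul_one]
    exact h1

/-- no square of an element of `T` lies outside `B` -/
theorem sq_mem {w : G} (hw : w ∈ T) : w * w ∈ B := by
  by_contra hcon
  obtain ⟨n, hn⟩ := h.two ⟨w, h.TS hw⟩
  have hwn : w ^ 2 ^ n = 1 := by
    have := congrArg Subtype.val hn
    simpa using this
  -- the last power outside `B`
  have hex : ∃ k, w ^ 2 ^ (k + 1) ∈ B := by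
    refine ⟨n, ?_⟩
    rw [pow_succ, pow_mul, hwn, one_pow]
    exact B.one_mem
  classical
  set k := Nat.find hex with hk
  have hk1 : w ^ 2 ^ (k + 1) ∈ B := Nat.find_spec hex
  have hk0 : k ≠ 0 := by
    intro h0
    rw [h0, zero_add, pow_one, pow_two] at hk1
    exact hcon hk1
  obtain ⟨j, hj⟩ := Nat.exists_eq_succ_of_ne_zero hk0
  have hj1 : w ^ 2 ^ (j + 1) ∉ B := by
    have := Nat.find_min hex (m := j) (by omega)
    exact this
  set w' : G := w ^ 2 ^ j with hw'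
  have hw'T : w' ∈ T := T.pow_mem hw _
  have e1 : w' * w' = w ^ 2 ^ (j + 1) := by
    rw [hw', ← pow_add, pow_succ]; congr 1; ring
  set v : G := w' * w' with hv
  have hvT : v ∈ T := T.mul_mem hw'T hw'T
  have hvB : v ∉ B := by rw [e1]; exact hj1
  have hvv : v * v ∈ B := by
    rw [e1, ← pow_add]
    have : 2 ^ (j + 1) + 2 ^ (j + 1) = 2 ^ (k + 1) := by rw [hj, pow_succ 2 (j.succ)]; omega
    rw [this]; exact hk1
  obtain ⟨a, ha, haD⟩ := h.exists_a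
  have h1 := sq_triv h hD hw'T ha
  rw [← hv] at h1
  have hva := h.T1 v hvT a ha
  obtain ⟨u, hu, hu2⟩ := h.free1D v hvT hvB hvv a ha (by
    rw [h.c1 _ (Q₁.inv_mem ha) _ hva]; exact h1)
  have h2 := sq_triv h hD hw'T hu
  rw [← hv] at h2
  apply haD
  have h3 : u * (v * u * v⁻¹) ∈ D := by
    rw [h.c1 u hu _ (h.T1 v hvT u hu)]
    rwa [h.inv1 hu] at h2
  have h4 := D.mul_mem hu2 (D.inv_mem h3)
  have e2 : a⁻¹ * (u * (v * u * v⁻¹)) * (u * (v * u * v⁻¹))⁻¹ = a⁻¹ := by group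
  rw [e2] at h4
  exact D.inv_mem_iff.1 h4

theorem moves1 {u : G} (huT : u ∈ T) (huB : u ∉ B) : ∃ a ∈ Q₁, u * a * u⁻¹ * a⁻¹ ∉ D := by
  by_contra hcon
  push Not at hcon
  obtain ⟨a, ha, haD⟩ := h.exists_a
  obtain ⟨v, hv, hv2⟩ := h.free1D u huT huB (sq_mem h hD huT) a ha (by
    rw [h.c1 _ (Q₁.inv_mem ha) _ (h.T1 u huT a ha)]; exact hcon a ha)
  apply haD
  have h3 : v * (u * v * u⁻¹) ∈ D := by
    rw [h.c1 v hv _ (h.T1 u huT v hv)]
    have := hcon v hv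
    rwa [h.inv1 hv] at this
  have h4 := D.mul_mem hv2 (D.inv_mem h3)
  have e2 : a⁻¹ * (v * (u * v * u⁻¹)) * (v * (u * v * u⁻¹))⁻¹ = a⁻¹ := by group
  rw [e2] at h4
  exact D.inv_mem_iff.1 h4

theorem relIndex_T : B.relIndex T ∣ 2 := by
  by_cases hTB : T ≤ B
  · rw [relIndex_eq_one.2 hTB]; norm_num
  obtain ⟨t, ht, htB⟩ := SetLike.not_le_iff_exists.1 hTB
  have h1 : (B.subgroupOf T).index = 2 := by
    rw [Subgroup.index_eq_two_iff]
    refine ⟨⟨t, ht⟩, fun b => ?_⟩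
    by_cases hb : (b : G) ∈ B
    · refine Or.inr ⟨hb, fun h2 => ?_⟩
      exact htB ((B.mul_mem_cancel_left hb).1 h2)
    · refine Or.inl ⟨?_, hb⟩
      have h2 := h.uniq (b : G)⁻¹ (T.inv_mem b.2) (fun h3 => hb (B.inv_mem_iff.1 h3))
        (sq_mem h hD (T.inv_mem b.2)) t ht htB (sq_mem h hD ht)
      rwa [inv_inv] at h2
  have h2 : B.relIndex T = 2 := h1
  rw [h2]

theorem relIndex_S : B.relIndex S ∣ 4 := by
  have h1 := Subgroup.relIndex_mul_relIndex B T S h.BT h.TS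
  have h2 : (T.subgroupOf S).index = 2 := by
    rw [Subgroup.index_eq_two_iff]
    refine ⟨⟨s, h.sS⟩⁻¹, fun b => ?_⟩
    have hsn : s ∉ T := h.s_notMem
    rcases h.mem_S b.2 with hb | hb
    · refine Or.inr ⟨hb, fun h2 => ?_⟩
      have h3 : (b : G) * s⁻¹ ∈ T := h2
      exact hsn (T.inv_mem_iff.1 ((T.mul_mem_cancel_left hb).1 h3))
    · refine Or.inl ⟨?_, fun h2 => ?_⟩
      · show (b : G) * s⁻¹ ∈ T
        have h3 := h.sT hb
        have e : s * (s⁻¹ * (b : G)) * s⁻¹ = (b : G) * s⁻¹ := by group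
        rwa [e] at h3
      · have h3 : (b : G) ∈ T := h2
        exact hsn (T.inv_mem_iff.1 ((T.mul_mem_cancel_right h3).1 hb))
  have h3 : T.relIndex S = 2 := h2
  rw [← h1, h3]
  obtain ⟨k, hk⟩ := relIndex_T h hD
  exact ⟨k, by rw [show (4 : ℕ) = 2 * 2 by norm_num]; nth_rewrite 1 [hk]; ring⟩

/-- The structure `Dat` inside `S`. -/
theorem dat : Dat (B.subgroupOf S) (Q₁.subgroupOf S) (Q₂.subgroupOf S) (D.subgroupOf S) := by
  have hBS : B ≤ S := h.BT.trans h.TS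
  have hcard : ∀ {X : Subgroup G}, X ≤ S → Nat.card (X.subgroupOf S) = Nat.card X :=
    fun hX => Nat.card_congr (Subgroup.subgroupOfEquivOfLe hX).toEquiv
  refine ⟨?_, ?_, ?_, ?_, ?_, ?_, ?_, ?_, ?_, ?_, ?_, ?_, ?_⟩
  · ext x
    rw [mem_inf, mem_subgroupOf, mem_subgroupOf, mem_subgroupOf, h.memD]
  · rw [hcard (h.DB.trans hBS), hD]
  · rw [hcard (h.Q1B.trans hBS), h.card1, hD]
  · rw [hcard (h.Q2B.trans hBS), h.card2, hD]
  · intro x hx; exact Subtype.ext (h.sq1 x hx)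
  · intro x hx; exact Subtype.ext (h.sq2 x hx)
  · intro a ha b hb
    exact h.comm12 ha hb
  · intro a ha haD b hb hbD h1
    have h2 : (a : G) * b = b * a := congrArg Subtype.val h1
    have h3 := h.good a ha haD b hb hbD
    apply h.good_ne h3
    rw [h2]; group
  · have h1 : Q₁ ⊔ Q₂ = B := by
      refine le_antisymm (sup_le h.Q1B h.Q2B) ?_
      intro x hx
      obtain ⟨a, ha, b, hb, rfl⟩ := h.prod x hx
      exact mul_mem (mem_sup_left ha) (mem_sup_right hb)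
    rw [← Subgroup.subgroupOf_sup (h.Q1B.trans hBS) (h.Q2B.trans hBS), h1]
  · intro u
    rcases h.mem_S u.2 with hu | hu
    · exact Or.inl ⟨fun a ha => h.T1 u hu a ha, fun b hb => h.T2 u hu b hb⟩
    · exact Or.inr ⟨fun a ha => h.swap1 hu ha, fun b hb => h.swap2 hu hb⟩
  · intro u huB hu
    have huT : (u : G) ∈ T := h.memT u u.2 (fun a ha => hu ⟨a, h.Q1B.trans hBS ha⟩ ha)
    obtain ⟨a, ha, ha2⟩ := moves1 h hD huT huB
    obtain ⟨b, hb, hb2⟩ := moves1 h.symm hD huT huB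
    exact ⟨⟨⟨a, h.Q1B.trans hBS ha⟩, ha, ha2⟩, ⟨⟨b, h.Q2B.trans hBS hb⟩, hb, hb2⟩⟩
  · exact ⟨⟨s, h.sS⟩, fun a ha => h.s1 a ha⟩
  · exact relIndex_S h hD

/-- **Type `L₃(4)`: `r(S) ≤ 4`.** -/
theorem rank_four : SectionalPRankLE 2 4 S := (dat h hD).rank

end

/-- The same for a group `G` with Sylow 2-subgroup `S`. -/
theorem rank_four_of_sylow [Finite G] {P : Sylow 2 G} (h : Base (P : Subgroup G) T B Q₁ Q₂ D C₁ C₂ s 4)
    (hD : Nat.card D = 4) : SectionalPRankLE 2 4 G :=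
  have : Fact (Nat.Prime 2) := ⟨Nat.prime_two⟩
  (GH.Rank.sylow_iff P).1 (rank_four h hD)

end Cfsg.Agent.Omega.SQ1.RankFourOf

end

-- merged: Cfsg.Agent.Mrg.Omega.SQ1.NodeAFin
section

/-!
# NODE (A) / (h4), final form: every member of `L(S)` normalises `B`, for an arbitrary overgroup `Y`

* `sp_le`: type `Sp₄(q)`, `q ≥ 4`; `l_le`: type `L₃(q)`, `q ≥ 8`;
* `good_of`: then `C_G(z) ≤ N_G(B)` for every good `z` (input: `N_G(B)` transitive on the good elements);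
* `node_a`: the trichotomy from `FFOne.five`.
-/

set_option autoImplicit false
set_option Elab.async false

namespace Cfsg.Agent.Omega.SQ1.NodeA

open Subgroup Cfsg Cfsg.Agent.ZN Cfsg.Agent.Omega.MinPar Cfsg.Agent.Omega.SQ1.End
open Cfsg.Agent.Omega.FFOne (cm SpFour LThree)

universe u

variable {G : Type u} [Group G] {F : Type*} [Field F]

section

variable {S T B Q₁ Q₂ D C₁ C₂ : Subgroup G} {s t₁ t₂ : G} {q : ℕ} {x y z z' : G → F} {ω₁ ω₂ : F}
variable [Finite G]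

/-- `q = 4`: squares of elements of `T` lie in `B`. -/
theorem sq_mem_sp [Finite F] [CharP F 2] (h : End.Base S T B Q₁ Q₂ D C₁ C₂ s q)
    (co : SpFour Q₁ Q₂ D C₁ C₂ x y z z' t₁ t₂ ω₁ ω₂) (hq : q = 4) {t : G} (ht : t ∈ T) : t * t ∈ B := by
  have hF : Nat.card F = 4 := by rw [← q_eq h co, hq]
  obtain ⟨ρ, a, b, c, c', -, -, hx, hy, -, -⟩ := exists_semi h co ht
  have hρ : ∀ w, ρ (ρ w) = w := by
    have : Fact (Nat.Prime 2) := ⟨Nat.prime_two⟩
    have : Fintype F := Fintype.ofFinite F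
    have h1 : Nat.card (F ≃+* F) = 2 := Lib.FieldAutCard.card_ringAut (p := 2) (f := 2) (by norm_num)
      (by rw [← Nat.card_eq_fintype_card, hF]; norm_num)
    have h2 : ρ ^ Nat.card (F ≃+* F) = 1 := pow_card_eq_one'
    rw [h1, pow_two] at h2
    intro w
    exact RingEquiv.congr_fun h2 w
  obtain ⟨m, hm⟩ := h.two ⟨t, h.TS ht⟩
  have hm' : t ^ 2 ^ m = 1 := by simpa using congrArg Subtype.val hm
  have hm2 : (t * t) ^ 2 ^ m = 1 := by
    rw [← pow_two, ← pow_mul, mul_comm, pow_mul, hm', one_pow]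
  have hT2 : t * t ∈ T := mul_mem ht ht
  have hxx : ∀ u ∈ Q₁, x (t * t * u * (t * t)⁻¹) = a * ρ a * x u := by
    intro u hu
    have e : t * t * u * (t * t)⁻¹ = t * (t * u * t⁻¹) * t⁻¹ := by group
    rw [e, hx _ (h.T1 t ht u hu), hx u hu, map_mul, hρ]; ring
  have hyy : ∀ u ∈ Q₂, y (t * t * u * (t * t)⁻¹) = b * ρ b * y u := by
    intro u hu
    have e : t * t * u * (t * t)⁻¹ = t * (t * u * t⁻¹) * t⁻¹ := by group
    rw [e, hy _ (h.T2 t ht u hu), hy u hu, map_mul, hρ]; ring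
  have hxn : ∀ n : ℕ, ∀ u ∈ Q₁, x ((t * t) ^ n * u * ((t * t) ^ n)⁻¹) = (a * ρ a) ^ n * x u := by
    intro n
    induction n with
    | zero => intro u _; simp
    | succ n ih =>
      intro u hu
      have e : (t * t) ^ (n + 1) * u * ((t * t) ^ (n + 1))⁻¹ =
          t * t * ((t * t) ^ n * u * ((t * t) ^ n)⁻¹) * (t * t)⁻¹ := by
        generalize t * t = g; rw [pow_succ']; group
      rw [e, hxx _ (h.T1 _ (T.pow_mem hT2 n) u hu), ih u hu, pow_succ']; ring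
  have hyn : ∀ n : ℕ, ∀ u ∈ Q₂, y ((t * t) ^ n * u * ((t * t) ^ n)⁻¹) = (b * ρ b) ^ n * y u := by
    intro n
    induction n with
    | zero => intro u _; simp
    | succ n ih =>
      intro u hu
      have e : (t * t) ^ (n + 1) * u * ((t * t) ^ (n + 1))⁻¹ =
          t * t * ((t * t) ^ n * u * ((t * t) ^ n)⁻¹) * (t * t)⁻¹ := by
        generalize t * t = g; rw [pow_succ']; group
      rw [e, hyy _ (h.T2 _ (T.pow_mem hT2 n) u hu), ih u hu, pow_succ']; ring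
  have ha : a * ρ a = 1 := by
    obtain ⟨u, hu, hu1⟩ := co.x_surj 1
    have h1 := hxn (2 ^ m) u hu
    rw [hm2, one_mul, inv_one, mul_one, hu1, mul_one] at h1
    exact TyAlg.one_of_two_pow h1.symm
  have hb : b * ρ b = 1 := by
    obtain ⟨u, hu, hu1⟩ := co.y_surj 1
    have h1 := hyn (2 ^ m) u hu
    rw [hm2, one_mul, inv_one, mul_one, hu1, mul_one] at h1
    exact TyAlg.one_of_two_pow h1.symm
  exact mem_B_of_xy h co hT2 (fun u hu => by rw [hxx u hu, ha, one_mul]) fun u hu => by rw [hyy u hu, hb, one_mul]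

end

section

variable {S : Sylow 2 G} {T B Q₁ Q₂ D C₁ C₂ : Subgroup G} {s t₁ t₂ : G} {q : ℕ} {x y z z' : G → F} {ω₁ ω₂ : F}
variable [Finite G] [Finite F] [CharP F 2] (h : End.Base (S : Subgroup G) T B Q₁ Q₂ D C₁ C₂ s q)

include h

/-- NODE (A), type `Sp₄(q)`. -/
theorem sp_le (co : SpFour Q₁ Q₂ D C₁ C₂ x y z z' t₁ t₂ ω₁ ω₂) (hG : IsCharacteristicTwoType G)
    (hD : normalizer (D : Set G) ≤ normalizer (B : Set G)) {X : Subgroup G} (hX : IsLoc (S : Subgroup G) X) :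
    X ≤ normalizer (B : Set G) := by
  have hcard : Nat.card D = q ^ 2 := by rw [card_D_eq h co, q_eq h co]
  have hq4 := h.hq
  rcases Nat.eq_or_lt_of_le hq4 with hq | hq
  · refine le_normalizer_of_two h hG (ty_sp h co) hD (by rw [hcard]; nlinarith) (sp_two h co) ?_ hX
    intro t ht htB t' ht' htB'
    exact h.uniq t ht htB (sq_mem_sp h co hq.symm ht) t' ht' htB' (sq_mem_sp h co hq.symm ht')
  · exact le_normalizer_of_lt h hG (ty_sp h co) hD (by rw [hcard]; nlinarith) hX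

/-- NODE (A), type `L₃(q)`, `q ≥ 8`. -/
theorem l_le (co : LThree Q₁ Q₂ D x y z t₁ t₂ ω₁ ω₂) (hC : C₁ = ⊥) (hq : 4 < q) (hG : IsCharacteristicTwoType G)
    (hD : normalizer (D : Set G) ≤ normalizer (B : Set G)) {X : Subgroup G} (hX : IsLoc (S : Subgroup G) X) :
    X ≤ normalizer (B : Set G) := by
  have hcard : Nat.card D = q := by
    have := h.cardC1
    rwa [hC, Subgroup.card_bot, mul_one] at this
  exact le_normalizer_of_lt h hG (TyL.ty_L h co) hD (by rw [hcard]; omega) hX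

omit [Finite F] [CharP F 2] in
/-- control of the good elements -/
theorem good_of (hL : ∀ X : Subgroup G, IsLoc (S : Subgroup G) X → X ≤ normalizer (B : Set G))
    (tr : ∀ d e, Gd D C₁ C₂ d → Gd D C₁ C₂ e → ∃ n ∈ normalizer (B : Set G), n * d * n⁻¹ = e) :
    ∀ w, Gd D C₁ C₂ w → centralizer ({w} : Set G) ≤ normalizer (B : Set G) := by
  intro w hw c hc
  obtain ⟨w0, hw0, hg0⟩ := h.exists_z0
  obtain ⟨n, hn, rfl⟩ := tr w0 w hg0 hw
  have h1 : n⁻¹ * c * n ∈ centralizer ({w0} : Set G) := by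
    rw [mem_centralizer_singleton_iff] at hc ⊢
    calc n⁻¹ * c * n * w0 = n⁻¹ * (c * (n * w0 * n⁻¹)) * n := by group
      _ = n⁻¹ * (n * w0 * n⁻¹ * c) * n := by rw [hc]
      _ = w0 * (n⁻¹ * c * n) := by group
  have hzc := mem_zc.1 hw0
  have h2 : IsLoc (S : Subgroup G) (centralizer ({w0} : Set G)) := by
    refine isLoc_centralizer S hzc.2.2 (h.good_ne hg0) fun g hg => ?_
    rw [mem_centralizer_singleton_iff]
    exact (hzc.2.1 g hg)
  have h3 := hL _ h2 h1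
  have h4 := mul_mem (mul_mem hn h3) (inv_mem hn)
  have e : n * (n⁻¹ * c * n) * n⁻¹ = c := by group
  rwa [e] at h4

omit [Finite F] [CharP F 2] h in
/-- the tori are transitive on the good elements -/
theorem tr_sp (co : SpFour Q₁ Q₂ D C₁ C₂ x y z z' t₁ t₂ ω₁ ω₂) (h1 : t₁ ∈ normalizer (B : Set G))
    (h2 : t₂ ∈ normalizer (B : Set G)) (hD1 : ∀ d ∈ D, t₁ * d * t₁⁻¹ ∈ D) (hD2 : ∀ d ∈ D, t₂ * d * t₂⁻¹ ∈ D) (d e : G)
    (hd : Gd D C₁ C₂ d) (he : Gd D C₁ C₂ e) : ∃ n ∈ normalizer (B : Set G), n * d * n⁻¹ = e := by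
  have hz : z d ≠ 0 := fun k => hd.2.1 ((co.z_ker d hd.1).1 k)
  have hz' : z' d ≠ 0 := fun k => hd.2.2 ((co.z'_ker d hd.1).1 k)
  have hze : z e ≠ 0 := fun k => he.2.1 ((co.z_ker e he.1).1 k)
  have hze' : z' e ≠ 0 := fun k => he.2.2 ((co.z'_ker e he.1).1 k)
  obtain ⟨m, hm⟩ := co.gen₁ (z e / z d) (div_ne_zero hze hz)
  obtain ⟨n, hn⟩ := co.gen₂ (z' e / z' d) (div_ne_zero hze' hz')
  have k1 : ∀ k : ℕ, ∀ d ∈ D, t₁ ^ k * d * (t₁ ^ k)⁻¹ ∈ D ∧ z (t₁ ^ k * d * (t₁ ^ k)⁻¹) = ω₁ ^ k * z d ∧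
      z' (t₁ ^ k * d * (t₁ ^ k)⁻¹) = z' d := by
    intro k
    induction k with
    | zero => intro d hd; simpa using hd
    | succ k ih =>
      intro d hd
      obtain ⟨i1, i2, i3⟩ := ih d hd
      have e : t₁ ^ (k + 1) * d * (t₁ ^ (k + 1))⁻¹ = t₁ * (t₁ ^ k * d * (t₁ ^ k)⁻¹) * t₁⁻¹ := by
        rw [pow_succ']; group
      rw [e]
      exact ⟨hD1 _ i1, by rw [co.t₁z _ i1, i2, pow_succ']; ring, by rw [co.t₁z' _ i1, i3]⟩
  have k2 : ∀ k : ℕ, ∀ d ∈ D, t₂ ^ k * d * (t₂ ^ k)⁻¹ ∈ D ∧ z' (t₂ ^ k * d * (t₂ ^ k)⁻¹) = ω₂ ^ k * z' d ∧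
      z (t₂ ^ k * d * (t₂ ^ k)⁻¹) = z d := by
    intro k
    induction k with
    | zero => intro d hd; simpa using hd
    | succ k ih =>
      intro d hd
      obtain ⟨i1, i2, i3⟩ := ih d hd
      have e : t₂ ^ (k + 1) * d * (t₂ ^ (k + 1))⁻¹ = t₂ * (t₂ ^ k * d * (t₂ ^ k)⁻¹) * t₂⁻¹ := by
        rw [pow_succ']; group
      rw [e]
      exact ⟨hD2 _ i1, by rw [co.t₂z' _ i1, i2, pow_succ']; ring, by rw [co.t₂z _ i1, i3]⟩
  obtain ⟨a1, a2, a3⟩ := k1 m d hd.1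
  obtain ⟨b1, b2, b3⟩ := k2 n _ a1
  refine ⟨t₂ ^ n * t₁ ^ m, mul_mem (pow_mem h2 n) (pow_mem h1 m), ?_⟩
  have e1 : t₂ ^ n * t₁ ^ m * d * (t₂ ^ n * t₁ ^ m)⁻¹ = t₂ ^ n * (t₁ ^ m * d * (t₁ ^ m)⁻¹) * (t₂ ^ n)⁻¹ := by group
  rw [e1]
  refine eq_of_coord co b1 he.1 ?_ ?_
  · rw [b3, a2, ← hm, div_mul_cancel₀ _ hz]
  · rw [b2, a3, ← hn, div_mul_cancel₀ _ hz']

omit [Finite G] [Finite F] [CharP F 2] h in
theorem tr_l (co : LThree Q₁ Q₂ D x y z t₁ t₂ ω₁ ω₂) (hC1 : C₁ = ⊥) (h1 : t₁ ∈ normalizer (B : Set G))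
    (hD1 : ∀ d ∈ D, t₁ * d * t₁⁻¹ ∈ D) (d e : G)
    (hd : Gd D C₁ C₂ d) (he : Gd D C₁ C₂ e) : ∃ n ∈ normalizer (B : Set G), n * d * n⁻¹ = e := by
  have hne : ∀ w, Gd D C₁ C₂ w → z w ≠ 0 := fun w hw k => hw.2.1 (by
    rw [hC1, mem_bot]; exact co.z_inj w hw.1 k)
  obtain ⟨m, hm⟩ := co.gen₁ (z e / z d) (div_ne_zero (hne e he) (hne d hd))
  have k1 : ∀ k : ℕ, ∀ d ∈ D, t₁ ^ k * d * (t₁ ^ k)⁻¹ ∈ D ∧ z (t₁ ^ k * d * (t₁ ^ k)⁻¹) = ω₁ ^ k * z d := by
    intro k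
    induction k with
    | zero => intro d hd; simpa using hd
    | succ k ih =>
      intro d hd
      obtain ⟨i1, i2⟩ := ih d hd
      have e : t₁ ^ (k + 1) * d * (t₁ ^ (k + 1))⁻¹ = t₁ * (t₁ ^ k * d * (t₁ ^ k)⁻¹) * t₁⁻¹ := by
        rw [pow_succ']; group
      rw [e]
      exact ⟨hD1 _ i1, by rw [co.t₁z _ i1, i2, pow_succ']; ring⟩
  obtain ⟨a1, a2⟩ := k1 m d hd.1
  refine ⟨t₁ ^ m, pow_mem h1 m, ?_⟩
  have h3 : t₁ ^ m * d * (t₁ ^ m)⁻¹ * e⁻¹ = 1 := co.z_inj _ (mul_mem a1 (inv_mem he.1)) (by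
    rw [co.z_mul _ a1 _ (inv_mem he.1), FFOne.add_inv' co.z_mul he.1, a2, ← hm, div_mul_cancel₀ _ (hne d hd),
      add_neg_cancel])
  exact mul_inv_eq_one.1 h3

end

end Cfsg.Agent.Omega.SQ1.NodeA

end

-- merged: Cfsg.Agent.Mrg.Omega.SQ1.CoOf
section

/-!
# SQ1, one natural summand, `q ≥ 4`: node (A) from `Mid`, and `Main.EndOne`

* `exists_co`: coordinates `FFOne.Co` of one side from `Mid`;
* `co_conj`: the other side;
* `trivial_D`: the hypothesis of `FFOne.five`;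
* `nodeA`: every member of `L(S)` normalises `B` (`r(G) ≥ 5`), `endOne`: `Main.EndOne`.
-/

set_option autoImplicit false
set_option linter.unusedSectionVars false
set_option linter.unusedVariables false

namespace Cfsg.Agent.Omega.SQ1.CoOf

open Subgroup Cfsg Cfsg.Agent.ZN Cfsg.Agent.ZN.ChoiceBase Cfsg.Agent.ZN.ChoiceSit Cfsg.Agent.Omega.MinPar
open Cfsg.Agent.Omega.SQ1.MidOne Cfsg.Agent.Lib.SL2Mat Cfsg.Agent.Omega.NatPair
open Cfsg.Agent.Omega.FFOne (cm Co)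

universe u

variable {G : Type u} [Group G] {F : Type} [Field F]

/-- conjugation of the coordinates -/
theorem co_conj {Q₁ Q₂ D C P₁ P₂ E A : Subgroup G} {x y z : G → F} {t : G} {ω : F} (s : G)
    (co : Co Q₁ Q₂ D C x y z t ω) (h1 : ∀ u, u ∈ P₁ ↔ s⁻¹ * u * s ∈ Q₁) (h2 : ∀ u, u ∈ P₂ ↔ s⁻¹ * u * s ∈ Q₂)
    (h3 : ∀ u, u ∈ E ↔ s⁻¹ * u * s ∈ D) (h4 : ∀ u, u ∈ A ↔ s⁻¹ * u * s ∈ C) :
    Co P₁ P₂ E A (fun u => x (s⁻¹ * u * s)) (fun u => y (s⁻¹ * u * s)) (fun u => z (s⁻¹ * u * s)) (s * t * s⁻¹)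
      ω := by
  have hm : ∀ u v : G, s⁻¹ * (u * v) * s = (s⁻¹ * u * s) * (s⁻¹ * v * s) := fun u v => by group
  have hc : ∀ u : G, s⁻¹ * (s * t * s⁻¹ * u * (s * t * s⁻¹)⁻¹) * s = t * (s⁻¹ * u * s) * t⁻¹ := fun u => by group
  have hb : ∀ u : G, s⁻¹ * (s * u * s⁻¹) * s = u := fun u => by group
  exact
    { CD := fun u hu => (h3 u).2 (co.CD ((h4 u).1 hu))
      x_mul := fun u hu v hv => by
        show x _ = x _ + x _
        rw [hm, co.x_mul _ ((h1 u).1 hu) _ ((h1 v).1 hv)]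
      x_surj := fun a => by
        obtain ⟨u, hu, e⟩ := co.x_surj a
        exact ⟨s * u * s⁻¹, (h1 _).2 (by rwa [hb]), by show x _ = a; rw [hb, e]⟩
      x_ker := fun u hu => (co.x_ker _ ((h1 u).1 hu)).trans (h3 u).symm
      y_mul := fun u hu v hv => by
        show y _ = y _ + y _
        rw [hm, co.y_mul _ ((h2 u).1 hu) _ ((h2 v).1 hv)]
      y_surj := fun a => by
        obtain ⟨u, hu, e⟩ := co.y_surj a
        exact ⟨s * u * s⁻¹, (h2 _).2 (by rwa [hb]), by show y _ = a; rw [hb, e]⟩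
      y_ker := fun u hu => (co.y_ker _ ((h2 u).1 hu)).trans (h3 u).symm
      z_mul := fun u hu v hv => by
        show z _ = z _ + z _
        rw [hm, co.z_mul _ ((h3 u).1 hu) _ ((h3 v).1 hv)]
      z_surj := fun a => by
        obtain ⟨u, hu, e⟩ := co.z_surj a
        exact ⟨s * u * s⁻¹, (h3 _).2 (by rwa [hb]), by show z _ = a; rw [hb, e]⟩
      z_ker := fun u hu => (co.z_ker _ ((h3 u).1 hu)).trans (h4 u).symm
      com := fun u hu v hv => by
        show z _ = x _ * y _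
        rw [← co.com _ ((h1 u).1 hu) _ ((h2 v).1 hv)]
        congr 1
        simp only [cm]; group
      tQ₁ := fun u hu => (h1 _).2 (by rw [hc]; exact co.tQ₁ _ ((h1 u).1 hu))
      tQ₂ := fun u hu => (h2 _).2 (by rw [hc]; exact co.tQ₂ _ ((h2 u).1 hu))
      tD := fun u hu => (h3 _).2 (by rw [hc]; exact co.tD _ ((h3 u).1 hu))
      tx := fun u hu => by
        show x _ = _ * x _
        rw [hc, co.tx _ ((h1 u).1 hu)]
      tz := fun u hu => by
        show z _ = _ * z _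
        rw [hc, co.tz _ ((h3 u).1 hu)]
      tC := fun u hu => by
        have := co.tC _ ((h4 u).1 hu)
        have e : s * t * s⁻¹ * u * (s * t * s⁻¹)⁻¹ = s * (t * (s⁻¹ * u * s) * t⁻¹) * s⁻¹ := by group
        rw [e, this]; group
      gen := co.gen
      ω0 := co.ω0
      ω1 := co.ω1 }

section

variable {H T B Y Z C L : Subgroup G} {s : G} [Finite G] [Finite F] [CharP F 2]

/-- elements normalising `B` and `Q₁` normalise `Q₂` -/
theorem norm_Q2 {S T B Q₁ Q₂ D C₁ C₂ : Subgroup G} {s : G} {q : ℕ} (h : End.Base S T B Q₁ Q₂ D C₁ C₂ s q) {g : G}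
    (hB : ∀ b ∈ B, g * b * g⁻¹ ∈ B) (h1 : ∀ a ∈ Q₁, g * a * g⁻¹ ∈ Q₁) : ∀ b ∈ Q₂, g * b * g⁻¹ ∈ Q₂ := by
  have h2 : cj g Q₂ = Q₁ ∨ cj g Q₂ = Q₂ := by
    apply h.eq_of_elem
    · rintro _ ⟨b, hb, rfl⟩
      exact h.TS (h.BT (hB b (h.Q2B hb)))
    · rintro _ ⟨b, hb, rfl⟩
      rw [← map_mul, h.sq2 b hb, map_one]
    · rw [card_cj, h.card12]
  rcases h2 with h2 | h2
  · exfalso
    obtain ⟨b, hb, hbD⟩ := h.exists_b
    apply hbD
    rw [h.memD]
    refine ⟨?_, hb⟩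
    have h3 : g * b * g⁻¹ ∈ Q₁ := h2 ▸ ⟨b, hb, rfl⟩
    have h4 := End.inv_conj_mem h1 _ h3
    have e : g⁻¹ * (g * b * g⁻¹) * g = b := by group
    rwa [e] at h4
  · intro b hb
    exact h2 ▸ ⟨b, hb, rfl⟩

/-- coordinates of the first side -/
theorem exists_co (M : Mid F H T B Y Z C L s) {S : Subgroup G}
    (h : End.Base S T B Y (cj s Y) Z C (cj s C) s (Nat.card F)) (hq : 4 ≤ Nat.card F) :
    ∃ (x y z : G → F) (t : G) (ω : F), t ∈ normalizer (B : Set G) ∧ Co Y (cj s Y) Z C x y z t ω := by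
  classical
  have := Fintype.ofFinite F
  obtain ⟨ω, hω⟩ := IsCyclic.exists_generator (α := Fˣ)
  obtain ⟨l, hl, hA⟩ := M.liftL (dg (ω : F) ω.ne_zero)
  have gen : ∀ a : F, a ≠ 0 → ∃ n : ℕ, a = (ω : F) ^ n := by
    intro a ha
    obtain ⟨n, hn⟩ := mem_powers_iff_mem_zpowers.2 (hω (Units.mk0 a ha))
    have := congrArg Units.val hn
    exact ⟨n, by simpa using this.symm⟩
  have ω1 : (ω : F) ≠ 1 := by
    intro h1
    have h2 : ∀ a : F, a = 0 ∨ a = 1 := by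
      intro a
      by_cases ha : a = 0
      · exact Or.inl ha
      · obtain ⟨n, hn⟩ := gen a ha
        rw [h1, one_pow] at hn
        exact Or.inr hn
    have h3 : (Finset.univ : Finset F) ⊆ {0, 1} := by
      intro a _
      rcases h2 a with h | h <;> simp [h]
    have h4 := Finset.card_le_card h3
    have h5 : ({0, 1} : Finset F).card ≤ 2 := Finset.card_le_two
    rw [Finset.card_univ, ← Nat.card_eq_fintype_card] at h4
    omega
  have hn : ∀ b ∈ B, l * b * l⁻¹ ∈ B := fun b hb => by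
    have h1 := M.ind_conj hl (M.BL hb) hA (M.ind_β hb)
    have e : dg (ω : F) ω.ne_zero * up (M.β b) * (dg (ω : F) ω.ne_zero)⁻¹ = up ((ω : F) ^ 2 * M.β b) := by
      rw [dg_up, mul_inv_cancel_right]
    rw [e] at h1
    exact M.mem_B_of_ind (mul_mem (mul_mem hl (M.BL hb)) (inv_mem hl)) h1
  have hY : ∀ a ∈ Y, l * a * l⁻¹ ∈ Y := fun a ha => M.LY hl ha
  have hx : ∀ u ∈ Y, M.π (l * u * l⁻¹) 1 = (ω : F)⁻¹ * M.π u 1 := by
    intro u hu
    rw [hA u hu, ap_one', dg_10, dg_11]; ring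
  have hz : ∀ u ∈ Y, M.π (l * u * l⁻¹) 0 = (ω : F) * M.π u 0 := by
    intro u hu
    rw [hA u hu, ap_zero', dg_00, dg_01]; ring
  have hQB : ∀ v ∈ cj s Y, v ∈ B := fun v hv => M.cjYB hv
  refine ⟨fun u => M.π u 1, fun v => - M.β v, fun d => M.π d 0, l, ω, End.mem_normalizer_of hn, ?_⟩
  exact
    { CD := M.CZ
      x_mul := fun u hu v hv => by
        show M.π (u * v) 1 = _
        rw [M.map_mul u hu v hv]; rfl
      x_surj := fun a => by
        obtain ⟨u, hu, e⟩ := M.surj ![0, a]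
        exact ⟨u, hu, by show M.π u 1 = a; rw [e]; rfl⟩
      x_ker := fun u hu => (M.Zpi u hu).symm
      y_mul := fun u hu v hv => by
        show - M.β (u * v) = - M.β u + - M.β v
        rw [M.β_mul (hQB u hu) (hQB v hv)]; ring
      y_surj := fun a => by
        obtain ⟨b, hb, e⟩ := M.β_surj (-a)
        obtain ⟨y₁, hy₁, y₂, hy₂, rfl⟩ := M.prod' b hb
        refine ⟨y₂, hy₂, ?_⟩
        show - M.β y₂ = a
        rw [M.β_mul (M.YB hy₁) (hQB y₂ hy₂), (M.β_zero_iff (M.YB hy₁)).2 hy₁, zero_add] at e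
        rw [e]; ring
      y_ker := fun v hv => by
        show - M.β v = 0 ↔ v ∈ Z
        rw [neg_eq_zero, M.β_zero_iff (hQB v hv), M.mem_Z_iff]
        exact ⟨fun h1 => ⟨h1, hv⟩, fun h1 => h1.1⟩
      z_mul := fun u hu v hv => by
        show M.π (u * v) 0 = _
        rw [M.map_mul u (M.ZY hu) v (M.ZY hv)]; rfl
      z_surj := fun a => by
        obtain ⟨u, hu, e⟩ := M.surj ![a, 0]
        exact ⟨u, M.π_mem_Z hu (by rw [e]; rfl), by show M.π u 0 = a; rw [e]; rfl⟩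
      z_ker := fun u hu => by
        show M.π u 0 = 0 ↔ u ∈ C
        rw [← M.ker u (M.ZY hu)]
        constructor
        · intro h1
          exact NatPair.ext2 h1 ((M.Zpi u (M.ZY hu)).1 hu)
        · intro h1
          rw [h1]; rfl
      com := fun u hu v hv => by
        show M.π (u * v * u⁻¹ * v⁻¹) 0 = M.π u 1 * - M.β v
        rw [M.comm_YB hu (hQB v hv)]
        show - (M.β v * M.π u 1) = _
        ring
      tQ₁ := hY
      tQ₂ := norm_Q2 h hn hY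
      tD := fun d hd => M.π_mem_Z (hY d (M.ZY hd)) (by
        rw [hx d (M.ZY hd), (M.Zpi d (M.ZY hd)).1 hd, mul_zero])
      tx := hx
      tz := fun d hd => hz d (M.ZY hd)
      tC := fun c hc => by
        rw [((M.cC c).1 hc).2 l hl, mul_inv_cancel_right]
      gen := gen
      ω0 := ω.ne_zero
      ω1 := ω1 }

/-- `N_G(B)` normalises `D` -/
theorem normB_D {S T B Q₁ Q₂ D C₁ C₂ : Subgroup G} {s : G} {q : ℕ} (h : End.Base S T B Q₁ Q₂ D C₁ C₂ s q) {g : G}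
    (hB : ∀ b ∈ B, g * b * g⁻¹ ∈ B) {d : G} (hd : d ∈ D) : g * d * g⁻¹ ∈ D := by
  have hgB := hB d (h.DB hd)
  have hcen : ∀ b ∈ B, g * d * g⁻¹ * b = b * (g * d * g⁻¹) := by
    intro b hb
    have h1 := End.inv_conj_mem hB _ hb
    have h2 := h.centD hd h1
    calc g * d * g⁻¹ * b = g * (d * (g⁻¹ * b * g)) * g⁻¹ := by group
      _ = g * (g⁻¹ * b * g * d) * g⁻¹ := by rw [h2]
      _ = b * (g * d * g⁻¹) := by group
  have hinv : g * d * g⁻¹ * (g * d * g⁻¹) = 1 := by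
    have e : g * d * g⁻¹ * (g * d * g⁻¹) = g * (d * d) * g⁻¹ := by group
    rw [e, h.sqD hd]; group
  by_contra hcon
  have hone : ∀ a ∈ Q₁, a ∉ D → ∀ b ∈ Q₂, b ∉ D → a * b ≠ b * a := by
    intro a ha haD b hb hbD e
    have h1 := h.good a ha haD b hb hbD
    apply h.good_ne h1
    rw [e]; group
  rcases h.inv_mem_or hgB hinv with h1 | h1
  · obtain ⟨b, hb, hbD⟩ := h.exists_b
    exact hone _ h1 hcon b hb hbD (hcen b (h.Q2B hb))
  · obtain ⟨a, ha, haD⟩ := h.exists_a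
    exact hone a ha haD _ h1 hcon (hcen a (h.Q1B ha)).symm

/-- the hypothesis of `FFOne.five` -/
theorem trivial_D (M : Mid F H T B Y Z C L s) {S : Sylow 2 G}
    (h : End.Base (S : Subgroup G) T B Y (cj s Y) Z C (cj s C) s (Nat.card F)) (r : G)
    (r1 : ∀ u ∈ Y, r * u * r⁻¹ * u⁻¹ ∈ Z) (r2 : ∀ v ∈ cj s Y, r * v * r⁻¹ * v⁻¹ ∈ Z)
    (r3 : ∀ d ∈ Z, ∃ u ∈ Y, ∃ v ∈ cj s Y, r * d * r⁻¹ * d⁻¹ = cm u v)
    (r4 : ∀ u ∈ Y, ∀ v ∈ cj s Y, r * cm u v * r⁻¹ = cm u v) : ∀ d ∈ Z, r * d * r⁻¹ = d := by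
  have hp : Fact (Nat.Prime 2) := ⟨Nat.prime_two⟩
  -- `r` is trivial on `B / D`
  have r5 : ∀ b ∈ B, r * b * r⁻¹ * b⁻¹ ∈ Z := by
    intro b hb
    obtain ⟨u, hu, v, hv, rfl⟩ := h.prod b hb
    have e : r * (u * v) * r⁻¹ * (u * v)⁻¹ = (r * u * r⁻¹ * u⁻¹) * (u * (r * v * r⁻¹ * v⁻¹) * u⁻¹) := by group
    rw [e]
    refine mul_mem (r1 u hu) ?_
    rw [← h.centD (r2 v hv) (h.Q1B hu), mul_inv_cancel_right]
    exact r2 v hv
  -- the group of all elements trivial on `B / D`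
  have key : ∀ x ∈ (S : Subgroup G), (∀ b ∈ B, x * b * x⁻¹ * b⁻¹ ∈ Z) → x ∈ B := by
    intro x hxS hx
    have hxT : x ∈ T := by
      apply h.memT x hxS
      intro a ha
      have h1 := mul_mem (M.ZY (hx a (h.Q1B ha))) ha
      rwa [inv_mul_cancel_right] at h1
    obtain ⟨σ, a, d, hw⟩ := M.exists_tw hxT
    have hd : ∀ c : F, d * σ c = c := by
      intro c
      obtain ⟨u, hu, e⟩ := M.surj ![0, c]
      have h1 := hx u (M.YB hu)
      have h2 := M.TY hxT hu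
      have h3 := (M.Zpi _ (mul_mem h2 (inv_mem hu))).1 h1
      rw [M.map_mul _ h2 _ (inv_mem hu), M.map_inv hu, Pi.add_apply, Pi.neg_apply, hw.one u hu, e] at h3
      have h4 : d * σ c + - c = 0 := h3
      linear_combination h4
    have hd1 := hd 1
    rw [map_one, mul_one] at hd1
    subst hd1
    have hσ : σ = RingEquiv.refl F := by
      ext c
      have := hd c
      rw [one_mul] at this
      exact this
    subst hσ
    exact M.mem_B hxT hw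
  -- the 2-part of `r`
  obtain ⟨k, m, hm, hrm⟩ := Nat.exists_eq_two_pow_mul_odd (n := orderOf r) (orderOf_pos r).ne'
  have hr2 : ∀ d ∈ Z, r * (r * d * r⁻¹) * r⁻¹ = d := by
    intro d hd
    obtain ⟨u, hu, v, hv, e⟩ := r3 d hd
    have h1 : r * d * r⁻¹ = cm u v * d := by rw [← e]; group
    have hcD : cm u v ∈ Z := h.comm12 hu hv
    have h2 : r * (cm u v * d) * r⁻¹ = (r * cm u v * r⁻¹) * (r * d * r⁻¹) := by group
    rw [h1, h2, r4 u hu v hv, h1, ← mul_assoc, h.sqD hcD, one_mul]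
  have hrpow : ∀ n : ℕ, (∀ b ∈ B, r ^ n * b * (r ^ n)⁻¹ * b⁻¹ ∈ Z) := by
    have hrZ : ∀ d ∈ Z, r * d * r⁻¹ ∈ Z := fun d hd => by
      have h1 := mul_mem (r5 d (h.DB hd)) hd
      rwa [inv_mul_cancel_right] at h1
    intro n
    induction n with
    | zero => intro b hb; simp
    | succ n ih =>
      intro b hb
      have e : r ^ (n + 1) * b * (r ^ (n + 1))⁻¹ * b⁻¹ =
          (r * (r ^ n * b * (r ^ n)⁻¹ * b⁻¹) * r⁻¹) * (r * b * r⁻¹ * b⁻¹) := by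
        rw [pow_succ']; group
      rw [e]
      exact mul_mem (hrZ _ (ih b hb)) (r5 b hb)
  have hodd : ∀ j : ℕ, ∀ d ∈ Z, r ^ (2 * j + 1) * d * (r ^ (2 * j + 1))⁻¹ = r * d * r⁻¹ := by
    intro j
    induction j with
    | zero => intro d hd; simp
    | succ j ih =>
      intro d hd
      have hd' : r * (r * d * r⁻¹) * r⁻¹ = d := hr2 d hd
      have e : r ^ (2 * (j + 1) + 1) * d * (r ^ (2 * (j + 1) + 1))⁻¹ =
          r ^ (2 * j + 1) * (r * (r * d * r⁻¹) * r⁻¹) * (r ^ (2 * j + 1))⁻¹ := by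
        rw [show 2 * (j + 1) + 1 = (2 * j + 1) + 1 + 1 by ring, pow_succ, pow_succ]; group
      rw [e, hd', ih d hd]
  obtain ⟨j, hj⟩ := hm
  set g := r ^ m with hg
  have hg2 : IsPGroup 2 (zpowers g) := by
    rw [IsPGroup.iff_card]
    refine ⟨k, ?_⟩
    rw [Nat.card_zpowers, hg, orderOf_pow, hrm, Nat.gcd_eq_right (Dvd.intro_left _ rfl)]
    exact Nat.mul_div_cancel _ (by omega)
  have hgB : ∀ b ∈ B, g * b * g⁻¹ ∈ B := fun b hb => by
    have h1 := mul_mem (h.DB (hrpow m b hb)) hb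
    rwa [inv_mul_cancel_right] at h1
  have hgN : zpowers g ≤ normalizer (B : Set G) := zpowers_le.2 (End.mem_normalizer_of hgB)
  -- conjugate `g` into `S`
  have hSN : (S : Subgroup G) ≤ normalizer (B : Set G) := fun x hx =>
    End.mem_normalizer_of fun b hb => h.S_B hx hb
  obtain ⟨P, hP, hgP⟩ := exists_syl hg2 hgN
  obtain ⟨w, hw, hwP⟩ := syl_conj hP (⟨hSN, S.isPGroup', fun Q _ hQ2 hQ => S.is_maximal' hQ2 hQ⟩ :
    Syl (S : Subgroup G) (normalizer (B : Set G)))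
  have hwS : w * g * w⁻¹ ∈ (S : Subgroup G) := by
    rw [← hwP]
    exact ⟨g, hgP (mem_zpowers g), rfl⟩
  have hwB : ∀ b ∈ B, w * b * w⁻¹ ∈ B := fun b hb => (mem_normalizer_iff.1 hw b).1 hb
  have h1 : w * g * w⁻¹ ∈ B := by
    apply key _ hwS
    intro b hb
    have h2 := End.inv_conj_mem hwB _ hb
    have h3 := normB_D h hwB (hrpow m _ h2)
    have e : w * (r ^ m * (w⁻¹ * b * w) * (r ^ m)⁻¹ * (w⁻¹ * b * w)⁻¹) * w⁻¹ =
        w * g * w⁻¹ * b * (w * g * w⁻¹)⁻¹ * b⁻¹ := by rw [hg]; group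
    rwa [e] at h3
  intro d hd
  rw [← hodd j d hd, ← hj, ← hg]
  have h2 := normB_D h hwB hd
  have h3 := h.centD h2 h1
  calc g * d * g⁻¹ = w⁻¹ * (w * g * w⁻¹ * (w * d * w⁻¹)) * (w * g⁻¹) := by group
    _ = w⁻¹ * (w * d * w⁻¹ * (w * g * w⁻¹)) * (w * g⁻¹) := by rw [h3]
    _ = d := by group

end

/-- **Node (A).** -/
theorem nodeA : EndOneOf.NodeA.{u} := by
  intro G _ _ _ hc hr F _ _ _ S H T B Y Z C L s M hTS hs hNS hF X hX
  have h := M.base S.isPGroup' hTS hs hNS hF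
  have hD : normalizer (Z : Set G) ≤ normalizer (B : Set G) := NodeA.normD_le hc h
  obtain ⟨x, y, z, t, ω, htB, co₁⟩ := exists_co M h hF
  have hmem : ∀ (A : Subgroup G) (u : G), u ∈ cj s A ↔ s⁻¹ * u * s ∈ A := fun A u => mem_cj
  have hY2 : ∀ u, u ∈ Y ↔ s⁻¹ * u * s ∈ cj s Y := by
    intro u
    constructor
    · exact fun hu => M.sY1' hu
    · intro hu
      have h1 := M.sY2 hu
      have e : s * (s⁻¹ * u * s) * s⁻¹ = u := by group
      rwa [e] at h1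
  have hZ2 : ∀ u, u ∈ Z ↔ s⁻¹ * u * s ∈ Z := by
    intro u
    rw [← hmem, M.cjZ]
  have co₂ := co_conj s co₁ (hmem Y) hY2 hZ2 (hmem C)
  rcases FFOne.five (TyL.toBase h) co₁ co₂ h.C12 (trivial_D M h) with ⟨hC1, hC2, ω', co⟩ | ⟨z', ω', co⟩
  · rcases Nat.lt_or_ge 4 (Nat.card F) with h4 | h4
    · exact NodeA.l_le h co hC1 h4 hc hD hX
    · exfalso
      apply hr
      have h5 : Nat.card F = 4 := le_antisymm h4 hF
      rw [h5] at h
      refine RankFourOf.rank_four_of_sylow h ?_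
      have h6 := h.cardC1
      rwa [hC1, Subgroup.card_bot, mul_one] at h6
  · exact NodeA.sp_le h co hc hD hX

/-- **`Main.EndOne`.** -/
theorem endOne : Main.EndOne.{u} := EndOneOf.endOne_of nodeA

end Cfsg.Agent.Omega.SQ1.CoOf

end

-- merged: Cfsg.Agent.Mrg.Omega.SQ1.EndTwoOf
section

/-!
# SQ1, `q = 2`: `Main.EndTwo`

`SymTwo` : the FF output with even-subset modules (`m ≥ 1`) gives the Baumann data `BauS.In`, `BauS.PermR`
(`FFSym.main`, helper525); `endTwo_of : SymTwo → Main.EndTwo`; `endTwo : Main.EndTwo`.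
-/

set_option autoImplicit false

namespace Cfsg.Agent.Omega.SQ1.EndTwoOf

open Subgroup Cfsg Cfsg.Agent.ZN Cfsg.Agent.ZN.ChoiceBase Cfsg.Agent.ZN.ChoiceSit
open Cfsg.Agent.Omega.FFThm (NatK SymK NoOver)
open Cfsg.Agent.Omega.FrameFF (cv)
open Cfsg.Agent.Omega.SQ1.Choice (Config)
open Cfsg.Agent.Omega.SQ1

universe u

/-- The Baumann data from the FF output. -/
def SymTwo : Prop :=
  ∀ (G : Type u) [Group G] [Finite G] (M T H : Subgroup G) (s : G), Config M T H s →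
    NoOver (zl T H) H → ∀ k m : ℕ, 0 < k → 1 ≤ m → SymK T H (zl T H) (cv T H) k m →
      ∃ (ι : Type) (N : ι → Subgroup G) (d t r : ι → G),
        BauS.In H T (o2 H) (zl T H) N d t r ∧ BauS.PermR T (zl T H) d r

theorem nonempty_of {G : Type u} [Group G] [Finite G] {M T H : Subgroup G} {s : G}
    (c : Config M T H s) {ι : Type} {N : ι → Subgroup G} {d t r : ι → G}
    (h : BauS.In H T (o2 H) (zl T H) N d t r) : Nonempty ι := by
  by_contra hne
  rw [not_nonempty_iff] at hne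
  apply VOf.nle c
  have h1 := h.Jt
  rwa [Set.range_eq_empty, Subgroup.closure_empty, bot_sup_eq] at h1

/-- **`q = 2`.** -/
theorem endTwo_of (hS : SymTwo.{u}) : Main.EndTwo.{u} := by
  intro G _ _ S M T H s h hno
  have := h.simple
  have key : ∀ k m : ℕ, 0 < k → 1 ≤ m → SymK T H (zl T H) (cv T H) k m → False := by
    intro k m hk hm N
    obtain ⟨ι, N, d, t, r, h1, h2⟩ := hS G M T H s h.cfg hno k m hk hm N
    have := nonempty_of h.cfg h1
    exact h.rank (EndTwo.two_case h.char2 h.cfg h1 h2)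
  refine ⟨fun F _ _ _ hF k hk N => ?_, fun k m hk hm N => key k m hk (by omega) N⟩
  exact key k 1 hk le_rfl (SymOfNat.symOf N hF VOf.zl_norm h.cfg.TY)

theorem symTwo : SymTwo.{u} := by
  intro G _ _ M T H s c hno k m hk hm N
  obtain ⟨ι, N', d, t, r, -, h1, h2⟩ := FFSym.main c hno hk hm N
  exact ⟨ι, N', d, t, r, h1, h2⟩

/-- **The case `q = 2`.** -/
theorem endTwo : Main.EndTwo.{u} := endTwo_of symTwo

end Cfsg.Agent.Omega.SQ1.EndTwoOf

end

-- merged: Cfsg.Agent.Mrg.Omega.SQ1.NodeI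
section

/-!
# SQ1 = case I of the frame (project OMEGA): `noConfig : FrameI.NoConfig`, `nodeI : Frame.NodeI`

`Main.EndOne` (helper87), `Main.EndMany` (helper346, helper437), `Main.EndTwo` (helper663, helper525) and
the FF theorem `FFBr.ffthm` (helper51, helper431, helper645, helper385) are proved.
-/

set_option autoImplicit false

namespace Cfsg.Agent.Omega.SQ1.NodeI

universe u

/-- **Case I from the FF theorem and the case `q = 2`.** -/
theorem noConfig_of (hFF : FFThm.Stmt.{u}) (h2 : Main.EndTwo.{u}) : FrameI.NoConfig.{u} :=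
  Main.noConfig hFF CoOf.endOne EndManyOf.endMany h2

/-- **Node I from the FF theorem and the case `q = 2`.** -/
theorem nodeI_of (hFF : FFThm.Stmt.{u}) (h2 : Main.EndTwo.{u}) : Frame.NodeI.{u} :=
  FrameI.nodeI_of_noConfig (noConfig_of hFF h2)

/-- **Case I from the FF theorem.** -/
theorem noConfig_of_stmt (hFF : FFThm.Stmt.{u}) : FrameI.NoConfig.{u} :=
  noConfig_of hFF EndTwoOf.endTwo

/-- **Node I from the FF theorem.** -/
theorem nodeI_of_stmt (hFF : FFThm.Stmt.{u}) : Frame.NodeI.{u} :=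
  FrameI.nodeI_of_noConfig (noConfig_of_stmt hFF)

/-- **Case I: no configuration.** -/
theorem noConfig : FrameI.NoConfig.{u} := noConfig_of_stmt FFBr.ffthm

/-- **Node I.** -/
theorem nodeI : Frame.NodeI.{u} := nodeI_of_stmt FFBr.ffthm

end Cfsg.Agent.Omega.SQ1.NodeI

end
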